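import Groth.Prelude.Def_Magnet2
import Groth.Prelude.Def_GmPts

/-!
# Points of the diagonalizable monoid scheme `A(M)_S` (helper5)

`(T ⟶ Magnet.AMonS S M) ≃* (Multiplicative M →* Γ(T.left, ⊤))`, naturally in `T` and `M`.
Generalises the prelude's `GmPts` (the case `M = ℤ`).
-/

set_option autoImplicit false

universe u

open CategoryTheory CategoryTheory.Limits MonoidalCategory CartesianMonoidalCategory MonObj AlgebraicGeometry Opposite
open Magnet

noncomputable section

namespace Groth.Agent.Lib.Helper5.AMonPts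

variable (M : Type) [AddCommMonoid M]

/-- coordinate ring `ℤ[M]`. -/
abbrev Coord : Type u := MonoidAlgebra (ULift.{u} ℤ) (Multiplicative M)

abbrev baseZ : Scheme.{u} := Spec (CommRingCat.of (ULift.{u} ℤ))

abbrev toBaseZ (S : Scheme.{u}) : S ⟶ baseZ := Limits.IsTerminal.from specULiftZIsTerminal S

/-- `A(M)` over `Spec ℤ`. -/
abbrev AZ : Over baseZ.{u} := AMon (ULift.{u} ℤ) M

variable {M}

/-- the monomial `x^m`. -/
abbrev xPow (m : M) : Coord.{u} M := MonoidAlgebra.single (Multiplicative.ofAdd m) 1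

theorem xPow_mul (m n : M) : xPow m * xPow n = xPow.{u} (m + n) := by
  rw [MonoidAlgebra.single_mul_single, _root_.mul_one]; rfl

theorem xPow_zero : xPow.{u} (0 : M) = 1 := rfl

variable (M) in
abbrev coordIso : Γ(Spec (CommRingCat.of (Coord.{u} M)), ⊤) ≅ CommRingCat.of (Coord.{u} M) :=
  Scheme.ΓSpecIso (CommRingCat.of (Coord.{u} M))

theorem ringHom_ext_xPow {R : Type u} [CommRing R] {f g : Coord.{u} M →+* R}
    (h : ∀ m : M, f (xPow m) = g (xPow m)) : f = g := by
  refine MonoidAlgebra.ringHom_ext (fun r => ?_) (fun m => ?_)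
  · have : MonoidAlgebra.single (1 : Multiplicative M) r = ((r.down : ℤ) : Coord.{u} M) := by
      rcases r with ⟨r⟩
      change MonoidAlgebra.single 1 (ULift.up r) = _
      rw [MonoidAlgebra.intCast_def]
      rfl
    rw [this, map_intCast, map_intCast]
  · exact h (Multiplicative.toAdd m)

/-- The ring map `ℤ[M] → R` of a monoid hom `M → (R, *)`. -/
def ringHomOfMonHom {R : Type u} [CommRing R] (φ : Multiplicative M →* R) : Coord.{u} M →+* R :=
  MonoidAlgebra.liftNCRingHom ((Int.castRingHom R).comp (ULift.ringEquiv : ULift.{u} ℤ ≃+* ℤ).toRingHom)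
    φ (fun _ _ => Commute.all _ _)

theorem ringHomOfMonHom_xPow {R : Type u} [CommRing R] (φ : Multiplicative M →* R) (m : M) :
    ringHomOfMonHom φ (xPow m) = φ (Multiplicative.ofAdd m) := by
  simp [ringHomOfMonHom, MonoidAlgebra.liftNCRingHom_single]

variable {S : Scheme.{u}} {T T' : Over S}

abbrev specPt (t : T ⟶ AMonS S M) : T.left ⟶ Spec (CommRingCat.of (Coord.{u} M)) :=
  t.left ≫ pullback.fst (AZ M).hom (toBaseZ S)

def ringHomOfPt (t : T ⟶ AMonS S M) : Coord.{u} M →+* Γ(T.left, ⊤) :=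
  ((coordIso M).inv ≫ (specPt t).appTop).hom

/-- The monoid hom attached to a point. -/
def monHomOfPt (t : T ⟶ AMonS S M) : Multiplicative M →* Γ(T.left, ⊤) :=
  (ringHomOfPt t : Coord.{u} M →* Γ(T.left, ⊤)).comp (MonoidAlgebra.of _ _)

theorem monHomOfPt_apply (t : T ⟶ AMonS S M) (m : M) :
    monHomOfPt t (Multiplicative.ofAdd m) = ringHomOfPt t (xPow m) := rfl

def homOfMonHom (φ : Multiplicative M →* Γ(T.left, ⊤)) : CommRingCat.of (Coord.{u} M) ⟶ Γ(T.left, ⊤) :=
  CommRingCat.ofHom (ringHomOfMonHom φ)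

def specOfMonHom (φ : Multiplicative M →* Γ(T.left, ⊤)) : T.left ⟶ Spec (CommRingCat.of (Coord.{u} M)) :=
  ΓSpec.adjunction.homEquiv T.left (op (CommRingCat.of (Coord.{u} M))) (homOfMonHom φ).op

theorem coordIso_inv_specOfMonHom (φ : Multiplicative M →* Γ(T.left, ⊤)) :
    (coordIso M).inv ≫ (specOfMonHom φ).appTop = homOfMonHom φ :=
  ΓSpecIso_inv_ΓSpec_adjunction_homEquiv _

theorem specOfMonHom_w (φ : Multiplicative M →* Γ(T.left, ⊤)) :
    specOfMonHom φ ≫ (AZ M).hom = T.hom ≫ toBaseZ S :=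
  specULiftZIsTerminal.hom_ext _ _

/-- The point attached to a monoid hom. -/
def ptOfMonHom (φ : Multiplicative M →* Γ(T.left, ⊤)) : T ⟶ AMonS S M :=
  Over.homMk (pullback.lift (specOfMonHom φ) T.hom (specOfMonHom_w φ)) (pullback.lift_snd _ _ _)

theorem specPt_ptOfMonHom (φ : Multiplicative M →* Γ(T.left, ⊤)) : specPt (ptOfMonHom φ) = specOfMonHom φ :=
  pullback.lift_fst _ _ _

theorem ringHomOfPt_ptOfMonHom (φ : Multiplicative M →* Γ(T.left, ⊤)) :
    ringHomOfPt (ptOfMonHom φ) = ringHomOfMonHom φ := by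
  change ((coordIso M).inv ≫ (specPt (ptOfMonHom φ)).appTop).hom = _
  rw [specPt_ptOfMonHom, coordIso_inv_specOfMonHom]
  rfl

theorem monHomOfPt_ptOfMonHom (φ : Multiplicative M →* Γ(T.left, ⊤)) : monHomOfPt (ptOfMonHom φ) = φ := by
  ext m
  change ringHomOfPt (ptOfMonHom φ) (xPow (Multiplicative.toAdd m)) = φ m
  rw [ringHomOfPt_ptOfMonHom, ringHomOfMonHom_xPow]
  rfl

theorem ringHomOfMonHom_monHomOfPt (t : T ⟶ AMonS S M) : ringHomOfMonHom (monHomOfPt t) = ringHomOfPt t :=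
  ringHom_ext_xPow (fun m => by rw [ringHomOfMonHom_xPow]; rfl)

theorem specOfMonHom_monHomOfPt (t : T ⟶ AMonS S M) : specOfMonHom (monHomOfPt t) = specPt t := by
  have h : (homOfMonHom (monHomOfPt t)).op =
      (ΓSpec.adjunction.homEquiv T.left (op (CommRingCat.of (Coord.{u} M)))).symm (specPt t) := by
    rw [Adjunction.homEquiv_counit, ΓSpec.adjunction_counit_app]
    change (homOfMonHom (monHomOfPt t)).op = ((coordIso M).inv ≫ (specPt t).appTop).op
    congr 1
    ext1
    exact ringHomOfMonHom_monHomOfPt t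
  rw [specOfMonHom, h, Equiv.apply_symm_apply]

theorem ptOfMonHom_monHomOfPt (t : T ⟶ AMonS S M) : ptOfMonHom (monHomOfPt t) = t := by
  ext1
  apply pullback.hom_ext
  · exact (specPt_ptOfMonHom _).trans (specOfMonHom_monHomOfPt t)
  · exact (pullback.lift_snd _ _ _).trans (Over.w t).symm

/-! ### Naturality in `T` -/

theorem ringHomOfPt_comp (g : T' ⟶ T) (t : T ⟶ AMonS S M) :
    ringHomOfPt (g ≫ t) = g.left.appTop.hom.comp (ringHomOfPt t) := by
  change ((coordIso M).inv ≫ ((g ≫ t).left ≫ pullback.fst (AZ M).hom (toBaseZ S)).appTop).hom = _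
  rw [Over.comp_left, Category.assoc, Scheme.Hom.comp_appTop]
  rfl

theorem monHomOfPt_comp (g : T' ⟶ T) (t : T ⟶ AMonS S M) :
    monHomOfPt (g ≫ t) = (g.left.appTop.hom : Γ(T.left, ⊤) →* Γ(T'.left, ⊤)).comp (monHomOfPt t) := by
  ext m
  change ringHomOfPt (g ≫ t) _ = g.left.appTop.hom (ringHomOfPt t _)
  rw [ringHomOfPt_comp]
  rfl

/-! ### Multiplicativity -/

theorem pullback_map_left_fst {X Y : Over baseZ.{u}} (g : X ⟶ Y) :
    ((Over.pullback (toBaseZ S)).map g).left ≫ pullback.fst Y.hom (toBaseZ S) =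
      pullback.fst X.hom (toBaseZ S) ≫ g.left := by
  dsimp only [Over.pullback]
  exact pullback.lift_fst _ _ _

theorem appTop_comp_apply {X Y Z : Scheme.{u}} (f : X ⟶ Y) (g : Y ⟶ Z) (z : Γ(Z, ⊤)) :
    (f ≫ g).appTop z = f.appTop (g.appTop z) := by
  rw [Scheme.Hom.comp_appTop]; rfl

theorem specMap_appTop_coordIso_inv {R : CommRingCat.{u}} (φ : CommRingCat.of (Coord.{u} M) ⟶ R) (c : Coord.{u} M) :
    (Spec.map φ).appTop ((coordIso M).inv c) = (Scheme.ΓSpecIso R).inv (φ c) := by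
  have h := congrArg (fun ψ => (ConcreteCategory.hom ψ) c) (Scheme.ΓSpecIso_inv_naturality φ)
  exact h.symm

def pairPt (t t' : T ⟶ AMonS S M) : T.left ⟶ (AZ M ⊗ AZ M).left :=
  (lift t t').left ≫ (Functor.LaxMonoidal.μ (Over.pullback (toBaseZ S)) (AZ M) (AZ M)).left ≫
    pullback.fst (AZ M ⊗ AZ M).hom (toBaseZ S)

theorem specPt_mul (t t' : T ⟶ AMonS S M) : specPt (t * t') = pairPt t t' ≫ μ[AZ M].left := by
  have h1 : t * t' = lift t t' ≫ μ[AMonS S M] := Hom.mul_def t t'
  have h2 : μ[AMonS S M] = Functor.LaxMonoidal.μ (Over.pullback (toBaseZ S)) (AZ M) (AZ M) ≫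
      (Over.pullback (toBaseZ S)).map μ[AZ M] := rfl
  have h3 := pullback_map_left_fst (S := S) μ[AZ M]
  rw [specPt, pairPt, h1, h2, Over.comp_left, Over.comp_left]
  simp only [Category.assoc]
  exact _ ≫= (_ ≫= h3)

theorem pairPt_fst (t t' : T ⟶ AMonS S M) : pairPt t t' ≫ pullback.fst (AZ M).hom (AZ M).hom = specPt t := by
  rw [pairPt, Category.assoc, Category.assoc, Over.μ_pullback_left_fst_fst, ← Category.assoc]
  congr 1
  rw [← Over.fst_left, ← Over.comp_left, lift_fst]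

theorem pairPt_snd (t t' : T ⟶ AMonS S M) : pairPt t t' ≫ pullback.snd (AZ M).hom (AZ M).hom = specPt t' := by
  rw [pairPt, Category.assoc, Category.assoc, Over.μ_pullback_left_fst_snd, ← Category.assoc]
  congr 1
  rw [← Over.snd_left, ← Over.comp_left, lift_snd]

theorem comul_xPow (m : M) :
    Coalgebra.comul (R := ULift.{u} ℤ) (xPow.{u} m) = xPow m ⊗ₜ[ULift.{u} ℤ] xPow m := by
  rw [MonoidAlgebra.comul_single]
  simp

theorem mul_appTop_xPow (m : M) : μ[AZ M].left.appTop ((coordIso M).inv (xPow.{u} m)) =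
    (pullback.fst (AZ M).hom (AZ M).hom).appTop ((coordIso M).inv (xPow m)) *
      (pullback.snd (AZ M).hom (AZ M).hom).appTop ((coordIso M).inv (xPow m)) := by
  let CC : Type u := TensorProduct (ULift.{u} ℤ) (Coord.{u} M) (Coord.{u} M)
  let iL : Coord.{u} M →+* CC := Algebra.TensorProduct.includeLeftRingHom
  let iR : Coord.{u} M →+* CC :=
    ((Algebra.TensorProduct.includeRight (R := ULift.{u} ℤ) (A := Coord.{u} M) (B := Coord.{u} M) :
      Coord.{u} M →ₐ[ULift.{u} ℤ] CC) : Coord.{u} M →+* CC)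
  let fC : Spec (CommRingCat.of (Coord.{u} M)) ⟶ baseZ.{u} :=
    Spec.map (CommRingCat.ofHom (algebraMap (ULift.{u} ℤ) (Coord.{u} M)))
  let psi := pullbackSpecIso (ULift.{u} ℤ) (Coord.{u} M) (Coord.{u} M)
  have hfst : pullback.fst fC fC = psi.hom ≫ Spec.map (CommRingCat.ofHom (R := Coord.{u} M) (S := CC) iL) := by
    rw [← pullbackSpecIso_inv_fst, Iso.hom_inv_id_assoc]
  have hsnd : pullback.snd fC fC = psi.hom ≫ Spec.map (CommRingCat.ofHom (R := Coord.{u} M) (S := CC) iR) := by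
    rw [← pullbackSpecIso_inv_snd, Iso.hom_inv_id_assoc]
  have hc : (CommRingCat.ofHom (Bialgebra.comulAlgHom (ULift.{u} ℤ) (Coord.{u} M)).toRingHom) (xPow m) =
      (CommRingCat.ofHom (R := Coord.{u} M) (S := CC) iL) (xPow.{u} m) *
        (CommRingCat.ofHom (R := Coord.{u} M) (S := CC) iR) (xPow.{u} m) := by
    change Coalgebra.comul (R := ULift.{u} ℤ) (xPow.{u} m) =
      (xPow m ⊗ₜ[ULift.{u} ℤ] (1 : Coord.{u} M)) * ((1 : Coord.{u} M) ⊗ₜ[ULift.{u} ℤ] xPow m)
    rw [comul_xPow, Algebra.TensorProduct.tmul_mul_tmul, _root_.mul_one, _root_.one_mul]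
  change (psi.hom ≫ Spec.map (CommRingCat.ofHom (Bialgebra.comulAlgHom (ULift.{u} ℤ) (Coord.{u} M)).toRingHom)).appTop
      ((coordIso M).inv (xPow m)) =
    (pullback.fst fC fC).appTop ((coordIso M).inv (xPow m)) * (pullback.snd fC fC).appTop ((coordIso M).inv (xPow m))
  rw [hfst, hsnd, appTop_comp_apply, appTop_comp_apply, appTop_comp_apply,
    specMap_appTop_coordIso_inv, specMap_appTop_coordIso_inv, specMap_appTop_coordIso_inv, hc, map_mul, map_mul]

theorem ringHomOfPt_mul_xPow (t t' : T ⟶ AMonS S M) (m : M) :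
    ringHomOfPt (t * t') (xPow m) = ringHomOfPt t (xPow m) * ringHomOfPt t' (xPow m) := by
  have e1 : ringHomOfPt (t * t') (xPow m) =
      (pairPt t t').appTop (μ[AZ M].left.appTop ((coordIso M).inv (xPow m))) := by
    change (specPt (t * t')).appTop ((coordIso M).inv (xPow m)) = _
    rw [specPt_mul]
    exact appTop_comp_apply _ _ _
  rw [e1, mul_appTop_xPow, map_mul, ← appTop_comp_apply, ← appTop_comp_apply, pairPt_fst, pairPt_snd]
  rfl

theorem monHomOfPt_mul (t t' : T ⟶ AMonS S M) : monHomOfPt (t * t') = monHomOfPt t * monHomOfPt t' := by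
  ext m
  exact ringHomOfPt_mul_xPow t t' (Multiplicative.toAdd m)

/-- Points of `A(M)_S` over `T` are monoid homs `M → (Γ(T), *)`. -/
def equiv (T : Over S) : (T ⟶ AMonS S M) ≃* (Multiplicative M →* Γ(T.left, ⊤)) where
  toFun := monHomOfPt
  invFun := ptOfMonHom
  left_inv := ptOfMonHom_monHomOfPt
  right_inv := monHomOfPt_ptOfMonHom
  map_mul' := monHomOfPt_mul

theorem monHomOfPt_one : monHomOfPt (1 : T ⟶ AMonS S M) = 1 := map_one (equiv T)

theorem monHomOfPt_pow (t : T ⟶ AMonS S M) (n : ℕ) : monHomOfPt (t ^ n) = monHomOfPt t ^ n :=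
  map_pow (equiv T) t n

theorem monHomOfPt_injective : Function.Injective (monHomOfPt : (T ⟶ AMonS S M) → _) :=
  (equiv T).injective

theorem ptOfMonHom_comp (g : T' ⟶ T) (φ : Multiplicative M →* Γ(T.left, ⊤)) :
    g ≫ ptOfMonHom φ =
      ptOfMonHom ((g.left.appTop.hom : Γ(T.left, ⊤) →* Γ(T'.left, ⊤)).comp φ) := by
  apply monHomOfPt_injective
  rw [monHomOfPt_comp, monHomOfPt_ptOfMonHom, monHomOfPt_ptOfMonHom]

/-! ### Naturality in `M` -/

variable {N : Type} [AddCommMonoid N]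

theorem ringHomOfPt_map (f : N →+ M) (t : T ⟶ AMonS S M) (n : N) :
    ringHomOfPt (t ≫ AMonS.map S f) (xPow n) = ringHomOfPt t (xPow (f n)) := by
  have h3 := pullback_map_left_fst (S := S) (AMon.map (ULift.{u} ℤ) f)
  change ((t ≫ AMonS.map S f).left ≫ pullback.fst (AZ N).hom (toBaseZ S)).appTop ((coordIso N).inv (xPow n)) = _
  have h4 : (t ≫ AMonS.map S f).left ≫ pullback.fst (AZ N).hom (toBaseZ S) =
      specPt t ≫ (AMon.map (ULift.{u} ℤ) f).left := by
    rw [Over.comp_left, Category.assoc]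
    exact _ ≫= h3
  have h5 : (AMon.map (ULift.{u} ℤ) f).left.appTop ((coordIso N).inv (xPow n)) =
      (coordIso M).inv (xPow (f n)) := by
    have h6 := specMap_appTop_coordIso_inv (M := N) (R := CommRingCat.of (Coord.{u} M))
      (CommRingCat.ofHom (MonoidAlgebra.mapDomainBialgHom (ULift.{u} ℤ)
        (AddMonoidHom.toMultiplicative f)).toAlgHom.toRingHom) (xPow n)
    refine h6.trans ?_
    congr 1
    change MonoidAlgebra.mapDomainBialgHom (ULift.{u} ℤ) (AddMonoidHom.toMultiplicative f) (xPow n) = _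
    simp [xPow]
  rw [h4]
  exact (appTop_comp_apply _ _ _).trans (congrArg (specPt t).appTop h5)

theorem monHomOfPt_map (f : N →+ M) (t : T ⟶ AMonS S M) :
    monHomOfPt (t ≫ AMonS.map S f) = (monHomOfPt t).comp (AddMonoidHom.toMultiplicative f) := by
  ext n
  exact ringHomOfPt_map f t (Multiplicative.toAdd n)

end Groth.Agent.Lib.Helper5.AMonPts
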