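import Mathlib.CategoryTheory.Sites.Subcanonical
import Mathlib.CategoryTheory.Limits.Types.Pullbacks
import Mathlib.CategoryTheory.Sites.Limits

set_option autoImplicit false
universe w v v' u
open CategoryTheory CategoryTheory.Limits Opposite

namespace Groth.Agent.Lib.Helper5

section

variable {C : Type u} [Category.{v} C] (J : GrothendieckTopology C)

/-- Sectionwise criterion for pullback squares of sheaves of types. -/
theorem sheaf_isPullback_of_sections {A B D E : Sheaf J (Type w)}
    (t : A ⟶ B) (l : A ⟶ D) (r : B ⟶ E) (b : D ⟶ E) (hw : t ≫ r = l ≫ b)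
    (hinj : ∀ (Z : Cᵒᵖ) (x y : A.obj.obj Z), t.hom.app Z x = t.hom.app Z y →
      l.hom.app Z x = l.hom.app Z y → x = y)
    (hsurj : ∀ (Z : Cᵒᵖ) (x : B.obj.obj Z) (y : D.obj.obj Z), r.hom.app Z x = b.hom.app Z y →
      ∃ a, t.hom.app Z a = x ∧ l.hom.app Z a = y) :
    IsPullback t l r b := by
  apply IsPullback.of_map (sheafToPresheaf J (Type w)) hw
  apply IsPullback.of_forall_isPullback_app
  intro Z
  rw [Types.isPullback_iff]
  refine ⟨?_, ?_, ?_⟩
  · have := congrArg (fun f => f.hom.app Z) hw
    exact this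
  · rintro x y ⟨h1, h2⟩
    exact hinj Z x y h1 h2
  · intro x y h
    exact hsurj Z x y h

variable [J.Subcanonical]

/-- A square of sheaves of types is a pullback as soon as it has the universal property with respect
to representable test objects. -/
theorem sheaf_isPullback_of_yon {A B D E : Sheaf J (Type (max v v'))}
    (t : A ⟶ B) (l : A ⟶ D) (r : B ⟶ E) (b : D ⟶ E) (hw : t ≫ r = l ≫ b)
    (huniq : ∀ (T : C) (z z' : (J.uliftYoneda.{v'}).obj T ⟶ A), z ≫ t = z' ≫ t → z ≫ l = z' ≫ l → z = z')
    (hex : ∀ (T : C) (x : (J.uliftYoneda.{v'}).obj T ⟶ B) (y : (J.uliftYoneda.{v'}).obj T ⟶ D),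
      x ≫ r = y ≫ b → ∃ z : (J.uliftYoneda.{v'}).obj T ⟶ A, z ≫ t = x ∧ z ≫ l = y) :
    IsPullback t l r b := by
  refine sheaf_isPullback_of_sections J t l r b hw ?_ ?_
  · intro Z x y h1 h2
    have := huniq Z.unop (J.uliftYonedaEquiv.symm x) (J.uliftYonedaEquiv.symm y) ?_ ?_
    · exact J.uliftYonedaEquiv.symm.injective this
    · rw [J.uliftYonedaEquiv_symm_naturality_right, J.uliftYonedaEquiv_symm_naturality_right]
      exact congrArg _ h1
    · rw [J.uliftYonedaEquiv_symm_naturality_right, J.uliftYonedaEquiv_symm_naturality_right]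
      exact congrArg _ h2
  · intro Z x y h
    obtain ⟨z, hz1, hz2⟩ := hex Z.unop (J.uliftYonedaEquiv.symm x) (J.uliftYonedaEquiv.symm y) (by
      rw [J.uliftYonedaEquiv_symm_naturality_right, J.uliftYonedaEquiv_symm_naturality_right]
      exact congrArg _ h)
    refine ⟨J.uliftYonedaEquiv z, ?_, ?_⟩
    · have := congrArg J.uliftYonedaEquiv hz1
      rw [J.uliftYonedaEquiv_comp, Equiv.apply_symm_apply] at this
      exact this
    · have := congrArg J.uliftYonedaEquiv hz2
      rw [J.uliftYonedaEquiv_comp, Equiv.apply_symm_apply] at this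
      exact this

end

end Groth.Agent.Lib.Helper5
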