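import Groth.Agent.Lib.Helper46.LocPChart
import Groth.Agent.Lib.Helper46.FpqcTop
import Groth.Agent.Lib.Helper30.EtaleSourceLFP

/-!
# fppf coverings of algebraic spaces: local lifts (helper5)

* `etLocal_lfp` : `EtLocal @LocallyOfFinitePresentation` (via helper30's etale-locality on the source).
* `exists_fppf_lift` : for an fppf covering `{X_i ⟶ X}` of algebraic spaces and `t : h_T ⟶ X`, schemes
  `E i ⟶ T` flat, locally of finite presentation, jointly surjective, with lifts `h_{E i} ⟶ X_i`.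
* `exists_std_fpqc_of_family` : a jointly surjective family of flat lfp maps to an affine scheme is
  refined by a standard fpqc covering (finitely many affine opens of the members).
-/

set_option autoImplicit false
universe u
open CategoryTheory CategoryTheory.Limits AlgebraicGeometry Opposite

namespace Groth.Agent.Lib.Helper5.FppfCover

open AlgSp Groth.Agent.Lib.Helper36.AlgSpCharts Groth.Agent.Lib.Helper23.AlgSpMor
open Groth.Agent.Lib.Helper46 Groth.Agent.Lib.Helper46.LocPChart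
open Groth.Agent.Lib.Helper37.AlgSpPoints

variable {S : Scheme.{u}}

theorem etLocal_lfp : EtLocal (@LocallyOfFinitePresentation : MorphismProperty Scheme.{u}) := by
  refine EtLocal.mk' _ (fun _ _ f hf => ?_) (fun U' U V g q hg hs h => ?_)
  · haveI : Etale f := hf
    infer_instance
  · haveI := hg
    haveI := hs
    haveI : LocallyOfFinitePresentation (g ≫ q) := h
    exact Groth.Agent.Lib.Helper30.EtaleSource.locallyOfFinitePresentation_of_etale_surjective_comp g q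

/-- For a family `g i : X_i ⟶ X` of morphisms of algebraic spaces and `t : h_T ⟶ X`: etale atlases
`E i` of the fibre products `X_i ×_X h_T`, with the induced maps to `T` and to `X_i`; the maps to `T`
inherit every `EtLocal` chart-wise property of `g i`, and hit every point of `T` whose image in `|X|`
is in the image of `|X_i|`. -/
theorem exists_fibre_charts {X : Sp S} (hX : IsAlgSpace X) {ι : Type u} (Xi : ι → Sp S)
    (hXi : ∀ i, IsAlgSpace (Xi i)) (g : ∀ i, Xi i ⟶ X) (T : Over S) (t : (yon S).obj T ⟶ X) :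
    ∃ (E : ι → Over S) (k : ∀ i, E i ⟶ T) (l : ∀ i, (yon S).obj (E i) ⟶ Xi i),
      (∀ i, l i ≫ g i = (yon S).map (k i) ≫ t) ∧
      (∀ (Q : MorphismProperty Scheme.{u}), EtLocal Q → ∀ i, LocP Q (g i) → Q (k i).left) ∧
      ∀ (i : ι) (z : ↥T.left), Points.ofPt t z ∈ Set.range (Points.map (g i)) →
        z ∈ Set.range (k i).left := by
  have hP : ∀ i, IsAlgSpace (pullback (g i) t) := fun i =>
    isAlgSpace_of_isPullback (hXi i) (IsAlgSpace.yon_obj T) hX.diag (IsPullback.of_hasPullback _ _)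
  choose E d hde hds using fun i => (hP i).atlas
  choose k hk using fun i => (yon S).map_surjective (d i ≫ pullback.snd (g i) t)
  refine ⟨E, k, fun i => d i ≫ pullback.fst (g i) t, fun i => ?_, fun Q hQ i hg => ?_,
    fun i z hz => ?_⟩
  · rw [hk, Category.assoc, Category.assoc, pullback.condition]
  · exact locP_fibre hQ (hXi i) hX (g i) hg t _ _ (IsPullback.of_hasPullback (g i) t) (d i)
      (hde i) (k i) (hk i)
  · obtain ⟨y, hy⟩ := hz
    have e : Points.map (g i) y = Points.map t (Points.ofScheme T z) := by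
      rw [hy, Points.ofPt_eq_map_ofScheme]
    obtain ⟨p, -, hp2⟩ := points_exists_of_isPullback (IsPullback.of_hasPullback (g i) t) y
      (Points.ofScheme T z) e
    obtain ⟨w, hw⟩ := ofPt_surjective (d i) (hds i) p
    refine ⟨w, ?_⟩
    apply (Points.schemeEquiv T).injective
    change Points.ofScheme T ((k i).left w) = Points.ofScheme T z
    rw [← ofPt_yon_map, hk, ← hp2, ← hw, Points.map_ofPt]

/-- fppf-local lifting through an fppf covering of algebraic spaces. -/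
theorem exists_fppf_lift {X : Sp S} (hX : IsAlgSpace X) {ι : Type u} (Xi : ι → Sp S)
    (hXi : ∀ i, IsAlgSpace (Xi i)) (g : ∀ i, Xi i ⟶ X) (h : IsFppfCover Xi g)
    (T : Over S) (t : (yon S).obj T ⟶ X) :
    ∃ (E : ι → Over S) (k : ∀ i, E i ⟶ T) (l : ∀ i, (yon S).obj (E i) ⟶ Xi i),
      (∀ i, Flat (k i).left) ∧ (∀ i, LocallyOfFinitePresentation (k i).left) ∧
      (∀ z : ↥T.left, ∃ i, z ∈ Set.range (k i).left) ∧
      ∀ i, l i ≫ g i = (yon S).map (k i) ≫ t := by
  obtain ⟨E, k, l, hl, hQ, hz⟩ := exists_fibre_charts hX Xi hXi g T t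
  refine ⟨E, k, l, fun i => hQ _ etLocal_flat i (h.1 i).1, fun i => hQ _ etLocal_lfp i (h.1 i).2,
    fun z => ?_, hl⟩
  obtain ⟨i, hi⟩ := h.2 (Points.ofPt t z)
  exact ⟨i, hz i z hi⟩

/-- A jointly surjective family of universally open flat maps of schemes to an affine scheme `Z`
is refined by a standard fpqc covering: finitely many affine opens of the members, flat over `Z`
and jointly surjective. -/
theorem exists_std_fpqc_of_family {ι : Type u} (Z : Over S) [IsAffine Z.left] (E : ι → Over S)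
    (k : ∀ i, E i ⟶ Z) (hfl : ∀ i, Flat (k i).left) (hop : ∀ i, IsOpenMap (k i).left)
    (hs : ∀ z : ↥Z.left, ∃ i, z ∈ Set.range (k i).left) :
    ∃ (m : ℕ) (W : Fin m → Over S) (c : ∀ j, W j ⟶ Z),
      (∀ j, IsAffine (W j).left) ∧ (∀ j, Flat (c j).left) ∧
      (∀ z : ↥Z.left, ∃ j, z ∈ Set.range (c j).left) ∧
      ∀ j, ∃ (i : ι) (r : W j ⟶ E i), r ≫ k i = c j := by
  classical
  let A := Σ i, (E i).left.affineOpens
  have hcov : (Set.univ : Set ↥Z.left) ⊆ ⋃ a : A, (k a.1).left '' (a.2.1 : Set ↥(E a.1).left) := by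
    intro z _
    obtain ⟨i, w, rfl⟩ := hs z
    obtain ⟨_, ⟨V, hV, rfl⟩, hwV, -⟩ :=
      (E i).left.isBasis_affineOpens.exists_subset_of_mem_open (Set.mem_univ w) isOpen_univ
    exact Set.mem_iUnion.2 ⟨⟨i, ⟨V, hV⟩⟩, w, hwV, rfl⟩
  obtain ⟨t, ht⟩ := isCompact_univ.elim_finite_subcover
    (fun a : A => (k a.1).left '' (a.2.1 : Set ↥(E a.1).left)) (fun a => hop a.1 _ a.2.1.2) hcov
  let e : Fin t.card ≃ t := t.equivFin.symm
  refine ⟨t.card, fun j => overOpens (E (e j).1.1) (e j).1.2.1,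
    fun j => overOpensι (E (e j).1.1) (e j).1.2.1 ≫ k (e j).1.1, fun j => (e j).1.2.2, fun j => ?_,
    fun z => ?_, fun j => ⟨(e j).1.1, overOpensι _ _, rfl⟩⟩
  · haveI := hfl (e j).1.1
    change Flat ((e j).1.2.1.ι ≫ (k (e j).1.1).left)
    infer_instance
  · obtain ⟨a, hat, w, hw, rfl⟩ : ∃ a ∈ t, z ∈ (k a.1).left '' (a.2.1 : Set ↥(E a.1).left) := by
      simpa using ht (Set.mem_univ z)
    obtain ⟨j, hj⟩ := e.surjective ⟨a, hat⟩
    refine ⟨j, ?_⟩
    change (k a.1).left w ∈ Set.range (overOpensι (E (e j).1.1) (e j).1.2.1 ≫ k (e j).1.1).left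
    generalize e j = b at hj
    subst hj
    exact ⟨⟨w, hw⟩, rfl⟩

/-- An fppf covering of an algebraic space by algebraic spaces is an fpqc covering. -/
theorem isFpqcCover_of_isFppfCover {X : Sp S} (hX : IsAlgSpace X) {ι : Type u} (Xi : ι → Sp S)
    (hXi : ∀ i, IsAlgSpace (Xi i)) (g : ∀ i, Xi i ⟶ X) (h : IsFppfCover Xi g) :
    IsFpqcCover Xi g := by
  refine ⟨fun i => (h.1 i).1, fun Z hZ t => ?_⟩
  haveI := hZ
  obtain ⟨E, k, l, hfl, hfp, hs, hl⟩ := exists_fppf_lift hX Xi hXi g h Z t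
  have hop : ∀ i, IsOpenMap (k i).left := fun i => by
    haveI := hfl i
    haveI := hfp i
    exact (k i).left.isOpenMap
  obtain ⟨m, W, c, hW, hc, hcs, hr⟩ := exists_std_fpqc_of_family Z E k hfl hop hs
  refine ⟨m, W, c, hW, hc, hcs, fun j => ?_⟩
  obtain ⟨i, r, hr⟩ := hr j
  refine ⟨i, (yon S).map r ≫ l i, ?_⟩
  rw [Category.assoc, hl, ← Category.assoc, ← Functor.map_comp, hr]

/-- Base change of an fpqc covering of algebraic spaces. -/
theorem isFpqcCover_of_isPullback {X X' : Sp S} (hX : IsAlgSpace X) (hX' : IsAlgSpace X')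
    (a : X' ⟶ X) {ι : Type u} (Xi : ι → Sp S) (hXi : ∀ i, IsAlgSpace (Xi i)) (g : ∀ i, Xi i ⟶ X)
    (Xi' : ι → Sp S) (hXi' : ∀ i, IsAlgSpace (Xi' i)) (q : ∀ i, Xi' i ⟶ X') (p : ∀ i, Xi' i ⟶ Xi i)
    (sq : ∀ i, IsPullback (q i) (p i) a (g i)) (h : IsFpqcCover Xi g) : IsFpqcCover Xi' q := by
  refine ⟨fun i => locP_of_isPullback etLocal_flat (hXi i) hX (hXi' i) hX' (sq i).flip (h.1 i),
    fun Z hZ t => ?_⟩
  obtain ⟨m, W, c, hW, hc, hcs, hl⟩ := h.2 Z hZ (t ≫ a)
  refine ⟨m, W, c, hW, hc, hcs, fun j => ?_⟩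
  obtain ⟨i, l, hl⟩ := hl j
  refine ⟨i, (sq i).lift ((yon S).map (c j) ≫ t) l (by rw [Category.assoc, hl]), ?_⟩
  exact (sq i).lift_fst _ _ _

/-- Composition of fpqc coverings of algebraic spaces. -/
theorem isFpqcCover_sigma {X : Sp S} (hX : IsAlgSpace X) {ι : Type u} (Xi : ι → Sp S)
    (hXi : ∀ i, IsAlgSpace (Xi i)) (g : ∀ i, Xi i ⟶ X) (κ : ι → Type u) (Xij : ∀ i, κ i → Sp S)
    (hXij : ∀ i j, IsAlgSpace (Xij i j)) (gij : ∀ i j, Xij i j ⟶ Xi i) (h : IsFpqcCover Xi g)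
    (hij : ∀ i, IsFpqcCover (Xij i) (gij i)) :
    IsFpqcCover (fun r : Σ i, κ i => Xij r.1 r.2) (fun r => gij r.1 r.2 ≫ g r.1) := by
  classical
  refine ⟨fun r => locP_comp etLocal_flat (hXij r.1 r.2) (hXi r.1) hX _ _ ((hij r.1).1 r.2)
    (h.1 r.1), fun Z hZ t => ?_⟩
  obtain ⟨m, W, c, hW, hc, hcs, hl⟩ := h.2 Z hZ t
  choose i l hl using hl
  choose n V d hV hd hds hl2 using fun j => (hij (i j)).2 (W j) (hW j) (l j)
  let e : (Σ j : Fin m, Fin (n j)) ≃ Fin (∑ j, n j) := finSigmaFinEquiv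
  refine ⟨∑ j, n j, fun a => V (e.symm a).1 (e.symm a).2,
    fun a => d (e.symm a).1 (e.symm a).2 ≫ c (e.symm a).1, fun a => hV _ _, fun a => ?_,
    fun z => ?_, fun a => ?_⟩
  · haveI := hd (e.symm a).1 (e.symm a).2
    haveI := hc (e.symm a).1
    change Flat ((d (e.symm a).1 (e.symm a).2).left ≫ (c (e.symm a).1).left)
    infer_instance
  · obtain ⟨j, w, rfl⟩ := hcs z
    obtain ⟨b, v, rfl⟩ := hds j w
    refine ⟨e ⟨j, b⟩, ?_⟩
    change (c j).left ((d j b).left v) ∈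
      Set.range (d (e.symm (e ⟨j, b⟩)).1 (e.symm (e ⟨j, b⟩)).2 ≫ c (e.symm (e ⟨j, b⟩)).1).left
    rw [e.symm_apply_apply]
    exact ⟨v, rfl⟩
  · obtain ⟨j', l', hl'⟩ := hl2 (e.symm a).1 (e.symm a).2
    refine ⟨⟨i (e.symm a).1, j'⟩, l', ?_⟩
    change l' ≫ gij (i (e.symm a).1) j' ≫ g (i (e.symm a).1) = _
    rw [← Category.assoc, hl', Category.assoc, hl, Functor.map_comp, Category.assoc]

/-- Composition of standard fpqc coverings of schemes over `S`. -/
theorem std_fpqc_comp (Z : Over S) {m : ℕ} (W : Fin m → Over S) (c : ∀ j, W j ⟶ Z)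
    (hc : ∀ j, Flat (c j).left) (hcs : ∀ z : ↥Z.left, ∃ j, z ∈ Set.range (c j).left)
    (n : Fin m → ℕ) (V : ∀ j, Fin (n j) → Over S) (d : ∀ j b, V j b ⟶ W j)
    (hV : ∀ j b, IsAffine (V j b).left) (hd : ∀ j b, Flat (d j b).left)
    (hds : ∀ j (w : ↥(W j).left), ∃ b, w ∈ Set.range (d j b).left) :
    ∃ (M : ℕ) (W' : Fin M → Over S) (c' : ∀ a, W' a ⟶ Z),
      (∀ a, IsAffine (W' a).left) ∧ (∀ a, Flat (c' a).left) ∧
      (∀ z : ↥Z.left, ∃ a, z ∈ Set.range (c' a).left) ∧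
      ∀ a, ∃ (j : Fin m) (b : Fin (n j)) (r : W' a ⟶ V j b), r ≫ d j b ≫ c j = c' a := by
  classical
  let e : (Σ j : Fin m, Fin (n j)) ≃ Fin (∑ j, n j) := finSigmaFinEquiv
  refine ⟨∑ j, n j, fun a => V (e.symm a).1 (e.symm a).2,
    fun a => d (e.symm a).1 (e.symm a).2 ≫ c (e.symm a).1, fun a => hV _ _, fun a => ?_,
    fun z => ?_, fun a => ⟨(e.symm a).1, (e.symm a).2, 𝟙 _, Category.id_comp _⟩⟩
  · haveI := hd (e.symm a).1 (e.symm a).2
    haveI := hc (e.symm a).1
    change Flat ((d (e.symm a).1 (e.symm a).2).left ≫ (c (e.symm a).1).left)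
    infer_instance
  · obtain ⟨j, w, rfl⟩ := hcs z
    obtain ⟨b, v, rfl⟩ := hds j w
    refine ⟨e ⟨j, b⟩, ?_⟩
    change (c j).left ((d j b).left v) ∈
      Set.range (d (e.symm (e ⟨j, b⟩)).1 (e.symm (e ⟨j, b⟩)).2 ≫ c (e.symm (e ⟨j, b⟩)).1).left
    rw [e.symm_apply_apply]
    exact ⟨v, rfl⟩

/-- fpqc coverings of an algebraic space can be tested after base change to an etale atlas. -/
theorem isFpqcCover_iff_of_chart {X : Sp S} (hX : IsAlgSpace X) {ι : Type u} (Xi : ι → Sp S)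
    (hXi : ∀ i, IsAlgSpace (Xi i)) (g : ∀ i, Xi i ⟶ X) {U : Over S} (p : (yon S).obj U ⟶ X)
    (hp : RepWith @Etale p) (hps : RepWith @Surjective p) (Ui : ι → Sp S)
    (hUi : ∀ i, IsAlgSpace (Ui i)) (q : ∀ i, Ui i ⟶ (yon S).obj U) (p' : ∀ i, Ui i ⟶ Xi i)
    (sq : ∀ i, IsPullback (q i) (p' i) p (g i)) :
    IsFpqcCover Xi g ↔ IsFpqcCover Ui q := by
  constructor
  · exact isFpqcCover_of_isPullback hX (IsAlgSpace.yon_obj U) p Xi hXi g Ui hUi q p' sq
  · intro hU
    refine ⟨fun i => ?_, fun Z hZ t => ?_⟩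
    · -- flatness of `g i` from that of its base change `q i`
      obtain ⟨U', d, hde, hds⟩ := (hUi i).atlas
      obtain ⟨h, hh⟩ := (yon S).map_surjective (d ≫ q i)
      have hp'e : RepWith @Etale (p' i) :=
        MorphismProperty.of_isPullback (P := RepWith @Etale) (sq i) hp
      have hp's : RepWith @Surjective (p' i) :=
        MorphismProperty.of_isPullback (P := RepWith @Surjective) (sq i) hps
      refine locP_of_chart etLocal_flat (g i) (d ≫ p' i) p h
        ((RepWith @Etale).comp_mem _ _ hde hp'e) ((RepWith @Surjective).comp_mem _ _ hds hp's) hp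
        ?_ ?_
      · rw [hh, Category.assoc, Category.assoc, (sq i).w]
      · exact hU.1 i d (𝟙 _) h hde (repWith_id _ U) (by rw [hh, Category.comp_id])
    · haveI := hZ
      obtain ⟨Z', s1, s2, sqZ⟩ := exists_isPullback_yon t p hp.rep
      have hs1e : Etale s1.left := prop_fst_of_isPullback sqZ hp
      have hs1s : Surjective s1.left := prop_fst_of_isPullback sqZ hps
      obtain ⟨m, W, c, hW, hc, hcs, hr⟩ := exists_std_fpqc_of_family (ι := PUnit.{u + 1}) Z
        (fun _ => Z') (fun _ => s1) (fun _ => inferInstance) (fun _ => s1.left.isOpenMap)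
        (fun z => ⟨PUnit.unit, hs1s.surj z⟩)
      choose _u r hr using hr
      choose n V d hV hd hds hl using fun j => hU.2 (W j) (hW j) ((yon S).map (r j ≫ s2))
      obtain ⟨M, W', c', hW', hc', hcs', hfac⟩ := std_fpqc_comp Z W c hc hcs n V d hV hd hds
      refine ⟨M, W', c', hW', hc', hcs', fun a => ?_⟩
      obtain ⟨j, b, ρ, hρ⟩ := hfac a
      obtain ⟨i, l, hl⟩ := hl j b
      refine ⟨i, (yon S).map ρ ≫ l ≫ p' i, ?_⟩
      rw [Category.assoc, Category.assoc, ← (sq i).w, ← Category.assoc l, hl, ← hρ, ← hr j]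
      simp only [Functor.map_comp, Category.assoc]
      rw [sqZ.w]

end Groth.Agent.Lib.Helper5.FppfCover
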