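import Mathlib.CategoryTheory.Limits.VanKampen
import Mathlib.CategoryTheory.Extensive
import Mathlib.CategoryTheory.Sites.LeftExact
import Mathlib.CategoryTheory.Limits.Types.Coproducts
import Mathlib.CategoryTheory.Limits.Types.Pullbacks

/-! # Arbitrary coproducts in `Type`, presheaf and sheaf categories are van Kampen -/

set_option autoImplicit false
universe w v u

open CategoryTheory CategoryTheory.Limits Opposite

namespace Groth.Agent.Lib.Helper5

section types

variable {ι : Type v} {F : Discrete ι ⥤ Type w} (c : Cocone F) (hc : IsColimit c)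

include hc in
lemma type_cocone_jointly_surjective (x : c.pt) : ∃ j y, c.ι.app j y = x :=
  Types.jointly_surjective_of_isColimit hc x

include hc in
lemma type_cocone_disjoint (i j : Discrete ι) (x : F.obj i) (y : F.obj j)
    (h : c.ι.app i x = c.ι.app j y) : i = j := by
  classical
  let s : Cocone F :=
    { pt := ULift.{w} Prop
      ι := Discrete.natTrans fun k => ↾fun _ => ULift.up (k = i) }
  have h1 := ConcreteCategory.congr_hom (hc.fac s i) x
  have h2 := ConcreteCategory.congr_hom (hc.fac s j) y
  simp only [types_comp_apply] at h1 h2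
  rw [h] at h1
  have h3 := h2.symm.trans h1
  have h4 : (j = i) = (i = i) := congrArg ULift.down h3
  exact ((h4.symm ▸ rfl : j = i)).symm

include hc in
lemma type_cocone_injective (i : Discrete ι) : Function.Injective (c.ι.app i) := by
  classical
  intro x y h
  let s : Cocone F :=
    { pt := Option (F.obj i)
      ι := Discrete.natTrans fun k => ↾fun z =>
        if hk : k = i then some (hk ▸ z) else none }
  have h1 := ConcreteCategory.congr_hom (hc.fac s i) x
  have h2 := ConcreteCategory.congr_hom (hc.fac s i) y
  simp only [types_comp_apply] at h1 h2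
  rw [h] at h1
  have h3 := h1.symm.trans h2
  simpa [s] using h3

end types

section typesVK

variable {ι : Type v} {F : Discrete ι ⥤ Type w} (c : Cocone F) (hc : IsColimit c)

include hc in
theorem isVanKampenColimit_type : IsVanKampenColimit c := by
  intro F' c' α f e hα
  have e' : ∀ (j : Discrete ι) (z : F'.obj j), c.ι.app j (α.app j z) = f (c'.ι.app j z) := by
    intro j z
    exact ConcreteCategory.congr_hom (NatTrans.congr_app e j) z
  constructor
  · rintro ⟨hc'⟩ j
    rw [Types.isPullback_iff]
    refine ⟨?_, ?_, ?_⟩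
    · ext z
      exact (e' j z).symm
    · rintro x y ⟨h1, -⟩
      exact type_cocone_injective c' hc' j h1
    · intro x₂ x₃ h
      obtain ⟨k, z, rfl⟩ := type_cocone_jointly_surjective c' hc' x₂
      rw [← e' k z] at h
      obtain rfl := type_cocone_disjoint c hc _ _ _ _ h
      exact ⟨z, rfl, type_cocone_injective c hc _ h⟩
  · intro H
    have ex : ∀ x : c'.pt, ∃ (j : Discrete ι) (z : F'.obj j), c'.ι.app j z = x := by
      intro x
      obtain ⟨j, y, hy⟩ := type_cocone_jointly_surjective c hc (f x)
      obtain ⟨z, hz, -⟩ := Types.exists_of_isPullback (H j) x y hy.symm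
      exact ⟨j, z, hz⟩
    have uniq : ∀ (i j : Discrete ι) (z : F'.obj i) (z' : F'.obj j),
        c'.ι.app i z = c'.ι.app j z' → ∃ h : i = j, h ▸ z = z' := by
      intro i j z z' h
      have h1 : c.ι.app i (α.app i z) = c.ι.app j (α.app j z') := by
        rw [e', e', h]
      obtain rfl := type_cocone_disjoint c hc _ _ _ _ h1
      refine ⟨rfl, ?_⟩
      exact Types.ext_of_isPullback (H i) h (type_cocone_injective c hc _ h1)
    choose jx zx hzx using ex
    refine ⟨⟨fun s => ↾fun x => s.ι.app (jx x) (zx x), ?_, ?_⟩⟩
    · intro s j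
      ext z
      obtain ⟨h1, h2⟩ := uniq _ _ _ _ (hzx (c'.ι.app j z))
      change s.ι.app (jx (c'.ι.app j z)) (zx (c'.ι.app j z)) = _
      generalize zx (c'.ι.app j z) = z' at h2
      generalize jx (c'.ι.app j z) = j' at *
      subst h1
      rw [← h2]
      rfl
    · intro s m hm
      ext x
      change m x = s.ι.app (jx x) (zx x)
      rw [← hm]
      change m x = m (c'.ι.app (jx x) (zx x))
      rw [hzx]

end typesVK


section sheaves

variable {C : Type u} [Category.{v} C]

theorem isVanKampenColimit_presheaf {ι : Type*} {F : Discrete ι ⥤ (Cᵒᵖ ⥤ Type w)}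
    [HasColimitsOfShape (Discrete ι) (Type w)] (c : Cocone F) (hc : IsColimit c) :
    IsVanKampenColimit c :=
  isVanKampenColimit_of_evaluation _ c fun _ =>
    isVanKampenColimit_type _ (isColimitOfPreserves _ hc)

theorem isVanKampenColimit_sheaf (J : GrothendieckTopology C) [HasSheafify J (Type w)]
    {ι : Type*} [HasColimitsOfShape (Discrete ι) (Type w)]
    {F : Discrete ι ⥤ Sheaf J (Type w)} (c : Cocone F) (hc : IsColimit c) :
    IsVanKampenColimit c := by
  let adj := sheafificationAdjunction J (Type w)
  have : PreservesColimitsOfSize.{0, 0} (presheafToSheaf J (Type w)) :=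
    adj.leftAdjoint_preservesColimits
  apply (IsVanKampenColimit.precompose_isIso_iff
    (Functor.isoWhiskerLeft _ (asIso adj.counit) ≪≫ Functor.rightUnitor _).hom).mp
  refine ((isVanKampenColimit_presheaf _ (colimit.isColimit <| F ⋙ sheafToPresheaf J (Type w))).map_reflective
    adj).of_iso (IsColimit.uniqueUpToIso ?_ ?_)
  · exact isColimitOfPreserves (presheafToSheaf J (Type w)) (colimit.isColimit _)
  · exact (IsColimit.precomposeHomEquiv _ _).symm hc

end sheaves


section cofan

variable {C : Type u} [Category.{v} C] (J : GrothendieckTopology C) [HasSheafify J (Type w)]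
  {ι : Type*} [HasColimitsOfShape (Discrete ι) (Type w)]

/-- van Kampen property for cofans of sheaves of types, in `Cofan` form. -/
theorem cofan_sheaf_vanKampen {F F' : ι → Sheaf J (Type w)} (c : Cofan F) (hc : IsColimit c)
    (c' : Cofan F') (α : ∀ i, F' i ⟶ F i) (f : c'.pt ⟶ c.pt)
    (e : ∀ i, α i ≫ c.inj i = c'.inj i ≫ f) :
    Nonempty (IsColimit c') ↔ ∀ i, IsPullback (c'.inj i) (α i) f (c.inj i) := by
  have h := isVanKampenColimit_sheaf J c hc c' (Discrete.natTrans fun i => α i.as) f
    (by ext ⟨i⟩ : 2; exact e i) (.of_discrete _)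
  rw [h]
  exact ⟨fun H i => H ⟨i⟩, fun H i => H i.as⟩

end cofan

end Groth.Agent.Lib.Helper5
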