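import Groth.Agent.Lib.Helper5.YonCoprod
import Groth.Agent.Lib.Helper5.SheafVK
import Groth.Agent.Lib.Helper5.SheafPullback
import Mathlib.CategoryTheory.Sites.PreservesLimits
import Mathlib.AlgebraicGeometry.PullbackCarrier

/-! # Coproducts of fppf sheaves over `S`: decomposition of schemes mapping to a coproduct -/

set_option autoImplicit false
universe u

open CategoryTheory CategoryTheory.Limits AlgebraicGeometry Opposite

namespace Groth.Agent.Lib.Helper5

open AlgSp

variable {S : Scheme.{u}} {ι : Type u}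

/-- Range of the first projection of a pullback square of schemes. -/
lemma range_fst_of_isPullback {P X Y Z : Scheme.{u}} {fst : P ⟶ X} {snd : P ⟶ Y} {f : X ⟶ Z}
    {g : Y ⟶ Z} (h : IsPullback fst snd f g) : Set.range fst = f ⁻¹' Set.range g := by
  rw [← Scheme.Pullback.range_fst, ← h.isoPullback_hom_fst]
  simp only [Scheme.Hom.comp_base, TopCat.coe_comp]
  rw [Set.range_comp, Set.range_eq_univ.mpr, Set.image_univ]
  exact (h.isoPullback.hom.homeomorph).surjective

theorem cofan_decomp' (F : ι → Sp S) (c : Cofan F) (hc : IsColimit c) {T : Over S}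
    (g : (yon S).obj T ⟶ c.pt) :
    ∃ (Ti : ι → Over S) (t : ∀ i, Ti i ⟶ T) (gi : ∀ i, (yon S).obj (Ti i) ⟶ F i),
      (∀ i, IsPullback ((yon S).map (t i)) (gi i) g (c.inj i)) ∧
      (∀ i, IsOpenImmersion (t i).left ∧ IsClosedImmersion (t i).left) ∧
      Nonempty (IsColimit (Cofan.mk T.left (fun i => (t i).left))) ∧
      (∀ x : T.left, ∃ i, x ∈ Set.range (t i).left) := by
  let T₀ : Over S := Over.mk (𝟙 S)
  let X : ι → Over S := fun _ => T₀
  have hT : IsTerminal ((yon S).obj T₀) :=
    IsTerminal.isTerminalObj (yon S) _ Over.mkIdTerminal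
  let c₀ : Cofan (fun i => (yon S).obj (X i)) :=
    Cofan.mk ((yon S).obj (sigmaOver X)) fun i => (yon S).map (sigmaOverι X i)
  have hc₀ : IsColimit c₀ := isColimitYonSigmaOver X
  let α : ∀ i, F i ⟶ (yon S).obj (X i) := fun i => hT.from (F i)
  let f : c.pt ⟶ c₀.pt := Cofan.IsColimit.desc hc (fun i => α i ≫ c₀.inj i)
  have sq1 : ∀ i, IsPullback (c.inj i) (α i) f (c₀.inj i) :=
    (cofan_sheaf_vanKampen (J S) c₀ hc₀ c α f
      (fun i => (Cofan.IsColimit.fac hc (fun i => α i ≫ c₀.inj i) i).symm)).mp ⟨hc⟩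
  obtain ⟨φ, hφ⟩ := (yon S).map_surjective (g ≫ f)
  let Ti : ι → Over S := fun i => pullback φ (sigmaOverι X i)
  let t : ∀ i, Ti i ⟶ T := fun i => pullback.fst _ _
  let s : ∀ i, Ti i ⟶ X i := fun i => pullback.snd _ _
  have sqO : ∀ i, IsPullback (t i) (s i) φ (sigmaOverι X i) := fun i => IsPullback.of_hasPullback _ _
  have sq2 : ∀ i, IsPullback ((yon S).map (t i)) ((yon S).map (s i)) (g ≫ f) (c₀.inj i) := by
    intro i
    have := (sqO i).map (yon S)
    rwa [hφ] at this
  let gi : ∀ i, (yon S).obj (Ti i) ⟶ F i := fun i =>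
    (sq1 i).lift ((yon S).map (t i) ≫ g) ((yon S).map (s i)) (by
      rw [Category.assoc]; exact (sq2 i).w)
  have sqS : ∀ i, IsPullback (t i).left (s i).left φ.left (sigmaOverι X i).left := fun i =>
    (sqO i).map (Over.forget S)
  have hr : ∀ i, Set.range (t i).left = φ.left ⁻¹' Set.range (Sigma.ι (fun i => (X i).left) i) :=
    fun i => range_fst_of_isPullback (sqS i)
  have hcovx : ∀ x : T.left, ∃ i, x ∈ Set.range (t i).left := by
    intro x
    obtain ⟨i, y, hy⟩ := (sigmaOpenCover fun i => (X i).left).exists_eq (φ.left x)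
    refine ⟨i, ?_⟩
    rw [hr]; exact ⟨y, hy⟩
  refine ⟨Ti, t, gi, ?_, ?_, ?_, hcovx⟩
  · intro i
    have h1 : gi i ≫ α i = (yon S).map (s i) := (sq1 i).lift_snd _ _ _
    have h2 : gi i ≫ c.inj i = (yon S).map (t i) ≫ g := (sq1 i).lift_fst _ _ _
    have big : IsPullback (gi i ≫ α i) ((yon S).map (t i)) (c₀.inj i) (g ≫ f) := by
      rw [h1]; exact (sq2 i).flip
    exact (IsPullback.of_right big h2 (sq1 i).flip).flip
  · intro i
    have ho : IsOpenImmersion (sigmaOverι X i).left :=
      inferInstanceAs (IsOpenImmersion (Sigma.ι (fun i => (X i).left) i))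
    have hcl : IsClosedImmersion (sigmaOverι X i).left := isClosedImmersion_sigmaι _ _
    exact ⟨MorphismProperty.of_isPullback (P := @IsOpenImmersion) (sqS i).flip ho,
      MorphismProperty.of_isPullback (P := @IsClosedImmersion) (sqS i).flip hcl⟩
  · have ho : ∀ i, IsOpenImmersion (t i).left := fun i => by
      have ho : IsOpenImmersion (sigmaOverι X i).left :=
        inferInstanceAs (IsOpenImmersion (Sigma.ι (fun i => (X i).left) i))
      exact MorphismProperty.of_isPullback (P := @IsOpenImmersion) (sqS i).flip ho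
    apply nonempty_isColimit_cofanMk_of
    · rw [eq_top_iff]
      intro x _
      obtain ⟨i, this⟩ := hcovx x
      simp only [TopologicalSpace.Opens.iSup_mk, TopologicalSpace.Opens.mem_mk, Set.mem_iUnion]
      exact ⟨i, this⟩
    · intro i j hij
      rw [Function.onFun, disjoint_iff, eq_bot_iff]
      intro x hx
      have h1 : x ∈ Set.range (t i).left := hx.1
      have h2 : x ∈ Set.range (t j).left := hx.2
      rw [hr] at h1 h2
      exact (disjoint_opensRange_sigmaι (fun i => (X i).left) i j hij).le_bot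
        (show φ.left x ∈ (Sigma.ι (fun i => (X i).left) i).opensRange ⊓
          (Sigma.ι (fun i => (X i).left) j).opensRange from ⟨h1, h2⟩)

theorem cofan_decomp (F : ι → Sp S) (c : Cofan F) (hc : IsColimit c) {T : Over S}
    (g : (yon S).obj T ⟶ c.pt) :
    ∃ (Ti : ι → Over S) (t : ∀ i, Ti i ⟶ T) (gi : ∀ i, (yon S).obj (Ti i) ⟶ F i),
      (∀ i, IsPullback ((yon S).map (t i)) (gi i) g (c.inj i)) ∧
      (∀ i, IsOpenImmersion (t i).left ∧ IsClosedImmersion (t i).left) ∧
      Nonempty (IsColimit (Cofan.mk T.left (fun i => (t i).left))) := by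
  obtain ⟨Ti, t, gi, h1, h2, h3, -⟩ := cofan_decomp' F c hc g
  exact ⟨Ti, t, gi, h1, h2, h3⟩

section monoDiag

/-- For a monomorphism `j : A ⟶ X`, the diagonal of `A` is the base change of the diagonal of `X`. -/
lemma isPullback_diag_of_mono {C : Type*} [Category C] [HasBinaryProducts C] {A X : C} (j : A ⟶ X)
    [Mono j] : IsPullback (Limits.diag A) j (prod.map j j) (Limits.diag X) := by
  have key : ∀ (s : PullbackCone (prod.map j j) (Limits.diag X)),
      s.fst ≫ prod.fst = s.fst ≫ prod.snd := by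
    intro s
    rw [← cancel_mono j]
    have h1 := congrArg (fun k => k ≫ prod.fst) s.condition
    have h2 := congrArg (fun k => k ≫ prod.snd) s.condition
    simp only [Category.assoc, prod.map_fst, prod.map_snd, Limits.diag, prod.lift_fst,
      prod.lift_snd] at h1 h2
    rw [Category.assoc, Category.assoc, h1, h2]
  refine ⟨⟨by ext <;> simp [Limits.diag]⟩, ⟨PullbackCone.IsLimit.mk _ (fun s => s.fst ≫ prod.fst)
    ?_ ?_ ?_⟩⟩
  · intro s
    ext
    · simp only [Limits.diag, prod.comp_lift, Category.comp_id]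
      rw [prod.lift_fst]
    · simp only [Limits.diag, prod.comp_lift, Category.comp_id]
      rw [prod.lift_snd]
      exact key s
  · intro s
    have h1 := congrArg (fun k => k ≫ prod.fst) s.condition
    simp only [Category.assoc, prod.map_fst, Limits.diag, prod.lift_fst] at h1
    simpa using h1
  · intro s m hm _
    rw [← hm]
    simp only [Limits.diag, prod.comp_lift, Category.comp_id]
    rw [prod.lift_fst]

end monoDiag

section inj

variable {S : Scheme.{u}} {ι : Type u}

theorem cofan_inj_repWith_clopen (F : ι → Sp S) (c : Cofan F) (hc : IsColimit c) (i : ι) :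
    RepWith (@IsOpenImmersion ⊓ @IsClosedImmersion) (c.inj i) := by
  apply MorphismProperty.relative.of_exists
  intro T g
  obtain ⟨Ti, t, gi, hpb, hcl, -⟩ := cofan_decomp F c hc g
  exact ⟨Ti i, gi i, t i, (hpb i).flip, hcl i⟩

theorem cofan_inj_mono (F : ι → Sp S) (c : Cofan F) (hc : IsColimit c) (i : ι) :
    Mono (c.inj i) :=
  mono_of_cofan_isVanKampen (isVanKampenColimit_sheaf (J S) c hc) ⟨i⟩

end inj

end Groth.Agent.Lib.Helper5
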