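import Groth.Agent.Lib.Helper5.FppfCover

/-!
# Openness of flat lfp morphisms of algebraic spaces; fppf locality on the source (helper5)
-/

set_option autoImplicit false
universe u
open CategoryTheory CategoryTheory.Limits AlgebraicGeometry Opposite

namespace Groth.Agent.Lib.Helper5.FppfSource

open AlgSp Groth.Agent.Lib.Helper36.AlgSpCharts Groth.Agent.Lib.Helper23.AlgSpMor
open Groth.Agent.Lib.Helper46 Groth.Agent.Lib.Helper46.LocPChart
open Groth.Agent.Lib.Helper37.AlgSpPoints Groth.Agent.Lib.Helper5.FppfCover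

variable {S : Scheme.{u}}

/-- If `g` has chart-wise a property `Q` whose members are open maps, then `g` is open on points. -/
theorem isOpenMap_points_of_locP {Q : MorphismProperty Scheme.{u}}
    (hQo : ∀ ⦃A B : Scheme.{u}⦄ (h : A ⟶ B), Q h → IsOpenMap h)
    {X Y : Sp S} (hX : IsAlgSpace X) (hY : IsAlgSpace Y) (g : X ⟶ Y) (hg : LocP Q g) :
    IsOpenMap (Points.map g) := by
  obtain ⟨V, c, hce, hcs⟩ := hY.atlas
  obtain ⟨U, a, h, d, -, -, -, -, hae, comm, has⟩ := exists_chart hX hY.diag g c hce
  have hh : IsOpenMap h.left := hQo _ (hg a c h hae hce comm)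
  intro A hA
  have e : Points.map g '' A = Points.ofPt c '' (h.left '' (Points.ofPt a ⁻¹' A)) := by
    ext y
    constructor
    · rintro ⟨x, hx, rfl⟩
      obtain ⟨u, rfl⟩ := ofPt_surjective a (has hcs) x
      refine ⟨h.left u, ⟨u, hx, rfl⟩, ?_⟩
      rw [Points.map_ofPt, comm, ofPt_map_comp]
    · rintro ⟨_, ⟨u, hu, rfl⟩, rfl⟩
      refine ⟨Points.ofPt a u, hu, ?_⟩
      rw [Points.map_ofPt, comm, ofPt_map_comp]
  rw [e]
  exact isOpenMap_ofPt c hce _ (hh _ (hA.preimage (Points.continuous_ofPt a)))

/-- flat, locally finitely presented morphisms of algebraic spaces are open. -/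
theorem isOpenMap_points_of_flat_lfp {X Y : Sp S} (hX : IsAlgSpace X) (hY : IsAlgSpace Y)
    (g : X ⟶ Y) (hfl : LocP @Flat g) (hfp : LocP @LocallyOfFinitePresentation g) :
    IsOpenMap (Points.map g) := by
  refine isOpenMap_points_of_locP (Q := @Flat ⊓ @LocallyOfFinitePresentation) ?_ hX hY g
    (fun U V a b h ha hb comm => ⟨hfl a b h ha hb comm, hfp a b h ha hb comm⟩)
  intro A B h hh
  haveI := hh.1
  haveI := hh.2
  exact h.isOpenMap

/-- `IsOpenMor` is fppf local on the source. -/
theorem isLocalOnSource_fppf_isOpenMor :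
    IsLocalOnSource (IsFppfCover (S := S)) IsOpenMor := by
  intro ι X Xi g hX hXi hcov Y f hY
  constructor
  · intro hf i
    change IsOpenMap (Points.map (g i ≫ f))
    have : Points.map (g i ≫ f) = Points.map f ∘ Points.map (g i) := by
      ext x; exact Points.map_comp _ _ _
    rw [this]
    exact hf.comp (isOpenMap_points_of_flat_lfp (hXi i) hX (g i) (hcov.1 i).1 (hcov.1 i).2)
  · intro H A hA
    have e : Points.map f '' A = ⋃ i, Points.map (g i ≫ f) '' (Points.map (g i) ⁻¹' A) := by
      ext y
      simp only [Set.mem_image, Set.mem_iUnion, Set.mem_preimage]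
      constructor
      · rintro ⟨x, hx, rfl⟩
        obtain ⟨i, z, rfl⟩ := hcov.2 x
        exact ⟨i, z, hx, Points.map_comp _ _ _⟩
      · rintro ⟨i, z, hz, rfl⟩
        exact ⟨Points.map (g i) z, hz, (Points.map_comp _ _ _).symm⟩
    rw [e]
    exact isOpen_iUnion fun i => H i _ (hA.preimage (Points.continuous_map (g i)))

/-- Base change of an fppf covering of algebraic spaces (chosen pullbacks). -/
theorem isFppfCover_pullback {X X' : Sp S} (hX : IsAlgSpace X) (hX' : IsAlgSpace X')
    (a : X' ⟶ X) {ι : Type u} (Xi : ι → Sp S) (hXi : ∀ i, IsAlgSpace (Xi i)) (g : ∀ i, Xi i ⟶ X)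
    (h : IsFppfCover Xi g) :
    (∀ i, IsAlgSpace (pullback (g i) a)) ∧
      IsFppfCover (fun i => pullback (g i) a) (fun i => pullback.snd (g i) a) := by
  have hP : ∀ i, IsAlgSpace (pullback (g i) a) := fun i =>
    isAlgSpace_of_isPullback (hXi i) hX' hX.diag (IsPullback.of_hasPullback _ _)
  refine ⟨hP, fun i => ⟨?_, ?_⟩, fun x => ?_⟩
  · exact locP_of_isPullback etLocal_flat (hXi i) hX (hP i) hX' (IsPullback.of_hasPullback (g i) a)
      (h.1 i).1
  · exact locP_of_isPullback etLocal_lfp (hXi i) hX (hP i) hX' (IsPullback.of_hasPullback (g i) a)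
      (h.1 i).2
  · obtain ⟨i, y, hy⟩ := h.2 (Points.map a x)
    obtain ⟨p, -, hp⟩ := points_exists_of_isPullback (IsPullback.of_hasPullback (g i) a) y x hy
    exact ⟨i, p, hp⟩

/-- `IsUnivOpenMor` is fppf local on the source. -/
theorem isLocalOnSource_fppf_isUnivOpenMor :
    IsLocalOnSource (IsFppfCover (S := S)) IsUnivOpenMor := by
  intro ι X Xi g hX hXi hcov Y f hY
  constructor
  · intro hf i Z Z' hZ z fst snd sq
    -- `P = X ×_Y Z`
    have hP : IsAlgSpace (pullback f z) :=
      isAlgSpace_of_isPullback hX hZ hY.diag (IsPullback.of_hasPullback _ _)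
    have hZ' : IsAlgSpace Z' := isAlgSpace_of_isPullback (hXi i) hZ hY.diag sq
    let k : Z' ⟶ pullback f z := pullback.lift (fst ≫ g i) snd (by rw [Category.assoc, sq.w])
    have hk1 : k ≫ pullback.fst f z = fst ≫ g i := pullback.lift_fst _ _ _
    have hk2 : k ≫ pullback.snd f z = snd := pullback.lift_snd _ _ _
    have sqk : IsPullback fst k (g i) (pullback.fst f z) := by
      refine IsPullback.of_bot ?_ hk1.symm (IsPullback.of_hasPullback f z)
      rw [hk2]
      exact sq
    have hko : IsOpenMap (Points.map k) :=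
      isOpenMap_points_of_flat_lfp hZ' hP k
        (locP_of_isPullback etLocal_flat (hXi i) hX hZ' hP sqk (hcov.1 i).1)
        (locP_of_isPullback etLocal_lfp (hXi i) hX hZ' hP sqk (hcov.1 i).2)
    have hso : IsOpenMap (Points.map (pullback.snd f z)) :=
      hf hZ z _ _ (IsPullback.of_hasPullback f z)
    change IsOpenMap (Points.map snd)
    have : Points.map snd = Points.map (pullback.snd f z) ∘ Points.map k := by
      ext x
      rw [← hk2]
      exact Points.map_comp _ _ _
    rw [this]
    exact hso.comp hko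
  · intro H Z Z' hZ z fst snd sq
    have hZ' : IsAlgSpace Z' := isAlgSpace_of_isPullback hX hZ hY.diag sq
    obtain ⟨hP, hcov'⟩ := isFppfCover_pullback hX hZ' fst Xi hXi g hcov
    refine (isLocalOnSource_fppf_isOpenMor (fun i => pullback (g i) fst)
      (fun i => pullback.snd (g i) fst) hZ' hP hcov' snd hZ).2 fun i => ?_
    have big : IsPullback (pullback.fst (g i) fst) (pullback.snd (g i) fst ≫ snd) (g i ≫ f) z :=
      (IsPullback.of_hasPullback (g i) fst).paste_vert sq
    exact H i hZ z _ _ big

end Groth.Agent.Lib.Helper5.FppfSource
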