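import Mathlib
import Groth.Agent.S10194
import Groth.Agent.Lib.Helper36.OpenSubspace
import Groth.Agent.Lib.Helper46.STLocal
import Groth.Agent.Lib.Helper62.AlgSpMono
import Groth.Agent.Lib.Helper23.AlgSpInj2
import Groth.Agent.Lib.Helper23.AlgSpMor5
import Groth.Agent.Lib.Helper5.FppfSource

/-!
# The largest open subspace over which a morphism of algebraic spaces has a property (helper5)

For a class `Q` of morphisms of algebraic spaces containing open immersions, stable under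
composition and base change and open on points (`QClass`), and a property `P` local on the base for
`Q`-coverings, every morphism `f : X ⟶ Y` of algebraic spaces has a largest open `W(f) ⊆ |Y|` over
which it has `P`, and its formation commutes with base change along `Q`-morphisms.
-/

set_option autoImplicit false
universe u
open CategoryTheory CategoryTheory.Limits AlgebraicGeometry Opposite

namespace Groth.Agent.Lib.Helper5.LargestOpenSp

open AlgSp Groth.Agent.Lib.Helper36.OpenSubspace Groth.Agent.Lib.Helper46.STLocal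
  Groth.Agent.Lib.Helper23.AlgSpMor Groth.Agent.Lib.Helper37.AlgSpPoints

variable {S : Scheme.{u}}

/-- The formal properties of the class of morphisms defining the coverings. -/
structure QClass (Q : MorphismProperty (Sp S)) : Prop where
  id : ∀ X : Sp S, Q (𝟙 X)
  ofOpenImm : ∀ {X Y : Sp S}, IsAlgSpace X → IsAlgSpace Y → ∀ j : X ⟶ Y,
    RepWith @IsOpenImmersion j → Q j
  comp : ∀ {X Y Z : Sp S}, IsAlgSpace X → IsAlgSpace Y → IsAlgSpace Z → ∀ (f : X ⟶ Y) (g : Y ⟶ Z),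
    Q f → Q g → Q (f ≫ g)
  baseChange : ∀ {X Y X' Y' : Sp S}, IsAlgSpace X → IsAlgSpace Y → IsAlgSpace X' → IsAlgSpace Y' →
    ∀ {f : X ⟶ Y} {g : Y' ⟶ Y} {fst : X' ⟶ X} {f' : X' ⟶ Y'}, IsPullback fst f' f g → Q f → Q f'
  isOpenMap : ∀ {X Y : Sp S}, IsAlgSpace X → IsAlgSpace Y → ∀ g : X ⟶ Y, Q g →
    IsOpenMap (Points.map g)

theorem mono_of_openImm {X Y : Sp S} (j : X ⟶ Y) (hj : RepWith @IsOpenImmersion j) : Mono j :=
  Groth.Agent.Lib.Helper62.mono_of_repWith @IsOpenImmersion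
    (fun f hf => by haveI := hf; infer_instance) j hj

theorem injective_map_of_mono {X Y : Sp S} (j : X ⟶ Y) [Mono j] :
    Function.Injective (Points.map j) :=
  injective_points_of_kInj j (fun K _ str a b h => (cancel_mono j).1 h)

theorem isPullback_of_factor {A W₁ Y : Sp S} (j₁ : W₁ ⟶ Y) [Mono j₁] (g : A ⟶ Y) (e : A ⟶ W₁)
    (he : e ≫ j₁ = g) : IsPullback (𝟙 A) e g j₁ :=
  IsPullback.of_horiz_isIso_mono ⟨by rw [Category.id_comp, he]⟩

/-- `f` has `P` over the open `V` of `|Y|`. -/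
def HasOver (P : MorphismProperty (Sp S)) {X Y : Sp S} (f : X ⟶ Y) (V : Set (Points Y)) : Prop :=
  ∀ (W₁ X₁ : Sp S), IsAlgSpace W₁ → IsAlgSpace X₁ → ∀ (j₁ : W₁ ⟶ Y) (j₁' : X₁ ⟶ X) (f₁ : X₁ ⟶ W₁),
    RepWith @IsOpenImmersion j₁ → Set.range (Points.map j₁) = V → IsPullback j₁' f₁ f j₁ → P f₁

variable {Q P : MorphismProperty (Sp S)}

/-- **Key lemma.** Descent of `P` along a `Q`-morphism onto the open subspace which is its image. -/
theorem iff_of_model (hQ : QClass Q) (hP : IsLocalOnBase (fun _ _ Y g => IsCover Q Y g) P)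
    {X Y X' Y' : Sp S} (hX : IsAlgSpace X) (hY : IsAlgSpace Y) (hX' : IsAlgSpace X')
    (hY' : IsAlgSpace Y') {f : X ⟶ Y} {g : Y' ⟶ Y} {g' : X' ⟶ X} {f' : X' ⟶ Y'}
    (sq : IsPullback g' f' f g) (hg : Q g)
    {W₁ X₁ : Sp S} (hW₁ : IsAlgSpace W₁) (hX₁ : IsAlgSpace X₁) (j₁ : W₁ ⟶ Y) (j₁' : X₁ ⟶ X)
    (f₁ : X₁ ⟶ W₁) (hj₁ : RepWith @IsOpenImmersion j₁)
    (hr : Set.range (Points.map j₁) = Set.range (Points.map g))
    (sq₁ : IsPullback j₁' f₁ f j₁) : P f₁ ↔ P f' := by
  haveI := mono_of_openImm j₁ hj₁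
  obtain ⟨g₁, hg₁⟩ := Groth.Agent.S10194.exists_factor j₁ hj₁ g (by rw [hr])
  have hcomm : g' ≫ f = (f' ≫ g₁) ≫ j₁ := by rw [sq.w, Category.assoc, hg₁]
  obtain ⟨k, hk1, hk2⟩ : ∃ k : X' ⟶ X₁, k ≫ j₁' = g' ∧ k ≫ f₁ = f' ≫ g₁ :=
    ⟨sq₁.lift g' (f' ≫ g₁) hcomm, sq₁.lift_fst _ _ _, sq₁.lift_snd _ _ _⟩
  have sq' : IsPullback k f' f₁ g₁ := by
    refine IsPullback.of_right ?_ hk2 sq₁
    rw [hk1, hg₁]
    exact sq
  have hQg₁ : Q g₁ :=
    hQ.baseChange hY' hY hY' hW₁ (isPullback_of_factor j₁ g g₁ hg₁) hg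
  have hcov : IsCover Q (fun _ : PUnit.{u + 1} => Y') (fun _ => g₁) := by
    refine ⟨fun _ => hQg₁, fun x => ⟨PUnit.unit, ?_⟩⟩
    have hx : Points.map j₁ x ∈ Set.range (Points.map g) := by rw [← hr]; exact ⟨x, rfl⟩
    obtain ⟨y, hy⟩ := hx
    refine ⟨y, injective_map_of_mono j₁ ?_⟩
    rw [← Points.map_comp, hg₁, hy]
  have := hP (fun _ : PUnit.{u + 1} => Y') (fun _ => g₁) hW₁ (fun _ => hY') hcov f₁ hX₁
    (fun _ => X') (fun _ => f') (fun _ => k) (fun _ => hX') (fun _ => sq')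
  rw [this]
  exact ⟨fun h => h PUnit.unit, fun h _ => h⟩

theorem isAlgSpace_pullback_openSub {X Y : Sp S} (hX : IsAlgSpace X) (hY : IsAlgSpace Y)
    (f : X ⟶ Y) (V : Set (Points Y)) (hV : IsOpen V) :
    IsAlgSpace (pullback f (openSubι Y V)) :=
  isAlgSpace_of_isPullback hX (isAlgSpace_openSub Y hY V hV) hY.diag (IsPullback.of_hasPullback _ _)

/-- If one model over `V` has `P`, then `f` has `P` over `V`. -/
theorem hasOver_of_model (hQ : QClass Q) (hP : IsLocalOnBase (fun _ _ Y g => IsCover Q Y g) P)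
    {X Y : Sp S} (hX : IsAlgSpace X) (hY : IsAlgSpace Y) {f : X ⟶ Y} {V : Set (Points Y)}
    {W₁ X₁ : Sp S} (hW₁ : IsAlgSpace W₁) (hX₁ : IsAlgSpace X₁) (j₁ : W₁ ⟶ Y) (j₁' : X₁ ⟶ X)
    (f₁ : X₁ ⟶ W₁) (hj₁ : RepWith @IsOpenImmersion j₁) (hr : Set.range (Points.map j₁) = V)
    (sq₁ : IsPullback j₁' f₁ f j₁) (h : P f₁) : HasOver P f V := by
  intro W₂ X₂ hW₂ hX₂ j₂ j₂' f₂ hj₂ hr₂ sq₂
  exact (iff_of_model hQ hP hX hY hX₂ hW₂ sq₂ (hQ.ofOpenImm hW₂ hY j₂ hj₂) hW₁ hX₁ j₁ j₁' f₁ hj₁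
    (hr.trans hr₂.symm) sq₁).1 h

/-- `f` has `P` over `V` iff the canonical model has `P`. -/
theorem hasOver_iff_canonical (hQ : QClass Q)
    (hP : IsLocalOnBase (fun _ _ Y g => IsCover Q Y g) P)
    {X Y : Sp S} (hX : IsAlgSpace X) (hY : IsAlgSpace Y) (f : X ⟶ Y) (V : Set (Points Y))
    (hV : IsOpen V) : HasOver P f V ↔ P (pullback.snd f (openSubι Y V)) := by
  constructor
  · intro h
    exact h _ _ (isAlgSpace_openSub Y hY V hV) (isAlgSpace_pullback_openSub hX hY f V hV) _ _ _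
      (repWith_isOpenImmersion_openSubι Y V hV) (range_map_openSubι Y V)
      (IsPullback.of_hasPullback _ _)
  · intro h
    exact hasOver_of_model hQ hP hX hY (isAlgSpace_openSub Y hY V hV)
      (isAlgSpace_pullback_openSub hX hY f V hV) _ _ _
      (repWith_isOpenImmersion_openSubι Y V hV) (range_map_openSubι Y V)
      (IsPullback.of_hasPullback _ _) h

/-- A `Q`-morphism over which the base change of `f` has `P` has image over which `f` has `P`. -/
theorem hasOver_range (hQ : QClass Q) (hP : IsLocalOnBase (fun _ _ Y g => IsCover Q Y g) P)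
    {X Y X' Y' : Sp S} (hX : IsAlgSpace X) (hY : IsAlgSpace Y) (hX' : IsAlgSpace X')
    (hY' : IsAlgSpace Y') {f : X ⟶ Y} {g : Y' ⟶ Y} {g' : X' ⟶ X} {f' : X' ⟶ Y'}
    (sq : IsPullback g' f' f g) (hg : Q g) (h : P f') :
    HasOver P f (Set.range (Points.map g)) := by
  have hV : IsOpen (Set.range (Points.map g)) := (hQ.isOpenMap hY' hY g hg).isOpen_range
  rw [hasOver_iff_canonical hQ hP hX hY f _ hV]
  exact (iff_of_model hQ hP hX hY hX' hY' sq hg (isAlgSpace_openSub Y hY _ hV)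
    (isAlgSpace_pullback_openSub hX hY f _ hV) _ _ _
    (repWith_isOpenImmersion_openSubι Y _ hV) (range_map_openSubι Y _)
    (IsPullback.of_hasPullback _ _)).2 h

/-- The largest open over which `f` has `P`. -/
noncomputable def largest (P : MorphismProperty (Sp S)) {X Y : Sp S} (f : X ⟶ Y) :
    TopologicalSpace.Opens (Points Y) :=
  sSup {V | HasOver P f (V : Set (Points Y))}

theorem le_largest {X Y : Sp S} (f : X ⟶ Y) (V : TopologicalSpace.Opens (Points Y))
    (h : HasOver P f (V : Set (Points Y))) : V ≤ largest P f :=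
  le_sSup h

theorem mem_largest_iff {X Y : Sp S} (f : X ⟶ Y) (y : Points Y) :
    y ∈ largest P f ↔ ∃ V : TopologicalSpace.Opens (Points Y),
      HasOver P f (V : Set (Points Y)) ∧ y ∈ V := by
  unfold largest
  rw [TopologicalSpace.Opens.mem_sSup]
  rfl

/-- `f` has `P` over the largest open. -/
theorem hasOver_largest (hQ : QClass Q) (hP : IsLocalOnBase (fun _ _ Y g => IsCover Q Y g) P)
    {X Y : Sp S} (hX : IsAlgSpace X) (hY : IsAlgSpace Y) (f : X ⟶ Y) :
    HasOver P f (largest P f : Set (Points Y)) := by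
  classical
  set W := largest P f with hWdef
  have hWo : IsOpen (W : Set (Points Y)) := W.isOpen
  rw [hasOver_iff_canonical hQ hP hX hY f _ hWo]
  set j₀ := openSubι Y (W : Set (Points Y)) with hj₀def
  have hj₀ : RepWith @IsOpenImmersion j₀ := repWith_isOpenImmersion_openSubι Y _ hWo
  have hW₀ : IsAlgSpace (openSub Y (W : Set (Points Y))) := isAlgSpace_openSub Y hY _ hWo
  have hX₀ : IsAlgSpace (pullback f j₀) := isAlgSpace_pullback_openSub hX hY f _ hWo
  haveI : Mono j₀ := mono_of_openImm j₀ hj₀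
  obtain ⟨U, a, hae, has⟩ := hW₀.atlas
  have hmem : ∀ u : ↥U.left, ∃ V : TopologicalSpace.Opens (Points Y),
      HasOver P f (V : Set (Points Y)) ∧ Points.map j₀ (Points.ofPt a u) ∈ V := by
    intro u
    rw [← mem_largest_iff]
    have : Points.map j₀ (Points.ofPt a u) ∈ Set.range (Points.map j₀) := ⟨_, rfl⟩
    rw [hj₀def, range_map_openSubι] at this
    exact this
  choose V hVgood hVmem using hmem
  have hrange : ∀ u, Set.range (Points.map (openSubι Y (V u : Set (Points Y)))) ⊆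
      Set.range (Points.map j₀) := by
    intro u
    rw [range_map_openSubι, hj₀def, range_map_openSubι]
    exact le_largest f (V u) (hVgood u)
  choose e he using fun u => Groth.Agent.S10194.exists_factor j₀ hj₀
    (openSubι Y (V u : Set (Points Y))) (hrange u)
  have hVo : ∀ u, IsOpen ((V u : Set (Points Y))) := fun u => (V u).isOpen
  have hWu : ∀ u, IsAlgSpace (openSub Y (V u : Set (Points Y))) := fun u =>
    isAlgSpace_openSub Y hY _ (hVo u)
  have hXu : ∀ u, IsAlgSpace (pullback f (openSubι Y (V u : Set (Points Y)))) := fun u =>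
    isAlgSpace_pullback_openSub hX hY f _ (hVo u)
  have hju : ∀ u, RepWith @IsOpenImmersion (openSubι Y (V u : Set (Points Y))) := fun u =>
    repWith_isOpenImmersion_openSubι Y _ (hVo u)
  have heu : ∀ u, RepWith @IsOpenImmersion (e u) := fun u =>
    (RepWith @IsOpenImmersion).of_isPullback (isPullback_of_factor j₀ _ (e u) (he u)) (hju u)
  have sq₀ : IsPullback (pullback.fst f j₀) (pullback.snd f j₀) f j₀ := IsPullback.of_hasPullback _ _
  have hcomm : ∀ u, pullback.fst f (openSubι Y (V u : Set (Points Y))) ≫ f =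
      (pullback.snd f (openSubι Y (V u : Set (Points Y))) ≫ e u) ≫ j₀ := by
    intro u
    rw [pullback.condition, Category.assoc, he u]
  have hk : ∀ u, ∃ k : pullback f (openSubι Y (V u : Set (Points Y))) ⟶ pullback f j₀,
      k ≫ pullback.fst f j₀ = pullback.fst f (openSubι Y (V u : Set (Points Y))) ∧
      k ≫ pullback.snd f j₀ = pullback.snd f (openSubι Y (V u : Set (Points Y))) ≫ e u := fun u =>
    ⟨sq₀.lift _ _ (hcomm u), sq₀.lift_fst _ _ _, sq₀.lift_snd _ _ _⟩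
  choose k hk1 hk2 using hk
  have sqk : ∀ u, IsPullback (k u) (pullback.snd f (openSubι Y (V u : Set (Points Y))))
      (pullback.snd f j₀) (e u) := by
    intro u
    refine IsPullback.of_right ?_ (hk2 u) sq₀
    rw [hk1 u, he u]
    exact IsPullback.of_hasPullback _ _
  have hcov : IsCover Q (fun u : ↥U.left => openSub Y (V u : Set (Points Y))) e := by
    refine ⟨fun u => hQ.ofOpenImm (hWu u) hW₀ (e u) (heu u), fun x => ?_⟩
    obtain ⟨u, rfl⟩ := ofPt_surjective a has x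
    refine ⟨u, ?_⟩
    have h1 : Points.map j₀ (Points.ofPt a u) ∈
        Set.range (Points.map (openSubι Y (V u : Set (Points Y)))) := by
      rw [range_map_openSubι]; exact hVmem u
    obtain ⟨y, hy⟩ := h1
    refine ⟨y, injective_map_of_mono j₀ ?_⟩
    rw [← Points.map_comp, he u, hy]
  refine (hP (fun u : ↥U.left => openSub Y (V u : Set (Points Y))) e hW₀ hWu hcov
    (pullback.snd f j₀) hX₀ (fun u => pullback f (openSubι Y (V u : Set (Points Y))))
    (fun u => pullback.snd f (openSubι Y (V u : Set (Points Y)))) k hXu sqk).2 fun u => ?_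
  exact (hasOver_iff_canonical hQ hP hX hY f _ (hVo u)).1 (hVgood u)

/-- Image of a `Q`-morphism with `P f'` lies in the largest open. -/
theorem range_subset_largest (hQ : QClass Q)
    (hP : IsLocalOnBase (fun _ _ Y g => IsCover Q Y g) P)
    {X Y X' Y' : Sp S} (hX : IsAlgSpace X) (hY : IsAlgSpace Y) (hX' : IsAlgSpace X')
    (hY' : IsAlgSpace Y') {f : X ⟶ Y} {g : Y' ⟶ Y} {g' : X' ⟶ X} {f' : X' ⟶ Y'}
    (sq : IsPullback g' f' f g) (hg : Q g) (h : P f') :
    Set.range (Points.map g) ⊆ (largest P f : Set (Points Y)) := by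
  have hV : IsOpen (Set.range (Points.map g)) := (hQ.isOpenMap hY' hY g hg).isOpen_range
  exact le_largest f ⟨_, hV⟩ (hasOver_range hQ hP hX hY hX' hY' sq hg h)

/-- Formation of the largest open commutes with base change along `Q`-morphisms. -/
theorem largest_baseChange (hQ : QClass Q)
    (hP : IsLocalOnBase (fun _ _ Y g => IsCover Q Y g) P)
    {X Y X' Y' : Sp S} (hX : IsAlgSpace X) (hY : IsAlgSpace Y) (hX' : IsAlgSpace X')
    (hY' : IsAlgSpace Y') {f : X ⟶ Y} {g : Y' ⟶ Y} {g' : X' ⟶ X} {f' : X' ⟶ Y'}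
    (sq : IsPullback g' f' f g) (hg : Q g) (W' : TopologicalSpace.Opens (Points Y'))
    (h1 : HasOver P f' (W' : Set (Points Y')))
    (h2 : ∀ V' : TopologicalSpace.Opens (Points Y'), HasOver P f' (V' : Set (Points Y')) → V' ≤ W') :
    (W' : Set (Points Y')) = Points.map g ⁻¹' (largest P f : Set (Points Y)) := by
  apply Set.Subset.antisymm
  · -- `W' ⊆ g⁻¹ W`
    intro x hx
    have hW'o : IsOpen (W' : Set (Points Y')) := W'.isOpen
    set j₂ := openSubι Y' (W' : Set (Points Y')) with hj₂def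
    have hj₂ : RepWith @IsOpenImmersion j₂ := repWith_isOpenImmersion_openSubι Y' _ hW'o
    have hW₂ : IsAlgSpace (openSub Y' (W' : Set (Points Y'))) := isAlgSpace_openSub Y' hY' _ hW'o
    have hX₂ : IsAlgSpace (pullback f' j₂) := isAlgSpace_pullback_openSub hX' hY' f' _ hW'o
    have hP₂ : P (pullback.snd f' j₂) := (hasOver_iff_canonical hQ hP hX' hY' f' _ hW'o).1 h1
    have sq₂ : IsPullback (pullback.fst f' j₂ ≫ g') (pullback.snd f' j₂) f (j₂ ≫ g) :=
      (IsPullback.of_hasPullback f' j₂).paste_horiz sq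
    have hsub := range_subset_largest hQ hP hX hY hX₂ hW₂ sq₂
      (hQ.comp hW₂ hY' hY j₂ g (hQ.ofOpenImm hW₂ hY' j₂ hj₂) hg) hP₂
    have hx' : x ∈ Set.range (Points.map j₂) := by
      rw [hj₂def, range_map_openSubι]; exact hx
    obtain ⟨y, rfl⟩ := hx'
    apply hsub
    exact ⟨y, Points.map_comp j₂ g y⟩
  · -- `g⁻¹ W ⊆ W'`
    set W := largest P f with hWdef
    have hWo : IsOpen (W : Set (Points Y)) := W.isOpen
    let V' : TopologicalSpace.Opens (Points Y') :=
      ⟨Points.map g ⁻¹' (W : Set (Points Y)), hWo.preimage (Points.continuous_map g)⟩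
    have hV'o : IsOpen (V' : Set (Points Y')) := V'.isOpen
    refine h2 V' ?_
    rw [hasOver_iff_canonical hQ hP hX' hY' f' _ hV'o]
    set j₃ := openSubι Y' (V' : Set (Points Y')) with hj₃def
    have hj₃ : RepWith @IsOpenImmersion j₃ := repWith_isOpenImmersion_openSubι Y' _ hV'o
    have hW₃ : IsAlgSpace (openSub Y' (V' : Set (Points Y'))) := isAlgSpace_openSub Y' hY' _ hV'o
    have hX₃ : IsAlgSpace (pullback f' j₃) := isAlgSpace_pullback_openSub hX' hY' f' _ hV'o
    set j₀ := openSubι Y (W : Set (Points Y)) with hj₀def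
    have hj₀ : RepWith @IsOpenImmersion j₀ := repWith_isOpenImmersion_openSubι Y _ hWo
    have hW₀ : IsAlgSpace (openSub Y (W : Set (Points Y))) := isAlgSpace_openSub Y hY _ hWo
    have hX₀ : IsAlgSpace (pullback f j₀) := isAlgSpace_pullback_openSub hX hY f _ hWo
    haveI : Mono j₀ := mono_of_openImm j₀ hj₀
    have hP₀ : P (pullback.snd f j₀) :=
      (hasOver_iff_canonical hQ hP hX hY f _ hWo).1 (hasOver_largest hQ hP hX hY f)
    have hsub : Set.range (Points.map (j₃ ≫ g)) ⊆ Set.range (Points.map j₀) := by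
      rw [hj₀def, range_map_openSubι]
      rintro _ ⟨y, rfl⟩
      rw [Points.map_comp]
      have : Points.map j₃ y ∈ Set.range (Points.map j₃) := ⟨y, rfl⟩
      rw [hj₃def, range_map_openSubι] at this
      exact this
    obtain ⟨g₀, hg₀⟩ := Groth.Agent.S10194.exists_factor j₀ hj₀ (j₃ ≫ g) hsub
    have hQ₃ : Q (j₃ ≫ g) := hQ.comp hW₃ hY' hY j₃ g (hQ.ofOpenImm hW₃ hY' j₃ hj₃) hg
    have hQg₀ : Q g₀ :=
      hQ.baseChange hW₃ hY hW₃ hW₀ (isPullback_of_factor j₀ (j₃ ≫ g) g₀ hg₀) hQ₃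
    have sq₀ : IsPullback (pullback.fst f j₀) (pullback.snd f j₀) f j₀ :=
      IsPullback.of_hasPullback _ _
    have sq₃ : IsPullback (pullback.fst f' j₃ ≫ g') (pullback.snd f' j₃) f (j₃ ≫ g) :=
      (IsPullback.of_hasPullback f' j₃).paste_horiz sq
    have hcomm : (pullback.fst f' j₃ ≫ g') ≫ f = (pullback.snd f' j₃ ≫ g₀) ≫ j₀ := by
      rw [sq₃.w, Category.assoc, hg₀]
    obtain ⟨k, hk1, hk2⟩ : ∃ k : pullback f' j₃ ⟶ pullback f j₀,
        k ≫ pullback.fst f j₀ = pullback.fst f' j₃ ≫ g' ∧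
        k ≫ pullback.snd f j₀ = pullback.snd f' j₃ ≫ g₀ :=
      ⟨sq₀.lift _ _ hcomm, sq₀.lift_fst _ _ _, sq₀.lift_snd _ _ _⟩
    have sqk : IsPullback k (pullback.snd f' j₃) (pullback.snd f j₀) g₀ := by
      refine IsPullback.of_right ?_ hk2 sq₀
      rw [hk1, hg₀]
      exact sq₃
    exact baseChange_of_localOnBase hP hX₀ hW₀ hX₃ hW₃ sqk hQg₀ (hQ.id _) hP₀

/-! ### The two instances -/

theorem repWith_etale_of_openImm {X Y : Sp S} (j : X ⟶ Y) (hj : RepWith @IsOpenImmersion j) :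
    RepWith @Etale j := by
  rw [repWith_iff] at hj ⊢
  refine ⟨hj.1, fun U V g fst snd sq => ?_⟩
  haveI : IsOpenImmersion snd.left := hj.2 g fst snd sq
  infer_instance

theorem isEtaleMor_of_openImm {X Y : Sp S} (j : X ⟶ Y) (hj : RepWith @IsOpenImmersion j) :
    IsEtaleMor j := by
  intro U φ hφ
  have : (RepWith (S := S) @Etale).IsMultiplicative := repWith_isMultiplicative _
  exact (RepWith (S := S) @Etale).comp_mem _ _ hφ (repWith_etale_of_openImm j hj)

theorem qClass_isEtaleMor : QClass (IsEtaleMor (S := S)) where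
  id := isEtaleMor_id
  ofOpenImm := fun _ _ j hj => isEtaleMor_of_openImm j hj
  comp := fun _ _ _ f g hf hg => isEtaleMor_comp f g hf hg
  baseChange := fun hX hY hX' hY' _ _ _ _ sq hf => isEtaleMor_baseChange hX hY hX' hY' sq hf
  isOpenMap := by
    intro X Y hX hY g hg
    exact isUnivOpenMor_of_isEtaleMor hX g hg hY (𝟙 Y) (𝟙 X) g
      (IsPullback.of_horiz_isIso ⟨by rw [Category.id_comp, Category.comp_id]⟩)

theorem qClass_smooth : QClass (LocP (S := S) @Smooth) where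
  id := sm_id
  ofOpenImm := fun _ _ j hj => sm_of_isEtaleMor j (isEtaleMor_of_openImm j hj)
  comp := fun hX hY hZ f g hf hg => sm_comp hX hY hZ f g hf hg
  baseChange := fun hX hY hX' hY' _ _ _ _ sq hf => sm_baseChange hX hY hX' hY' sq hf
  isOpenMap := by
    intro X Y hX hY g hg
    refine Groth.Agent.Lib.Helper5.FppfSource.isOpenMap_points_of_locP (Q := @Smooth) ?_ hX hY g hg
    intro A B h hh
    haveI := hh
    exact h.isOpenMap

/-- The statement of the "largest open" rows, for a general class `Q`. -/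
theorem largest_open_spec (hQ : QClass Q) (hP : IsLocalOnBase (fun _ _ Y g => IsCover Q Y g) P)
    {X Y : AlgSp.Space S} (f : X ⟶ Y) :
    ∃ W : TopologicalSpace.Opens (AlgSp.Points Y.obj),
      (∀ (W₀ X₀ : AlgSp.Space S) (j₀ : W₀ ⟶ Y) (j₀' : X₀ ⟶ X) (f₀ : X₀ ⟶ W₀),
        AlgSp.RepWith @IsOpenImmersion j₀.hom → Set.range (AlgSp.Points.map j₀.hom) = (W : Set (AlgSp.Points Y.obj)) →
        IsPullback j₀'.hom f₀.hom f.hom j₀.hom → P f₀.hom) ∧
      (∀ V : TopologicalSpace.Opens (AlgSp.Points Y.obj),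
        (∀ (W₁ X₁ : AlgSp.Space S) (j₁ : W₁ ⟶ Y) (j₁' : X₁ ⟶ X) (f₁ : X₁ ⟶ W₁),
        AlgSp.RepWith @IsOpenImmersion j₁.hom → Set.range (AlgSp.Points.map j₁.hom) = (V : Set (AlgSp.Points Y.obj)) →
        IsPullback j₁'.hom f₁.hom f.hom j₁.hom → P f₁.hom) → V ≤ W) ∧
      (∀ (Y' X' : AlgSp.Space S) (g : Y' ⟶ Y) (g' : X' ⟶ X) (f' : X' ⟶ Y'),
        Q g.hom → IsPullback g'.hom f'.hom f.hom g.hom → P f'.hom →
        Set.range (AlgSp.Points.map g.hom) ⊆ (W : Set (AlgSp.Points Y.obj))) ∧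
      (∀ (Y' X' : AlgSp.Space S) (g : Y' ⟶ Y) (g' : X' ⟶ X) (f' : X' ⟶ Y'),
        Q g.hom → IsPullback g'.hom f'.hom f.hom g.hom →
        ∀ W' : TopologicalSpace.Opens (AlgSp.Points Y'.obj),
          (∀ (W₂ X₂ : AlgSp.Space S) (j₂ : W₂ ⟶ Y') (j₂' : X₂ ⟶ X') (f₂ : X₂ ⟶ W₂),
        AlgSp.RepWith @IsOpenImmersion j₂.hom → Set.range (AlgSp.Points.map j₂.hom) = (W' : Set (AlgSp.Points Y'.obj)) →
        IsPullback j₂'.hom f₂.hom f'.hom j₂.hom → P f₂.hom) →
          (∀ V' : TopologicalSpace.Opens (AlgSp.Points Y'.obj),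
            (∀ (W₃ X₃ : AlgSp.Space S) (j₃ : W₃ ⟶ Y') (j₃' : X₃ ⟶ X') (f₃ : X₃ ⟶ W₃),
        AlgSp.RepWith @IsOpenImmersion j₃.hom → Set.range (AlgSp.Points.map j₃.hom) = (V' : Set (AlgSp.Points Y'.obj)) →
        IsPullback j₃'.hom f₃.hom f'.hom j₃.hom → P f₃.hom) → V' ≤ W') →
          (W' : Set (AlgSp.Points Y'.obj)) = AlgSp.Points.map g.hom ⁻¹' (W : Set (AlgSp.Points Y.obj))) := by
  -- conversion between the two formulations of "has `P` over `V`"
  have conv : ∀ {X Y : AlgSp.Space S} (f : X ⟶ Y) (V : Set (Points Y.obj)),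
      (∀ (W₁ X₁ : AlgSp.Space S) (j₁ : W₁ ⟶ Y) (j₁' : X₁ ⟶ X) (f₁ : X₁ ⟶ W₁),
        AlgSp.RepWith @IsOpenImmersion j₁.hom → Set.range (AlgSp.Points.map j₁.hom) = V →
        IsPullback j₁'.hom f₁.hom f.hom j₁.hom → P f₁.hom) ↔ HasOver P f.hom V := by
    intro X Y f V
    constructor
    · intro h W₁ X₁ hW₁ hX₁ j₁ j₁' f₁ hj₁ hr sq
      exact h ⟨W₁, hW₁⟩ ⟨X₁, hX₁⟩ (ObjectProperty.homMk j₁) (ObjectProperty.homMk j₁')
        (ObjectProperty.homMk f₁) hj₁ hr sq
    · intro h W₁ X₁ j₁ j₁' f₁ hj₁ hr sq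
      exact h W₁.obj X₁.obj W₁.property X₁.property j₁.hom j₁'.hom f₁.hom hj₁ hr sq
  refine ⟨largest P f.hom, ?_, ?_, ?_, ?_⟩
  · exact (conv f _).2 (hasOver_largest hQ hP X.property Y.property f.hom)
  · intro V hV
    exact le_largest f.hom V ((conv f _).1 hV)
  · intro Y' X' g g' f' hg sq hf'
    exact range_subset_largest hQ hP X.property Y.property X'.property Y'.property sq hg hf'
  · intro Y' X' g g' f' hg sq W' h1 h2
    exact largest_baseChange hQ hP X.property Y.property X'.property Y'.property sq hg W'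
      ((conv f' _).1 h1) (fun V' hV' => h2 V' ((conv f' _).2 hV'))

end Groth.Agent.Lib.Helper5.LargestOpenSp
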