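import Mathlib
import Groth.Prelude.Def_Desc

/-!
# Covers for which the gluing arguments for descent data work (helper5)

`IsDescCover p`: `p` is surjective, flat, and every base change of `p` is a topological quotient map
and an effective epimorphism.  Both fpqc (`QuasiCompact`) and fppf (`LocallyOfFinitePresentation`)
covers are instances.  For such `p` the functor `toDD p` is full.
-/

set_option autoImplicit false
universe u
open CategoryTheory CategoryTheory.Limits AlgebraicGeometry Desc Opposite

namespace Groth.Agent.Lib.Helper5.DescFunctor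

/-- Covers for which the gluing arguments work. -/
class IsDescCover {X S : Scheme.{u}} (p : X ⟶ S) : Prop where
  surj : Surjective p
  flat : Flat p
  quot : ∀ {T : Scheme.{u}} (t : T ⟶ S), Topology.IsQuotientMap (pullback.snd p t).base
  effEpi : ∀ {T : Scheme.{u}} (t : T ⟶ S), EffectiveEpi (pullback.snd p t)

instance isDescCover_of_fpqc {X S : Scheme.{u}} (p : X ⟶ S) [Surjective p] [Flat p]
    [QuasiCompact p] : IsDescCover p where
  surj := inferInstance
  flat := inferInstance
  quot t := Flat.isQuotientMap_of_surjective _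
  effEpi t := inferInstance

lemma isDescCover_of_fppf {X S : Scheme.{u}} (p : X ⟶ S) [Surjective p] [Flat p]
    [LocallyOfFinitePresentation p] : IsDescCover p where
  surj := inferInstance
  flat := inferInstance
  quot t := by
    have ho : IsOpenMap (pullback.snd p t).base := (pullback.snd p t).isOpenMap
    exact ho.isQuotientMap (pullback.snd p t).continuous (pullback.snd p t).surjective
  effEpi t := inferInstance

/-- The functor `toDD p` is full for a descent cover (proof as for `S1131`). -/
theorem toDD_full {X S : Scheme.{u}} (p : X ⟶ S) [hp : IsDescCover p] : (Desc.toDD p).Full := by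
  haveI : Surjective p := hp.surj
  haveI : Flat p := hp.flat
  refine ⟨fun {U U'} β => ?_⟩
  haveI : EffectiveEpi (pullback.snd p U.hom) := hp.effEpi U.hom
  let φ : pullback p U.hom ⟶ pullback p U'.hom := β.hom.left
  have hβfst : φ ≫ pullback.fst p U'.hom = pullback.fst p U.hom := Over.w β.hom
  let ψ : pullback p U.hom ⟶ U'.left := φ ≫ pullback.snd p U'.hom
  have hψ : ∀ {Z : Scheme.{u}} (g₁ g₂ : Z ⟶ pullback p U.hom),
      g₁ ≫ pullback.snd p U.hom = g₂ ≫ pullback.snd p U.hom → g₁ ≫ ψ = g₂ ≫ ψ := by
    intro Z g₁ g₂ hg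
    have h : (g₁ ≫ pullback.fst p U.hom) ≫ p = (g₂ ≫ pullback.fst p U.hom) ≫ p := by
      rw [Category.assoc, Category.assoc, pullback.condition, ← Category.assoc, ← Category.assoc, hg]
    let v : Lifts ((Desc.toDD p).obj U).obj (g₁ ≫ pullback.fst p U.hom) := ⟨g₁, rfl⟩
    have hw : (g₁ ≫ φ) ≫ pullback.fst p U'.hom = g₁ ≫ pullback.fst p U.hom := by
      rw [Category.assoc, hβfst]
    let w : Lifts ((Desc.toDD p).obj U').obj (g₁ ≫ pullback.fst p U.hom) := ⟨g₁ ≫ φ, hw⟩
    have hc : (((Desc.toDD p).obj U').φ (g₁ ≫ pullback.fst p U.hom) (g₂ ≫ pullback.fst p U.hom) h w).1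
        = (((Desc.toDD p).obj U).φ (g₁ ≫ pullback.fst p U.hom) (g₂ ≫ pullback.fst p U.hom) h v).1 ≫ φ :=
      β.comm (g₁ ≫ pullback.fst p U.hom) (g₂ ≫ pullback.fst p U.hom) h v w rfl
    have h1 : (((Desc.toDD p).obj U).φ (g₁ ≫ pullback.fst p U.hom) (g₂ ≫ pullback.fst p U.hom) h v).1
        = g₂ := by
      apply pullback.hom_ext
      · exact pullback.lift_fst _ _ _
      · exact (pullback.lift_snd _ _ _).trans hg
    have h2 : (((Desc.toDD p).obj U').φ (g₁ ≫ pullback.fst p U.hom) (g₂ ≫ pullback.fst p U.hom) h w).1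
        ≫ pullback.snd p U'.hom = (g₁ ≫ φ) ≫ pullback.snd p U'.hom :=
      pullback.lift_snd _ _ _
    rw [h1] at hc
    calc g₁ ≫ ψ = (g₁ ≫ φ) ≫ pullback.snd p U'.hom := (Category.assoc _ _ _).symm
      _ = (g₂ ≫ φ) ≫ pullback.snd p U'.hom :=
        h2.symm.trans (congrArg (fun t => t ≫ pullback.snd p U'.hom) hc)
      _ = g₂ ≫ ψ := Category.assoc _ _ _
  let b : U.left ⟶ U'.left := EffectiveEpi.desc (pullback.snd p U.hom) ψ hψ
  have hb : pullback.snd p U.hom ≫ b = ψ := EffectiveEpi.fac _ _ _
  have hover : b ≫ U'.hom = U.hom := by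
    have : Epi (pullback.snd p U.hom) := Flat.epi_of_flat_of_surjective _
    rw [← cancel_epi (pullback.snd p U.hom), ← Category.assoc, hb]
    change (φ ≫ pullback.snd p U'.hom) ≫ U'.hom = _
    rw [Category.assoc, ← pullback.condition, ← Category.assoc, hβfst, pullback.condition]
  have key : ((Desc.toDD p).map (Over.homMk b hover : U ⟶ U')).hom.left = φ := by
    apply pullback.hom_ext
    · refine (pullback.lift_fst _ _ _).trans ?_
      exact (Category.comp_id _).trans hβfst.symm
    · refine (pullback.lift_snd _ _ _).trans ?_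
      exact hb
  exact ⟨Over.homMk b hover, Desc.SchDD.hom_ext (Over.OverMorphism.ext key)⟩

end Groth.Agent.Lib.Helper5.DescFunctor
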