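import Mathlib
import Groth.Agent.S19547

/-!
# Ring-level effective descent for algebras (helper5)

Let `A → A'` be faithfully flat, `M'` an `A'`-algebra and `ψ : M' →ₐ[A] A' ⊗[A] M'` a "transport"
map (geometrically: `X ×_S V ⟶ V` lying over the first projection, for `X = Spec A'`, `S = Spec A`,
`V = Spec M'`) which is `A'`-linear for the left factor, counital and coassociative.  Then the
subalgebra `M = {u | ψ u = 1 ⊗ u}` satisfies `A' ⊗[A] M ≃ M'`.
-/

set_option autoImplicit false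
universe u
open TensorProduct

namespace Groth.Agent.Lib.Helper5.RingDescent

variable (A A' M' : Type u) [CommRing A] [CommRing A'] [CommRing M'] [Algebra A A'] [Algebra A M']
  [Algebra A' M'] [IsScalarTower A A' M']

/-- `A' → M'` as an `A`-algebra map. -/
noncomputable abbrev str : A' →ₐ[A] M' := IsScalarTower.toAlgHom A A' M'

/-- multiplication `A' ⊗ M' → M'`. -/
noncomputable def mult : A' ⊗[A] M' →ₐ[A] M' :=
  Algebra.TensorProduct.lift (str A A' M') (AlgHom.id A M') (fun _ _ => Commute.all _ _)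

@[simp] lemma mult_tmul (x : A') (u : M') : mult A A' M' (x ⊗ₜ[A] u) = algebraMap A' M' x * u := by
  simp [mult]

variable {A A' M'}

/-- `id ⊗ ψ`. -/
noncomputable def idTensor (ψ : M' →ₐ[A] A' ⊗[A] M') : A' ⊗[A] M' →ₐ[A] A' ⊗[A] (A' ⊗[A] M') :=
  Algebra.TensorProduct.map (AlgHom.id A A') ψ

variable (A A' M') in
/-- `c ⊗ m ↦ c ⊗ (1 ⊗ m)`. -/
noncomputable def i13 : A' ⊗[A] M' →ₐ[A] A' ⊗[A] (A' ⊗[A] M') :=
  Algebra.TensorProduct.map (AlgHom.id A A') (Algebra.TensorProduct.includeRight)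

@[simp] lemma idTensor_tmul (ψ : M' →ₐ[A] A' ⊗[A] M') (c : A') (m : M') :
    idTensor ψ (c ⊗ₜ[A] m) = c ⊗ₜ[A] ψ m := by simp [idTensor]

@[simp] lemma i13_tmul (c : A') (m : M') :
    i13 A A' M' (c ⊗ₜ[A] m) = c ⊗ₜ[A] ((1 : A') ⊗ₜ[A] m) := by simp [i13]

/-- The comparison map `M' ⊗ A' → A' ⊗ M'`, `u ⊗ z ↦ ψ u * (1 ⊗ z)`. -/
noncomputable def phi (ψ : M' →ₐ[A] A' ⊗[A] M') : M' ⊗[A] A' →ₐ[A] A' ⊗[A] M' :=
  Algebra.TensorProduct.lift ψ
    ((Algebra.TensorProduct.includeRight).comp (str A A' M')) (fun _ _ => Commute.all _ _)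

@[simp] lemma phi_tmul (ψ : M' →ₐ[A] A' ⊗[A] M') (u : M') (z : A') :
    phi ψ (u ⊗ₜ[A] z) = ψ u * ((1 : A') ⊗ₜ[A] algebraMap A' M' z) := by
  simp [phi]

/-- `E = φ ∘ swap`. -/
noncomputable def E (ψ : M' →ₐ[A] A' ⊗[A] M') : A' ⊗[A] M' →ₐ[A] A' ⊗[A] M' :=
  (phi ψ).comp (Algebra.TensorProduct.comm A A' M').toAlgHom

@[simp] lemma E_tmul (ψ : M' →ₐ[A] A' ⊗[A] M') (z : A') (u : M') :
    E ψ (z ⊗ₜ[A] u) = ψ u * ((1 : A') ⊗ₜ[A] algebraMap A' M' z) := by
  simp [E]

variable (A A' M') in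
/-- `c ⊗ (b ⊗ m) ↦ b ⊗ (c • m)`. -/
noncomputable def mu2 : A' ⊗[A] (A' ⊗[A] M') →ₐ[A] A' ⊗[A] M' :=
  Algebra.TensorProduct.lift ((Algebra.TensorProduct.includeRight).comp (str A A' M'))
    (AlgHom.id A (A' ⊗[A] M')) (fun _ _ => Commute.all _ _)

@[simp] lemma mu2_tmul (c : A') (w : A' ⊗[A] M') :
    mu2 A A' M' (c ⊗ₜ[A] w) = ((1 : A') ⊗ₜ[A] algebraMap A' M' c) * w := by
  simp [mu2]

lemma E_eq (ψ : M' →ₐ[A] A' ⊗[A] M') : E ψ = (mu2 A A' M').comp (idTensor ψ) := by
  apply Algebra.TensorProduct.ext'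
  intro c m
  simp [mul_comm]

lemma mu2_i13 (w : A' ⊗[A] M') :
    mu2 A A' M' (i13 A A' M' w) = (1 : A') ⊗ₜ[A] mult A A' M' w := by
  induction w using TensorProduct.induction_on with
  | zero => simp
  | tmul c m => simp [Algebra.TensorProduct.tmul_mul_tmul]
  | add x y hx hy => simp only [map_add, hx, hy, TensorProduct.tmul_add]

section main

variable (ψ : M' →ₐ[A] A' ⊗[A] M')
  (h_alg : ∀ x : A', ψ (algebraMap A' M' x) = x ⊗ₜ[A] (1 : M'))
  (h_counit : ∀ u : M', mult A A' M' (ψ u) = u)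
  (h_coassoc : ∀ u : M', idTensor ψ (ψ u) = i13 A A' M' (ψ u))

include h_alg h_counit h_coassoc in
lemma E_E : (E ψ).comp (E ψ) = AlgHom.id A _ := by
  apply Algebra.TensorProduct.ext'
  intro c m
  have h1 : E ψ ((1 : A') ⊗ₜ[A] algebraMap A' M' c) = c ⊗ₜ[A] (1 : M') := by
    rw [E_tmul, h_alg]; simp
  have h2 : E ψ (ψ m) = (1 : A') ⊗ₜ[A] m := by
    rw [E_eq, AlgHom.comp_apply, h_coassoc, mu2_i13, h_counit]
  simp only [AlgHom.comp_apply, AlgHom.id_apply, E_tmul, map_mul, h1, h2,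
    Algebra.TensorProduct.tmul_mul_tmul, one_mul, mul_one]

include h_alg h_counit h_coassoc in
lemma phi_bijective : Function.Bijective (phi ψ) := by
  have hE : Function.Bijective (E ψ) := by
    have h := E_E ψ h_alg h_counit h_coassoc
    have h' : ∀ w, E ψ (E ψ w) = w := fun w => by
      have := congrArg (fun f : _ →ₐ[A] _ => f w) h
      simpa using this
    exact Function.bijective_iff_has_inverse.2 ⟨E ψ, h', h'⟩
  have : (phi ψ : M' ⊗[A] A' → A' ⊗[A] M') =
      (E ψ) ∘ (Algebra.TensorProduct.comm A M' A') := by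
    funext w
    induction w using TensorProduct.induction_on with
    | zero => simp
    | tmul u z => simp
    | add x y hx hy => simp only [map_add, Function.comp_apply] at hx hy ⊢; rw [hx, hy]
  rw [this]
  exact hE.comp (Algebra.TensorProduct.comm A M' A').bijective

lemma rTensor_mulLeft (x : A') (w : A' ⊗[A] M') :
    LinearMap.rTensor M' (LinearMap.mulLeft A x) w = (x ⊗ₜ[A] (1 : M')) * w := by
  induction w using TensorProduct.induction_on with
  | zero => simp
  | tmul c m => simp [Algebra.TensorProduct.tmul_mul_tmul]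
  | add a b ha hb => simp only [map_add, ha, hb, mul_add]

lemma lTensor_lsmul (y : A') (w : A' ⊗[A] M') :
    LinearMap.lTensor A' (Algebra.lsmul A A M' y) w = ((1 : A') ⊗ₜ[A] algebraMap A' M' y) * w := by
  induction w using TensorProduct.induction_on with
  | zero => simp
  | tmul c m => simp [Algebra.TensorProduct.tmul_mul_tmul, Algebra.smul_def]
  | add a b ha hb => simp only [map_add, ha, hb, mul_add]

include h_alg in
lemma cocycle_left (w : A' ⊗[A] M') (a b : A') :
    LinearMap.lTensor A' (phi ψ).toLinearMap (TensorProduct.assoc A A' M' A'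
      ((w * ((1 : A') ⊗ₜ[A] algebraMap A' M' a)) ⊗ₜ[A] b)) =
      idTensor ψ w * ((1 : A') ⊗ₜ[A] ((a ⊗ₜ[A] algebraMap A' M' b) : A' ⊗[A] M')) := by
  induction w using TensorProduct.induction_on with
  | zero => simp
  | tmul c m =>
    simp only [Algebra.TensorProduct.tmul_mul_tmul, mul_one, TensorProduct.assoc_tmul,
      LinearMap.lTensor_tmul, AlgHom.toLinearMap_apply, phi_tmul, idTensor_tmul, map_mul]
    congr 1
    rw [h_alg, mul_assoc, Algebra.TensorProduct.tmul_mul_tmul, mul_one, one_mul]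
  | add x y hx hy =>
    simp only [add_mul, TensorProduct.add_tmul, map_add, hx, hy]

lemma cocycle_right (w : A' ⊗[A] M') (a b : A') :
    LinearMap.lTensor A' (TensorProduct.mk A A' M' a)
      (w * ((1 : A') ⊗ₜ[A] algebraMap A' M' b)) =
      i13 A A' M' w * ((1 : A') ⊗ₜ[A] ((a ⊗ₜ[A] algebraMap A' M' b) : A' ⊗[A] M')) := by
  induction w using TensorProduct.induction_on with
  | zero => simp
  | tmul c m =>
    simp [Algebra.TensorProduct.tmul_mul_tmul]
  | add x y hx hy =>
    simp only [add_mul, map_add, hx, hy]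

/-- The subalgebra of descended elements. -/
noncomputable def descSub : Subalgebra A M' :=
  AlgHom.equalizer ψ (Algebra.TensorProduct.includeRight)

lemma mem_descSub (u : M') : u ∈ descSub ψ ↔ ψ u = (1 : A') ⊗ₜ[A] u := by
  simp [descSub, AlgHom.mem_equalizer]

/-- The comparison map `A' ⊗ M → M'`. -/
noncomputable def lam : A' ⊗[A] (descSub ψ) →ₐ[A] M' :=
  Algebra.TensorProduct.lift (str A A' M') (descSub ψ).val (fun _ _ => Commute.all _ _)

@[simp] lemma lam_tmul (x : A') (u : descSub ψ) :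
    lam ψ (x ⊗ₜ[A] u) = algebraMap A' M' x * (u : M') := by
  simp [lam]

include h_alg h_counit h_coassoc in
theorem lam_bijective [Module.FaithfullyFlat A A'] : Function.Bijective (lam ψ) := by
  have key := Groth.Agent.S19547.result A A' M' (phi ψ).toLinearMap
    (phi_bijective ψ h_alg h_counit h_coassoc)
    (fun x u z => by
      rw [rTensor_mulLeft]
      simp only [AlgHom.toLinearMap_apply, phi_tmul, Algebra.smul_def, map_mul, h_alg, mul_assoc])
    (fun y u z => by
      rw [lTensor_lsmul]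
      simp only [AlgHom.toLinearMap_apply, phi_tmul, map_mul]
      rw [show ((1 : A') ⊗ₜ[A] (algebraMap A' M' y * algebraMap A' M' z) : A' ⊗[A] M') =
        ((1 : A') ⊗ₜ[A] algebraMap A' M' y) * ((1 : A') ⊗ₜ[A] algebraMap A' M' z) by
          simp [Algebra.TensorProduct.tmul_mul_tmul]]
      ring)
    (fun u a b => by
      simp only [LinearMap.rTensor_tmul, AlgHom.toLinearMap_apply, phi_tmul]
      rw [cocycle_left ψ h_alg, cocycle_right, h_coassoc])
    (Subalgebra.toSubmodule (descSub ψ))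
    (fun u => by
      rw [Subalgebra.mem_toSubmodule, mem_descSub]
      simp only [AlgHom.toLinearMap_apply, phi_tmul, map_one]
      rw [show ((1 : A') ⊗ₜ[A] (1 : M') : A' ⊗[A] M') = 1 from rfl, mul_one])
  have : (lam ψ : A' ⊗[A] (descSub ψ) → M') =
      ((TensorProduct.lift (Algebra.lsmul A A M').toLinearMap) ∘ₗ
        (LinearMap.lTensor A' (Subalgebra.toSubmodule (descSub ψ)).subtype)) := by
    funext w
    induction w using TensorProduct.induction_on with
    | zero => simp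
    | tmul x u => simp [Algebra.smul_def]
    | add x y hx hy => simp only [map_add] at hx hy ⊢; rw [hx, hy]
  rw [this]
  exact key

/-- The comparison isomorphism. -/
noncomputable def lamEquiv [Module.FaithfullyFlat A A'] : A' ⊗[A] (descSub ψ) ≃ₐ[A] M' :=
  AlgEquiv.ofBijective (lam ψ) (lam_bijective ψ h_alg h_counit h_coassoc)

end main

end Groth.Agent.Lib.Helper5.RingDescent
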