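import Mathlib
import Groth.Prelude.Def_Desc
import Groth.Agent.Lib.Helper5.RingDescent

/-!
# The affine core of effective descent (helper5): from a descent datum to ring data

`p = Spec(A → A')`, `D : Desc.SchDD p` with `D.obj ≅ Spec(A' → M')` over `Spec A'`.
We extract the transport ring map `ψ : M' → A' ⊗[A] M'` and prove it is `A'`-linear, counital
and coassociative.
-/

set_option autoImplicit false
universe u
open CategoryTheory CategoryTheory.Limits AlgebraicGeometry TensorProduct Desc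

namespace Groth.Agent.Lib.Helper5.AffCore

/-! ### General lemmas on `SchDD` -/

section general

variable {X S : Scheme.{u}} {p : X ⟶ S} (D : SchDD p)

lemma φ_congr {T : Scheme.{u}} {x₀ x₀' x₁ x₁' : T ⟶ X} (h : x₀ ≫ p = x₁ ≫ p)
    (h' : x₀' ≫ p = x₁' ≫ p) (v : Lifts D.obj x₀) (v' : Lifts D.obj x₀')
    (e₀ : x₀ = x₀') (e₁ : x₁ = x₁') (ev : v.1 = v'.1) :
    (D.φ x₀ x₁ h v).1 = (D.φ x₀' x₁' h' v').1 := by
  subst e₀ e₁
  have : v = v' := Subtype.ext ev
  subst this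
  rfl

lemma φ_nat {T T' : Scheme.{u}} (g : T' ⟶ T) {x₀ x₁ : T ⟶ X} (h : x₀ ≫ p = x₁ ≫ p)
    (v : Lifts D.obj x₀) {y₀ y₁ : T' ⟶ X} (h' : y₀ ≫ p = y₁ ≫ p) (v' : Lifts D.obj y₀)
    (e₀ : y₀ = g ≫ x₀) (e₁ : y₁ = g ≫ x₁) (ev : v'.1 = g ≫ v.1) :
    (D.φ y₀ y₁ h' v').1 = g ≫ (D.φ x₀ x₁ h v).1 := by
  subst e₀ e₁
  exact D.φ_natural g x₀ x₁ h h' v v' ev

lemma φ_self' {T : Scheme.{u}} {x₀ x₁ : T ⟶ X} (h : x₀ ≫ p = x₁ ≫ p) (v : Lifts D.obj x₀)
    (e : x₀ = x₁) : (D.φ x₀ x₁ h v).1 = v.1 := by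
  subst e
  rw [D.φ_self]

lemma φ_comp' {T : Scheme.{u}} (x₀ x₁ x₂ : T ⟶ X) (h₀₁ : x₀ ≫ p = x₁ ≫ p)
    (h₁₂ : x₁ ≫ p = x₂ ≫ p) (h₀₂ : x₀ ≫ p = x₂ ≫ p) (v : Lifts D.obj x₀) (w : Lifts D.obj x₁)
    (hw : w.1 = (D.φ x₀ x₁ h₀₁ v).1) :
    (D.φ x₁ x₂ h₁₂ w).1 = (D.φ x₀ x₂ h₀₂ v).1 := by
  have : w = D.φ x₀ x₁ h₀₁ v := Subtype.ext hw
  subst this
  rw [D.φ_comp]

lemma φ_comp'' {T : Scheme.{u}} (x₀ x₁ x₁' x₂ : T ⟶ X) (h₀₁ : x₀ ≫ p = x₁ ≫ p)
    (h₁₂ : x₁' ≫ p = x₂ ≫ p) (h₀₂ : x₀ ≫ p = x₂ ≫ p) (v : Lifts D.obj x₀) (w : Lifts D.obj x₁')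
    (e₁ : x₁' = x₁) (hw : w.1 = (D.φ x₀ x₁ h₀₁ v).1) :
    (D.φ x₁' x₂ h₁₂ w).1 = (D.φ x₀ x₂ h₀₂ v).1 := by
  subst e₁
  exact φ_comp' D x₀ x₁' x₂ h₀₁ h₁₂ h₀₂ v w hw

end general

/-! ### The affine situation -/

variable (A A' M' : Type u) [CommRing A] [CommRing A'] [CommRing M'] [Algebra A A'] [Algebra A M']
  [Algebra A' M'] [IsScalarTower A A' M']

/-- `A → A'` -/
abbrev aA' : CommRingCat.of A ⟶ CommRingCat.of A' := CommRingCat.ofHom (algebraMap A A')
/-- `A' → M'` -/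
abbrev aM' : CommRingCat.of A' ⟶ CommRingCat.of M' := CommRingCat.ofHom (algebraMap A' M')
/-- `A → M'` -/
abbrev aAM' : CommRingCat.of A ⟶ CommRingCat.of M' := CommRingCat.ofHom (algebraMap A M')

lemma aAM'_eq : aAM' A M' = aA' A A' ≫ aM' A' M' := by
  ext x
  exact IsScalarTower.algebraMap_apply A A' M' x

/-- the covering morphism -/
noncomputable abbrev pp : Spec (CommRingCat.of A') ⟶ Spec (CommRingCat.of A) := Spec.map (aA' A A')

/-- the model object over `Spec A'` -/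
noncomputable abbrev objV : Over (Spec (CommRingCat.of A')) := Over.mk (Spec.map (aM' A' M'))

/-- `A' ⊗[A] M'` -/
abbrev BB : CommRingCat := CommRingCat.of (A' ⊗[A] M')
/-- left inclusion -/
abbrev inl : CommRingCat.of A' ⟶ BB A A' M' :=
  CommRingCat.ofHom (Algebra.TensorProduct.includeLeftRingHom)
/-- right inclusion -/
abbrev inr : CommRingCat.of M' ⟶ BB A A' M' :=
  CommRingCat.ofHom (Algebra.TensorProduct.includeRight.toRingHom)

lemma hPO : IsPushout (aA' A A') (aAM' A M') (inl A A' M') (inr A A' M') :=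
  CommRingCat.isPushout_tensorProduct A A' M'

variable {A A' M'} (D : SchDD (pp A A')) (e : D.obj ≅ objV A' M')

/-- The lift of `Spec C ⟶ Spec A'` given by a ring map `M' → C`. -/
noncomputable def liftOf {C : CommRingCat.{u}} (w : CommRingCat.of M' ⟶ C) :
    Lifts D.obj (Spec.map (aM' A' M' ≫ w)) :=
  ⟨Spec.map w ≫ e.inv.left, by
    rw [Category.assoc, Over.w e.inv, Spec.map_comp]
    rfl⟩

@[simp] lemma liftOf_val {C : CommRingCat.{u}} (w : CommRingCat.of M' ⟶ C) :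
    (liftOf D e w).1 = Spec.map w ≫ e.inv.left := rfl

lemma x_comm : Spec.map (aM' A' M' ≫ inr A A' M') ≫ pp A A' = Spec.map (inl A A' M') ≫ pp A A' := by
  rw [← Spec.map_comp, ← Spec.map_comp, ← Category.assoc, ← aAM'_eq, (hPO A A' M').w]

/-- The transported universal point. -/
noncomputable def psiV : Lifts D.obj (Spec.map (inl A A' M')) :=
  D.φ (Spec.map (aM' A' M' ≫ inr A A' M')) (Spec.map (inl A A' M')) x_comm (liftOf D e (inr A A' M'))

/-- The transport ring map `ψ : M' → A' ⊗[A] M'`. -/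
noncomputable def psiC : CommRingCat.of M' ⟶ BB A A' M' :=
  Spec.preimage ((psiV D e).1 ≫ e.hom.left)

lemma map_psiC : Spec.map (psiC D e) = (psiV D e).1 ≫ e.hom.left := Spec.map_preimage _

lemma aM'_psiC : aM' A' M' ≫ psiC D e = inl A A' M' := by
  apply Spec.map_injective
  rw [Spec.map_comp, map_psiC, Category.assoc]
  have := Over.w e.hom
  change e.hom.left ≫ Spec.map (aM' A' M') = D.obj.hom at this
  rw [this]
  exact (psiV D e).2

/-- Naturality: the transport of an arbitrary affine point is computed by `ψ`. -/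
lemma transport_eq {C : CommRingCat.{u}} (y₁ : CommRingCat.of A' ⟶ C) (w' : CommRingCat.of M' ⟶ C)
    (hA : aA' A A' ≫ y₁ = aAM' A M' ≫ w')
    (h' : Spec.map (aM' A' M' ≫ w') ≫ pp A A' = Spec.map y₁ ≫ pp A A') :
    (D.φ (Spec.map (aM' A' M' ≫ w')) (Spec.map y₁) h' (liftOf D e w')).1 =
      Spec.map (psiC D e ≫ (hPO A A' M').desc y₁ w' hA) ≫ e.inv.left := by
  rw [φ_nat D (Spec.map ((hPO A A' M').desc y₁ w' hA)) x_comm (liftOf D e (inr A A' M')) h'
    (liftOf D e w') ?_ ?_ ?_]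
  · change _ ≫ (psiV D e).1 = _
    rw [Spec.map_comp, map_psiC, Category.assoc, Category.assoc, ← Over.comp_left,
      e.hom_inv_id, Over.id_left, Category.comp_id]
  · rw [← Spec.map_comp, Category.assoc, (hPO A A' M').inr_desc]
  · rw [← Spec.map_comp, (hPO A A' M').inl_desc]
  · rw [liftOf_val, liftOf_val, ← Category.assoc, ← Spec.map_comp, (hPO A A' M').inr_desc]

lemma spec_cancel {C : CommRingCat.{u}} (f g : CommRingCat.of M' ⟶ C)
    (h : Spec.map f ≫ e.inv.left = Spec.map g ≫ e.inv.left) : f = g := by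
  apply Spec.map_injective
  have : IsIso e.inv.left := inferInstance
  exact (cancel_mono e.inv.left).1 h

/-- counit -/
lemma psiC_counit (hA : aA' A A' ≫ aM' A' M' = aAM' A M' ≫ 𝟙 _) :
    psiC D e ≫ (hPO A A' M').desc (aM' A' M') (𝟙 _) hA = 𝟙 _ := by
  apply spec_cancel D e
  have h' : Spec.map (aM' A' M' ≫ 𝟙 _) ≫ pp A A' = Spec.map (aM' A' M') ≫ pp A A' := by
    rw [Category.comp_id]
  rw [← transport_eq D e (aM' A' M') (𝟙 _) hA h']
  rw [φ_self' D h' _ (by rw [Category.comp_id])]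
  rfl


/-! ### coassociativity -/

variable (A A' M') in
/-- `A' ⊗[A] (A' ⊗[A] M')` -/
abbrev CC : CommRingCat := CommRingCat.of (A' ⊗[A] (A' ⊗[A] M'))
variable (A A' M') in
/-- left inclusion into the triple tensor product -/
abbrev inl₃ : CommRingCat.of A' ⟶ CC A A' M' :=
  CommRingCat.ofHom (Algebra.TensorProduct.includeLeftRingHom)
variable (A A' M') in
/-- right inclusion into the triple tensor product -/
abbrev inr₃ : BB A A' M' ⟶ CC A A' M' :=
  CommRingCat.ofHom (Algebra.TensorProduct.includeRight.toRingHom)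

variable (A A' M') in
lemma hPO₃ : IsPushout (aA' A A') (CommRingCat.ofHom (algebraMap A (A' ⊗[A] M')))
    (inl₃ A A' M') (inr₃ A A' M') :=
  CommRingCat.isPushout_tensorProduct A A' (A' ⊗[A] M')

variable (A A' M') in
lemma algMap_BB : CommRingCat.ofHom (algebraMap A (A' ⊗[A] M')) = aA' A A' ≫ inl A A' M' := by
  ext x
  rfl

variable (A A' M') in
lemma w₃ : aA' A A' ≫ inl₃ A A' M' = aA' A A' ≫ inl A A' M' ≫ inr₃ A A' M' := by
  rw [(hPO₃ A A' M').w, algMap_BB, Category.assoc]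

variable (A A' M') in
lemma w₂ : aA' A A' ≫ inl A A' M' = aAM' A M' ≫ inr A A' M' := (hPO A A' M').w

lemma psiC_coassoc
    (hA₂ : aA' A A' ≫ inl₃ A A' M' = aAM' A M' ≫ psiC D e ≫ inr₃ A A' M')
    (hA₃ : aA' A A' ≫ inl₃ A A' M' = aAM' A M' ≫ inr A A' M' ≫ inr₃ A A' M') :
    psiC D e ≫ (hPO A A' M').desc (inl₃ A A' M') (psiC D e ≫ inr₃ A A' M') hA₂ =
      psiC D e ≫ (hPO A A' M').desc (inl₃ A A' M') (inr A A' M' ≫ inr₃ A A' M') hA₃ := by
  apply spec_cancel D e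
  -- the three points
  have hA₁ : aA' A A' ≫ (inl A A' M' ≫ inr₃ A A' M') = aAM' A M' ≫ inr A A' M' ≫ inr₃ A A' M' := by
    rw [← Category.assoc, w₂, Category.assoc]
  have h₀₁ : Spec.map (aM' A' M' ≫ inr A A' M' ≫ inr₃ A A' M') ≫ pp A A' =
      Spec.map (inl A A' M' ≫ inr₃ A A' M') ≫ pp A A' := by
    rw [← Spec.map_comp, ← Spec.map_comp, ← Category.assoc (aA' A A'), ← aAM'_eq, hA₁]
  have h₀₂ : Spec.map (aM' A' M' ≫ inr A A' M' ≫ inr₃ A A' M') ≫ pp A A' =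
      Spec.map (inl₃ A A' M') ≫ pp A A' := by
    rw [← Spec.map_comp, ← Spec.map_comp, ← Category.assoc (aA' A A'), ← aAM'_eq, hA₃]
  have h₁₂ : Spec.map (aM' A' M' ≫ psiC D e ≫ inr₃ A A' M') ≫ pp A A' =
      Spec.map (inl₃ A A' M') ≫ pp A A' := by
    rw [← Spec.map_comp, ← Spec.map_comp, ← Category.assoc (aA' A A'), ← aAM'_eq, hA₂]
  have e1 := transport_eq D e (inl A A' M' ≫ inr₃ A A' M') (inr A A' M' ≫ inr₃ A A' M') hA₁ h₀₁
  have hdesc : (hPO A A' M').desc (inl A A' M' ≫ inr₃ A A' M') (inr A A' M' ≫ inr₃ A A' M') hA₁ =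
      inr₃ A A' M' := by
    apply (hPO A A' M').hom_ext
    · rw [(hPO A A' M').inl_desc]
    · rw [(hPO A A' M').inr_desc]
  rw [hdesc] at e1
  have e2 := transport_eq D e (inl₃ A A' M') (psiC D e ≫ inr₃ A A' M') hA₂ h₁₂
  have e3 := transport_eq D e (inl₃ A A' M') (inr A A' M' ≫ inr₃ A A' M') hA₃ h₀₂
  rw [← e2, ← e3]
  refine φ_comp'' D _ (Spec.map (inl A A' M' ≫ inr₃ A A' M')) _ _ h₀₁ h₁₂ h₀₂ _ _ ?_ ?_
  · rw [← Category.assoc, aM'_psiC]
  · rw [e1]
    rfl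

/-! ### The algebra map `ψ` and its properties -/

lemma psiC_algebraMap (x : A') : (psiC D e).hom (algebraMap A' M' x) = x ⊗ₜ[A] (1 : M') := by
  have := congrArg (fun f => f.hom x) (aM'_psiC D e)
  exact this

/-- `ψ` as an `A`-algebra map. -/
noncomputable def psi : M' →ₐ[A] A' ⊗[A] M' :=
  { (psiC D e).hom with
    commutes' := fun a => by
      change (psiC D e).hom (algebraMap A M' a) = _
      rw [IsScalarTower.algebraMap_apply A A' M', psiC_algebraMap]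
      rfl }

@[simp] lemma psi_apply (u : M') : psi D e u = (psiC D e).hom u := rfl

lemma psi_alg (x : A') : psi D e (algebraMap A' M' x) = x ⊗ₜ[A] (1 : M') := psiC_algebraMap D e x

open RingDescent in
lemma psi_counit (u : M') : mult A A' M' (psi D e u) = u := by
  have hA : aA' A A' ≫ aM' A' M' = aAM' A M' ≫ 𝟙 _ := by rw [Category.comp_id, aAM'_eq A A' M']
  have h := psiC_counit D e hA
  have hd : (hPO A A' M').desc (aM' A' M') (𝟙 _) hA =
      CommRingCat.ofHom (mult A A' M').toRingHom := by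
    apply (hPO A A' M').hom_ext
    · rw [(hPO A A' M').inl_desc]
      ext x
      change _ = mult A A' M' (x ⊗ₜ[A] (1 : M'))
      simp
    · rw [(hPO A A' M').inr_desc]
      ext m
      change _ = mult A A' M' ((1 : A') ⊗ₜ[A] m)
      simp
  rw [hd] at h
  exact congrArg (fun f => f.hom u) h

open RingDescent in
lemma psi_coassoc (u : M') : idTensor (psi D e) (psi D e u) = i13 A A' M' (psi D e u) := by
  have hA₃ : aA' A A' ≫ inl₃ A A' M' = aAM' A M' ≫ inr A A' M' ≫ inr₃ A A' M' := by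
    rw [w₃, ← Category.assoc, w₂, Category.assoc]
  have hA₂ : aA' A A' ≫ inl₃ A A' M' = aAM' A M' ≫ psiC D e ≫ inr₃ A A' M' := by
    rw [w₃, aAM'_eq A A' M', Category.assoc, ← Category.assoc (aM' A' M'), aM'_psiC]
  have h := psiC_coassoc D e hA₂ hA₃
  have hd₂ : (hPO A A' M').desc (inl₃ A A' M') (psiC D e ≫ inr₃ A A' M') hA₂ =
      CommRingCat.ofHom (idTensor (psi D e)).toRingHom := by
    apply (hPO A A' M').hom_ext
    · rw [(hPO A A' M').inl_desc]
      ext x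
      change _ = idTensor (psi D e) (x ⊗ₜ[A] (1 : M'))
      simp
    · rw [(hPO A A' M').inr_desc]
      ext m
      change _ = idTensor (psi D e) ((1 : A') ⊗ₜ[A] m)
      simp
  have hd₃ : (hPO A A' M').desc (inl₃ A A' M') (inr A A' M' ≫ inr₃ A A' M') hA₃ =
      CommRingCat.ofHom (i13 A A' M').toRingHom := by
    apply (hPO A A' M').hom_ext
    · rw [(hPO A A' M').inl_desc]
      ext x
      change _ = i13 A A' M' (x ⊗ₜ[A] (1 : M'))
      simp
      rfl
    · rw [(hPO A A' M').inr_desc]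
      ext m
      change _ = i13 A A' M' ((1 : A') ⊗ₜ[A] m)
      simp
  rw [hd₂, hd₃] at h
  exact congrArg (fun f => f.hom u) h

end Groth.Agent.Lib.Helper5.AffCore
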