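import Mathlib
import Groth.Prelude.Def_Desc
import Groth.Agent.Lib.Helper5.AffCore

/-!
# The affine core of effective descent (helper5): effectivity

`p = Spec(A → A')` with `A → A'` faithfully flat, `D : Desc.SchDD p` with
`D.obj ≅ Spec(A' → M')` over `Spec A'`.  Then `D` is effective.
-/

set_option autoImplicit false
universe u
open CategoryTheory CategoryTheory.Limits AlgebraicGeometry TensorProduct Desc

namespace Groth.Agent.Lib.Helper5.AffCore

section general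

variable {X S : Scheme.{u}} {p : X ⟶ S}

/-- An isomorphism of descent data from an isomorphism of the underlying objects compatible with
the gluing bijections. -/
def isoMk (D₁ D₂ : SchDD p) (ε : D₁.obj ≅ D₂.obj)
    (hcomm : ∀ ⦃T : Scheme.{u}⦄ (x₀ x₁ : T ⟶ X) (h : x₀ ≫ p = x₁ ≫ p) (v : Lifts D₁.obj x₀)
      (w : Lifts D₂.obj x₀), w.1 = v.1 ≫ ε.hom.left →
      (D₂.φ x₀ x₁ h w).1 = (D₁.φ x₀ x₁ h v).1 ≫ ε.hom.left) : D₁ ≅ D₂ where
  hom := ⟨ε.hom, hcomm⟩
  inv := ⟨ε.inv, fun T x₀ x₁ h v w hw => by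
    have hv : v.1 = w.1 ≫ ε.hom.left := by
      rw [hw, Category.assoc, ← Over.comp_left, ε.inv_hom_id, Over.id_left, Category.comp_id]
    rw [hcomm x₀ x₁ h w v hv, Category.assoc, ← Over.comp_left, ε.hom_inv_id, Over.id_left,
      Category.comp_id]⟩
  hom_inv_id := SchDD.hom_ext ε.hom_inv_id
  inv_hom_id := SchDD.hom_ext ε.inv_hom_id

/-- To check the compatibility it suffices to test on affine schemes `Spec C`. -/
lemma comm_of_affine (D₁ D₂ : SchDD p) (ε : D₁.obj ⟶ D₂.obj)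
    (haff : ∀ (C : CommRingCat.{u}) (x₀ x₁ : Spec C ⟶ X) (h : x₀ ≫ p = x₁ ≫ p)
      (v : Lifts D₁.obj x₀) (w : Lifts D₂.obj x₀), w.1 = v.1 ≫ ε.left →
      (D₂.φ x₀ x₁ h w).1 = (D₁.φ x₀ x₁ h v).1 ≫ ε.left)
    ⦃T : Scheme.{u}⦄ (x₀ x₁ : T ⟶ X) (h : x₀ ≫ p = x₁ ≫ p) (v : Lifts D₁.obj x₀)
    (w : Lifts D₂.obj x₀) (hw : w.1 = v.1 ≫ ε.left) :
    (D₂.φ x₀ x₁ h w).1 = (D₁.φ x₀ x₁ h v).1 ≫ ε.left := by
  apply T.affineCover.hom_ext
  intro i
  set j := T.affineCover.f i
  have h' : (j ≫ x₀) ≫ p = (j ≫ x₁) ≫ p := by rw [Category.assoc, Category.assoc, h]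
  let v' : Lifts D₁.obj (j ≫ x₀) := ⟨j ≫ v.1, by rw [Category.assoc, v.2]⟩
  let w' : Lifts D₂.obj (j ≫ x₀) := ⟨j ≫ w.1, by rw [Category.assoc, w.2]⟩
  have e1 := D₂.φ_natural j x₀ x₁ h h' w w' rfl
  have e2 := D₁.φ_natural j x₀ x₁ h h' v v' rfl
  rw [← e1, ← Category.assoc, ← e2]
  exact haff _ (j ≫ x₀) (j ≫ x₁) h' v' w' (by
    change j ≫ w.1 = (j ≫ v.1) ≫ ε.left
    rw [hw, Category.assoc])

end general

variable {A A' M' : Type u} [CommRing A] [CommRing A'] [CommRing M'] [Algebra A A'] [Algebra A M']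
  [Algebra A' M'] [IsScalarTower A A' M'] [Module.FaithfullyFlat A A']
  (D : SchDD (pp A A')) (e : D.obj ≅ objV A' M')

open RingDescent

/-- The descended algebra. -/
noncomputable abbrev MM : Subalgebra A M' := descSub (psi D e)

/-- The comparison isomorphism `A' ⊗[A] M ≃ M'`. -/
noncomputable def lamE : A' ⊗[A] (MM D e) ≃ₐ[A] M' :=
  lamEquiv (psi D e) (psi_alg D e) (psi_counit D e) (psi_coassoc D e)

lemma lamE_tmul (x : A') (u : MM D e) : lamE D e (x ⊗ₜ[A] u) = algebraMap A' M' x * (u : M') := by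
  simp [lamE, lamEquiv]

/-- The descended scheme. -/
noncomputable abbrev UU : Over (Spec (CommRingCat.of A)) :=
  Over.mk (Spec.map (CommRingCat.ofHom (algebraMap A (MM D e))))

/-- inclusions into `A' ⊗[A] M`. -/
noncomputable abbrev inlM : CommRingCat.of A' ⟶ CommRingCat.of (A' ⊗[A] (MM D e)) :=
  CommRingCat.ofHom (Algebra.TensorProduct.includeLeftRingHom)
/-- inclusions into `A' ⊗[A] M`. -/
noncomputable abbrev inrM : CommRingCat.of (MM D e) ⟶ CommRingCat.of (A' ⊗[A] (MM D e)) :=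
  CommRingCat.ofHom (Algebra.TensorProduct.includeRight.toRingHom)

lemma hPOM : IsPushout (aA' A A') (CommRingCat.ofHom (algebraMap A (MM D e))) (inlM D e) (inrM D e) :=
  CommRingCat.isPushout_tensorProduct A A' (MM D e)

/-- `λ⁻¹ : M' → A' ⊗ M` as a morphism of rings. -/
noncomputable abbrev lamInv : CommRingCat.of M' ⟶ CommRingCat.of (A' ⊗[A] (MM D e)) :=
  CommRingCat.ofHom ((lamE D e).symm : M' →+* A' ⊗[A] (MM D e))

/-- `λ` as a morphism of rings. -/
noncomputable abbrev lamHom : CommRingCat.of (A' ⊗[A] (MM D e)) ⟶ CommRingCat.of M' :=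
  CommRingCat.ofHom ((lamE D e) : A' ⊗[A] (MM D e) →+* M')

lemma lamHom_lamInv : lamHom D e ≫ lamInv D e = 𝟙 _ :=
  CommRingCat.hom_ext (RingHom.ext fun x => (lamE D e).symm_apply_apply x)

lemma lamInv_lamHom : lamInv D e ≫ lamHom D e = 𝟙 _ :=
  CommRingCat.hom_ext (RingHom.ext fun x => (lamE D e).apply_symm_apply x)

lemma inlM_lamHom : inlM D e ≫ lamHom D e = aM' A' M' := by
  ext x
  change lamE D e (x ⊗ₜ[A] (1 : MM D e)) = _
  rw [lamE_tmul]
  simp

lemma aM'_lamInv : aM' A' M' ≫ lamInv D e = inlM D e := by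
  rw [← inlM_lamHom D e, Category.assoc, lamHom_lamInv, Category.comp_id]

/-- The pullback `Spec A' ×_{Spec A} U`. -/
noncomputable abbrev PB : Scheme.{u} := pullback (pp A A') (UU D e).hom

/-- `Spec A' ×_{Spec A} U ≅ Spec (A' ⊗ M)`. -/
noncomputable def sig : PB D e ≅ Spec (CommRingCat.of (A' ⊗[A] (MM D e))) :=
  pullbackSpecIso A A' (MM D e)

lemma sig_hom_fst : (sig D e).hom ≫ Spec.map (inlM D e) = pullback.fst _ _ :=
  pullbackSpecIso_hom_fst A A' (MM D e)

lemma sig_hom_snd : (sig D e).hom ≫ Spec.map (inrM D e) = pullback.snd _ _ :=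
  pullbackSpecIso_hom_snd A A' (MM D e)

lemma sig_inv_fst : (sig D e).inv ≫ pullback.fst _ _ = Spec.map (inlM D e) :=
  pullbackSpecIso_inv_fst A A' (MM D e)

lemma sig_inv_snd : (sig D e).inv ≫ pullback.snd _ _ = Spec.map (inrM D e) :=
  pullbackSpecIso_inv_snd A A' (MM D e)

/-- A point of the pullback composed with `σ` is `Spec` of the induced ring map. -/
lemma comp_sig_hom {C : CommRingCat.{u}} (f : Spec C ⟶ PB D e)
    (r : CommRingCat.of (A' ⊗[A] (MM D e)) ⟶ C)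
    (h1 : Spec.map (inlM D e ≫ r) = f ≫ pullback.fst _ _)
    (h2 : Spec.map (inrM D e ≫ r) = f ≫ pullback.snd _ _) :
    f ≫ (sig D e).hom = Spec.map r := by
  rw [← cancel_mono (sig D e).inv, Category.assoc, Iso.hom_inv_id, Category.comp_id]
  apply pullback.hom_ext
  · rw [Category.assoc, sig_inv_fst, ← Spec.map_comp, h1]
  · rw [Category.assoc, sig_inv_snd, ← Spec.map_comp, h2]

/-- The underlying morphism `Spec A' ×_{Spec A} U ⟶ V`. -/
noncomputable def epsHom : PB D e ⟶ D.obj.left :=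
  (sig D e).hom ≫ Spec.map (lamInv D e) ≫ e.inv.left

lemma isIso_epsHom : IsIso (epsHom D e) := by
  have : IsIso (Spec.map (lamInv D e)) :=
    ⟨Spec.map (lamHom D e), by rw [← Spec.map_comp, lamHom_lamInv, Spec.map_id],
      by rw [← Spec.map_comp, lamInv_lamHom, Spec.map_id]⟩
  unfold epsHom
  infer_instance

lemma epsHom_comp : epsHom D e ≫ D.obj.hom = pullback.fst _ _ := by
  unfold epsHom
  rw [Category.assoc, Category.assoc, Over.w e.inv]
  change _ ≫ _ ≫ Spec.map (aM' A' M') = _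
  rw [← Spec.map_comp, aM'_lamInv, sig_hom_fst]

/-- The isomorphism of objects over `Spec A'`. -/
noncomputable def epsIso : ((toDD (pp A A')).obj (UU D e)).obj ≅ D.obj :=
  Over.isoMk (@asIso _ _ _ _ (epsHom D e) (isIso_epsHom D e)) (epsHom_comp D e)

lemma epsIso_hom_left : (epsIso D e).hom.left = epsHom D e := rfl


/-- the inclusion `M → M'` -/
noncomputable abbrev valM : CommRingCat.of (MM D e) ⟶ CommRingCat.of M' :=
  CommRingCat.ofHom ((MM D e).val : (MM D e) →+* M')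

lemma inrM_lamHom : inrM D e ≫ lamHom D e = valM D e := by
  refine CommRingCat.hom_ext (RingHom.ext fun u => ?_)
  change lamE D e ((1 : A') ⊗ₜ[A] u) = _
  rw [lamE_tmul]
  simp

lemma valM_lamInv : valM D e ≫ lamInv D e = inrM D e := by
  rw [← inrM_lamHom D e, Category.assoc, lamHom_lamInv, Category.comp_id]

lemma valM_psiC : valM D e ≫ psiC D e = valM D e ≫ inr A A' M' := by
  refine CommRingCat.hom_ext (RingHom.ext fun u => ?_)
  exact (mem_descSub (psi D e) (u : M')).1 u.2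

lemma isIso_lamHom : IsIso (lamHom D e) :=
  ⟨lamInv D e, lamHom_lamInv D e, lamInv_lamHom D e⟩

lemma ring_identity {C : CommRingCat.{u}} (y₀ y₁ : CommRingCat.of A' ⟶ C)
    (m : CommRingCat.of (MM D e) ⟶ C)
    (hA₀ : aA' A A' ≫ y₀ = CommRingCat.ofHom (algebraMap A (MM D e)) ≫ m)
    (hA₁ : aA' A A' ≫ y₁ = CommRingCat.ofHom (algebraMap A (MM D e)) ≫ m)
    (hAw : aA' A A' ≫ y₁ = aAM' A M' ≫ lamInv D e ≫ (hPOM D e).desc y₀ m hA₀) :
    psiC D e ≫ (hPO A A' M').desc y₁ (lamInv D e ≫ (hPOM D e).desc y₀ m hA₀) hAw =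
      lamInv D e ≫ (hPOM D e).desc y₁ m hA₁ := by
  haveI := isIso_lamHom D e
  rw [← cancel_epi (lamHom D e), ← Category.assoc (lamHom D e) (lamInv D e), lamHom_lamInv,
    Category.id_comp]
  apply (hPOM D e).hom_ext
  · rw [(hPOM D e).inl_desc, ← Category.assoc, inlM_lamHom, ← Category.assoc, aM'_psiC,
      (hPO A A' M').inl_desc]
  · rw [(hPOM D e).inr_desc, ← Category.assoc, inrM_lamHom, ← Category.assoc, valM_psiC,
      Category.assoc, (hPO A A' M').inr_desc, ← Category.assoc, valM_lamInv,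
      (hPOM D e).inr_desc]

lemma eps_comm_affine (C : CommRingCat.{u}) (x₀ x₁ : Spec C ⟶ Spec (CommRingCat.of A'))
    (h : x₀ ≫ pp A A' = x₁ ≫ pp A A')
    (v : Lifts ((toDD (pp A A')).obj (UU D e)).obj x₀) (w : Lifts D.obj x₀)
    (hw : w.1 = v.1 ≫ (epsIso D e).hom.left) :
    (D.φ x₀ x₁ h w).1 =
      (((toDD (pp A A')).obj (UU D e)).φ x₀ x₁ h v).1 ≫ (epsIso D e).hom.left := by
  obtain ⟨f₀, hf₀⟩ := v
  let f : Spec C ⟶ PB D e := f₀
  have hvfst : f ≫ pullback.fst (pp A A') (UU D e).hom = x₀ := hf₀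
  change w.1 = f ≫ (epsIso D e).hom.left at hw
  have hx₀ : Spec.map (Spec.preimage x₀) = x₀ := Spec.map_preimage _
  have hx₁ : Spec.map (Spec.preimage x₁) = x₁ := Spec.map_preimage _
  set y₀ := Spec.preimage x₀ with hy₀def
  set y₁ := Spec.preimage x₁ with hy₁def
  have hm : Spec.map (Spec.preimage (f ≫ pullback.snd (pp A A') (UU D e).hom)) =
      f ≫ pullback.snd (pp A A') (UU D e).hom := Spec.map_preimage _
  set m : CommRingCat.of (MM D e) ⟶ C :=
    Spec.preimage (f ≫ pullback.snd (pp A A') (UU D e).hom) with hmdef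
  have hA₀ : aA' A A' ≫ y₀ = CommRingCat.ofHom (algebraMap A (MM D e)) ≫ m := by
    apply Spec.map_injective
    rw [Spec.map_comp, Spec.map_comp, hx₀, hm, ← hvfst, Category.assoc, Category.assoc]
    exact congrArg (fun t => f ≫ t) pullback.condition
  have hA₁ : aA' A A' ≫ y₁ = CommRingCat.ofHom (algebraMap A (MM D e)) ≫ m := by
    rw [← hA₀]
    apply Spec.map_injective
    rw [Spec.map_comp, Spec.map_comp, hx₀, hx₁]
    exact h.symm
  have hv : f ≫ (sig D e).hom = Spec.map ((hPOM D e).desc y₀ m hA₀) :=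
    comp_sig_hom D e f _ (by rw [(hPOM D e).inl_desc, hx₀, hvfst])
      (by rw [(hPOM D e).inr_desc, hm])
  have hw' : w.1 = (liftOf D e (lamInv D e ≫ (hPOM D e).desc y₀ m hA₀)).1 := by
    rw [hw, epsIso_hom_left, epsHom, ← Category.assoc, hv, liftOf_val, Spec.map_comp,
      Category.assoc]
  have hy₀ : aM' A' M' ≫ lamInv D e ≫ (hPOM D e).desc y₀ m hA₀ = y₀ := by
    rw [← Category.assoc, aM'_lamInv, (hPOM D e).inl_desc]
  have hAw : aA' A A' ≫ y₁ = aAM' A M' ≫ lamInv D e ≫ (hPOM D e).desc y₀ m hA₀ := by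
    rw [aAM'_eq A A' M', Category.assoc, hy₀, hA₁, hA₀]
  have h' : Spec.map (aM' A' M' ≫ lamInv D e ≫ (hPOM D e).desc y₀ m hA₀) ≫ pp A A' =
      Spec.map y₁ ≫ pp A A' := by
    rw [hy₀, hx₀, hx₁]; exact h
  have t := transport_eq D e y₁ (lamInv D e ≫ (hPOM D e).desc y₀ m hA₀) hAw h'
  have L : (D.φ x₀ x₁ h w).1 = (D.φ (Spec.map (aM' A' M' ≫ lamInv D e ≫
      (hPOM D e).desc y₀ m hA₀)) (Spec.map y₁) h'
      (liftOf D e (lamInv D e ≫ (hPOM D e).desc y₀ m hA₀))).1 :=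
    φ_congr D h h' w _ (by rw [hy₀, hx₀]) hx₁.symm hw'
  rw [L, t]
  have R : (((toDD (pp A A')).obj (UU D e)).φ x₀ x₁ h ⟨f₀, hf₀⟩).1 ≫ (sig D e).hom =
      Spec.map ((hPOM D e).desc y₁ m hA₁) := by
    refine comp_sig_hom D e _ _ ?_ ?_
    · rw [(hPOM D e).inl_desc, hx₁]
      exact (pullback.lift_fst _ _ _).symm
    · rw [(hPOM D e).inr_desc, hm]
      exact (pullback.lift_snd _ _ _).symm
  have R' := congrArg (fun t => t ≫ Spec.map (lamInv D e) ≫ e.inv.left) R
  simp only [Category.assoc] at R'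
  rw [epsIso_hom_left, epsHom]
  refine Eq.trans ?_ R'.symm
  rw [← Category.assoc, ← Spec.map_comp, ring_identity D e y₀ y₁ m hA₀ hA₁ hAw]

include e in
/-- **The affine core**: descent data with affine underlying scheme relative to a faithfully flat
morphism of affine schemes are effective. -/
theorem affine_core : ∃ U : Over (Spec (CommRingCat.of A)),
    Nonempty ((toDD (pp A A')).obj U ≅ D) :=
  ⟨UU D e, ⟨isoMk _ _ (epsIso D e)
    (comm_of_affine _ _ (epsIso D e).hom (eps_comm_affine D e))⟩⟩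

end Groth.Agent.Lib.Helper5.AffCore
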