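import Mathlib
import Groth.Prelude.Def_Desc
import Groth.Agent.Lib.Helper5.AffCore2

/-!
# The descended functor of a descent datum (helper5)

For `p : X ⟶ S` and `D : Desc.SchDD p`, the functor `descFunctor D : Schemeᵒᵖ ⥤ Type u` sends `T` to the
pairs `(t : T ⟶ S, a : toDD (T, t) ⟶ D)`.  It is the functor that a scheme `U` with `toDD U ≅ D`
must represent.
-/

set_option autoImplicit false
universe u
open CategoryTheory CategoryTheory.Limits AlgebraicGeometry Desc Opposite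

namespace Groth.Agent.Lib.Helper5.DescFunctor

open Groth.Agent.Lib.Helper5.AffCore

variable {X S : Scheme.{u}} {p : X ⟶ S}

/-- The canonical point of `X ×_S T` given by `x : T' ⟶ X` and `τ : T' ⟶ T`. -/
noncomputable def canPt {T : Scheme.{u}} (t : T ⟶ S) {T' : Scheme.{u}} (x : T' ⟶ X) (τ : T' ⟶ T)
    (h : x ≫ p = τ ≫ t) : Lifts ((toDD p).obj (Over.mk t)).obj x :=
  ⟨pullback.lift x τ h, pullback.lift_fst _ _ _⟩

@[simp] lemma canPt_val {T : Scheme.{u}} (t : T ⟶ S) {T' : Scheme.{u}} (x : T' ⟶ X) (τ : T' ⟶ T)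
    (h : x ≫ p = τ ≫ t) : (canPt t x τ h).1 = pullback.lift x τ h := rfl

lemma canPt_φ {T : Scheme.{u}} (t : T ⟶ S) {T' : Scheme.{u}} (x₀ x₁ : T' ⟶ X) (τ : T' ⟶ T)
    (h₀ : x₀ ≫ p = τ ≫ t) (h₁ : x₁ ≫ p = τ ≫ t) (hh : x₀ ≫ p = x₁ ≫ p) :
    ((toDD p).obj (Over.mk t)).φ x₀ x₁ hh (canPt t x₀ τ h₀) = canPt t x₁ τ h₁ := by
  apply Subtype.ext
  change pullback.lift x₁ (pullback.lift x₀ τ h₀ ≫ pullback.snd p t) _ = pullback.lift x₁ τ h₁
  apply pullback.hom_ext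
  · rw [pullback.lift_fst, pullback.lift_fst]
  · rw [pullback.lift_snd, pullback.lift_snd, pullback.lift_snd]

/-- Every point of `X ×_S T` is a canonical point. -/
lemma eq_canPt {T : Scheme.{u}} (t : T ⟶ S) {T' : Scheme.{u}} {x : T' ⟶ X}
    (v : Lifts ((toDD p).obj (Over.mk t)).obj x) (τ : T' ⟶ T) (h : x ≫ p = τ ≫ t)
    (hτ : (show T' ⟶ pullback p t from v.1) ≫ pullback.snd p t = τ) :
    v = canPt t x τ h := by
  obtain ⟨f₀, hf₀⟩ := v
  let f : T' ⟶ pullback p t := f₀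
  have hv : f ≫ pullback.fst p t = x := hf₀
  change f ≫ pullback.snd p t = τ at hτ
  apply Subtype.ext
  change f = pullback.lift x τ h
  apply pullback.hom_ext
  · rw [pullback.lift_fst, hv]
  · rw [pullback.lift_snd, hτ]

variable (D : SchDD p)

/-- A section of the descended functor over `T`. -/
structure Sec (T : Scheme.{u}) where
  /-- the structure morphism -/
  t : T ⟶ S
  /-- the morphism of descent data -/
  a : (toDD p).obj (Over.mk t) ⟶ D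

variable {D}

namespace Sec

variable {T : Scheme.{u}} (s : Sec D T)

/-- The value of a section on a point. -/
noncomputable def pt {T' : Scheme.{u}} (x : T' ⟶ X) (τ : T' ⟶ T) (h : x ≫ p = τ ≫ s.t) :
    Lifts D.obj x :=
  s.a.push (canPt s.t x τ h)

lemma pt_val {T' : Scheme.{u}} (x : T' ⟶ X) (τ : T' ⟶ T) (h : x ≫ p = τ ≫ s.t) :
    (s.pt x τ h).1 = pullback.lift x τ h ≫ s.a.hom.left := rfl

lemma pt_φ {T' : Scheme.{u}} (x₀ x₁ : T' ⟶ X) (τ : T' ⟶ T)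
    (h₀ : x₀ ≫ p = τ ≫ s.t) (h₁ : x₁ ≫ p = τ ≫ s.t) (hh : x₀ ≫ p = x₁ ≫ p) :
    D.φ x₀ x₁ hh (s.pt x₀ τ h₀) = s.pt x₁ τ h₁ := by
  apply Subtype.ext
  rw [s.a.comm x₀ x₁ hh (canPt s.t x₀ τ h₀) (s.pt x₀ τ h₀) rfl, canPt_φ s.t x₀ x₁ τ h₀ h₁ hh]
  rfl

lemma pt_nat {T' T'' : Scheme.{u}} (g : T'' ⟶ T') (x : T' ⟶ X) (τ : T' ⟶ T)
    (h : x ≫ p = τ ≫ s.t) (h' : (g ≫ x) ≫ p = (g ≫ τ) ≫ s.t) :
    (s.pt (g ≫ x) (g ≫ τ) h').1 = g ≫ (s.pt x τ h).1 := by
  rw [pt_val, pt_val, ← Category.assoc]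
  congr 1
  apply pullback.hom_ext
  · rw [pullback.lift_fst, Category.assoc, pullback.lift_fst]
  · rw [pullback.lift_snd, Category.assoc, pullback.lift_snd]

lemma pt_congr {T' : Scheme.{u}} {x x' : T' ⟶ X} {τ τ' : T' ⟶ T} (h : x ≫ p = τ ≫ s.t)
    (h' : x' ≫ p = τ' ≫ s.t) (ex : x = x') (eτ : τ = τ') : (s.pt x τ h).1 = (s.pt x' τ' h').1 := by
  subst ex eτ
  rfl

/-- The universal point computes the underlying morphism. -/
lemma pt_univ : (s.pt (pullback.fst p s.t) (pullback.snd p s.t) pullback.condition).1 =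
    s.a.hom.left := by
  rw [pt_val]
  have : pullback.lift (pullback.fst p s.t) (pullback.snd p s.t) pullback.condition = 𝟙 _ := by
    apply pullback.hom_ext <;> simp
  rw [this, Category.id_comp]

/-- Extensionality via points. -/
lemma ext' {s s' : Sec D T} (ht : s.t = s'.t)
    (h : ∀ ⦃T' : Scheme.{u}⦄ (x : T' ⟶ X) (τ : T' ⟶ T) (h₁ : x ≫ p = τ ≫ s.t)
      (h₂ : x ≫ p = τ ≫ s'.t), (s.pt x τ h₁).1 = (s'.pt x τ h₂).1) : s = s' := by
  obtain ⟨t, a⟩ := s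
  obtain ⟨t', a'⟩ := s'
  dsimp at ht
  subst ht
  congr 1
  apply SchDD.hom_ext
  apply Over.OverMorphism.ext
  have := h (pullback.fst p t) (pullback.snd p t) pullback.condition pullback.condition
  rw [pt_univ, pt_univ] at this
  exact this

/-- Restriction of a section along `g : T₁ ⟶ T`. -/
noncomputable def pre {T₁ : Scheme.{u}} (g : T₁ ⟶ T) : Sec D T₁ where
  t := g ≫ s.t
  a := (toDD p).map (Over.homMk g rfl : Over.mk (g ≫ s.t) ⟶ Over.mk s.t) ≫ s.a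

@[simp] lemma pre_t {T₁ : Scheme.{u}} (g : T₁ ⟶ T) : (s.pre g).t = g ≫ s.t := rfl

lemma pre_pt {T₁ : Scheme.{u}} (g : T₁ ⟶ T) {T' : Scheme.{u}} (x : T' ⟶ X) (τ : T' ⟶ T₁)
    (h : x ≫ p = τ ≫ g ≫ s.t) (h' : x ≫ p = (τ ≫ g) ≫ s.t) :
    ((s.pre g).pt x τ h).1 = (s.pt x (τ ≫ g) h').1 := by
  have e2 : (pullback.lift x τ h : T' ⟶ pullback p (g ≫ s.t)) ≫
      (pullback.map p (g ≫ s.t) p s.t (𝟙 X) g (𝟙 S) (by simp) (by simp)) =
      pullback.lift x (τ ≫ g) h' := by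
    apply pullback.hom_ext
    · rw [Category.assoc, pullback.lift_fst, pullback.lift_fst, pullback.lift_fst_assoc,
        Category.comp_id]
    · rw [Category.assoc, pullback.lift_snd, pullback.lift_snd, pullback.lift_snd_assoc]
  show pullback.lift x τ h ≫
    (pullback.map p (g ≫ s.t) p s.t (𝟙 X) g (𝟙 S) (by simp) (by simp) ≫ s.a.hom.left) =
      pullback.lift x (τ ≫ g) h' ≫ s.a.hom.left
  rw [← Category.assoc, e2]

lemma pre_id : s.pre (𝟙 T) = s := by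
  refine ext' (Category.id_comp _) fun T' x τ h₁ h₂ => ?_
  rw [pre_pt s (𝟙 _) x τ h₁ (by rw [Category.comp_id]; exact h₂)]
  exact pt_congr s _ _ rfl (Category.comp_id _)

lemma pre_pre {T₁ T₂ : Scheme.{u}} (g : T₁ ⟶ T) (g' : T₂ ⟶ T₁) :
    (s.pre g).pre g' = s.pre (g' ≫ g) := by
  refine ext' (Category.assoc _ _ _).symm fun T' x τ h₁ h₂ => ?_
  have h₃ : x ≫ p = (τ ≫ g') ≫ (s.pre g).t := by rw [Category.assoc]; exact h₁
  have h₄ : x ≫ p = ((τ ≫ g') ≫ g) ≫ s.t := by rw [Category.assoc]; exact h₃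
  have h₅ : x ≫ p = (τ ≫ g' ≫ g) ≫ s.t := by rw [Category.assoc]; exact h₂
  rw [pre_pt (s.pre g) g' x τ h₁ h₃, pre_pt s g x (τ ≫ g') h₃ h₄, pre_pt s (g' ≫ g) x τ h₂ h₅]
  exact pt_congr s _ _ rfl (Category.assoc _ _ _)

end Sec

variable (D) in
/-- The descended functor. -/
noncomputable def descFunctor : Scheme.{u}ᵒᵖ ⥤ Type u where
  obj T := Sec D T.unop
  map g := TypeCat.ofHom fun s => s.pre g.unop
  map_id T := by
    ext s
    exact Sec.pre_id s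
  map_comp g g' := by
    ext s
    exact (Sec.pre_pre s g.unop g'.unop).symm

lemma descFunctor_map_apply {T T₁ : Scheme.{u}} (g : T₁ ⟶ T) (s : Sec D T) :
    (descFunctor D).map g.op s = s.pre g := rfl

end Groth.Agent.Lib.Helper5.DescFunctor
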