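import Mathlib
import Groth.Prelude.Def_Desc
import Groth.Agent.Lib.Helper5.DescFunctor

/-!
# Sections of the descended functor from pointwise data (helper5)
-/

set_option autoImplicit false
universe u
open CategoryTheory CategoryTheory.Limits AlgebraicGeometry Desc Opposite

namespace Groth.Agent.Lib.Helper5.DescFunctor

open Groth.Agent.Lib.Helper5.AffCore

variable {X S : Scheme.{u}} {p : X ⟶ S}

variable (D : SchDD p) in
/-- Pointwise data for a section of the descended functor. -/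
structure SecData (T : Scheme.{u}) where
  /-- the structure morphism -/
  t : T ⟶ S
  /-- the action on points -/
  m : ∀ ⦃T' : Scheme.{u}⦄ (x : T' ⟶ X) (τ : T' ⟶ T), x ≫ p = τ ≫ t → Lifts D.obj x
  nat : ∀ ⦃T' T'' : Scheme.{u}⦄ (g : T'' ⟶ T') (x : T' ⟶ X) (τ : T' ⟶ T) (h : x ≫ p = τ ≫ t)
    (h' : (g ≫ x) ≫ p = (g ≫ τ) ≫ t), (m (g ≫ x) (g ≫ τ) h').1 = g ≫ (m x τ h).1
  comm : ∀ ⦃T' : Scheme.{u}⦄ (x₀ x₁ : T' ⟶ X) (τ : T' ⟶ T) (h₀ : x₀ ≫ p = τ ≫ t)
    (h₁ : x₁ ≫ p = τ ≫ t) (hh : x₀ ≫ p = x₁ ≫ p), D.φ x₀ x₁ hh (m x₀ τ h₀) = m x₁ τ h₁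

namespace SecData

variable {D : SchDD p} {T : Scheme.{u}} (d : SecData D T)

lemma m_congr {T' : Scheme.{u}} {x x' : T' ⟶ X} {τ τ' : T' ⟶ T} (h : x ≫ p = τ ≫ d.t)
    (h' : x' ≫ p = τ' ≫ d.t) (ex : x = x') (eτ : τ = τ') : (d.m x τ h).1 = (d.m x' τ' h').1 := by
  subst ex eτ
  rfl

/-- the underlying morphism `X ×_S T ⟶ V` -/
noncomputable def homLeft : pullback p d.t ⟶ D.obj.left :=
  (d.m (pullback.fst p d.t) (pullback.snd p d.t) pullback.condition).1

lemma lift_homLeft {T' : Scheme.{u}} (x : T' ⟶ X) (τ : T' ⟶ T) (h : x ≫ p = τ ≫ d.t) :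
    pullback.lift x τ h ≫ d.homLeft = (d.m x τ h).1 := by
  unfold homLeft
  rw [← d.nat (pullback.lift x τ h) (pullback.fst p d.t) (pullback.snd p d.t) pullback.condition
    (by rw [pullback.lift_fst, pullback.lift_snd]; exact h)]
  exact d.m_congr _ _ (pullback.lift_fst _ _ _) (pullback.lift_snd _ _ _)

/-- The section with given pointwise data. -/
noncomputable def toSec : Sec D T where
  t := d.t
  a :=
    { hom := Over.homMk d.homLeft (d.m _ _ _).2
      comm := fun T' x₀ x₁ hh v w hw => by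
        let f : T' ⟶ pullback p d.t := v.1
        have hf : f ≫ pullback.fst p d.t = x₀ := v.2
        have h₀ : x₀ ≫ p = (f ≫ pullback.snd p d.t) ≫ d.t := by
          rw [← hf, Category.assoc, pullback.condition, Category.assoc]
        have h₁ : x₁ ≫ p = (f ≫ pullback.snd p d.t) ≫ d.t := hh.symm.trans h₀
        have ev : v = canPt d.t x₀ (f ≫ pullback.snd p d.t) h₀ := eq_canPt d.t v _ h₀ rfl
        have ew : w = d.m x₀ (f ≫ pullback.snd p d.t) h₀ := by
          apply Subtype.ext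
          rw [hw, ev]
          exact d.lift_homLeft x₀ _ h₀
        rw [ew, d.comm x₀ x₁ _ h₀ h₁ hh, ev, canPt_φ d.t x₀ x₁ _ h₀ h₁ hh]
        exact (d.lift_homLeft x₁ _ h₁).symm }

@[simp] lemma toSec_t : d.toSec.t = d.t := rfl

lemma toSec_pt {T' : Scheme.{u}} (x : T' ⟶ X) (τ : T' ⟶ T) (h : x ≫ p = τ ≫ d.t) :
    (d.toSec.pt x τ h).1 = (d.m x τ h).1 := by
  rw [Sec.pt_val]
  exact d.lift_homLeft x τ h

end SecData

namespace Sec

variable {D : SchDD p} {T : Scheme.{u}}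

lemma pt_eq_of_eq {s s' : Sec D T} (e : s = s') {T' : Scheme.{u}} (x : T' ⟶ X) (τ : T' ⟶ T)
    (h : x ≫ p = τ ≫ s.t) (h' : x ≫ p = τ ≫ s'.t) : (s.pt x τ h).1 = (s'.pt x τ h').1 := by
  subst e
  rfl

lemma t_eq_of_eq {s s' : Sec D T} (e : s = s') : s.t = s'.t := by
  subst e
  rfl

end Sec

end Groth.Agent.Lib.Helper5.DescFunctor
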