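import Mathlib
import Groth.Prelude.Def_Desc
import Groth.Agent.Lib.Helper5.DescPt
import Groth.Agent.Lib.Helper5.DescCover

/-!
# Open effective sub-data of a descent datum (helper5)

`j : D' ⟶ D` a morphism of descent data whose underlying morphism is an open immersion, with
`D' ≅ toDD U'`.  For a section `s = (t, a)` of the descended functor over `T` we construct the open
`T₀ ⊆ T` over which `s` comes from `U'`.
-/

set_option autoImplicit false
universe u
open CategoryTheory CategoryTheory.Limits AlgebraicGeometry Desc Opposite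

namespace Groth.Agent.Lib.Helper5.DescFunctor

open Groth.Agent.Lib.Helper5.AffCore

variable {X S : Scheme.{u}} {p : X ⟶ S} {D D' : SchDD p} (j : D' ⟶ D)

section basic

variable [IsOpenImmersion j.hom.left]

/-- The range of `j` is stable under the gluing bijections. -/
lemma range_φ_subset {T : Scheme.{u}} (x₀ x₁ : T ⟶ X) (h : x₀ ≫ p = x₁ ≫ p) (v : Lifts D.obj x₀)
    (hv : Set.range v.1.base ⊆ Set.range j.hom.left.base) :
    Set.range (D.φ x₀ x₁ h v).1.base ⊆ Set.range j.hom.left.base := by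
  let w : Lifts D'.obj x₀ := ⟨IsOpenImmersion.lift j.hom.left v.1 hv, by
    rw [← Over.w j.hom, ← Category.assoc, IsOpenImmersion.lift_fac]; exact v.2⟩
  have := j.comm x₀ x₁ h w v (IsOpenImmersion.lift_fac _ _ _).symm
  rw [this]
  rintro _ ⟨y, rfl⟩
  exact ⟨(D'.φ x₀ x₁ h w).1.base y, by simp⟩

/-- A morphism of descent data landing in the open sub-datum factors through it. -/
lemma exists_factor {E : SchDD p} (a : E ⟶ D)
    (ha : Set.range a.hom.left.base ⊆ Set.range j.hom.left.base) : ∃ a' : E ⟶ D', a' ≫ j = a := by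
  have hfac : IsOpenImmersion.lift j.hom.left a.hom.left ha ≫ j.hom.left = a.hom.left :=
    IsOpenImmersion.lift_fac _ _ _
  refine ⟨⟨Over.homMk (IsOpenImmersion.lift j.hom.left a.hom.left ha) ?_, ?_⟩, ?_⟩
  · rw [← Over.w j.hom, ← Category.assoc, hfac]
    exact Over.w a.hom
  · intro T x₀ x₁ h v w hw
    change w.1 = v.1 ≫ IsOpenImmersion.lift j.hom.left a.hom.left ha at hw
    change _ = _ ≫ IsOpenImmersion.lift j.hom.left a.hom.left ha
    rw [← cancel_mono j.hom.left, Category.assoc, hfac,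
      ← j.comm x₀ x₁ h w (j.push w) rfl]
    refine a.comm x₀ x₁ h v (j.push w) ?_
    change w.1 ≫ j.hom.left = _
    rw [hw, Category.assoc, hfac]
  · apply SchDD.hom_ext
    apply Over.OverMorphism.ext
    exact hfac

end basic

section open_part

variable [IsOpenImmersion j.hom.left] {T : Scheme.{u}} (s : Sec D T)

/-- The open of `X ×_S T` where the section lands in the sub-datum. -/
noncomputable def Wopen : (pullback p s.t).Opens := s.a.hom.left ⁻¹ᵁ j.hom.left.opensRange

lemma mem_Wopen (z : ↥(pullback p s.t)) :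
    z ∈ Wopen j s ↔ s.a.hom.left.base z ∈ Set.range j.hom.left.base := Iff.rfl

/-- The image of `Wopen` in `T`. -/
def T₀set : Set T := (pullback.snd p s.t).base '' (Wopen j s : Set ↥(pullback p s.t))

lemma saturated :
    (pullback.snd p s.t).base ⁻¹' (T₀set j s) = (Wopen j s : Set ↥(pullback p s.t)) := by
  apply Set.Subset.antisymm
  · rintro z ⟨z', hz', hzz⟩
    set q := pullback.snd p s.t
    obtain ⟨ζ, hζ1, hζ2⟩ := Scheme.Pullback.exists_preimage_pullback (f := q) (g := q) z' z hzz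
    let pr₁ := pullback.fst q q
    let pr₂ := pullback.snd q q
    let Z₀ : (pullback q q).Opens := pr₁ ⁻¹ᵁ (Wopen j s)
    have hζ : ζ ∈ Z₀ := by
      change pr₁.base ζ ∈ Wopen j s
      rw [hζ1]; exact hz'
    let x₀ : (Z₀ : Scheme.{u}) ⟶ X := Z₀.ι ≫ pr₁ ≫ pullback.fst p s.t
    let x₁ : (Z₀ : Scheme.{u}) ⟶ X := Z₀.ι ≫ pr₂ ≫ pullback.fst p s.t
    let τ : (Z₀ : Scheme.{u}) ⟶ T := Z₀.ι ≫ pr₁ ≫ q
    have h₀ : x₀ ≫ p = τ ≫ s.t := by
      simp only [x₀, τ, Category.assoc, pullback.condition, q]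
    have hτ : τ = Z₀.ι ≫ pr₂ ≫ q := by
      simp only [τ, pr₁, pr₂, pullback.condition]
    have h₁ : x₁ ≫ p = τ ≫ s.t := by
      rw [hτ]
      simp only [x₁, Category.assoc, pullback.condition, q]
    have hh : x₀ ≫ p = x₁ ≫ p := h₀.trans h₁.symm
    have e₀ : (s.pt x₀ τ h₀).1 = (Z₀.ι ≫ pr₁) ≫ s.a.hom.left := by
      rw [Sec.pt_val]
      congr 1
      apply pullback.hom_ext
      · rw [pullback.lift_fst, Category.assoc]
      · rw [pullback.lift_snd, Category.assoc]
    have e₁ : (s.pt x₁ τ h₁).1 = (Z₀.ι ≫ pr₂) ≫ s.a.hom.left := by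
      rw [Sec.pt_val]
      congr 1
      apply pullback.hom_ext
      · rw [pullback.lift_fst, Category.assoc]
      · rw [pullback.lift_snd, Category.assoc, hτ]
    have hv : Set.range (s.pt x₀ τ h₀).1.base ⊆ Set.range j.hom.left.base := by
      rw [e₀]
      rintro _ ⟨y, rfl⟩
      have hy : pr₁.base (Z₀.ι.base y) ∈ Wopen j s := by
        have : Z₀.ι.base y ∈ Z₀ := by simp
        exact this
      change s.a.hom.left.base (pr₁.base (Z₀.ι.base y)) ∈ Set.range j.hom.left.base
      exact hy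
    have key := range_φ_subset j x₀ x₁ hh (s.pt x₀ τ h₀) hv
    rw [Sec.pt_φ s x₀ x₁ τ h₀ h₁ hh, e₁] at key
    have := key ⟨⟨ζ, hζ⟩, rfl⟩
    change s.a.hom.left.base z ∈ Set.range j.hom.left.base
    have e : ((Z₀.ι ≫ pr₂) ≫ s.a.hom.left).base ⟨ζ, hζ⟩ = s.a.hom.left.base z := by
      change s.a.hom.left.base (pr₂.base (Z₀.ι.base ⟨ζ, hζ⟩)) = _
      rw [← hζ2]
      rfl
    rw [e] at this
    exact this
  · intro z hz
    exact ⟨z, hz, rfl⟩

variable [IsDescCover p]

lemma isOpen_T₀set : IsOpen (T₀set j s) := by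
  have hquot : Topology.IsQuotientMap (pullback.snd p s.t).base :=
    IsDescCover.quot s.t
  rw [← hquot.isOpen_preimage, saturated]
  exact (Wopen j s).isOpen

/-- The open of `T` over which the section comes from the sub-datum. -/
noncomputable def T₀ : T.Opens := ⟨T₀set j s, isOpen_T₀set j s⟩

lemma mem_T₀ (y : T) : y ∈ T₀ j s ↔ y ∈ T₀set j s := Iff.rfl

end open_part

end Groth.Agent.Lib.Helper5.DescFunctor
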