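import Mathlib
import Groth.Prelude.Def_Desc
import Groth.Agent.Lib.Helper5.DescOpen

/-!
# Open effective sub-data of a descent datum, II (helper5)
-/

set_option autoImplicit false
universe u
open CategoryTheory CategoryTheory.Limits AlgebraicGeometry Desc Opposite

namespace Groth.Agent.Lib.Helper5.DescFunctor

open Groth.Agent.Lib.Helper5.AffCore

variable {X S : Scheme.{u}} {p : X ⟶ S} {D D' : SchDD p} (j : D' ⟶ D)
  [IsOpenImmersion j.hom.left]

section K12

variable [hp : IsDescCover p] {T : Scheme.{u}} (s : Sec D T)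

lemma pre_a_left {T₁ : Scheme.{u}} (k : T₁ ⟶ T) :
    (s.pre k).a.hom.left =
      pullback.map p (k ≫ s.t) p s.t (𝟙 X) k (𝟙 S) (by simp) (by simp) ≫ s.a.hom.left := rfl

/-- If the restricted section lands in the sub-datum, `k` lands in `T₀`. -/
lemma range_subset_T₀ {T₁ : Scheme.{u}} (k : T₁ ⟶ T)
    (hk : Set.range (s.pre k).a.hom.left.base ⊆ Set.range j.hom.left.base) :
    Set.range k.base ⊆ (T₀ j s : Set T) := by
  haveI : Surjective p := hp.surj
  rintro _ ⟨y, rfl⟩
  obtain ⟨z, hz⟩ := (pullback.snd p (k ≫ s.t)).surjective y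
  set m := pullback.map p (k ≫ s.t) p s.t (𝟙 X) k (𝟙 S) (by simp) (by simp) with hm
  refine ⟨m.base z, ?_, ?_⟩
  · change s.a.hom.left.base (m.base z) ∈ Set.range j.hom.left.base
    apply hk
    exact ⟨z, rfl⟩
  · have e : m ≫ pullback.snd p s.t = pullback.snd p (k ≫ s.t) ≫ k := by
      rw [hm, pullback.lift_snd]
    have : (m ≫ pullback.snd p s.t).base z = (pullback.snd p (k ≫ s.t) ≫ k).base z := by rw [e]
    change (pullback.snd p s.t).base (m.base z) = k.base ((pullback.snd p (k ≫ s.t)).base z) at this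
    rw [this, hz]

/-- If `k` lands in `T₀`, the restricted section lands in the sub-datum. -/
lemma range_pre_subset {T₁ : Scheme.{u}} (k : T₁ ⟶ T)
    (hk : Set.range k.base ⊆ (T₀ j s : Set T)) :
    Set.range (s.pre k).a.hom.left.base ⊆ Set.range j.hom.left.base := by
  rintro _ ⟨z, rfl⟩
  set m := pullback.map p (k ≫ s.t) p s.t (𝟙 X) k (𝟙 S) (by simp) (by simp) with hm
  have e : m ≫ pullback.snd p s.t = pullback.snd p (k ≫ s.t) ≫ k := by
    rw [hm, pullback.lift_snd]
  have h1 : (pullback.snd p s.t).base (m.base z) ∈ T₀set j s := by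
    have : (m ≫ pullback.snd p s.t).base z = (pullback.snd p (k ≫ s.t) ≫ k).base z := by rw [e]
    change (pullback.snd p s.t).base (m.base z) = k.base ((pullback.snd p (k ≫ s.t)).base z) at this
    rw [this]
    exact hk ⟨_, rfl⟩
  have h2 : m.base z ∈ (pullback.snd p s.t).base ⁻¹' (T₀set j s) := h1
  rw [saturated] at h2
  exact h2

end K12

section K34

variable (U' : Over S) (e : (toDD p).obj U' ≅ D')

/-- The section of the descended functor over `U'` given by the sub-datum. -/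
noncomputable def baseSec : Sec D U'.left := ⟨U'.hom, e.hom ≫ j⟩

lemma baseSec_t : (baseSec j U' e).t = U'.hom := rfl

lemma baseSec_a_left : (baseSec j U' e).a.hom.left = e.hom.hom.left ≫ j.hom.left := rfl

lemma e_hom_inv_left : e.hom.hom.left ≫ e.inv.hom.left = 𝟙 _ :=
  congrArg (fun f => f.hom.left) e.hom_inv_id

lemma e_inv_hom_left : e.inv.hom.left ≫ e.hom.hom.left = 𝟙 _ :=
  congrArg (fun f => f.hom.left) e.inv_hom_id

lemma baseSec_pt {T' : Scheme.{u}} (x : T' ⟶ X) (τ : T' ⟶ U'.left) (h : x ≫ p = τ ≫ U'.hom) :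
    ((baseSec j U' e).pt x τ h).1 =
      (pullback.lift x τ h ≫ e.hom.hom.left) ≫ j.hom.left := by
  rw [Sec.pt_val]
  change pullback.lift x τ h ≫ e.hom.hom.left ≫ j.hom.left = _
  rw [Category.assoc]

lemma range_baseSec_pre {T₁ : Scheme.{u}} (h : T₁ ⟶ U'.left) :
    Set.range ((baseSec j U' e).pre h).a.hom.left.base ⊆ Set.range j.hom.left.base := by
  rintro _ ⟨z, rfl⟩
  change ((pullback.map p (h ≫ U'.hom) p U'.hom (𝟙 X) h (𝟙 S) (by simp) (by simp) ≫
    e.hom.hom.left) ≫ j.hom.left).base z ∈ _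
  exact ⟨_, rfl⟩

variable [hp : IsDescCover p]

/-- A section landing in the sub-datum comes from `U'`. -/
lemma exists_pre_eq {T₁ : Scheme.{u}} (s₁ : Sec D T₁)
    (h : Set.range s₁.a.hom.left.base ⊆ Set.range j.hom.left.base) :
    ∃ h₀ : T₁ ⟶ U'.left, (baseSec j U' e).pre h₀ = s₁ := by
  obtain ⟨a', ha'⟩ := exists_factor j s₁.a h
  have : (toDD p).Full := toDD_full p
  obtain ⟨β, hβ⟩ := (toDD p).map_surjective (a' ≫ e.inv)
  have hβ' : (toDD p).map β ≫ e.hom = a' := by
    rw [hβ, Category.assoc, e.inv_hom_id, Category.comp_id]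
  refine ⟨β.left, ?_⟩
  have ht : ((baseSec j U' e).pre β.left).t = s₁.t := Over.w β
  refine Sec.ext' ht fun T' x τ k₁ k₂ => ?_
  have k₃ : x ≫ p = (τ ≫ β.left) ≫ (baseSec j U' e).t := by rw [Category.assoc]; exact k₁
  rw [Sec.pre_pt (baseSec j U' e) β.left x τ k₁ k₃, baseSec_pt j U' e x (τ ≫ β.left) k₃,
    Sec.pt_val, ← ha', ← hβ']
  change _ = pullback.lift x τ k₂ ≫
    (pullback.map p s₁.t p U'.hom (𝟙 X) β.left (𝟙 S) (by simp) (by simp) ≫ e.hom.hom.left) ≫
      j.hom.left
  rw [← Category.assoc, ← Category.assoc]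
  congr 2
  apply pullback.hom_ext
  · rw [pullback.lift_fst, Category.assoc, pullback.lift_fst, pullback.lift_fst_assoc,
      Category.comp_id]
  · rw [pullback.lift_snd, Category.assoc, pullback.lift_snd, pullback.lift_snd_assoc]

/-- Sections coming from `U'` determine the morphism to `U'`. -/
lemma baseSec_pre_injective {T₁ : Scheme.{u}} (h h' : T₁ ⟶ U'.left)
    (hh : (baseSec j U' e).pre h = (baseSec j U' e).pre h') : h = h' := by
  have ht : h ≫ U'.hom = h' ≫ U'.hom := Sec.t_eq_of_eq hh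
  set P := pullback p (h ≫ U'.hom)
  have k : pullback.fst p (h ≫ U'.hom) ≫ p = pullback.snd p (h ≫ U'.hom) ≫ h ≫ U'.hom :=
    pullback.condition
  have k' : pullback.fst p (h ≫ U'.hom) ≫ p = pullback.snd p (h ≫ U'.hom) ≫ h' ≫ U'.hom := by
    rw [← ht]; exact k
  have e1 := Sec.pt_eq_of_eq hh (pullback.fst p (h ≫ U'.hom)) (pullback.snd p (h ≫ U'.hom)) k k'
  have k₂ : pullback.fst p (h ≫ U'.hom) ≫ p = (pullback.snd p (h ≫ U'.hom) ≫ h) ≫ U'.hom := by
    rw [Category.assoc]; exact k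
  have k₂' : pullback.fst p (h ≫ U'.hom) ≫ p = (pullback.snd p (h ≫ U'.hom) ≫ h') ≫ U'.hom := by
    rw [Category.assoc]; exact k'
  rw [Sec.pre_pt (baseSec j U' e) h _ _ k k₂, Sec.pre_pt (baseSec j U' e) h' _ _ k' k₂',
    baseSec_pt j U' e _ _ k₂, baseSec_pt j U' e _ _ k₂', cancel_mono] at e1
  let E : pullback p U'.hom ⟶ D'.obj.left := e.hom.hom.left
  have hmono : Mono E := (⟨e.inv.hom.left, e_hom_inv_left U' e⟩ : SplitMono E).mono
  have e2 : pullback.lift (pullback.fst p (h ≫ U'.hom)) (pullback.snd p (h ≫ U'.hom) ≫ h) k₂ =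
      pullback.lift (pullback.fst p (h ≫ U'.hom)) (pullback.snd p (h ≫ U'.hom) ≫ h') k₂' :=
    (cancel_mono E).mp e1
  have e3 := congrArg (· ≫ pullback.snd p U'.hom) e2
  simp only [pullback.lift_snd] at e3
  haveI : Surjective p := hp.surj
  haveI : Flat p := hp.flat
  have : Epi (pullback.snd p (h ≫ U'.hom)) := Flat.epi_of_flat_of_surjective _
  exact (cancel_epi _).mp e3

end K34

end Groth.Agent.Lib.Helper5.DescFunctor
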