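import Mathlib
import Groth.Prelude.Def_Desc
import Groth.Agent.Lib.Helper5.DescPt
import Groth.Agent.Lib.Helper5.AffCore2

/-!
# If the descended functor is representable, the descent datum is effective (helper5)
-/

set_option autoImplicit false
universe u
open CategoryTheory CategoryTheory.Limits AlgebraicGeometry Desc Opposite

namespace Groth.Agent.Lib.Helper5.DescFunctor

open Groth.Agent.Lib.Helper5.AffCore

variable {X S : Scheme.{u}} {p : X ⟶ S} (D : SchDD p)

/-- The action section over `V`: `(x, w) ↦ φ_{π w, x}(w)`. -/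
noncomputable def actData : SecData D D.obj.left where
  t := D.obj.hom ≫ p
  m T' x w h := D.φ (w ≫ D.obj.hom) x (by rw [Category.assoc]; exact h.symm) ⟨w, rfl⟩
  nat T' T'' g x w h h' := by
    refine φ_nat D g _ _ _ _ (Category.assoc _ _ _) rfl rfl
  comm T' x₀ x₁ w h₀ h₁ hh := D.φ_comp _ _ _ _ _ _

/-- The action section. -/
noncomputable def actSec : Sec D D.obj.left := (actData D).toSec

lemma actSec_t : (actSec D).t = D.obj.hom ≫ p := rfl

lemma actSec_pt {T' : Scheme.{u}} (x : T' ⟶ X) (w : T' ⟶ D.obj.left)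
    (h : x ≫ p = w ≫ D.obj.hom ≫ p) :
    ((actSec D).pt x w h).1 =
      (D.φ (w ≫ D.obj.hom) x (by rw [Category.assoc]; exact h.symm) ⟨w, rfl⟩).1 :=
  SecData.toSec_pt (actData D) x w h

variable {D}

/-- If the descended functor of `D` is representable, then `D` is effective. -/
theorem effective_of_representableBy {U : Scheme.{u}} (r : (descFunctor D).RepresentableBy U) :
    ∃ U' : Over S, Nonempty ((toDD p).obj U' ≅ D) := by
  let s₀ : Sec D U := r.homEquiv (𝟙 U)
  have hrep : ∀ {T : Scheme.{u}} (c : T ⟶ U), r.homEquiv c = s₀.pre c := by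
    intro T c
    have := r.homEquiv_comp c (𝟙 U)
    rw [Category.comp_id] at this
    exact this
  let c : D.obj.left ⟶ U := r.homEquiv.symm (actSec D)
  have hc : s₀.pre c = actSec D := by
    rw [← hrep c]
    exact r.homEquiv.apply_symm_apply _
  have hct : c ≫ s₀.t = D.obj.hom ≫ p := Sec.t_eq_of_eq hc
  let a₀ : pullback p s₀.t ⟶ D.obj.left := s₀.a.hom.left
  have ha₀ : a₀ ≫ D.obj.hom = pullback.fst p s₀.t := Over.w s₀.a.hom
  let inv : D.obj.left ⟶ pullback p s₀.t := pullback.lift D.obj.hom c hct.symm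
  have h1 : inv ≫ a₀ = 𝟙 _ := by
    have e1 : inv ≫ a₀ = (s₀.pt D.obj.hom c hct.symm).1 := (Sec.pt_val s₀ _ _ _).symm
    have k1 : D.obj.hom ≫ p = 𝟙 _ ≫ c ≫ s₀.t := by rw [Category.id_comp]; exact hct.symm
    have k2 : D.obj.hom ≫ p = (𝟙 _ ≫ c) ≫ s₀.t := by rw [Category.id_comp]; exact hct.symm
    have e2 := Sec.pre_pt s₀ c D.obj.hom (𝟙 _) k1 k2
    have e3 := Sec.pt_eq_of_eq hc D.obj.hom (𝟙 _) k1
      (by rw [Category.id_comp]; rfl)
    rw [e1, Sec.pt_congr s₀ hct.symm k2 rfl (Category.id_comp c).symm, ← e2, e3, actSec_pt]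
    exact φ_self' D _ _ (Category.id_comp _)
  have h2 : a₀ ≫ inv = 𝟙 _ := by
    apply pullback.hom_ext
    · rw [Category.assoc, pullback.lift_fst, ha₀, Category.id_comp]
    · rw [Category.assoc, pullback.lift_snd, Category.id_comp]
      apply r.homEquiv.injective
      rw [hrep, hrep, ← Sec.pre_pre, hc]
      have ht : ((actSec D).pre a₀).t = (s₀.pre (pullback.snd p s₀.t)).t := by
        change a₀ ≫ D.obj.hom ≫ p = pullback.snd p s₀.t ≫ s₀.t
        rw [← Category.assoc, ha₀, pullback.condition]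
      refine Sec.ext' ht fun T' x τ k₁ k₂ => ?_
      have k₁' : x ≫ p = (τ ≫ a₀) ≫ (actSec D).t := by rw [Category.assoc]; exact k₁
      have k₂' : x ≫ p = (τ ≫ pullback.snd p s₀.t) ≫ s₀.t := by rw [Category.assoc]; exact k₂
      rw [Sec.pre_pt (actSec D) a₀ x τ k₁ k₁', Sec.pre_pt s₀ _ x τ k₂ k₂', actSec_pt]
      have k₃ : (τ ≫ pullback.fst p s₀.t) ≫ p = (τ ≫ pullback.snd p s₀.t) ≫ s₀.t := by
        rw [Category.assoc, pullback.condition, Category.assoc]
      have hh : (τ ≫ pullback.fst p s₀.t) ≫ p = x ≫ p := k₃.trans k₂'.symm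
      rw [← Sec.pt_φ s₀ (τ ≫ pullback.fst p s₀.t) x (τ ≫ pullback.snd p s₀.t) k₃ k₂' hh]
      apply φ_congr
      · rw [Category.assoc, ha₀]
      · rfl
      · change τ ≫ a₀ = _
        rw [Sec.pt_val]
        congr 1
        apply pullback.hom_ext
        · rw [pullback.lift_fst]
        · rw [pullback.lift_snd]
  let ε : ((toDD p).obj (Over.mk s₀.t)).obj ≅ D.obj :=
    { hom := s₀.a.hom
      inv := Over.homMk inv (pullback.lift_fst _ _ _)
      hom_inv_id := by
        apply Over.OverMorphism.ext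
        exact h2
      inv_hom_id := by
        apply Over.OverMorphism.ext
        exact h1 }
  exact ⟨Over.mk s₀.t, ⟨isoMk _ _ ε s₀.a.comm⟩⟩

end Groth.Agent.Lib.Helper5.DescFunctor
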