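import Mathlib
import Groth.Prelude.Def_Desc
import Groth.Agent.Lib.Helper5.DescPt

/-!
# The descended functor is a Zariski sheaf (helper5)
-/

set_option autoImplicit false
universe w u
open CategoryTheory CategoryTheory.Limits AlgebraicGeometry Desc Opposite

namespace Groth.Agent.Lib.Helper5.DescFunctor

open Groth.Agent.Lib.Helper5.AffCore

variable {X S : Scheme.{u}} {p : X ⟶ S} {D : SchDD p}

section glue

variable {T : Scheme.{u}} (𝓤 : Scheme.OpenCover.{w} T)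

/-- Morphisms out of `T'` agree if they agree locally with respect to the cover of `T'` induced by
`τ : T' ⟶ T`. -/
lemma hom_ext_cover {T' Y : Scheme.{u}} (τ : T' ⟶ T) (v v' : T' ⟶ Y)
    (h : ∀ (j : 𝓤.I₀) (T'' : Scheme.{u}) (g : T'' ⟶ T') (σ : T'' ⟶ 𝓤.X j),
      g ≫ τ = σ ≫ 𝓤.f j → g ≫ v = g ≫ v') : v = v' := by
  refine Scheme.Cover.hom_ext (𝓤.pullback₁ τ) _ _ fun j => ?_
  exact h j _ (pullback.fst τ (𝓤.f j)) (pullback.snd τ (𝓤.f j)) pullback.condition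

variable (σ : ∀ j, Sec D (𝓤.X j))
  (hσ : ∀ (i j : 𝓤.I₀) (Z : Scheme.{u}) (g₁ : Z ⟶ 𝓤.X i) (g₂ : Z ⟶ 𝓤.X j),
    g₁ ≫ 𝓤.f i = g₂ ≫ 𝓤.f j → (σ i).pre g₁ = (σ j).pre g₂)

include hσ in
lemma glue_t_compat (i j : 𝓤.I₀) :
    pullback.fst (𝓤.f i) (𝓤.f j) ≫ (σ i).t = pullback.snd (𝓤.f i) (𝓤.f j) ≫ (σ j).t :=
  Sec.t_eq_of_eq (hσ i j _ _ _ pullback.condition)

/-- the glued structure morphism -/
noncomputable def glueT : T ⟶ S :=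
  𝓤.glueMorphisms (fun j => (σ j).t) (glue_t_compat 𝓤 σ hσ)

lemma ι_glueT (j : 𝓤.I₀) : 𝓤.f j ≫ glueT 𝓤 σ hσ = (σ j).t :=
  Scheme.Cover.ι_glueMorphisms _ _ _ _

include hσ in
/-- compatibility of the values on points -/
lemma pt_compat (i j : 𝓤.I₀) {Z : Scheme.{u}} (g₁ : Z ⟶ 𝓤.X i) (g₂ : Z ⟶ 𝓤.X j)
    (hg : g₁ ≫ 𝓤.f i = g₂ ≫ 𝓤.f j) (x : Z ⟶ X) (h₁ : x ≫ p = g₁ ≫ (σ i).t)
    (h₂ : x ≫ p = g₂ ≫ (σ j).t) : ((σ i).pt x g₁ h₁).1 = ((σ j).pt x g₂ h₂).1 := by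
  have e := hσ i j Z g₁ g₂ hg
  have h₁' : x ≫ p = 𝟙 Z ≫ g₁ ≫ (σ i).t := by rw [Category.id_comp]; exact h₁
  have h₂' : x ≫ p = 𝟙 Z ≫ g₂ ≫ (σ j).t := by rw [Category.id_comp]; exact h₂
  have e1 := Sec.pre_pt (σ i) g₁ x (𝟙 Z) h₁' (by rw [Category.id_comp]; exact h₁)
  have e2 := Sec.pre_pt (σ j) g₂ x (𝟙 Z) h₂' (by rw [Category.id_comp]; exact h₂)
  have e3 := Sec.pt_eq_of_eq e x (𝟙 Z) h₁' h₂'
  rw [e1, e2] at e3
  rw [Sec.pt_congr (σ i) h₁ _ rfl (Category.id_comp g₁).symm,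
    Sec.pt_congr (σ j) h₂ _ rfl (Category.id_comp g₂).symm]
  exact e3

variable {T' : Scheme.{u}} (x : T' ⟶ X) (τ : T' ⟶ T) (h : x ≫ p = τ ≫ glueT 𝓤 σ hσ)

include h in
lemma glue_aux (j : 𝓤.I₀) {T'' : Scheme.{u}} (g : T'' ⟶ T') (s : T'' ⟶ 𝓤.X j)
    (hs : g ≫ τ = s ≫ 𝓤.f j) : (g ≫ x) ≫ p = s ≫ (σ j).t := by
  rw [Category.assoc, h, ← Category.assoc, hs, Category.assoc, ι_glueT]

/-- the local values -/
noncomputable def glueFam (j : 𝓤.I₀) : pullback τ (𝓤.f j) ⟶ D.obj.left :=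
  ((σ j).pt (pullback.fst τ (𝓤.f j) ≫ x) (pullback.snd τ (𝓤.f j))
    (glue_aux 𝓤 σ hσ x τ h j _ _ pullback.condition)).1

lemma glueVal_compat (i j : 𝓤.I₀) :
    pullback.fst (pullback.fst τ (𝓤.f i)) (pullback.fst τ (𝓤.f j)) ≫ glueFam 𝓤 σ hσ x τ h i =
    pullback.snd (pullback.fst τ (𝓤.f i)) (pullback.fst τ (𝓤.f j)) ≫ glueFam 𝓤 σ hσ x τ h j := by
  unfold glueFam
  set a := pullback.fst (pullback.fst τ (𝓤.f i)) (pullback.fst τ (𝓤.f j))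
  set b := pullback.snd (pullback.fst τ (𝓤.f i)) (pullback.fst τ (𝓤.f j))
  have hab : a ≫ pullback.fst τ (𝓤.f i) = b ≫ pullback.fst τ (𝓤.f j) := pullback.condition
  have h1 : ((a ≫ pullback.fst τ (𝓤.f i)) ≫ x) ≫ p =
      (a ≫ pullback.snd τ (𝓤.f i)) ≫ (σ i).t := by
    rw [Category.assoc a, Category.assoc a, Category.assoc a]
    exact congrArg (a ≫ ·) (glue_aux 𝓤 σ hσ x τ h i _ _ pullback.condition)
  have h2 : ((a ≫ pullback.fst τ (𝓤.f i)) ≫ x) ≫ p =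
      (b ≫ pullback.snd τ (𝓤.f j)) ≫ (σ j).t := by
    rw [hab, Category.assoc b, Category.assoc b, Category.assoc b]
    exact congrArg (b ≫ ·) (glue_aux 𝓤 σ hσ x τ h j _ _ pullback.condition)
  have hg : (a ≫ pullback.snd τ (𝓤.f i)) ≫ 𝓤.f i = (b ≫ pullback.snd τ (𝓤.f j)) ≫ 𝓤.f j := by
    rw [Category.assoc, ← pullback.condition, ← Category.assoc, hab, Category.assoc,
      pullback.condition, Category.assoc]
  have h1' : (a ≫ pullback.fst τ (𝓤.f i) ≫ x) ≫ p = (a ≫ pullback.snd τ (𝓤.f i)) ≫ (σ i).t := by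
    rw [← Category.assoc a]; exact h1
  have h2' : (b ≫ pullback.fst τ (𝓤.f j) ≫ x) ≫ p = (b ≫ pullback.snd τ (𝓤.f j)) ≫ (σ j).t := by
    rw [← Category.assoc b, ← hab]; exact h2
  rw [← Sec.pt_nat (σ i) a _ _ _ h1', ← Sec.pt_nat (σ j) b _ _ _ h2']
  rw [Sec.pt_congr (σ i) h1' h1 (Category.assoc _ _ _).symm rfl,
    Sec.pt_congr (σ j) h2' h2 ((Category.assoc _ _ _).symm.trans (by rw [hab])) rfl]
  exact pt_compat 𝓤 σ hσ i j _ _ hg _ h1 h2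

/-- the glued value on a point -/
noncomputable def glueVal : T' ⟶ D.obj.left :=
  Scheme.Cover.glueMorphisms (𝓤.pullback₁ τ) (glueFam 𝓤 σ hσ x τ h) (glueVal_compat 𝓤 σ hσ x τ h)

lemma glueVal_ι (j : 𝓤.I₀) :
    pullback.fst τ (𝓤.f j) ≫ glueVal 𝓤 σ hσ x τ h = glueFam 𝓤 σ hσ x τ h j :=
  Scheme.Cover.ι_glueMorphisms (𝓤.pullback₁ τ) (glueFam 𝓤 σ hσ x τ h)
    (glueVal_compat 𝓤 σ hσ x τ h) j

lemma glueVal_spec (j : 𝓤.I₀) {T'' : Scheme.{u}} (g : T'' ⟶ T') (s : T'' ⟶ 𝓤.X j)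
    (hs : g ≫ τ = s ≫ 𝓤.f j) :
    g ≫ glueVal 𝓤 σ hσ x τ h = ((σ j).pt (g ≫ x) s (glue_aux 𝓤 σ hσ x τ h j g s hs)).1 := by
  have e : g = pullback.lift g s hs ≫ pullback.fst τ (𝓤.f j) := (pullback.lift_fst _ _ _).symm
  conv_lhs => rw [e]
  rw [Category.assoc, glueVal_ι]
  unfold glueFam
  rw [← Sec.pt_nat (σ j) (pullback.lift g s hs) _ _ _ (by
    rw [Category.assoc, Category.assoc, Category.assoc]
    exact congrArg (pullback.lift g s hs ≫ ·) (glue_aux 𝓤 σ hσ x τ h j _ _ pullback.condition))]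
  apply Sec.pt_congr
  · rw [← Category.assoc, pullback.lift_fst]
  · rw [pullback.lift_snd]

lemma glueVal_lifts : glueVal 𝓤 σ hσ x τ h ≫ D.obj.hom = x := by
  apply hom_ext_cover 𝓤 τ
  intro j T'' g s hs
  rw [← Category.assoc, glueVal_spec 𝓤 σ hσ x τ h j g s hs]
  exact ((σ j).pt (g ≫ x) s _).2

omit h in
/-- The pointwise data of the glued section. -/
noncomputable def glueData : SecData D T where
  t := glueT 𝓤 σ hσ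
  m T' x τ h := ⟨glueVal 𝓤 σ hσ x τ h, glueVal_lifts 𝓤 σ hσ x τ h⟩
  nat T' T'' g x τ h h' := by
    change glueVal 𝓤 σ hσ (g ≫ x) (g ≫ τ) h' = g ≫ glueVal 𝓤 σ hσ x τ h
    apply hom_ext_cover 𝓤 (g ≫ τ)
    intro j T₃ g' s hs
    have hs' : (g' ≫ g) ≫ τ = s ≫ 𝓤.f j := by rw [Category.assoc]; exact hs
    have e1 := glueVal_spec 𝓤 σ hσ (g ≫ x) (g ≫ τ) h' j g' s hs
    have e2 := glueVal_spec 𝓤 σ hσ x τ h j (g' ≫ g) s hs'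
    rw [Category.assoc] at e2
    exact e1.trans ((Sec.pt_congr _ _ _ (Category.assoc _ _ _).symm rfl).trans e2.symm)
  comm T' x₀ x₁ τ h₀ h₁ hh := by
    apply Subtype.ext
    change (D.φ x₀ x₁ hh ⟨glueVal 𝓤 σ hσ x₀ τ h₀, _⟩).1 = glueVal 𝓤 σ hσ x₁ τ h₁
    apply hom_ext_cover 𝓤 τ
    intro j T₃ g s hs
    have hh' : (g ≫ x₀) ≫ p = (g ≫ x₁) ≫ p := by rw [Category.assoc, Category.assoc, hh]
    rw [glueVal_spec 𝓤 σ hσ x₁ τ h₁ j g s hs,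
      ← Sec.pt_φ (σ j) (g ≫ x₀) (g ≫ x₁) s (glue_aux 𝓤 σ hσ x₀ τ h₀ j g s hs) _ hh']
    refine (φ_nat D g hh _ hh' _ rfl rfl ?_).symm
    exact (glueVal_spec 𝓤 σ hσ x₀ τ h₀ j g s hs).symm

omit h in
/-- The glued section. -/
noncomputable def glueSec : Sec D T := (glueData 𝓤 σ hσ).toSec

omit h in
lemma glueSec_t : (glueSec 𝓤 σ hσ).t = glueT 𝓤 σ hσ := rfl

omit h in
lemma glueSec_pre (j : 𝓤.I₀) : (glueSec 𝓤 σ hσ).pre (𝓤.f j) = σ j := by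
  refine Sec.ext' (ι_glueT 𝓤 σ hσ j) fun T' x τ h₁ h₂ => ?_
  have h₃ : x ≫ p = (τ ≫ 𝓤.f j) ≫ (glueSec 𝓤 σ hσ).t := by rw [Category.assoc]; exact h₁
  rw [Sec.pre_pt (glueSec 𝓤 σ hσ) (𝓤.f j) x τ h₁ h₃]
  unfold glueSec
  rw [SecData.toSec_pt]
  change glueVal 𝓤 σ hσ x (τ ≫ 𝓤.f j) h₃ = _
  have := glueVal_spec 𝓤 σ hσ x (τ ≫ 𝓤.f j) h₃ j (𝟙 T') τ (Category.id_comp _)
  rw [Category.id_comp] at this
  rw [this]
  exact Sec.pt_congr _ _ _ (Category.id_comp _) rfl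

omit h in
lemma glueSec_unique (s' : Sec D T) (hs' : ∀ j, s'.pre (𝓤.f j) = σ j) :
    s' = glueSec 𝓤 σ hσ := by
  have ht : s'.t = (glueSec 𝓤 σ hσ).t := by
    apply Scheme.Cover.hom_ext 𝓤
    intro j
    rw [glueSec_t, ι_glueT]
    exact Sec.t_eq_of_eq (hs' j)
  refine Sec.ext' ht fun T' x τ h₁ h₂ => ?_
  apply hom_ext_cover 𝓤 τ
  intro j T'' g s hs
  have k₁ : (g ≫ x) ≫ p = (g ≫ τ) ≫ s'.t := by rw [Category.assoc, h₁, Category.assoc]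
  have k₂ : (g ≫ x) ≫ p = (g ≫ τ) ≫ (glueSec 𝓤 σ hσ).t := by
    rw [Category.assoc, h₂, Category.assoc]
  rw [← Sec.pt_nat s' g x τ h₁ k₁, ← Sec.pt_nat (glueSec 𝓤 σ hσ) g x τ h₂ k₂]
  have k₁' : (g ≫ x) ≫ p = (s ≫ 𝓤.f j) ≫ s'.t := by rw [← hs]; exact k₁
  have k₂' : (g ≫ x) ≫ p = (s ≫ 𝓤.f j) ≫ (glueSec 𝓤 σ hσ).t := by rw [← hs]; exact k₂
  rw [Sec.pt_congr s' k₁ k₁' rfl hs, Sec.pt_congr (glueSec 𝓤 σ hσ) k₂ k₂' rfl hs]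
  rw [← Sec.pre_pt s' (𝓤.f j) (g ≫ x) s (by rw [← Category.assoc]; exact k₁') k₁',
    ← Sec.pre_pt (glueSec 𝓤 σ hσ) (𝓤.f j) (g ≫ x) s (by rw [← Category.assoc]; exact k₂') k₂']
  exact Sec.pt_eq_of_eq ((hs' j).trans (glueSec_pre 𝓤 σ hσ j).symm) _ _ _ _

end glue

variable (D) in
/-- The descended functor is a sheaf for the Zariski topology. -/
theorem descFunctor_isSheaf : Presieve.IsSheaf Scheme.zariskiTopology (descFunctor D) := by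
  rw [Precoverage.isSheaf_toGrothendieck_iff_of_isStableUnderBaseChange]
  rintro T R hR x hx
  obtain ⟨(𝓤 : Scheme.OpenCover T), rfl⟩ := Scheme.exists_cover_of_mem_pretopology hR
  let σ : ∀ j, Sec D (𝓤.X j) := fun j => x (𝓤.f j) (.mk j)
  have hσ : ∀ (i j : 𝓤.I₀) (Z : Scheme.{u}) (g₁ : Z ⟶ 𝓤.X i) (g₂ : Z ⟶ 𝓤.X j),
      g₁ ≫ 𝓤.f i = g₂ ≫ 𝓤.f j → (σ i).pre g₁ = (σ j).pre g₂ := by
    intro i j Z g₁ g₂ hg
    exact hx g₁ g₂ (.mk i) (.mk j) hg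
  refine ⟨glueSec 𝓤 σ hσ, ?_, ?_⟩
  · rintro Z e ⟨j⟩
    exact glueSec_pre 𝓤 σ hσ j
  · intro s' hs'
    apply glueSec_unique 𝓤 σ hσ s'
    intro j
    exact hs' (𝓤.f j) (.mk j)

end Groth.Agent.Lib.Helper5.DescFunctor
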