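import Mathlib

/-!
# Relative representability of maps `yoneda Y ⟶ F` via sections (helper5)
-/

set_option autoImplicit false
universe u
open CategoryTheory CategoryTheory.Limits AlgebraicGeometry Opposite

namespace Groth.Agent.Lib.Helper5.PresheafRel

variable {F : Scheme.{u}ᵒᵖ ⥤ Type u} {Y : Scheme.{u}} (s' : F.obj (op Y))

lemma symm_app (T' : Scheme.{u}) (h : T' ⟶ Y) :
    (yonedaEquiv.symm s').app (op T') h = F.map h.op s' := rfl

/-- A criterion for a pullback square over `yonedaEquiv.symm s'` in sectionwise terms. -/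
theorem isPullback_of_sections {T b : Scheme.{u}} (g : yoneda.obj T ⟶ F) (snd : b ⟶ T)
    (h₀ : b ⟶ Y) [Mono snd]
    (h1 : F.map h₀.op s' = F.map snd.op (yonedaEquiv g))
    (h2 : ∀ (T' : Scheme.{u}) (h : T' ⟶ Y) (k : T' ⟶ T),
      F.map h.op s' = F.map k.op (yonedaEquiv g) → ∃ m : T' ⟶ b, m ≫ h₀ = h ∧ m ≫ snd = k) :
    IsPullback (yoneda.map h₀) (yoneda.map snd) (yonedaEquiv.symm s') g := by
  have hg : g = yonedaEquiv.symm (yonedaEquiv g) := (Equiv.symm_apply_apply _ _).symm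
  have hgapp : ∀ (T' : Scheme.{u}) (k : T' ⟶ T), g.app (op T') k = F.map k.op (yonedaEquiv g) := by
    intro T' k
    exact (map_yonedaEquiv g k).symm
  apply IsPullback.of_forall_isPullback_app
  rintro ⟨T'⟩
  rw [Types.isPullback_iff]
  refine ⟨?_, ?_, ?_⟩
  · ext (m : T' ⟶ b)
    change (yonedaEquiv.symm s').app (op T') (m ≫ h₀) = g.app (op T') (m ≫ snd)
    rw [symm_app, hgapp, op_comp, op_comp, F.map_comp, F.map_comp]
    change F.map m.op (F.map h₀.op s') = F.map m.op (F.map snd.op (yonedaEquiv g))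
    rw [h1]
  · rintro (m : T' ⟶ b) (m' : T' ⟶ b) ⟨-, e2⟩
    change m ≫ snd = m' ≫ snd at e2
    exact (cancel_mono snd).mp e2
  · intro (h : T' ⟶ Y) (k : T' ⟶ T) hk
    change (yonedaEquiv.symm s').app (op T') h = g.app (op T') k at hk
    rw [symm_app, hgapp] at hk
    obtain ⟨m, hm1, hm2⟩ := h2 T' h k hk
    exact ⟨m, hm1, hm2⟩

/-- Relative representability by open immersions in sectionwise terms. -/
theorem presheaf_isOpenImmersion
    (H : ∀ (T : Scheme.{u}) (s : F.obj (op T)), ∃ (b : Scheme.{u}) (snd : b ⟶ T) (h₀ : b ⟶ Y),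
      IsOpenImmersion snd ∧ F.map h₀.op s' = F.map snd.op s ∧
      ∀ (T' : Scheme.{u}) (h : T' ⟶ Y) (k : T' ⟶ T), F.map h.op s' = F.map k.op s →
        ∃ m : T' ⟶ b, m ≫ h₀ = h ∧ m ≫ snd = k) :
    MorphismProperty.presheaf (@IsOpenImmersion) (yonedaEquiv.symm s') := by
  apply MorphismProperty.relative.of_exists
  intro T g
  obtain ⟨b, snd, h₀, hopen, h1, h2⟩ := H T (yonedaEquiv g)
  have : Mono snd := inferInstance
  exact ⟨b, yoneda.map h₀, snd, isPullback_of_sections s' g snd h₀ h1 h2, hopen⟩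

end Groth.Agent.Lib.Helper5.PresheafRel
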