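import Mathlib
import Groth.Prelude.Def_Desc
import Groth.Agent.Lib.Helper5.DescSheaf
import Groth.Agent.Lib.Helper5.DescRepEff
import Groth.Agent.Lib.Helper5.DescOpen2
import Groth.Agent.Lib.Helper5.PresheafRel

/-!
# A descent datum covered by effective open sub-data is effective (helper5)
-/

set_option autoImplicit false
universe u
open CategoryTheory CategoryTheory.Limits AlgebraicGeometry Desc Opposite

namespace Groth.Agent.Lib.Helper5.DescFunctor

variable {X S : Scheme.{u}} {p : X ⟶ S}

/-- Stacks-style gluing of effective open sub-data. -/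
theorem effective_of_open_cover [hp : IsDescCover p] (D : SchDD p)
    (h : ∀ v : D.obj.left, ∃ (D' : SchDD p) (j : D' ⟶ D), IsOpenImmersion j.hom.left ∧
      v ∈ Set.range j.hom.left.base ∧ ∃ U' : Over S, Nonempty ((toDD p).obj U' ≅ D')) :
    ∃ U : Over S, Nonempty ((toDD p).obj U ≅ D) := by
  haveI : Surjective p := hp.surj
  choose D' j hj hv U' he using h
  let e : ∀ v, (toDD p).obj (U' v) ≅ D' v := fun v => (he v).some
  let F : Sheaf Scheme.zariskiTopology (Type u) :=
    ⟨descFunctor D, (isSheaf_iff_isSheaf_of_type _ _).2 (descFunctor_isSheaf D)⟩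
  let Xi : D.obj.left → Scheme.{u} := fun v => (U' v).left
  let f : ∀ v, yoneda.obj (Xi v) ⟶ F.1 := fun v =>
    yonedaEquiv.symm (baseSec (j v) (U' v) (e v))
  have key : ∀ (v : D.obj.left) (T : Scheme.{u}) (s : Sec D T),
      ∃ h₀ : (T₀ (j v) s : Scheme.{u}) ⟶ (U' v).left,
        (baseSec (j v) (U' v) (e v)).pre h₀ = s.pre (T₀ (j v) s).ι := by
    intro v T s
    have hι : Set.range (T₀ (j v) s).ι.base ⊆ (T₀ (j v) s : Set T) :=
      (Scheme.Opens.range_ι _).le
    exact exists_pre_eq (j v) (U' v) (e v) (s.pre (T₀ (j v) s).ι)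
      (range_pre_subset (j v) s _ hι)
  have hf : ∀ v, MorphismProperty.presheaf (@IsOpenImmersion) (f v) := by
    intro v
    apply PresheafRel.presheaf_isOpenImmersion
    intro T (s : Sec D T)
    obtain ⟨h₀, hh₀⟩ := key v T s
    refine ⟨(T₀ (j v) s : Scheme.{u}), (T₀ (j v) s).ι, h₀, inferInstance, hh₀, ?_⟩
    intro T' h' k hk
    change (baseSec (j v) (U' v) (e v)).pre h' = s.pre k at hk
    have hr : Set.range (s.pre k).a.hom.left.base ⊆ Set.range (j v).hom.left.base := by
      rw [← hk]
      exact range_baseSec_pre (j v) (U' v) (e v) h'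
    have hk' := range_subset_T₀ (j v) s k hr
    have hm : IsOpenImmersion.lift (T₀ (j v) s).ι k (by rw [Scheme.Opens.range_ι]; exact hk') ≫
        (T₀ (j v) s).ι = k := IsOpenImmersion.lift_fac _ _ _
    refine ⟨IsOpenImmersion.lift (T₀ (j v) s).ι k (by rw [Scheme.Opens.range_ι]; exact hk'), ?_, hm⟩
    apply baseSec_pre_injective (j v) (U' v) (e v)
    rw [← Sec.pre_pre, hh₀, Sec.pre_pre, hm]
    exact hk.symm
  have hsurj : Presheaf.IsLocallySurjective Scheme.zariskiTopology (Sigma.desc f) := by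
    constructor
    intro T (s : Sec D T)
    have hcov : TopologicalSpace.IsOpenCover (fun v : D.obj.left => T₀ (j v) s) := by
      apply TopologicalSpace.IsOpenCover.mk
      rw [eq_top_iff]
      intro y _
      obtain ⟨z, hz⟩ := (pullback.snd p s.t).surjective y
      rw [TopologicalSpace.Opens.mem_iSup]
      refine ⟨s.a.hom.left.base z, z, ?_, hz⟩
      exact hv (s.a.hom.left.base z)
    let 𝓤 : T.OpenCover := T.openCoverOfIsOpenCover _ hcov
    refine Scheme.zariskiTopology.superset_covering ?_ 𝓤.mem_grothendieckTopology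
    rintro T' g ⟨Z, a, b, ⟨v⟩, rfl⟩
    apply Sieve.downward_closed
    obtain ⟨h₀, hh₀⟩ := key v T s
    refine ⟨(Sigma.ι (fun v => yoneda.obj (Xi v)) v).app _ h₀, ?_⟩
    have e1 : Sigma.ι (fun v => yoneda.obj (Xi v)) v ≫ Sigma.desc f = f v := Sigma.ι_desc _ _
    have e2 := congrArg (fun φ => φ.app (op (T₀ (j v) s : Scheme.{u})) h₀) e1
    exact e2.trans hh₀
  obtain ⟨U, ⟨r⟩⟩ := (Scheme.LocalRepresentability.isRepresentable (F := F) (f := f) hf).has_representation
  exact effective_of_representableBy r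

end Groth.Agent.Lib.Helper5.DescFunctor
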