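import Mathlib
import Groth.Prelude.Def_DescFam
import Groth.Agent.Lib.Helper5.DescPt
import Groth.Agent.Lib.Helper5.AffCore2

/-!
# Pullback of descent data along a square, and effectiveness (helper5)
-/

set_option autoImplicit false
universe u
open CategoryTheory CategoryTheory.Limits AlgebraicGeometry Desc Opposite

namespace Groth.Agent.Lib.Helper5.DescPull

open Groth.Agent.Lib.Helper5.AffCore Groth.Agent.Lib.Helper5.DescFunctor

variable {X S X' S' : Scheme.{u}} {p : X ⟶ S} {p' : X' ⟶ S'} (g : S' ⟶ S) (g' : X' ⟶ X)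
  (w : g' ≫ p = p' ≫ g)

/-- Pullback of a descent datum along a commutative square. -/
noncomputable def pullDD (D : SchDD p) : SchDD p' :=
  (SchDDFam.toSchDD p').obj
    (pullDDFamObj (f := fun _ : PUnit.{u + 1} => p) (f' := fun _ : PUnit.{u + 1} => p')
      (α := fun _ => PUnit.unit) (p := g) (p' := fun _ => g') (fun _ => w)
      ((SchDDFam.ofSchDD p).obj D))

variable (D : SchDD p)

lemma pullDD_obj : (pullDD g g' w D).obj = Over.mk (pullback.snd D.obj.hom g') := rfl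

lemma pullDD_φ_fst {T : Scheme.{u}} (x₀ x₁ : T ⟶ X') (h : x₀ ≫ p' = x₁ ≫ p')
    (h' : (x₀ ≫ g') ≫ p = (x₁ ≫ g') ≫ p)
    (v : Lifts (pullDD g g' w D).obj x₀) (v' : Lifts D.obj (x₀ ≫ g'))
    (hv : v'.1 = (show T ⟶ pullback D.obj.hom g' from v.1) ≫ pullback.fst D.obj.hom g') :
    (show T ⟶ pullback D.obj.hom g' from ((pullDD g g' w D).φ x₀ x₁ h v).1) ≫
      pullback.fst D.obj.hom g' = (D.φ (x₀ ≫ g') (x₁ ≫ g') h' v').1 := by
  have : v' = liftsPullbackEquiv D.obj g' x₀ v := Subtype.ext hv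
  subst this
  exact pullback.lift_fst _ _ _

section bc

variable {g g' w}
variable (hsq : IsPullback g' p' p g) (U' : Over S') (θ : (toDD p').obj U' ≅ pullDD g g' w D)

/-- the underlying morphism of `θ.hom`, with explicit source and target -/
noncomputable abbrev θL : pullback p' U'.hom ⟶ pullback D.obj.hom g' := θ.hom.hom.left

include hsq in
lemma lift_aux {T' : Scheme.{u}} (x : T' ⟶ X) (τ : T' ⟶ U'.left) (h : x ≫ p = τ ≫ U'.hom ≫ g) :
    hsq.lift x (τ ≫ U'.hom) (by rw [Category.assoc]; exact h) ≫ p' = τ ≫ U'.hom :=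
  hsq.lift_snd _ _ _

/-- the value of the transported section on a point -/
noncomputable def bcVal {T' : Scheme.{u}} (x : T' ⟶ X) (τ : T' ⟶ U'.left)
    (h : x ≫ p = τ ≫ U'.hom ≫ g) : T' ⟶ D.obj.left :=
  ((pullback.lift (hsq.lift x (τ ≫ U'.hom) (by rw [Category.assoc]; exact h)) τ
      (lift_aux hsq U' x τ h) : T' ⟶ pullback p' U'.hom) ≫
    θL D U' θ) ≫
      pullback.fst D.obj.hom g'

lemma θ_left_snd :
    θL D U' θ ≫
      pullback.snd D.obj.hom g' = pullback.fst p' U'.hom :=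
  Over.w θ.hom.hom

lemma bcVal_lifts {T' : Scheme.{u}} (x : T' ⟶ X) (τ : T' ⟶ U'.left)
    (h : x ≫ p = τ ≫ U'.hom ≫ g) : bcVal D hsq U' θ x τ h ≫ D.obj.hom = x := by
  unfold bcVal
  rw [Category.assoc, Category.assoc, pullback.condition, ← Category.assoc _ _ g',
    θ_left_snd, ← Category.assoc, pullback.lift_fst]
  exact hsq.lift_fst _ _ _

lemma bcVal_nat {T' T'' : Scheme.{u}} (k : T'' ⟶ T') (x : T' ⟶ X) (τ : T' ⟶ U'.left)
    (h : x ≫ p = τ ≫ U'.hom ≫ g) (h' : (k ≫ x) ≫ p = (k ≫ τ) ≫ U'.hom ≫ g) :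
    bcVal D hsq U' θ (k ≫ x) (k ≫ τ) h' = k ≫ bcVal D hsq U' θ x τ h := by
  unfold bcVal
  rw [← Category.assoc k, ← Category.assoc k]
  congr 2
  apply pullback.hom_ext
  · apply hsq.hom_ext
    · simp only [Category.assoc, pullback.lift_fst, IsPullback.lift_fst]
    · simp only [Category.assoc, pullback.lift_fst, IsPullback.lift_snd]
  · simp only [Category.assoc, pullback.lift_snd]

/-- The transported section: pointwise data. -/
noncomputable def bcData : SecData D U'.left where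
  t := U'.hom ≫ g
  m T' x τ h := ⟨bcVal D hsq U' θ x τ h, bcVal_lifts D hsq U' θ x τ h⟩
  nat T' T'' k x τ h h' := bcVal_nat D hsq U' θ k x τ h h'
  comm T' x₀ x₁ τ h₀ h₁ hh := by
    apply Subtype.ext
    change (D.φ x₀ x₁ hh ⟨bcVal D hsq U' θ x₀ τ h₀, _⟩).1 = bcVal D hsq U' θ x₁ τ h₁
    set x₀' := hsq.lift x₀ (τ ≫ U'.hom) (by rw [Category.assoc]; exact h₀) with hx₀'
    set x₁' := hsq.lift x₁ (τ ≫ U'.hom) (by rw [Category.assoc]; exact h₁) with hx₁'
    have e₀ : x₀' ≫ g' = x₀ := hsq.lift_fst _ _ _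
    have e₁ : x₁' ≫ g' = x₁ := hsq.lift_fst _ _ _
    have k₀ : x₀' ≫ p' = τ ≫ U'.hom := hsq.lift_snd _ _ _
    have k₁ : x₁' ≫ p' = τ ≫ U'.hom := hsq.lift_snd _ _ _
    have hh' : x₀' ≫ p' = x₁' ≫ p' := k₀.trans k₁.symm
    have hh'' : (x₀' ≫ g') ≫ p = (x₁' ≫ g') ≫ p := by rw [e₀, e₁]; exact hh
    let v : Lifts ((toDD p').obj U').obj x₀' := canPt U'.hom x₀' τ k₀
    have key := θ.hom.comm x₀' x₁' hh' v (θ.hom.push v) rfl
    have e2 : ((((toDD p').obj U').φ x₀' x₁' hh') v).1 = (canPt U'.hom x₁' τ k₁).1 :=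
      congrArg Subtype.val (canPt_φ U'.hom x₀' x₁' τ k₀ k₁ hh')
    rw [e2] at key
    have key2 := pullDD_φ_fst g g' w D x₀' x₁' hh' hh'' (θ.hom.push v)
      ⟨bcVal D hsq U' θ x₀ τ h₀, by rw [bcVal_lifts, e₀]⟩ rfl
    rw [φ_congr D hh hh'' ⟨bcVal D hsq U' θ x₀ τ h₀, bcVal_lifts D hsq U' θ x₀ τ h₀⟩
      ⟨bcVal D hsq U' θ x₀ τ h₀, by rw [bcVal_lifts, e₀]⟩ e₀.symm e₁.symm rfl, ← key2]
    have key3 := congrArg (fun f => (show T' ⟶ pullback D.obj.hom g' from f) ≫
      pullback.fst D.obj.hom g') key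
    exact key3

/-- The transported section. -/
noncomputable def bcSec : Sec D U'.left := (bcData D hsq U' θ).toSec

lemma bcSec_t : (bcSec D hsq U' θ).t = U'.hom ≫ g := rfl

/-- the comparison isomorphism `X ×_S U' ≅ X' ×_{S'} U'` -/
noncomputable def kappa : pullback p (U'.hom ≫ g) ≅ pullback p' U'.hom where
  hom := pullback.lift (hsq.lift (pullback.fst p (U'.hom ≫ g)) (pullback.snd p (U'.hom ≫ g) ≫ U'.hom)
      (by rw [Category.assoc]; exact pullback.condition)) (pullback.snd p (U'.hom ≫ g))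
      (hsq.lift_snd _ _ _)
  inv := pullback.lift (pullback.fst p' U'.hom ≫ g') (pullback.snd p' U'.hom) (by
    rw [Category.assoc, w, ← Category.assoc, pullback.condition, Category.assoc])
  hom_inv_id := by
    apply pullback.hom_ext
    · rw [Category.assoc, pullback.lift_fst, pullback.lift_fst_assoc, Category.id_comp]
      exact hsq.lift_fst _ _ _
    · rw [Category.assoc, pullback.lift_snd, pullback.lift_snd, Category.id_comp]
  inv_hom_id := by
    apply pullback.hom_ext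
    · rw [Category.assoc, pullback.lift_fst, Category.id_comp]
      apply hsq.hom_ext
      · rw [Category.assoc, hsq.lift_fst, pullback.lift_fst]
      · rw [Category.assoc, hsq.lift_snd, pullback.lift_snd_assoc, pullback.condition]
    · rw [Category.assoc, pullback.lift_snd, pullback.lift_snd, Category.id_comp]

lemma bcSec_a_left :
    (bcSec D hsq U' θ).a.hom.left =
      ((kappa (w := w) hsq U').hom ≫ θL D U' θ) ≫ pullback.fst D.obj.hom g' := rfl

lemma θ_hom_inv_left : θ.hom.hom.left ≫ θ.inv.hom.left = 𝟙 _ :=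
  congrArg (fun f => f.hom.left) θ.hom_inv_id

lemma θ_inv_hom_left : θ.inv.hom.left ≫ θ.hom.hom.left = 𝟙 _ :=
  congrArg (fun f => f.hom.left) θ.inv_hom_id

instance isIso_θL : IsIso (θL D U' θ) :=
  ⟨θ.inv.hom.left, θ_hom_inv_left D U' θ, θ_inv_hom_left D U' θ⟩

include hsq θ in
/-- If `g'` is an isomorphism, effectiveness of the pulled back datum implies effectiveness. -/
theorem effective_of_isIso [IsIso g'] : ∃ U : Over S, Nonempty ((toDD p).obj U ≅ D) := by
  have h00 : IsIso (θL D U' θ) := isIso_θL D U' θ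
  have h0 : IsIso ((kappa (w := w) hsq U').hom ≫ θL D U' θ) := IsIso.comp_isIso
  have h0' : IsIso (pullback.fst D.obj.hom g') := inferInstance
  have h1 : IsIso (bcSec D hsq U' θ).a.hom.left := by
    rw [bcSec_a_left]
    exact @IsIso.comp_isIso _ _ _ _ _ _ _ h0 h0'
  let ε : ((toDD p).obj (Over.mk (bcSec D hsq U' θ).t)).obj ≅ D.obj :=
    Over.isoMk (@asIso _ _ _ _ (bcSec D hsq U' θ).a.hom.left h1) (Over.w (bcSec D hsq U' θ).a.hom)
  exact ⟨Over.mk (bcSec D hsq U' θ).t, ⟨isoMk _ _ ε (bcSec D hsq U' θ).a.comm⟩⟩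

instance isOpenImmersion_bcSec [IsOpenImmersion g'] :
    IsOpenImmersion (bcSec D hsq U' θ).a.hom.left := by
  have h00 : IsIso (θL D U' θ) := isIso_θL D U' θ
  have h0 : IsIso ((kappa (w := w) hsq U').hom ≫ θL D U' θ) := IsIso.comp_isIso
  have h0' : IsOpenImmersion (pullback.fst D.obj.hom g') := inferInstance
  rw [bcSec_a_left]
  have h0'' : IsOpenImmersion ((kappa (w := w) hsq U').hom ≫ θL D U' θ) :=
    @IsOpenImmersion.of_isIso _ _ _ h0
  exact @IsOpenImmersion.comp _ _ _ _ _ h0'' h0'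

lemma mem_range_bcSec (v : D.obj.left) (hv : D.obj.hom.base v ∈ Set.range g'.base) :
    v ∈ Set.range (bcSec D hsq U' θ).a.hom.left.base := by
  obtain ⟨y, hy⟩ := hv
  obtain ⟨z, hz1, -⟩ := Scheme.Pullback.exists_preimage_pullback (f := D.obj.hom) (g := g') v y
    hy.symm
  rw [bcSec_a_left]
  have h00 : IsIso (θL D U' θ) := isIso_θL D U' θ
  have h0 : IsIso ((kappa (w := w) hsq U').hom ≫ θL D U' θ) := IsIso.comp_isIso
  have hs : Surjective ((kappa (w := w) hsq U').hom ≫ θL D U' θ) := inferInstance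
  obtain ⟨z', hz'⟩ := hs.surj z
  refine ⟨z', ?_⟩
  change (pullback.fst D.obj.hom g').base (((kappa (w := w) hsq U').hom ≫ θL D U' θ).base z') = v
  rw [hz', hz1]

end bc

end Groth.Agent.Lib.Helper5.DescPull
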