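import Mathlib
import Groth.Prelude.Def_DescFam
import Groth.Agent.Lib.Helper64.DescFam
import Groth.Agent.Lib.Helper5.DescPull
import Groth.Agent.S9853

/-!
# Effectiveness can be checked after refining the cover (helper5)
-/

set_option autoImplicit false
set_option backward.isDefEq.respectTransparency false
set_option backward.isDefEq.respectTransparency.types false
universe w' w u
open CategoryTheory CategoryTheory.Limits AlgebraicGeometry Desc Opposite

namespace Groth.Agent.Lib.Helper5.DescRefine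

open Groth.Agent.Lib.Helper64.DescFam

section fam

variable {S : Scheme.{u}} {ι : Type w} {X : ι → Scheme.{u}} {f : ∀ i, X i ⟶ S}
  {ι' : Type w'} {X' : ι' → Scheme.{u}} {f' : ∀ j, X' j ⟶ S}
  {α : ι' → ι} {p' : ∀ j, X' j ⟶ X (α j)} (w : ∀ j, p' j ≫ f (α j) = f' j ≫ 𝟙 S) (U : Over S)

/-- forward map on points -/
noncomputable def fwd : PtMap (pullDDFamObj w (canonicalDDFam f U)) (canonicalDDFam f' U) where
  map T j y v := ⟨pullback.lift y
      ((show T ⟶ pullback (f (α j)) U.hom from (pe w (canonicalDDFam f U) j y v).1) ≫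
        pullback.snd (f (α j)) U.hom) (by
      have e := (pe w (canonicalDDFam f U) j y v).2
      change (show T ⟶ pullback (f (α j)) U.hom from (pe w (canonicalDDFam f U) j y v).1) ≫
        pullback.fst (f (α j)) U.hom = y ≫ p' j at e
      rw [Category.assoc, ← pullback.condition, ← Category.assoc, e, Category.assoc, w,
        Category.comp_id]), pullback.lift_fst _ _ _⟩
  natural T T' g j y y' hy v v' hv := by
    apply pullback.hom_ext
    · change pullback.lift _ _ _ ≫ pullback.fst _ _ = (g ≫ pullback.lift _ _ _) ≫ pullback.fst _ _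
      rw [pullback.lift_fst, Category.assoc, pullback.lift_fst, hy]
    · change pullback.lift _ _ _ ≫ pullback.snd _ _ = (g ≫ pullback.lift _ _ _) ≫ pullback.snd _ _
      rw [pullback.lift_snd, Category.assoc, pullback.lift_snd, pe_val, pe_val, hv]
      simp only [Category.assoc]
  comm T j₀ j₁ y₀ y₁ h v := by
    apply Subtype.ext
    apply pullback.hom_ext
    · change pullback.lift _ _ _ ≫ pullback.fst _ _ = pullback.lift _ _ _ ≫ pullback.fst _ _
      rw [pullback.lift_fst, pullback.lift_fst]
    · change pullback.lift _ _ _ ≫ pullback.snd _ _ = pullback.lift _ _ _ ≫ pullback.snd _ _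
      rw [pullback.lift_snd, pullback.lift_snd, pullback.lift_snd, pull_φ, Equiv.apply_symm_apply]
      exact (pullback.lift_snd _ _ _).symm

/-- the backward point -/
noncomputable def bwdPt {T : Scheme.{u}} (j : ι') (y : T ⟶ X' j)
    (u : Lifts ((canonicalDDFam f' U).obj j) y) :
    Lifts ((canonicalDDFam f U).obj (α j)) (y ≫ p' j) :=
  ⟨pullback.lift (y ≫ p' j)
      ((show T ⟶ pullback (f' j) U.hom from u.1) ≫ pullback.snd (f' j) U.hom) (by
        have e : (show T ⟶ pullback (f' j) U.hom from u.1) ≫ pullback.fst (f' j) U.hom = y := u.2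
        rw [Category.assoc y, w, Category.comp_id, Category.assoc _ _ U.hom, ← pullback.condition,
          ← Category.assoc, e]), pullback.lift_fst _ _ _⟩

lemma bwdPt_fst {T : Scheme.{u}} (j : ι') (y : T ⟶ X' j)
    (u : Lifts ((canonicalDDFam f' U).obj j) y) :
    (show T ⟶ pullback (f (α j)) U.hom from (bwdPt w U j y u).1) ≫ pullback.fst (f (α j)) U.hom =
      y ≫ p' j := pullback.lift_fst _ _ _

lemma bwdPt_snd {T : Scheme.{u}} (j : ι') (y : T ⟶ X' j)
    (u : Lifts ((canonicalDDFam f' U).obj j) y) :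
    (show T ⟶ pullback (f (α j)) U.hom from (bwdPt w U j y u).1) ≫ pullback.snd (f (α j)) U.hom =
      (show T ⟶ pullback (f' j) U.hom from u.1) ≫ pullback.snd (f' j) U.hom :=
  pullback.lift_snd _ _ _

lemma bwdPt_nat {T T' : Scheme.{u}} (g : T' ⟶ T) (j : ι') (y : T ⟶ X' j) (y' : T' ⟶ X' j)
    (hy : g ≫ y = y') (u : Lifts ((canonicalDDFam f' U).obj j) y)
    (u' : Lifts ((canonicalDDFam f' U).obj j) y') (hu : u'.1 = g ≫ u.1) :
    (bwdPt w U j y' u').1 = g ≫ (bwdPt w U j y u).1 := by
  apply pullback.hom_ext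
  · refine (bwdPt_fst w U j y' u').trans ?_
    refine Eq.trans ?_ (Category.assoc _ _ _).symm
    refine Eq.trans ?_ (congrArg (g ≫ ·) (bwdPt_fst w U j y u).symm)
    rw [← hy, Category.assoc]
  · refine (bwdPt_snd w U j y' u').trans ?_
    refine Eq.trans ?_ (Category.assoc _ _ _).symm
    refine Eq.trans ?_ (congrArg (g ≫ ·) (bwdPt_snd w U j y u).symm)
    change u'.1 ≫ _ = g ≫ u.1 ≫ _
    rw [hu, Category.assoc]

/-- backward map on points -/
noncomputable def bwd : PtMap (canonicalDDFam f' U) (pullDDFamObj w (canonicalDDFam f U)) where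
  map T j y u := (pe w (canonicalDDFam f U) j y).symm (bwdPt w U j y u)
  natural T T' g j y y' hy u u' hu := by
    apply pullback.hom_ext
    · refine (pe_symm_val_fst w (canonicalDDFam f U) j y' (bwdPt w U j y' u')).trans ?_
      refine Eq.trans ?_ (Category.assoc _ _ _).symm
      refine Eq.trans ?_ (congrArg (g ≫ ·)
        (pe_symm_val_fst w (canonicalDDFam f U) j y (bwdPt w U j y u)).symm)
      exact bwdPt_nat w U g j y y' hy u u' hu
    · refine (pe_symm_val_snd w (canonicalDDFam f U) j y' (bwdPt w U j y' u')).trans ?_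
      refine Eq.trans ?_ (Category.assoc _ _ _).symm
      refine Eq.trans ?_ (congrArg (g ≫ ·)
        (pe_symm_val_snd w (canonicalDDFam f U) j y (bwdPt w U j y u)).symm)
      exact hy.symm
  comm T j₀ j₁ y₀ y₁ h u := by
    rw [pull_φ, Equiv.apply_symm_apply]
    congr 1
    apply Subtype.ext
    apply pullback.hom_ext
    · refine Eq.trans (pullback.lift_fst _ _ _) (bwdPt_fst w U j₁ y₁ _).symm
    · refine Eq.trans (pullback.lift_snd _ _ _) ?_
      refine Eq.trans ?_ (bwdPt_snd w U j₁ y₁ _).symm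
      refine (bwdPt_snd w U j₀ y₀ u).trans ?_
      exact (pullback.lift_snd _ _ _).symm

/-- Pullback of a canonical descent datum along a refinement is canonical. -/
noncomputable def pullCanIso : pullDDFamObj w (canonicalDDFam f U) ≅ canonicalDDFam f' U :=
  mkIso (fwd w U) (bwd w U)
    (fun T j y v => by
      apply (pe w (canonicalDDFam f U) j y).injective
      change (pe w (canonicalDDFam f U) j y) ((pe w (canonicalDDFam f U) j y).symm _) = _
      rw [Equiv.apply_symm_apply]
      apply Subtype.ext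
      apply pullback.hom_ext
      · refine (bwdPt_fst w U j y _).trans ?_
        exact (pe w (canonicalDDFam f U) j y v).2.symm
      · refine (bwdPt_snd w U j y _).trans ?_
        exact pullback.lift_snd _ _ _)
    (fun T j y u => by
      apply Subtype.ext
      apply pullback.hom_ext
      · refine Eq.trans (pullback.lift_fst _ _ _) ?_
        exact u.2.symm
      · refine Eq.trans (pullback.lift_snd _ _ _) ?_
        change (show T ⟶ pullback (f (α j)) U.hom from
          (pe w (canonicalDDFam f U) j y ((pe w (canonicalDDFam f U) j y).symm _)).1) ≫ _ = _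
        rw [Equiv.apply_symm_apply]
        exact bwdPt_snd w U j y u)

end fam

section one

variable {X₁ X₂ S : Scheme.{u}} (p₁ : X₁ ⟶ S) (p₂ : X₂ ⟶ S) (q : X₂ ⟶ X₁) (hq : q ≫ p₁ = p₂)

open Groth.Agent.Lib.Helper5.DescPull

/-- Effectiveness can be checked after pulling back along a refinement `q : X₂ ⟶ X₁` of covers of
`S`, provided `X₂ ⟶ S` is an fpqc cover. -/
theorem effective_of_refine [Flat p₂] [Surjective p₂] [QuasiCompact p₂] (D₁ : SchDD p₁)
    (U : Over S)
    (θ : (toDD p₂).obj U ≅ pullDD (𝟙 S) q (hq.trans (Category.comp_id _).symm) D₁) :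
    ∃ U : Over S, Nonempty ((toDD p₁).obj U ≅ D₁) := by
  obtain ⟨hfull, hfaith⟩ := Groth.Agent.S9853.result p₂ p₁ q hq
    (Scheme.Hom.singleton_mem_fpqcPrecoverage p₂)
  let f₁ := fun _ : PUnit.{u + 1} => p₁
  let f₂ := fun _ : PUnit.{u + 1} => p₂
  let w : ∀ j : PUnit.{u + 1}, q ≫ f₁ j = f₂ j ≫ 𝟙 S :=
    fun _ => hq.trans (Category.comp_id p₂).symm
  let P : SchDDFam f₁ ⥤ SchDDFam f₂ :=
    pullDDFam (α := fun j => j) (p := 𝟙 S) (p' := fun _ => q) w
  have hP1 : P.Full := hfull
  have hP2 : P.Faithful := hfaith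
  let E : SchDDFam f₁ := (SchDDFam.ofSchDD p₁).obj D₁
  let iso₁ : (toDDFam f₂).obj U ≅ P.obj E := (SchDDFam.ofSchDD p₂).mapIso θ
  let iso₂ : P.obj ((toDDFam f₁).obj U) ≅ (toDDFam f₂).obj U := pullCanIso w U
  let i : (toDDFam f₁).obj U ≅ E := P.preimageIso (iso₂ ≪≫ iso₁)
  exact ⟨U, ⟨(SchDDFam.toSchDD p₁).mapIso i⟩⟩

end one

end Groth.Agent.Lib.Helper5.DescRefine
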