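import Mathlib
import Groth.Prelude.Def_Desc
import Groth.Agent.Lib.Helper5.DescOpen2
import Groth.Agent.Lib.Helper5.AffCore2

/-!
# An open sub-datum of an effective descent datum is effective (helper5)
-/

set_option autoImplicit false
universe u
open CategoryTheory CategoryTheory.Limits AlgebraicGeometry Desc Opposite

namespace Groth.Agent.Lib.Helper5.DescFunctor

open Groth.Agent.Lib.Helper5.AffCore

variable {X S : Scheme.{u}} {p : X ⟶ S} [hp : IsDescCover p]

/-- Descent of opens: an open sub-datum of an effective descent datum is effective. -/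
theorem effective_of_open_sub {D E : SchDD p} (j : D ⟶ E) [IsOpenImmersion j.hom.left]
    (U₁ : Over S) (θ : (toDD p).obj U₁ ≅ E) :
    ∃ U : Over S, Nonempty ((toDD p).obj U ≅ D) := by
  let s : Sec E U₁.left := ⟨U₁.hom, θ.hom⟩
  let ι := (T₀ j s).ι
  have hι : Set.range ι.base ⊆ (T₀ j s : Set U₁.left) := (Scheme.Opens.range_ι _).le
  have hr := range_pre_subset j s ι hι
  obtain ⟨a', ha'⟩ := exists_factor j (s.pre ι).a hr
  -- the underlying morphism of `a'` is an isomorphism
  let m := pullback.map p (ι ≫ U₁.hom) p U₁.hom (𝟙 X) ι (𝟙 S) (by simp) (by simp)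
  let θL : pullback p U₁.hom ⟶ E.obj.left := θ.hom.hom.left
  have hθ1 : θL ≫ θ.inv.hom.left = 𝟙 _ := congrArg (fun f => f.hom.left) θ.hom_inv_id
  have hθ2 : θ.inv.hom.left ≫ θL = 𝟙 _ := congrArg (fun f => f.hom.left) θ.inv_hom_id
  have hθiso : IsIso θL := ⟨θ.inv.hom.left, hθ1, hθ2⟩
  have hfac : a'.hom.left ≫ j.hom.left = m ≫ θL := congrArg (fun f => f.hom.left) ha'
  have hm : IsOpenImmersion m :=
    inferInstanceAs (IsOpenImmersion
      (pullback.map p (ι ≫ U₁.hom) p U₁.hom (𝟙 X) ι (𝟙 S) (by simp) (by simp)))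
  have hθopen : IsOpenImmersion θL := IsOpenImmersion.of_isIso θL
  have hopen : IsOpenImmersion (a'.hom.left ≫ j.hom.left) := by
    rw [hfac]
    exact IsOpenImmersion.comp m θL
  have hopen' : IsOpenImmersion a'.hom.left := IsOpenImmersion.of_comp a'.hom.left j.hom.left
  have hsurj : Function.Surjective a'.hom.left.base := by
    intro v
    -- the point of `X ×_S U₁` mapping to `j v`
    obtain ⟨z₀, hz₀⟩ : ∃ z₀, θL.base z₀ = j.hom.left.base v :=
      ⟨θ.inv.hom.left.base (j.hom.left.base v), by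
        have := congrArg (fun f => f.base (j.hom.left.base v)) hθ2
        exact this⟩
    have hz₀W : z₀ ∈ Wopen j s := by
      change θL.base z₀ ∈ Set.range j.hom.left.base
      rw [hz₀]
      exact ⟨v, rfl⟩
    have hy : (pullback.snd p U₁.hom).base z₀ ∈ (T₀ j s : Set U₁.left) := ⟨z₀, hz₀W, rfl⟩
    have hrange : z₀ ∈ Set.range m.base := by
      rw [Scheme.Pullback.range_map]
      refine ⟨?_, ?_⟩
      · exact ⟨_, rfl⟩
      · change (pullback.snd p U₁.hom).base z₀ ∈ Set.range ι.base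
        rw [Scheme.Opens.range_ι]
        exact hy
    obtain ⟨z₁, hz₁⟩ := hrange
    refine ⟨z₁, ?_⟩
    apply j.hom.left.isOpenEmbedding.injective
    have e1 : (a'.hom.left ≫ j.hom.left).base z₁ = (m ≫ θL).base z₁ :=
      congrArg (fun f => f.base z₁) hfac
    change j.hom.left.base (a'.hom.left.base z₁) = θL.base (m.base z₁) at e1
    rw [e1, hz₁, hz₀]
  have hepi : Epi a'.hom.left.base := (TopCat.epi_iff_surjective _).mpr hsurj
  have hiso : IsIso a'.hom.left := IsOpenImmersion.isIso a'.hom.left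
  let ε : ((toDD p).obj (Over.mk (ι ≫ U₁.hom))).obj ≅ D.obj :=
    Over.isoMk (@asIso _ _ _ _ a'.hom.left hiso) (Over.w a'.hom)
  exact ⟨Over.mk (ι ≫ U₁.hom), ⟨isoMk _ _ ε a'.comm⟩⟩

end Groth.Agent.Lib.Helper5.DescFunctor
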