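import Mathlib
import Groth.Agent.Lib.Helper5.AffCore

/-!
# Flat base change of global sections along `Spec A' ⟶ Spec A` (helper5)
-/

set_option autoImplicit false
universe u
open CategoryTheory CategoryTheory.Limits AlgebraicGeometry TensorProduct

namespace Groth.Agent.Lib.Helper5.QAffFBC

open Groth.Agent.Lib.Helper5.AffCore

variable {A A' : Type u} [CommRing A] [CommRing A'] [Algebra A A']
  {W : Scheme.{u}} (c : W ⟶ Spec (CommRingCat.of A))

/-- `A ⟶ Γ(W)` -/
noncomputable def gam : CommRingCat.of A ⟶ Γ(W, ⊤) :=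
  (Scheme.ΓSpecIso (CommRingCat.of A)).inv ≫ c.appTop

variable (A') in
/-- `A' ⟶ Γ(Spec A' ×_{Spec A} W)` -/
noncomputable def iot : CommRingCat.of A' ⟶ Γ(pullback (pp A A') c, ⊤) :=
  (Scheme.ΓSpecIso (CommRingCat.of A')).inv ≫ (pullback.fst (pp A A') c).appTop

variable (A') in
/-- `Γ(W) ⟶ Γ(Spec A' ×_{Spec A} W)` -/
noncomputable def rho : Γ(W, ⊤) ⟶ Γ(pullback (pp A A') c, ⊤) :=
  (pullback.snd (pp A A') c).appTop

variable (A') in
/-- Flat base change for global sections of a qcqs scheme over `Spec A`. -/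
theorem fbc [Module.Flat A A'] [CompactSpace W] [QuasiSeparatedSpace W] :
    IsPushout (aA' A A') (gam c) (iot A' c) (rho A' c) := by
  have H : IsPullback (pullback.snd (pp A A') c) (pullback.fst (pp A A') c) c (pp A A') :=
    (IsPullback.of_hasPullback (pp A A') c).flip
  haveI : Flat (pp A A') := by
    rw [HasRingHomProperty.Spec_iff (P := @Flat)]
    exact (RingHom.flat_algebraMap_iff.mpr inferInstance)
  have hiso := isIso_pushoutSection_of_isQuasiSeparated_of_flat_right H
    (US := ⊤) (UT := ⊤) (UX := ⊤) (UY := ⊤) le_top le_top (by simp)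
    (isAffineOpen_top _) (isAffineOpen_top _) isCompact_univ isQuasiSeparated_univ
  have hpo := (isIso_pushoutSection_iff H _ _ _).mp hiso
  have e1 : c.appLE ⊤ ⊤ le_top = c.appTop := by simp [Scheme.Hom.appLE, Scheme.Hom.appTop]
  have e2 : (pp A A').appLE ⊤ ⊤ le_top = (pp A A').appTop := by
    simp [Scheme.Hom.appLE, Scheme.Hom.appTop]
  have e3 : (pullback.snd (pp A A') c).appLE ⊤ ⊤ (by simp) = (pullback.snd (pp A A') c).appTop := by
    simp [Scheme.Hom.appLE, Scheme.Hom.appTop]
  have e4 : (pullback.fst (pp A A') c).appLE ⊤ ⊤ (by simp) = (pullback.fst (pp A A') c).appTop := by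
    simp [Scheme.Hom.appLE, Scheme.Hom.appTop]
  rw [e1, e2, e3, e4] at hpo
  refine hpo.flip.of_iso (Scheme.ΓSpecIso (CommRingCat.of A)) (Scheme.ΓSpecIso (CommRingCat.of A'))
    (Iso.refl _) (Iso.refl _) ?_ ?_ ?_ ?_
  · exact Scheme.ΓSpecIso_naturality (aA' A A')
  · simp [gam]
  · simp [iot]
  · simp [rho]

end Groth.Agent.Lib.Helper5.QAffFBC
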