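import Mathlib
import Groth.Agent.Lib.Helper5.AffCore

/-!
# Ring-level descent data from pushout squares (helper5)

Abstract version of the extraction in `AffCore`: a ring map `ψC : M' ⟶ A' ⊗[A] M'` in `CommRingCat`
satisfying three categorical identities gives `ψ : M' →ₐ[A] A' ⊗[A] M'` with the hypotheses of
`RingDescent`.  We also produce such a `ψC` from "geometric" pushout data.
-/

set_option autoImplicit false
universe u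
open CategoryTheory CategoryTheory.Limits TensorProduct

namespace Groth.Agent.Lib.Helper5.QAffRing

open Groth.Agent.Lib.Helper5.AffCore Groth.Agent.Lib.Helper5

variable {A A' M' : Type u} [CommRing A] [CommRing A'] [CommRing M'] [Algebra A A'] [Algebra A M']
  [Algebra A' M'] [IsScalarTower A A' M']

section generic

variable (ψC : CommRingCat.of M' ⟶ BB A A' M')
  (c1 : aM' A' M' ≫ ψC = inl A A' M')

include c1 in
lemma psiC_algebraMap (x : A') : ψC.hom (algebraMap A' M' x) = x ⊗ₜ[A] (1 : M') :=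
  congrArg (fun f => f.hom x) c1

/-- `ψ` as an `A`-algebra map. -/
noncomputable def psi : M' →ₐ[A] A' ⊗[A] M' :=
  { ψC.hom with
    commutes' := fun a => by
      change ψC.hom (algebraMap A M' a) = _
      rw [IsScalarTower.algebraMap_apply A A' M', psiC_algebraMap ψC c1]
      rfl }

@[simp] lemma psi_apply (u : M') : psi ψC c1 u = ψC.hom u := rfl

lemma psi_alg (x : A') : psi ψC c1 (algebraMap A' M' x) = x ⊗ₜ[A] (1 : M') :=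
  psiC_algebraMap ψC c1 x

open RingDescent in
include c1 in
lemma psi_counit
    (c2 : ∀ hA, ψC ≫ (hPO A A' M').desc (aM' A' M') (𝟙 _) hA = 𝟙 _) (u : M') :
    mult A A' M' (psi ψC c1 u) = u := by
  have hA : aA' A A' ≫ aM' A' M' = aAM' A M' ≫ 𝟙 _ := by rw [Category.comp_id, aAM'_eq A A' M']
  have h := c2 hA
  have hd : (hPO A A' M').desc (aM' A' M') (𝟙 _) hA =
      CommRingCat.ofHom (mult A A' M').toRingHom := by
    apply (hPO A A' M').hom_ext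
    · rw [(hPO A A' M').inl_desc]
      ext x
      change _ = mult A A' M' (x ⊗ₜ[A] (1 : M'))
      simp
    · rw [(hPO A A' M').inr_desc]
      ext m
      change _ = mult A A' M' ((1 : A') ⊗ₜ[A] m)
      simp
  rw [hd] at h
  exact congrArg (fun f => f.hom u) h

open RingDescent in
lemma psi_coassoc
    (c3 : ∀ hA₂ hA₃, ψC ≫ (hPO A A' M').desc (inl₃ A A' M') (ψC ≫ inr₃ A A' M') hA₂ =
      ψC ≫ (hPO A A' M').desc (inl₃ A A' M') (inr A A' M' ≫ inr₃ A A' M') hA₃) (u : M') :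
    idTensor (psi ψC c1) (psi ψC c1 u) = i13 A A' M' (psi ψC c1 u) := by
  have hA₃ : aA' A A' ≫ inl₃ A A' M' = aAM' A M' ≫ inr A A' M' ≫ inr₃ A A' M' := by
    rw [w₃, ← Category.assoc, w₂, Category.assoc]
  have hA₂ : aA' A A' ≫ inl₃ A A' M' = aAM' A M' ≫ ψC ≫ inr₃ A A' M' := by
    rw [w₃, aAM'_eq A A' M', Category.assoc, ← Category.assoc (aM' A' M'), c1]
  have h := c3 hA₂ hA₃
  have hd₂ : (hPO A A' M').desc (inl₃ A A' M') (ψC ≫ inr₃ A A' M') hA₂ =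
      CommRingCat.ofHom (idTensor (psi ψC c1)).toRingHom := by
    apply (hPO A A' M').hom_ext
    · rw [(hPO A A' M').inl_desc]
      ext x
      change _ = idTensor (psi ψC c1) (x ⊗ₜ[A] (1 : M'))
      simp
    · rw [(hPO A A' M').inr_desc]
      ext m
      change _ = idTensor (psi ψC c1) ((1 : A') ⊗ₜ[A] m)
      simp
  have hd₃ : (hPO A A' M').desc (inl₃ A A' M') (inr A A' M' ≫ inr₃ A A' M') hA₃ =
      CommRingCat.ofHom (i13 A A' M').toRingHom := by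
    apply (hPO A A' M').hom_ext
    · rw [(hPO A A' M').inl_desc]
      ext x
      change _ = i13 A A' M' (x ⊗ₜ[A] (1 : M'))
      simp
      rfl
    · rw [(hPO A A' M').inr_desc]
      ext m
      change _ = i13 A A' M' ((1 : A') ⊗ₜ[A] m)
      simp
  rw [hd₂, hd₃] at h
  exact congrArg (fun f => f.hom u) h

end generic

section abstract

variable {N₁ N₂ : CommRingCat.{u}} (ι₁ : CommRingCat.of A' ⟶ N₁) (ρ₁ : CommRingCat.of M' ⟶ N₁)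
  (β : CommRingCat.of M' ⟶ N₁) (δ : N₁ ⟶ CommRingCat.of M')
  (ι₂ : CommRingCat.of A' ⟶ N₂) (ρ₂ : N₁ ⟶ N₂) (β₂ ρ₂' : N₁ ⟶ N₂)
  (PO1 : IsPushout (aA' A A') (aAM' A M') ι₁ ρ₁)
  (PO2 : IsPushout (aA' A A') (aAM' A M' ≫ ρ₁) ι₂ ρ₂)

/-- the comparison `N₁ ≅ A' ⊗[A] M'` -/
noncomputable def e₁ : N₁ ≅ BB A A' M' := PO1.isoIsPushout _ _ (hPO A A' M')

lemma ι₁_e₁ : ι₁ ≫ (e₁ ι₁ ρ₁ PO1).hom = inl A A' M' := PO1.inl_isoIsPushout_hom _ _ _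
lemma ρ₁_e₁ : ρ₁ ≫ (e₁ ι₁ ρ₁ PO1).hom = inr A A' M' := PO1.inr_isoIsPushout_hom _ _ _

/-- the transport map -/
noncomputable def psiC : CommRingCat.of M' ⟶ BB A A' M' := β ≫ (e₁ ι₁ ρ₁ PO1).hom

lemma c1 (r1 : aM' A' M' ≫ β = ι₁) : aM' A' M' ≫ psiC ι₁ ρ₁ β PO1 = inl A A' M' := by
  unfold psiC
  rw [← Category.assoc, r1, ι₁_e₁]

include δ in
lemma c2 (r2a : β ≫ δ = 𝟙 _) (r2b : ι₁ ≫ δ = aM' A' M') (r2c : ρ₁ ≫ δ = 𝟙 _)
    (hA : aA' A A' ≫ aM' A' M' = aAM' A M' ≫ 𝟙 _) :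
    psiC ι₁ ρ₁ β PO1 ≫ (hPO A A' M').desc (aM' A' M') (𝟙 _) hA = 𝟙 _ := by
  have h : (e₁ ι₁ ρ₁ PO1).hom ≫ (hPO A A' M').desc (aM' A' M') (𝟙 _) hA = δ := by
    apply PO1.hom_ext
    · rw [← Category.assoc, ι₁_e₁, (hPO A A' M').inl_desc, r2b]
    · rw [← Category.assoc, ρ₁_e₁, (hPO A A' M').inr_desc, r2c]
  unfold psiC
  rw [Category.assoc, h, r2a]

/-- the comparison `N₂ ⟶ A' ⊗[A] (A' ⊗[A] M')` -/
noncomputable def e₂ : N₂ ⟶ CC A A' M' :=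
  PO2.desc (inl₃ A A' M') ((e₁ ι₁ ρ₁ PO1).hom ≫ inr₃ A A' M') (by
    rw [Category.assoc, ← Category.assoc ρ₁, ρ₁_e₁, w₃, ← Category.assoc (aA' A A'), w₂,
      Category.assoc])

lemma ι₂_e₂ : ι₂ ≫ e₂ ι₁ ρ₁ ι₂ ρ₂ PO1 PO2 = inl₃ A A' M' := PO2.inl_desc _ _ _
lemma ρ₂_e₂ : ρ₂ ≫ e₂ ι₁ ρ₁ ι₂ ρ₂ PO1 PO2 = (e₁ ι₁ ρ₁ PO1).hom ≫ inr₃ A A' M' :=
  PO2.inr_desc _ _ _

include ι₂ ρ₂ β₂ ρ₂' PO2 in
lemma c3 (r3 : β ≫ β₂ = β ≫ ρ₂')
    (r4a : ι₁ ≫ β₂ = ι₂) (r4b : ρ₁ ≫ β₂ = β ≫ ρ₂) (r4c : ι₁ ≫ ρ₂' = ι₂)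
    (r4d : ρ₁ ≫ ρ₂' = ρ₁ ≫ ρ₂)
    (hA₂ : aA' A A' ≫ inl₃ A A' M' = aAM' A M' ≫ psiC ι₁ ρ₁ β PO1 ≫ inr₃ A A' M')
    (hA₃ : aA' A A' ≫ inl₃ A A' M' = aAM' A M' ≫ inr A A' M' ≫ inr₃ A A' M') :
    psiC ι₁ ρ₁ β PO1 ≫ (hPO A A' M').desc (inl₃ A A' M') (psiC ι₁ ρ₁ β PO1 ≫ inr₃ A A' M') hA₂ =
      psiC ι₁ ρ₁ β PO1 ≫
        (hPO A A' M').desc (inl₃ A A' M') (inr A A' M' ≫ inr₃ A A' M') hA₃ := by
  have h2 : (e₁ ι₁ ρ₁ PO1).hom ≫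
      (hPO A A' M').desc (inl₃ A A' M') (psiC ι₁ ρ₁ β PO1 ≫ inr₃ A A' M') hA₂ =
      β₂ ≫ e₂ ι₁ ρ₁ ι₂ ρ₂ PO1 PO2 := by
    apply PO1.hom_ext
    · rw [← Category.assoc, ι₁_e₁, (hPO A A' M').inl_desc, ← Category.assoc, r4a, ι₂_e₂]
    · rw [← Category.assoc, ρ₁_e₁, (hPO A A' M').inr_desc, ← Category.assoc, r4b, Category.assoc,
        ρ₂_e₂]
      unfold psiC
      rw [Category.assoc]
  have h3 : (e₁ ι₁ ρ₁ PO1).hom ≫
      (hPO A A' M').desc (inl₃ A A' M') (inr A A' M' ≫ inr₃ A A' M') hA₃ =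
      ρ₂' ≫ e₂ ι₁ ρ₁ ι₂ ρ₂ PO1 PO2 := by
    apply PO1.hom_ext
    · rw [← Category.assoc, ι₁_e₁, (hPO A A' M').inl_desc, ← Category.assoc, r4c, ι₂_e₂]
    · rw [← Category.assoc, ρ₁_e₁, (hPO A A' M').inr_desc, ← Category.assoc, r4d, Category.assoc,
        ρ₂_e₂, ← Category.assoc, ρ₁_e₁]
  refine (Category.assoc β (e₁ ι₁ ρ₁ PO1).hom _).trans ?_
  refine Eq.trans ?_ (Category.assoc β (e₁ ι₁ ρ₁ PO1).hom _).symm
  rw [h2, h3, ← Category.assoc, ← Category.assoc, r3]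

end abstract

end Groth.Agent.Lib.Helper5.QAffRing
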