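import Mathlib
import Groth.Prelude.Def_Desc
import Groth.Agent.Lib.Helper5.DescRepEff
import Groth.Agent.Lib.Helper5.DescOpenSub
import Groth.Agent.Lib.Helper5.QAffRing
import Groth.Agent.Lib.Helper5.QAffFBC
import Groth.Agent.Lib.Helper5.RingDescent

/-!
# The quasi-affine core of effective descent (helper5)

`p = Spec(A → A')` faithfully flat, `D : Desc.SchDD p` with `D.obj.left` a quasi-affine scheme.
Then `D` is effective.
-/

set_option autoImplicit false
universe u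
open CategoryTheory CategoryTheory.Limits AlgebraicGeometry TensorProduct Desc

namespace Groth.Agent.Lib.Helper5.QAffCore

open Groth.Agent.Lib.Helper5.AffCore Groth.Agent.Lib.Helper5.DescFunctor
  Groth.Agent.Lib.Helper5.QAffFBC Groth.Agent.Lib.Helper5

variable {A A' : Type u} [CommRing A] [CommRing A'] [Algebra A A'] (D : SchDD (pp A A'))

/-- the underlying scheme -/
noncomputable abbrev VV : Scheme.{u} := D.obj.left

/-- the structure morphism -/
noncomputable abbrev ppi : VV D ⟶ Spec (CommRingCat.of A') := D.obj.hom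

/-- the structure morphism to `Spec A` -/
noncomputable abbrev cc₁ : VV D ⟶ Spec (CommRingCat.of A) := ppi D ≫ pp A A'

/-- `Spec A' ×_{Spec A} V` -/
noncomputable abbrev PP₁ : Scheme.{u} := pullback (pp A A') (cc₁ D)

/-- the action morphism `Spec A' ×_{Spec A} V ⟶ V` -/
noncomputable def bb : PP₁ D ⟶ VV D := (actSec D).a.hom.left

lemma bb_ppi : bb D ≫ ppi D = pullback.fst (pp A A') (cc₁ D) := Over.w (actSec D).a.hom

lemma lift_bb {T : Scheme.{u}} (x : T ⟶ Spec (CommRingCat.of A')) (w : T ⟶ VV D)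
    (h : x ≫ pp A A' = w ≫ cc₁ D) :
    pullback.lift x w h ≫ bb D =
      (D.φ (w ≫ ppi D) x (by rw [Category.assoc]; exact h.symm) ⟨w, rfl⟩).1 := by
  have h' : x ≫ pp A A' = w ≫ D.obj.hom ≫ pp A A' := h
  rw [← actSec_pt D x w h']
  exact (Sec.pt_val (actSec D) x w h').symm

/-- the unit section -/
noncomputable def dd : VV D ⟶ PP₁ D := pullback.lift (ppi D) (𝟙 _) (by simp)

lemma dd_bb : dd D ≫ bb D = 𝟙 _ := by
  unfold dd
  rw [lift_bb]
  exact φ_self' D _ _ (Category.id_comp _)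

lemma dd_fst : dd D ≫ pullback.fst (pp A A') (cc₁ D) = ppi D := pullback.lift_fst _ _ _
lemma dd_snd : dd D ≫ pullback.snd (pp A A') (cc₁ D) = 𝟙 _ := pullback.lift_snd _ _ _

/-- the structure morphism `P₁ ⟶ Spec A` -/
noncomputable abbrev cc₂ : PP₁ D ⟶ Spec (CommRingCat.of A) :=
  pullback.snd (pp A A') (cc₁ D) ≫ cc₁ D

/-- `Spec A' ×_{Spec A} P₁` -/
noncomputable abbrev PP₂ : Scheme.{u} := pullback (pp A A') (cc₂ D)

lemma bb_cc₁ : bb D ≫ cc₁ D = cc₂ D := by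
  rw [← Category.assoc, bb_ppi, pullback.condition]

/-- `(x', (x, w)) ↦ (x', b(x, w))` -/
noncomputable def bX : PP₂ D ⟶ PP₁ D :=
  pullback.lift (pullback.fst (pp A A') (cc₂ D)) (pullback.snd (pp A A') (cc₂ D) ≫ bb D) (by
    rw [Category.assoc, bb_cc₁, pullback.condition])

/-- `(x', (x, w)) ↦ (x', w)` -/
noncomputable def prX : PP₂ D ⟶ PP₁ D :=
  pullback.lift (pullback.fst (pp A A') (cc₂ D))
    (pullback.snd (pp A A') (cc₂ D) ≫ pullback.snd (pp A A') (cc₁ D)) (by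
    rw [Category.assoc, pullback.condition])

lemma bX_fst : bX D ≫ pullback.fst (pp A A') (cc₁ D) = pullback.fst (pp A A') (cc₂ D) :=
  pullback.lift_fst _ _ _
lemma bX_snd : bX D ≫ pullback.snd (pp A A') (cc₁ D) = pullback.snd (pp A A') (cc₂ D) ≫ bb D :=
  pullback.lift_snd _ _ _
lemma prX_fst : prX D ≫ pullback.fst (pp A A') (cc₁ D) = pullback.fst (pp A A') (cc₂ D) :=
  pullback.lift_fst _ _ _
lemma prX_snd : prX D ≫ pullback.snd (pp A A') (cc₁ D) =
    pullback.snd (pp A A') (cc₂ D) ≫ pullback.snd (pp A A') (cc₁ D) :=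
  pullback.lift_snd _ _ _

lemma lift_eta {T : Scheme.{u}} (f : T ⟶ PP₁ D) :
    f = pullback.lift (f ≫ pullback.fst (pp A A') (cc₁ D)) (f ≫ pullback.snd (pp A A') (cc₁ D))
      (by rw [Category.assoc, Category.assoc, pullback.condition]) := by
  apply pullback.hom_ext
  · rw [pullback.lift_fst]
  · rw [pullback.lift_snd]

/-- the cocycle identity -/
lemma bX_bb : bX D ≫ bb D = prX D ≫ bb D := by
  rw [lift_eta D (bX D), lift_eta D (prX D), lift_bb, lift_bb]
  set s₂ := pullback.snd (pp A A') (cc₂ D) with hs₂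
  set w : PP₂ D ⟶ VV D := s₂ ≫ pullback.snd (pp A A') (cc₁ D) with hw
  have hc : (s₂ ≫ pullback.fst (pp A A') (cc₁ D)) ≫ pp A A' = w ≫ cc₁ D := by
    rw [Category.assoc, pullback.condition, Category.assoc]
  have e3 : s₂ ≫ bb D = (D.φ (w ≫ ppi D) (s₂ ≫ pullback.fst (pp A A') (cc₁ D))
      (by rw [Category.assoc]; exact hc.symm) ⟨w, rfl⟩).1 := by
    rw [← lift_bb D _ w hc]
    congr 1
    exact lift_eta D s₂
  have h02 : (w ≫ ppi D) ≫ pp A A' = pullback.fst (pp A A') (cc₂ D) ≫ pp A A' := by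
    rw [pullback.condition, Category.assoc, Category.assoc]
  have key : ∀ (x₂ x₂' : PP₂ D ⟶ Spec (CommRingCat.of A')) (u w' : PP₂ D ⟶ VV D)
      (h1 : (u ≫ ppi D) ≫ pp A A' = x₂ ≫ pp A A') (h2 : (w' ≫ ppi D) ≫ pp A A' = x₂' ≫ pp A A'),
      x₂ = pullback.fst (pp A A') (cc₂ D) → x₂' = pullback.fst (pp A A') (cc₂ D) →
      u = s₂ ≫ bb D → w' = w →
      (D.φ (u ≫ ppi D) x₂ h1 ⟨u, rfl⟩).1 = (D.φ (w' ≫ ppi D) x₂' h2 ⟨w', rfl⟩).1 := by
    intro x₂ x₂' u w' h1 h2 e1 e2 e4 e5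
    subst e1 e2 e5
    have h01 : (w ≫ ppi D) ≫ pp A A' = (s₂ ≫ pullback.fst (pp A A') (cc₁ D)) ≫ pp A A' := by
      rw [Category.assoc]; exact hc.symm
    refine φ_comp'' D (w ≫ ppi D) (s₂ ≫ pullback.fst (pp A A') (cc₁ D)) _ _ h01 _ h02 ⟨w, rfl⟩ _ ?_
      ?_
    · rw [e4, Category.assoc, bb_ppi]
    · change u = _
      rw [e4, e3]
  exact key _ _ _ _ _ _ (bX_fst D) (prX_fst D) (bX_snd D) (prX_snd D)

/-! ### Ring data -/

/-- carrier of the global sections of `V` -/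
def GV : Type u := Γ(VV D, ⊤)

noncomputable instance : CommRing (GV D) := inferInstanceAs (CommRing Γ(VV D, ⊤))

/-- `A' ⟶ Γ(V)` -/
noncomputable def strA' : CommRingCat.of A' ⟶ CommRingCat.of (GV D) :=
  (Scheme.ΓSpecIso (CommRingCat.of A')).inv ≫ (ppi D).appTop

noncomputable instance : Algebra A' (GV D) := (strA' D).hom.toAlgebra
noncomputable instance : Algebra A (GV D) := (aA' A A' ≫ strA' D).hom.toAlgebra
instance : IsScalarTower A A' (GV D) := IsScalarTower.of_algebraMap_eq fun _ => rfl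

lemma aM'_GV : aM' A' (GV D) = strA' D := rfl

lemma gam_comp {W W' : Scheme.{u}} (g : W' ⟶ W) (c : W ⟶ Spec (CommRingCat.of A)) :
    gam (g ≫ c) = gam c ≫ g.appTop := by
  unfold gam
  rw [Scheme.Hom.comp_appTop, Category.assoc]

lemma gam_pp : gam (pp A A') = aA' A A' ≫ (Scheme.ΓSpecIso (CommRingCat.of A')).inv := by
  unfold gam
  rw [Iso.inv_comp_eq, ← Category.assoc, Iso.eq_comp_inv]
  exact Scheme.ΓSpecIso_naturality (aA' A A')

lemma aAM'_GV : aAM' A (GV D) = gam (cc₁ D) := by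
  rw [gam_comp, gam_pp, Category.assoc]
  rfl

/-- `Γ(P₁)` -/
noncomputable abbrev NN₁ : CommRingCat.{u} := Γ(PP₁ D, ⊤)
/-- `Γ(P₂)` -/
noncomputable abbrev NN₂ : CommRingCat.{u} := Γ(PP₂ D, ⊤)

/-- `ι₁` -/
noncomputable abbrev io₁ : CommRingCat.of A' ⟶ NN₁ D := iot A' (cc₁ D)
/-- `ρ₁` -/
noncomputable def rh₁ : CommRingCat.of (GV D) ⟶ NN₁ D := rho A' (cc₁ D)
/-- `β` -/
noncomputable def be : CommRingCat.of (GV D) ⟶ NN₁ D := (bb D).appTop
/-- `δ` -/
noncomputable def de : NN₁ D ⟶ CommRingCat.of (GV D) := (dd D).appTop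
/-- `ι₂` -/
noncomputable abbrev io₂ : CommRingCat.of A' ⟶ NN₂ D := iot A' (cc₂ D)
/-- `ρ₂` -/
noncomputable abbrev rh₂ : NN₁ D ⟶ NN₂ D := rho A' (cc₂ D)
/-- `β₂` -/
noncomputable def be₂ : NN₁ D ⟶ NN₂ D := (bX D).appTop
/-- `ρ₂'` -/
noncomputable def rh₂' : NN₁ D ⟶ NN₂ D := (prX D).appTop

lemma r1 : aM' A' (GV D) ≫ be D = io₁ D := by
  show ((Scheme.ΓSpecIso (CommRingCat.of A')).inv ≫ (ppi D).appTop) ≫ (bb D).appTop =
    (Scheme.ΓSpecIso (CommRingCat.of A')).inv ≫ (pullback.fst (pp A A') (cc₁ D)).appTop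
  rw [Category.assoc, ← Scheme.Hom.comp_appTop, bb_ppi]

lemma r2a : be D ≫ de D = 𝟙 _ := by
  show (bb D).appTop ≫ (dd D).appTop = 𝟙 Γ(VV D, ⊤)
  rw [← Scheme.Hom.comp_appTop, dd_bb]
  rfl

lemma r2b : io₁ D ≫ de D = aM' A' (GV D) := by
  show ((Scheme.ΓSpecIso (CommRingCat.of A')).inv ≫ (pullback.fst (pp A A') (cc₁ D)).appTop) ≫
    (dd D).appTop = (Scheme.ΓSpecIso (CommRingCat.of A')).inv ≫ (ppi D).appTop
  rw [Category.assoc, ← Scheme.Hom.comp_appTop, dd_fst]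

lemma r2c : rh₁ D ≫ de D = 𝟙 _ := by
  show (pullback.snd (pp A A') (cc₁ D)).appTop ≫ (dd D).appTop = 𝟙 Γ(VV D, ⊤)
  rw [← Scheme.Hom.comp_appTop, dd_snd]
  rfl

lemma r3 : be D ≫ be₂ D = be D ≫ rh₂' D := by
  show (bb D).appTop ≫ (bX D).appTop = (bb D).appTop ≫ (prX D).appTop
  rw [← Scheme.Hom.comp_appTop, ← Scheme.Hom.comp_appTop, bX_bb]

lemma r4a : io₁ D ≫ be₂ D = io₂ D := by
  show ((Scheme.ΓSpecIso (CommRingCat.of A')).inv ≫ (pullback.fst (pp A A') (cc₁ D)).appTop) ≫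
    (bX D).appTop = (Scheme.ΓSpecIso (CommRingCat.of A')).inv ≫
      (pullback.fst (pp A A') (cc₂ D)).appTop
  rw [Category.assoc, ← Scheme.Hom.comp_appTop, bX_fst]

lemma r4b : rh₁ D ≫ be₂ D = be D ≫ rh₂ D := by
  show (pullback.snd (pp A A') (cc₁ D)).appTop ≫ (bX D).appTop =
    (bb D).appTop ≫ (pullback.snd (pp A A') (cc₂ D)).appTop
  rw [← Scheme.Hom.comp_appTop, ← Scheme.Hom.comp_appTop, bX_snd]

lemma r4c : io₁ D ≫ rh₂' D = io₂ D := by
  show ((Scheme.ΓSpecIso (CommRingCat.of A')).inv ≫ (pullback.fst (pp A A') (cc₁ D)).appTop) ≫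
    (prX D).appTop = (Scheme.ΓSpecIso (CommRingCat.of A')).inv ≫
      (pullback.fst (pp A A') (cc₂ D)).appTop
  rw [Category.assoc, ← Scheme.Hom.comp_appTop, prX_fst]

lemma r4d : rh₁ D ≫ rh₂' D = rh₁ D ≫ rh₂ D := by
  show (pullback.snd (pp A A') (cc₁ D)).appTop ≫ (prX D).appTop =
    (pullback.snd (pp A A') (cc₁ D)).appTop ≫ (pullback.snd (pp A A') (cc₂ D)).appTop
  rw [← Scheme.Hom.comp_appTop, ← Scheme.Hom.comp_appTop, prX_snd]

section descent

variable [Module.FaithfullyFlat A A'] [CompactSpace (VV D)] [QuasiSeparatedSpace (VV D)]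

lemma PO1 : IsPushout (aA' A A') (aAM' A (GV D)) (io₁ D) (rh₁ D) := by
  rw [aAM'_GV]
  exact fbc A' (cc₁ D)

instance : CompactSpace (PP₁ D) := by
  haveI : QuasiCompact (pullback.snd (pp A A') (cc₁ D)) :=
    MorphismProperty.pullback_snd (P := @QuasiCompact) _ _ inferInstance
  exact QuasiCompact.compactSpace_of_compactSpace (pullback.snd (pp A A') (cc₁ D))

instance : QuasiSeparatedSpace (PP₁ D) := by
  haveI : IsAffineHom (pullback.snd (pp A A') (cc₁ D)) :=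
    MorphismProperty.pullback_snd (P := @IsAffineHom) _ _ inferInstance
  exact quasiSeparatedSpace_of_quasiSeparated (pullback.snd (pp A A') (cc₁ D))

lemma PO2 : IsPushout (aA' A A') (aAM' A (GV D) ≫ rh₁ D) (io₂ D) (rh₂ D) := by
  have h := fbc A' (cc₂ D)
  rw [gam_comp, ← aAM'_GV] at h
  exact h

/-- the ring-level descent datum -/
noncomputable def psiC : CommRingCat.of (GV D) ⟶ BB A A' (GV D) :=
  QAffRing.psiC (io₁ D) (rh₁ D) (be D) (PO1 D)

lemma psiC_c1 : aM' A' (GV D) ≫ psiC D = inl A A' (GV D) :=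
  QAffRing.c1 (io₁ D) (rh₁ D) (be D) (PO1 D) (r1 D)

/-- `ψ : M' →ₐ[A] A' ⊗[A] M'` -/
noncomputable def psi : GV D →ₐ[A] A' ⊗[A] GV D := QAffRing.psi (psiC D) (psiC_c1 D)

lemma psi_alg (x : A') : psi D (algebraMap A' (GV D) x) = x ⊗ₜ[A] (1 : GV D) :=
  QAffRing.psi_alg (psiC D) (psiC_c1 D) x

open RingDescent in
lemma psi_counit (u : GV D) : mult A A' (GV D) (psi D u) = u :=
  QAffRing.psi_counit (psiC D) (psiC_c1 D)
    (fun hA => QAffRing.c2 (io₁ D) (rh₁ D) (be D) (de D) (PO1 D) (r2a D) (r2b D) (r2c D) hA) u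

open RingDescent in
lemma psi_coassoc (u : GV D) : idTensor (psi D) (psi D u) = i13 A A' (GV D) (psi D u) :=
  QAffRing.psi_coassoc (psiC D) (psiC_c1 D)
    (fun hA₂ hA₃ => QAffRing.c3 (io₁ D) (rh₁ D) (be D) (io₂ D) (rh₂ D) (be₂ D) (rh₂' D) (PO1 D)
      (PO2 D) (r3 D) (r4a D) (r4b D) (r4c D) (r4d D) hA₂ hA₃) u

open RingDescent

/-- The descended algebra. -/
noncomputable abbrev MM : Subalgebra A (GV D) := descSub (psi D)

/-- The comparison isomorphism `A' ⊗[A] M ≃ M'`. -/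
noncomputable def lamE : A' ⊗[A] (MM D) ≃ₐ[A] GV D :=
  lamEquiv (psi D) (psi_alg D) (psi_counit D) (psi_coassoc D)

lemma lamE_tmul (x : A') (u : MM D) :
    lamE D (x ⊗ₜ[A] u) = algebraMap A' (GV D) x * (u : GV D) := by
  simp [lamE, lamEquiv]

/-- The descended (affine) scheme. -/
noncomputable abbrev UU : Over (Spec (CommRingCat.of A)) :=
  Over.mk (Spec.map (CommRingCat.ofHom (algebraMap A (MM D))))

/-- inclusions into `A' ⊗[A] M`. -/
noncomputable abbrev inlM : CommRingCat.of A' ⟶ CommRingCat.of (A' ⊗[A] (MM D)) :=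
  CommRingCat.ofHom (Algebra.TensorProduct.includeLeftRingHom)
/-- inclusions into `A' ⊗[A] M`. -/
noncomputable abbrev inrM : CommRingCat.of (MM D) ⟶ CommRingCat.of (A' ⊗[A] (MM D)) :=
  CommRingCat.ofHom (Algebra.TensorProduct.includeRight.toRingHom)

/-- `λ⁻¹ : M' → A' ⊗ M` as a morphism of rings. -/
noncomputable abbrev lamInv : CommRingCat.of (GV D) ⟶ CommRingCat.of (A' ⊗[A] (MM D)) :=
  CommRingCat.ofHom ((lamE D).symm : GV D →+* A' ⊗[A] (MM D))

/-- `λ` as a morphism of rings. -/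
noncomputable abbrev lamHom : CommRingCat.of (A' ⊗[A] (MM D)) ⟶ CommRingCat.of (GV D) :=
  CommRingCat.ofHom ((lamE D) : A' ⊗[A] (MM D) →+* GV D)

lemma lamHom_lamInv : lamHom D ≫ lamInv D = 𝟙 _ :=
  CommRingCat.hom_ext (RingHom.ext fun x => (lamE D).symm_apply_apply x)

lemma lamInv_lamHom : lamInv D ≫ lamHom D = 𝟙 _ :=
  CommRingCat.hom_ext (RingHom.ext fun x => (lamE D).apply_symm_apply x)

lemma inlM_lamHom : inlM D ≫ lamHom D = aM' A' (GV D) := by
  ext x
  change lamE D (x ⊗ₜ[A] (1 : MM D)) = _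
  rw [lamE_tmul]
  simp

/-- the inclusion `M → M'` -/
noncomputable abbrev valM : CommRingCat.of (MM D) ⟶ CommRingCat.of (GV D) :=
  CommRingCat.ofHom ((MM D).val : (MM D) →+* GV D)

lemma inrM_lamHom : inrM D ≫ lamHom D = valM D := by
  refine CommRingCat.hom_ext (RingHom.ext fun u => ?_)
  change lamE D ((1 : A') ⊗ₜ[A] u) = _
  rw [lamE_tmul]
  simp

lemma valM_psiC : valM D ≫ psiC D = valM D ≫ inr A A' (GV D) := by
  refine CommRingCat.hom_ext (RingHom.ext fun u => ?_)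
  exact (mem_descSub (psi D) (u : GV D)).1 u.2

lemma valM_be : valM D ≫ be D = valM D ≫ rh₁ D := by
  have h := valM_psiC D
  unfold psiC QAffRing.psiC at h
  rw [← QAffRing.ρ₁_e₁ (io₁ D) (rh₁ D) (PO1 D), ← Category.assoc, ← Category.assoc] at h
  exact (cancel_mono _).1 h

lemma algMap_valM : CommRingCat.ofHom (algebraMap A (MM D)) ≫ valM D = aAM' A (GV D) := rfl

lemma to_spec_eq {W : Scheme.{u}} {R : CommRingCat.{u}} (f : W ⟶ Spec R) :
    W.toSpecΓ ≫ Spec.map ((Scheme.ΓSpecIso R).inv ≫ f.appTop) = f := by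
  rw [Spec.map_comp, ← Category.assoc, ← Scheme.toSpecΓ_naturality, Category.assoc,
    toSpecΓ_SpecMap_ΓSpecIso_inv, Category.comp_id]

/-- `V ⟶ Spec Γ(V)` -/
noncomputable def tG : VV D ⟶ Spec (CommRingCat.of (GV D)) := (VV D).toSpecΓ

lemma tG_strA' : tG D ≫ Spec.map (strA' D) = ppi D := to_spec_eq (ppi D)

/-- `κ : V ⟶ Spec M` -/
noncomputable def kap : VV D ⟶ Spec (CommRingCat.of (MM D)) := tG D ≫ Spec.map (valM D)

/-- the open immersion `V ⟶ Spec A' ×_{Spec A} Spec M` -/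
noncomputable def jj₀ : VV D ⟶ pullback (pp A A') (UU D).hom :=
  tG D ≫ Spec.map (lamHom D) ≫ (pullbackSpecIso A A' (MM D)).inv

lemma jj₀_fst : jj₀ D ≫ pullback.fst (pp A A') (UU D).hom = ppi D := by
  unfold jj₀
  rw [Category.assoc, Category.assoc]
  erw [pullbackSpecIso_inv_fst A A' (MM D)]
  rw [← Spec.map_comp]
  erw [inlM_lamHom D]
  exact tG_strA' D

lemma jj₀_snd : jj₀ D ≫ pullback.snd (pp A A') (UU D).hom = kap D := by
  unfold jj₀ kap
  rw [Category.assoc, Category.assoc]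
  erw [pullbackSpecIso_inv_snd A A' (MM D)]
  rw [← Spec.map_comp]
  erw [inrM_lamHom D]

lemma isIso_lamHom : IsIso (lamHom D) := ⟨lamInv D, lamHom_lamInv D, lamInv_lamHom D⟩

lemma isOpenImmersion_jj₀ [IsOpenImmersion (VV D).toSpecΓ] : IsOpenImmersion (jj₀ D) := by
  haveI := isIso_lamHom D
  haveI : IsOpenImmersion (tG D) := ‹IsOpenImmersion (VV D).toSpecΓ›
  unfold jj₀
  infer_instance

lemma kap_appTop : (kap D).appTop = (Scheme.ΓSpecIso (CommRingCat.of (MM D))).hom ≫ valM D := by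
  unfold kap tG
  rw [Scheme.Hom.comp_appTop]
  erw [Scheme.toSpecΓ_appTop]
  exact Scheme.ΓSpecIso_naturality (valM D)

lemma bb_kap : bb D ≫ kap D = pullback.snd (pp A A') (cc₁ D) ≫ kap D := by
  apply ext_of_isAffine
  rw [Scheme.Hom.comp_appTop, Scheme.Hom.comp_appTop, kap_appTop]
  have h := congrArg (fun t => (Scheme.ΓSpecIso (CommRingCat.of (MM D))).hom ≫ t) (valM_be D)
  simp only [← Category.assoc] at h
  exact h

/-- invariance of `κ` under the gluing bijections -/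
lemma φ_kap {T : Scheme.{u}} (x₀ x₁ : T ⟶ Spec (CommRingCat.of A'))
    (h : x₀ ≫ pp A A' = x₁ ≫ pp A A') (v : Lifts D.obj x₀) :
    (D.φ x₀ x₁ h v).1 ≫ kap D = v.1 ≫ kap D := by
  have hv : v.1 ≫ ppi D = x₀ := v.2
  have hc : x₁ ≫ pp A A' = v.1 ≫ cc₁ D := by rw [← Category.assoc, hv, h]
  have e : (D.φ x₀ x₁ h v).1 = pullback.lift x₁ v.1 hc ≫ bb D := by
    rw [lift_bb]
    exact φ_congr D _ _ _ _ hv.symm rfl rfl
  rw [e, Category.assoc, bb_kap, ← Category.assoc, pullback.lift_snd]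

/-- the open immersion of descent data `D ⟶ toDD (Spec M)` -/
noncomputable def jj : D ⟶ (toDD (pp A A')).obj (UU D) where
  hom := Over.homMk (jj₀ D) (jj₀_fst D)
  comm T x₀ x₁ h v w hw := by
    change w.1 = v.1 ≫ jj₀ D at hw
    change pullback.lift x₁ (w.1 ≫ pullback.snd (pp A A') (UU D).hom) _ =
      (D.φ x₀ x₁ h v).1 ≫ jj₀ D
    apply pullback.hom_ext
    · rw [pullback.lift_fst, Category.assoc, jj₀_fst]
      exact ((D.φ x₀ x₁ h v).2).symm
    · rw [pullback.lift_snd, Category.assoc, jj₀_snd, φ_kap, hw]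
      exact (Category.assoc _ _ _).trans (congrArg (fun t => v.1 ≫ t) (jj₀_snd D))

lemma jj_hom_left : (jj D).hom.left = jj₀ D := rfl

end descent

/-- **The quasi-affine core**: descent data relative to a faithfully flat morphism of affine
schemes whose underlying scheme is quasi-affine are effective. -/
theorem qaff_core [Module.FaithfullyFlat A A'] [(VV D).IsQuasiAffine] :
    ∃ U : Over (Spec (CommRingCat.of A)), Nonempty ((toDD (pp A A')).obj U ≅ D) := by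
  haveI : QuasiSeparatedSpace (VV D) := by
    haveI : QuasiSeparated (terminal.from (VV D)) := inferInstance
    exact (quasiSeparatedSpace_iff_quasiSeparated (VV D)).mpr inferInstance
  haveI : IsOpenImmersion (jj D).hom.left := isOpenImmersion_jj₀ D
  have hfs : Flat (pp A A') ∧ Surjective (pp A A') :=
    (flat_and_surjective_SpecMap_iff (aA' A A')).mpr
      (RingHom.faithfullyFlat_algebraMap_iff.mpr inferInstance)
  haveI : Flat (pp A A') := hfs.1
  haveI : Surjective (pp A A') := hfs.2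
  exact effective_of_open_sub (jj D) (UU D) (Iso.refl _)

end Groth.Agent.Lib.Helper5.QAffCore
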