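import Mathlib
import Groth.Prelude.Def_DescFam
import Groth.Prelude.Def_Mor2
import Groth.Agent.Lib.Helper5.DescPull
import Groth.Agent.Lib.Helper5.DescRefine
import Groth.Agent.Lib.Helper5.DescGlue
import Groth.Agent.Lib.Helper5.QAffCore
import Groth.Agent.Lib.Helper7.QuasiAffine

/-!
# Effective fpqc descent for quasi-affine morphisms (helper5)
-/

set_option autoImplicit false
universe u
open CategoryTheory CategoryTheory.Limits AlgebraicGeometry Desc Opposite

namespace Groth.Agent.Lib.Helper5.DescQAffHom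

open Groth.Agent.Lib.Helper5.DescPull Groth.Agent.Lib.Helper5.DescRefine
  Groth.Agent.Lib.Helper5.DescFunctor Groth.Agent.Lib.Helper5.AffCore
  Groth.Agent.Lib.Helper5.QAffCore Groth.Agent.Lib.Helper7.QA

/-- Quasi-affine descent data relative to a flat surjective morphism of affine schemes are
effective. -/
theorem effective_of_qaffine {X S : Scheme.{u}} [IsAffine X] [IsAffine S] (p : X ⟶ S) [Flat p]
    [Surjective p] (D : SchDD p) [D.obj.left.IsQuasiAffine] :
    ∃ U : Over S, Nonempty ((toDD p).obj U ≅ D) := by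
  let A : CommRingCat.{u} := Γ(S, ⊤)
  let A' : CommRingCat.{u} := Γ(X, ⊤)
  let φ : A ⟶ A' := p.appTop
  letI algAA' : Algebra A A' := φ.hom.toAlgebra
  let g : Spec (CommRingCat.of A) ⟶ S := S.isoSpec.inv
  let g' : Spec (CommRingCat.of A') ⟶ X := X.isoSpec.inv
  have w : g' ≫ p = pp A A' ≫ g := (Scheme.isoSpec_inv_naturality p).symm
  have hsq : IsPullback g' (pp A A') p g := IsPullback.of_horiz_isIso ⟨w⟩
  let D₀ : SchDD (pp A A') := pullDD g g' w D
  let V₀ : Scheme.{u} := pullback D.obj.hom g'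
  have hV₀ : V₀.IsQuasiAffine := isQuasiAffine_of_iso (asIso (pullback.fst D.obj.hom g'))
  haveI : (VV D₀).IsQuasiAffine := hV₀
  have hflat : Flat (pp A A') := MorphismProperty.of_isPullback hsq ‹Flat p›
  have hsurj : Surjective (pp A A') := MorphismProperty.of_isPullback hsq ‹Surjective p›
  haveI : Module.Flat A A' := by
    have := (HasRingHomProperty.Spec_iff (P := @Flat)).mp hflat
    exact this
  haveI : Module.FaithfullyFlat A A' := by
    apply Module.FaithfullyFlat.of_comap_surjective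
    exact hsurj.surj
  obtain ⟨U₀, ⟨θ⟩⟩ := qaff_core D₀
  exact effective_of_isIso D hsq U₀ θ

/-- The case of an affine base. -/
theorem effective_of_isAffine_base {X S : Scheme.{u}} [IsAffine S] (p : X ⟶ S) [Surjective p]
    [Flat p] [QuasiCompact p] (D : SchDD p) (hD : Mor2.IsQuasiAffine D.obj.hom) :
    ∃ U : Over S, Nonempty ((toDD p).obj U ≅ D) := by
  haveI : CompactSpace X := QuasiCompact.compactSpace_of_compactSpace p
  obtain ⟨X₂, q, hqs, hqf, hX₂⟩ := Scheme.exists_hom_isAffine_of_isZariskiLocalAtSource @Flat X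
  haveI : Flat q := hqf
  let p₂ : X₂ ⟶ S := q ≫ p
  haveI : Flat p₂ := inferInstanceAs (Flat (q ≫ p))
  haveI : Surjective p₂ := inferInstanceAs (Surjective (q ≫ p))
  let D₂ : SchDD p₂ := pullDD (𝟙 S) q ((rfl : q ≫ p = p₂).trans (Category.comp_id _).symm) D
  have h1 : Mor2.IsQuasiAffine (pullback.snd D.obj.hom q) :=
    MorphismProperty.pullback_snd (P := QAffHom) D.obj.hom q hD
  have h2 : (pullback D.obj.hom q).IsQuasiAffine := isQuasiAffine_of_QAffHom _ h1
  haveI : D₂.obj.left.IsQuasiAffine := h2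
  obtain ⟨U₂, ⟨θ₂⟩⟩ := effective_of_qaffine p₂ D₂
  exact effective_of_refine p p₂ q rfl D U₂ θ₂

/-- Descent data relative to an fpqc morphism whose underlying scheme is quasi-affine over the
cover are effective. -/
theorem effective_of_isQuasiAffine {X S : Scheme.{u}} (p : X ⟶ S) [Surjective p] [Flat p]
    [QuasiCompact p] (D : SchDD p) (hD : Mor2.IsQuasiAffine D.obj.hom) :
    ∃ U : Over S, Nonempty ((toDD p).obj U ≅ D) := by
  apply effective_of_open_cover D
  intro v
  obtain ⟨_, ⟨(S₁ : S.Opens), hS₁, rfl⟩, hs₀, -⟩ := S.isBasis_affineOpens.exists_subset_of_mem_open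
    (Set.mem_univ (p.base (D.obj.hom.base v))) isOpen_univ
  haveI : IsAffine (S₁ : Scheme.{u}) := hS₁
  have hsq : IsPullback (p ⁻¹ᵁ S₁).ι (p ∣_ S₁) p S₁.ι := (isPullback_morphismRestrict p S₁).flip
  have w : (p ⁻¹ᵁ S₁).ι ≫ p = (p ∣_ S₁) ≫ S₁.ι := hsq.w
  haveI : Flat (p ∣_ S₁) := MorphismProperty.of_isPullback hsq ‹Flat p›
  haveI : Surjective (p ∣_ S₁) := MorphismProperty.of_isPullback hsq ‹Surjective p›
  haveI : QuasiCompact (p ∣_ S₁) := MorphismProperty.of_isPullback hsq ‹QuasiCompact p›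
  let D₁ : SchDD (p ∣_ S₁) := pullDD S₁.ι (p ⁻¹ᵁ S₁).ι w D
  have hD₁ : Mor2.IsQuasiAffine D₁.obj.hom :=
    MorphismProperty.pullback_snd (P := QAffHom) D.obj.hom (p ⁻¹ᵁ S₁).ι hD
  obtain ⟨U₁, ⟨θ₁⟩⟩ := effective_of_isAffine_base (p ∣_ S₁) D₁ hD₁
  refine ⟨(toDD p).obj (Over.mk (bcSec D hsq U₁ θ₁).t), (bcSec D hsq U₁ θ₁).a, inferInstance, ?_,
    Over.mk (bcSec D hsq U₁ θ₁).t, ⟨Iso.refl _⟩⟩
  apply mem_range_bcSec
  rw [Scheme.Opens.range_ι]
  exact hs₀

end Groth.Agent.Lib.Helper5.DescQAffHom
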