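import Mathlib
import Groth.Prelude.Def_Desc
import Groth.Agent.Lib.Helper5.DescRepEff

/-!
# The action morphism of a descent datum (helper5)

For `D : SchDD p` with `π : V ⟶ X`, the morphism `act D : X ×_S V ⟶ V`, `(x, w) ↦ φ_{π w → x}(w)`.
It is a base change of `p`.
-/

set_option autoImplicit false
universe u
open CategoryTheory CategoryTheory.Limits AlgebraicGeometry Desc Opposite

namespace Groth.Agent.Lib.Helper5.DescFunctor

open Groth.Agent.Lib.Helper5.AffCore

variable {X S : Scheme.{u}} {p : X ⟶ S} (D : SchDD p)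

/-- the action morphism `X ×_S V ⟶ V` -/
noncomputable def act : pullback p (D.obj.hom ≫ p) ⟶ D.obj.left := (actSec D).a.hom.left

lemma act_hom : act D ≫ D.obj.hom = pullback.fst p (D.obj.hom ≫ p) := Over.w (actSec D).a.hom

lemma lift_act {T : Scheme.{u}} (x : T ⟶ X) (w : T ⟶ D.obj.left)
    (h : x ≫ p = w ≫ D.obj.hom ≫ p) :
    pullback.lift x w h ≫ act D =
      (D.φ (w ≫ D.obj.hom) x (by rw [Category.assoc]; exact h.symm) ⟨w, rfl⟩).1 := by
  rw [← actSec_pt D x w h]
  exact (Sec.pt_val (actSec D) x w h).symm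

lemma act_eta {T : Scheme.{u}} (f : T ⟶ pullback p (D.obj.hom ≫ p)) :
    f = pullback.lift (f ≫ pullback.fst p (D.obj.hom ≫ p)) (f ≫ pullback.snd p (D.obj.hom ≫ p))
      (by rw [Category.assoc, Category.assoc, pullback.condition]) := by
  apply pullback.hom_ext
  · rw [pullback.lift_fst]
  · rw [pullback.lift_snd]

/-- `φ` applied twice back and forth is the identity. -/
lemma φ_φ_symm {T : Scheme.{u}} (x₀ x₁ : T ⟶ X) (h : x₀ ≫ p = x₁ ≫ p) (v : Lifts D.obj x₀)
    (w : Lifts D.obj x₁) (hw : w.1 = (D.φ x₀ x₁ h v).1) :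
    (D.φ x₁ x₀ h.symm w).1 = v.1 := by
  rw [φ_comp' D x₀ x₁ x₀ h h.symm rfl v w hw, D.φ_self]

lemma φ_back {T : Scheme.{u}} (x₀ x₁ x₁' : T ⟶ X) (h : x₀ ≫ p = x₁ ≫ p)
    (h' : x₁' ≫ p = x₀ ≫ p) (v : Lifts D.obj x₀) (w : Lifts D.obj x₁') (e : x₁' = x₁)
    (hw : w.1 = (D.φ x₀ x₁ h v).1) : (D.φ x₁' x₀ h' w).1 = v.1 := by
  subst e
  exact φ_φ_symm D x₀ x₁' h v w hw

/-- The action morphism is a base change of `p`. -/
theorem isPullback_act :
    IsPullback (act D) (pullback.snd p (D.obj.hom ≫ p) ≫ D.obj.hom) (D.obj.hom ≫ p) p := by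
  have w : act D ≫ D.obj.hom ≫ p = (pullback.snd p (D.obj.hom ≫ p) ≫ D.obj.hom) ≫ p := by
    rw [← Category.assoc, act_hom, pullback.condition, Category.assoc]
  refine IsPullback.of_isLimit' ⟨w⟩ (PullbackCone.IsLimit.mk w
    (fun s => pullback.lift (s.fst ≫ D.obj.hom)
      (D.φ (s.fst ≫ D.obj.hom) s.snd (by rw [Category.assoc]; exact s.condition) ⟨s.fst, rfl⟩).1
      (by
        have := (D.φ (s.fst ≫ D.obj.hom) s.snd (by rw [Category.assoc]; exact s.condition)
          ⟨s.fst, rfl⟩).2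
        rw [← Category.assoc, this, Category.assoc]
        exact s.condition)) ?_ ?_ ?_)
  · intro s
    rw [lift_act]
    exact φ_back D (s.fst ≫ D.obj.hom) s.snd _ _ _ ⟨s.fst, rfl⟩ _
      ((D.φ (s.fst ≫ D.obj.hom) s.snd (by rw [Category.assoc]; exact s.condition) ⟨s.fst, rfl⟩).2)
      rfl
  · intro s
    rw [← Category.assoc, pullback.lift_snd]
    exact (D.φ (s.fst ≫ D.obj.hom) s.snd (by rw [Category.assoc]; exact s.condition) ⟨s.fst, rfl⟩).2
  · intro s m h1 h2
    have e1 : m ≫ pullback.fst p (D.obj.hom ≫ p) = s.fst ≫ D.obj.hom := by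
      rw [← act_hom, ← Category.assoc, h1]
    apply pullback.hom_ext
    · rw [pullback.lift_fst, e1]
    · rw [pullback.lift_snd]
      set w' := m ≫ pullback.snd p (D.obj.hom ≫ p) with hw'
      have hw'π : w' ≫ D.obj.hom = s.snd := by rw [hw', Category.assoc]; exact h2
      have hc : (m ≫ pullback.fst p (D.obj.hom ≫ p)) ≫ p = w' ≫ D.obj.hom ≫ p := by
        rw [hw', Category.assoc, Category.assoc, pullback.condition]
      have e2 : s.fst = (D.φ (w' ≫ D.obj.hom) (m ≫ pullback.fst p (D.obj.hom ≫ p))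
          (by rw [Category.assoc]; exact hc.symm) ⟨w', rfl⟩).1 := by
        rw [← lift_act D _ w' hc, ← h1]
        congr 1
        exact act_eta D m
      refine (φ_back D (w' ≫ D.obj.hom) (m ≫ pullback.fst p (D.obj.hom ≫ p)) (s.fst ≫ D.obj.hom)
        (by rw [Category.assoc]; exact hc.symm) ?_ ⟨w', rfl⟩ ⟨s.fst, rfl⟩ e1.symm e2).symm.trans ?_
      · rw [Category.assoc, Category.assoc]; exact s.condition.trans (by rw [← hw'π, Category.assoc])
      · exact φ_congr D _ _ _ _ rfl hw'π rfl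

end Groth.Agent.Lib.Helper5.DescFunctor
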