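import Mathlib
import Groth.Prelude.Def_Desc
import Groth.Agent.Lib.Helper5.DescAct

/-!
# Restriction of a descent datum to a stable open, and saturation of opens (helper5)
-/

set_option autoImplicit false
universe u
open CategoryTheory CategoryTheory.Limits AlgebraicGeometry Desc Opposite

namespace Groth.Agent.Lib.Helper5.DescFunctor

open Groth.Agent.Lib.Helper5.AffCore

variable {X S : Scheme.{u}} {p : X ⟶ S} (D : SchDD p)

/-- `φ`-stable opens of the underlying scheme. -/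
def IsStable (W : D.obj.left.Opens) : Prop :=
  ∀ ⦃T : Scheme.{u}⦄ (x₀ x₁ : T ⟶ X) (h : x₀ ≫ p = x₁ ≫ p) (v : Lifts D.obj x₀),
    Set.range v.1.base ⊆ (W : Set D.obj.left) →
      Set.range (D.φ x₀ x₁ h v).1.base ⊆ (W : Set D.obj.left)

section restrict

variable (W : D.obj.left.Opens)

/-- the restricted object -/
noncomputable abbrev resObj : Over X := Over.mk (W.ι ≫ D.obj.hom)

variable {D W} in
/-- extension of points -/
noncomputable def extPt {T : Scheme.{u}} {x : T ⟶ X} (v : Lifts (resObj D W) x) : Lifts D.obj x :=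
  ⟨v.1 ≫ W.ι, by rw [Category.assoc]; exact v.2⟩

variable {D W} in
lemma extPt_val {T : Scheme.{u}} {x : T ⟶ X} (v : Lifts (resObj D W) x) :
    (extPt v).1 = v.1 ≫ W.ι := rfl

variable {D W} in
lemma range_extPt {T : Scheme.{u}} {x : T ⟶ X} (v : Lifts (resObj D W) x) :
    Set.range (extPt v).1.base ⊆ (W : Set D.obj.left) := by
  rintro _ ⟨t, rfl⟩
  rw [extPt_val]
  change W.ι.base (v.1.base t) ∈ _
  exact (v.1.base t).2

variable {D W} in
/-- restriction of points -/
noncomputable def resPt {T : Scheme.{u}} {x : T ⟶ X} (v : Lifts D.obj x)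
    (hv : Set.range v.1.base ⊆ (W : Set D.obj.left)) : Lifts (resObj D W) x :=
  ⟨IsOpenImmersion.lift W.ι v.1 (by rw [Scheme.Opens.range_ι]; exact hv), by
    change _ ≫ W.ι ≫ D.obj.hom = x
    rw [← Category.assoc, IsOpenImmersion.lift_fac]; exact v.2⟩

variable {D W} in
lemma resPt_ι {T : Scheme.{u}} {x : T ⟶ X} (v : Lifts D.obj x)
    (hv : Set.range v.1.base ⊆ (W : Set D.obj.left)) : (resPt v hv).1 ≫ W.ι = v.1 :=
  IsOpenImmersion.lift_fac _ _ _

variable {D W} in
lemma res_ext {T : Scheme.{u}} {x : T ⟶ X} {v v' : Lifts (resObj D W) x}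
    (h : v.1 ≫ W.ι = v'.1 ≫ W.ι) : v = v' := Subtype.ext ((cancel_mono W.ι).1 h)

variable (hW : IsStable D W)

/-- the restricted gluing maps -/
noncomputable def resφ {T : Scheme.{u}} (x₀ x₁ : T ⟶ X) (h : x₀ ≫ p = x₁ ≫ p)
    (v : Lifts (resObj D W) x₀) : Lifts (resObj D W) x₁ :=
  resPt (D.φ x₀ x₁ h (extPt v)) (hW x₀ x₁ h _ (range_extPt v))

lemma resφ_ι {T : Scheme.{u}} (x₀ x₁ : T ⟶ X) (h : x₀ ≫ p = x₁ ≫ p)
    (v : Lifts (resObj D W) x₀) :
    (resφ D W hW x₀ x₁ h v).1 ≫ W.ι = (D.φ x₀ x₁ h (extPt v)).1 := resPt_ι _ _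

/-- The restriction of a descent datum to a stable open. -/
noncomputable def restrictDD : SchDD p where
  obj := resObj D W
  φ T x₀ x₁ h :=
    { toFun := resφ D W hW x₀ x₁ h
      invFun := resφ D W hW x₁ x₀ h.symm
      left_inv := fun v => res_ext ((resφ_ι D W hW x₁ x₀ h.symm _).trans
        (φ_φ_symm D x₀ x₁ h (extPt v) (extPt (resφ D W hW x₀ x₁ h v)) (resφ_ι D W hW x₀ x₁ h v)))
      right_inv := fun v => res_ext ((resφ_ι D W hW x₀ x₁ h _).trans
        (φ_φ_symm D x₁ x₀ h.symm (extPt v) (extPt (resφ D W hW x₁ x₀ h.symm v))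
          (resφ_ι D W hW x₁ x₀ h.symm v))) }
  φ_natural T T' g x₀ x₁ h h' v v' hv := by
    refine (cancel_mono W.ι).1 ?_
    refine (resφ_ι D W hW _ _ h' v').trans ?_
    refine Eq.trans ?_ (Category.assoc _ _ _).symm
    refine Eq.trans ?_ (congrArg (fun t => g ≫ t) (resφ_ι D W hW _ _ h v)).symm
    refine D.φ_natural g x₀ x₁ h h' (extPt v) (extPt v') ?_
    rw [extPt_val, extPt_val, hv, Category.assoc]
  φ_self T x v := res_ext ((resφ_ι D W hW x x rfl v).trans (by rw [D.φ_self]; rfl))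
  φ_comp T x₀ x₁ x₂ h₀₁ h₁₂ v := res_ext
    ((resφ_ι D W hW x₁ x₂ h₁₂ _).trans
      ((φ_comp' D x₀ x₁ x₂ h₀₁ h₁₂ (h₀₁.trans h₁₂) (extPt v)
        (extPt (resφ D W hW x₀ x₁ h₀₁ v)) (resφ_ι D W hW x₀ x₁ h₀₁ v)).trans
        (resφ_ι D W hW x₀ x₂ (h₀₁.trans h₁₂) v).symm))

/-- The inclusion of the restricted descent datum. -/
noncomputable def restrictHom : restrictDD D W hW ⟶ D where
  hom := Over.homMk W.ι rfl
  comm T x₀ x₁ h v w hw := by
    change w.1 = v.1 ≫ W.ι at hw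
    refine Eq.trans ?_ (resφ_ι D W hW x₀ x₁ h v).symm
    exact φ_congr D _ _ _ _ rfl rfl hw

lemma restrictHom_left : (restrictHom D W hW).hom.left = W.ι := rfl

instance : IsOpenImmersion (restrictHom D W hW).hom.left :=
  inferInstanceAs (IsOpenImmersion W.ι)

lemma range_restrictHom : Set.range (restrictHom D W hW).hom.left.base = (W : Set D.obj.left) :=
  Scheme.Opens.range_ι W

end restrict

section saturate

variable (W : D.obj.left.Opens)

/-- `X ×_S W` -/
noncomputable abbrev QW : Scheme.{u} := pullback p (W.ι ≫ D.obj.hom ≫ p)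

/-- the inclusion `X ×_S W ⟶ X ×_S V` -/
noncomputable abbrev mW : QW D W ⟶ pullback p (D.obj.hom ≫ p) :=
  pullback.map p (W.ι ≫ D.obj.hom ≫ p) p (D.obj.hom ≫ p) (𝟙 X) W.ι (𝟙 S) (by simp) (by simp)

/-- the restricted action `X ×_S W ⟶ V` -/
noncomputable def actW : QW D W ⟶ D.obj.left := mW D W ≫ act D

lemma lift_actW {T : Scheme.{u}} (x : T ⟶ X) (τ : T ⟶ (W : Scheme.{u}))
    (h : x ≫ p = τ ≫ W.ι ≫ D.obj.hom ≫ p) :
    pullback.lift x τ h ≫ actW D W =
      (D.φ ((τ ≫ W.ι) ≫ D.obj.hom) x (by rw [Category.assoc, Category.assoc]; exact h.symm)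
        ⟨τ ≫ W.ι, rfl⟩).1 := by
  have e : pullback.lift x τ h ≫ mW D W =
      pullback.lift x (τ ≫ W.ι) (by rw [Category.assoc]; exact h) := by
    apply pullback.hom_ext
    · rw [Category.assoc, pullback.lift_fst, pullback.lift_fst, pullback.lift_fst_assoc,
        Category.comp_id]
    · rw [Category.assoc, pullback.lift_snd, pullback.lift_snd, pullback.lift_snd_assoc]
  unfold actW
  rw [← Category.assoc, e, lift_act]

lemma actW_eta {T : Scheme.{u}} (f : T ⟶ QW D W) :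
    f = pullback.lift (f ≫ pullback.fst p (W.ι ≫ D.obj.hom ≫ p))
      (f ≫ pullback.snd p (W.ι ≫ D.obj.hom ≫ p))
      (by rw [Category.assoc, Category.assoc, pullback.condition]) := by
  apply pullback.hom_ext
  · rw [pullback.lift_fst]
  · rw [pullback.lift_snd]

lemma actW_hom : actW D W ≫ D.obj.hom = pullback.fst p (W.ι ≫ D.obj.hom ≫ p) := by
  unfold actW
  rw [Category.assoc, act_hom, pullback.lift_fst, Category.comp_id]

variable [UniversallyOpen p]

lemma isOpenMap_actW : IsOpenMap (actW D W).base := by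
  haveI : UniversallyOpen (act D) :=
    MorphismProperty.of_isPullback (P := @UniversallyOpen) (isPullback_act D).flip inferInstance
  haveI : IsOpenImmersion (mW D W) := inferInstanceAs (IsOpenImmersion
    (pullback.map p (W.ι ≫ D.obj.hom ≫ p) p (D.obj.hom ≫ p) (𝟙 X) W.ι (𝟙 S) (by simp) (by simp)))
  haveI : UniversallyOpen (actW D W) := by unfold actW; infer_instance
  exact (actW D W).isOpenMap

/-- The saturation of an open. -/
noncomputable def sat : D.obj.left.Opens :=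
  ⟨Set.range (actW D W).base, (isOpenMap_actW D W).isOpen_range⟩

lemma mem_sat (v : D.obj.left) : v ∈ sat D W ↔ v ∈ Set.range (actW D W).base := Iff.rfl

lemma le_sat : W ≤ sat D W := by
  intro w hw
  have e : pullback.lift (W.ι ≫ D.obj.hom) (𝟙 _) (by simp) ≫ actW D W = W.ι := by
    rw [lift_actW]
    exact φ_self' D _ _ (by rw [Category.id_comp])
  rw [mem_sat]
  refine ⟨(pullback.lift (W.ι ≫ D.obj.hom) (𝟙 _) (by simp) :
    (W : Scheme.{u}) ⟶ QW D W).base ⟨w, hw⟩, ?_⟩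
  have := congrArg (fun f => f.base ⟨w, hw⟩) e
  exact this

lemma sat_stable : IsStable D (sat D W) := by
  intro T x₀ x₁ h v hv
  rintro _ ⟨t, rfl⟩
  obtain ⟨z', hz'⟩ := hv ⟨t, rfl⟩
  obtain ⟨t', ht'1, ht'2⟩ :=
    Scheme.Pullback.exists_preimage_pullback (f := v.1) (g := actW D W) t z' hz'.symm
  let g : pullback v.1 (actW D W) ⟶ T := pullback.fst _ _
  let y : pullback v.1 (actW D W) ⟶ QW D W := pullback.snd _ _
  let x := y ≫ pullback.fst p (W.ι ≫ D.obj.hom ≫ p)
  let τ := y ≫ pullback.snd p (W.ι ≫ D.obj.hom ≫ p)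
  have hc : x ≫ p = τ ≫ W.ι ≫ D.obj.hom ≫ p := by
    simp only [x, τ, Category.assoc, pullback.condition]
  have hy : y = pullback.lift x τ hc := actW_eta D W y
  have e1 : g ≫ v.1 = (D.φ ((τ ≫ W.ι) ≫ D.obj.hom) x
      (by rw [Category.assoc, Category.assoc]; exact hc.symm) ⟨τ ≫ W.ι, rfl⟩).1 := by
    rw [← lift_actW D W x τ hc, ← hy]
    exact pullback.condition
  have hx : g ≫ x₀ = x := by
    have : (g ≫ v.1) ≫ D.obj.hom = g ≫ x₀ := by rw [Category.assoc, v.2]
    rw [← this, pullback.condition, Category.assoc, actW_hom]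
  have h' : (g ≫ x₀) ≫ p = (g ≫ x₁) ≫ p := by rw [Category.assoc, Category.assoc, h]
  have hc₁ : (g ≫ x₁) ≫ p = τ ≫ W.ι ≫ D.obj.hom ≫ p := by rw [← h', hx]; exact hc
  have e2 : g ≫ (D.φ x₀ x₁ h v).1 = pullback.lift (g ≫ x₁) τ hc₁ ≫ actW D W := by
    rw [lift_actW]
    have e3 := D.φ_natural g x₀ x₁ h h' v ⟨g ≫ v.1, by rw [Category.assoc, v.2]⟩ rfl
    rw [← e3]
    exact φ_comp'' D ((τ ≫ W.ι) ≫ D.obj.hom) x (g ≫ x₀) (g ≫ x₁)
      (by rw [Category.assoc, Category.assoc]; exact hc.symm) h'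
      (by rw [Category.assoc, Category.assoc]; exact hc₁.symm) ⟨τ ≫ W.ι, rfl⟩ _ hx e1
  have e4 := congrArg (fun f => f.base t') e2
  change (D.φ x₀ x₁ h v).1.base (g.base t') = _ at e4
  rw [ht'1] at e4
  rw [SetLike.mem_coe, mem_sat, e4]
  exact ⟨_, rfl⟩

lemma isCompact_sat [CompactSpace (QW D W)] : IsCompact (sat D W : Set D.obj.left) :=
  isCompact_range (actW D W).continuous

end saturate

end Groth.Agent.Lib.Helper5.DescFunctor
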