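import Mathlib
import Groth.Prelude.Def_DescFam
import Groth.Prelude.Def_Mor2
import Groth.Agent.Lib.Helper5.DescRestrict
import Groth.Agent.Lib.Helper5.DescQAffHom

/-!
# Effective fppf descent for separated locally quasi-finite morphisms (helper5)
-/

set_option autoImplicit false
universe u
open CategoryTheory CategoryTheory.Limits AlgebraicGeometry Desc Opposite

namespace Groth.Agent.Lib.Helper5.DescSepLQF

open Groth.Agent.Lib.Helper5.DescPull Groth.Agent.Lib.Helper5.DescRefine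
  Groth.Agent.Lib.Helper5.DescFunctor Groth.Agent.Lib.Helper5.AffCore
  Groth.Agent.Lib.Helper5.DescQAffHom Groth.Agent.Lib.Helper7.QA

/-- Zariski's main theorem: a quasi-compact separated locally quasi-finite morphism (locally of
finite type) is quasi-affine. -/
lemma isQuasiAffine_of_sep_lqf {X Y : Scheme.{u}} (f : X ⟶ Y) [IsSeparated f]
    [LocallyQuasiFinite f] [LocallyOfFiniteType f] [QuasiCompact f] : Mor2.IsQuasiAffine f := by
  haveI : QuasiCompact (f.toNormalization ≫ f.fromNormalization) := by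
    rw [f.toNormalization_fromNormalization]; infer_instance
  haveI : QuasiCompact f.toNormalization := QuasiCompact.of_comp _ f.fromNormalization
  have h := QAffHom_comp f.toNormalization f.fromNormalization
    (QAffHom_of_isImmersion _) (QAffHom_of_isAffineHom _)
  rwa [f.toNormalization_fromNormalization] at h

/-- Step C: affine cover of an affine base. -/
theorem effective_of_affine {X S : Scheme.{u}} [IsAffine X] [IsAffine S] (p : X ⟶ S) [Flat p]
    [Surjective p] [LocallyOfFinitePresentation p] (D : SchDD p) [IsSeparated D.obj.hom]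
    [LocallyQuasiFinite D.obj.hom] [LocallyOfFiniteType D.obj.hom] :
    ∃ U : Over S, Nonempty ((toDD p).obj U ≅ D) := by
  apply effective_of_open_cover D
  intro v
  obtain ⟨_, ⟨(W : D.obj.left.Opens), hW, rfl⟩, hvW, -⟩ :=
    D.obj.left.isBasis_affineOpens.exists_subset_of_mem_open (Set.mem_univ v) isOpen_univ
  haveI : IsAffine (W : Scheme.{u}) := hW
  have hst := sat_stable D W
  refine ⟨restrictDD D (sat D W) hst, restrictHom D (sat D W) hst, inferInstance, ?_, ?_⟩
  · rw [range_restrictHom]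
    exact le_sat D W hvW
  · haveI : CompactSpace (sat D W : Scheme.{u}) :=
      isCompact_iff_compactSpace.mp (isCompact_sat D W)
    have hqa : Mor2.IsQuasiAffine ((sat D W).ι ≫ D.obj.hom) :=
      isQuasiAffine_of_sep_lqf ((sat D W).ι ≫ D.obj.hom)
    exact effective_of_isQuasiAffine p (restrictDD D (sat D W) hst) hqa

/-- A compact open of the source surjecting onto a compact target, for an open surjective map. -/
lemma exists_compact_open_surj {X S : Scheme.{u}} [CompactSpace S] (p : X ⟶ S) [Surjective p]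
    [UniversallyOpen p] :
    ∃ X' : X.Opens, IsCompact (X' : Set X) ∧ ∀ s : S, ∃ x ∈ X', p.base x = s := by
  choose x hx using p.surjective
  have hU : ∀ s : S, ∃ U : X.Opens, IsAffineOpen U ∧ x s ∈ U := fun s => by
    obtain ⟨_, ⟨U, hU, rfl⟩, hxU, -⟩ :=
      X.isBasis_affineOpens.exists_subset_of_mem_open (Set.mem_univ (x s)) isOpen_univ
    exact ⟨U, hU, hxU⟩
  choose U hUa hUx using hU
  obtain ⟨t, ht⟩ := CompactSpace.elim_nhds_subcover (fun s => p.base '' (U s : Set X))
    (fun s => (p.isOpenMap _ (U s).isOpen).mem_nhds ⟨x s, hUx s, hx s⟩)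
  refine ⟨⨆ s ∈ t, U s, ?_, ?_⟩
  · have : ((⨆ s ∈ t, U s : X.Opens) : Set X) = ⋃ s ∈ t, (U s : Set X) := by
      simp
    rw [this]
    exact t.isCompact_biUnion (fun s _ => (hUa s).isCompact)
  · intro s
    have hs : s ∈ ⋃ s' ∈ t, p.base '' (U s' : Set X) := by rw [ht]; trivial
    obtain ⟨s', hs', x', hx', rfl⟩ := Set.mem_iUnion₂.mp hs
    refine ⟨x', ?_, rfl⟩
    simp only [TopologicalSpace.Opens.mem_iSup]
    exact ⟨s', hs', hx'⟩

/-- Step B: affine base. -/
theorem effective_of_isAffine_base {X S : Scheme.{u}} [IsAffine S] (p : X ⟶ S) [Flat p]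
    [Surjective p] [LocallyOfFinitePresentation p] (D : SchDD p) [IsSeparated D.obj.hom]
    [LocallyQuasiFinite D.obj.hom] [LocallyOfFiniteType D.obj.hom] :
    ∃ U : Over S, Nonempty ((toDD p).obj U ≅ D) := by
  obtain ⟨X', hX'c, hX's⟩ := exists_compact_open_surj p
  haveI : CompactSpace (X' : Scheme.{u}) := isCompact_iff_compactSpace.mp hX'c
  obtain ⟨X₂, q₀, hq₀s, hq₀, hX₂⟩ :=
    Scheme.exists_hom_isAffine_of_isZariskiLocalAtSource @IsLocalIso (X' : Scheme.{u})
  let q : X₂ ⟶ X := q₀ ≫ X'.ι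
  have hι : IsLocalIso X'.ι := ⟨fun x => ⟨⊤, trivial, inferInstance⟩⟩
  have hq : IsLocalIso q := MorphismProperty.comp_mem _ _ _ hq₀ hι
  haveI : Flat q := IsLocalIso.le_of_isZariskiLocalAtSource @Flat _ _ _ hq
  haveI : MorphismProperty.ContainsIdentities @LocallyOfFinitePresentation :=
    ⟨fun X => inferInstance⟩
  haveI : LocallyOfFinitePresentation q :=
    IsLocalIso.le_of_isZariskiLocalAtSource @LocallyOfFinitePresentation _ _ _ hq
  let p₂ : X₂ ⟶ S := q ≫ p
  haveI : Flat p₂ := inferInstanceAs (Flat (q ≫ p))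
  haveI : LocallyOfFinitePresentation p₂ :=
    inferInstanceAs (LocallyOfFinitePresentation (q ≫ p))
  haveI : Surjective p₂ := ⟨fun s => by
    obtain ⟨x, hx, rfl⟩ := hX's s
    obtain ⟨y, hy⟩ := hq₀s.surj ⟨x, hx⟩
    refine ⟨y, ?_⟩
    change p.base (X'.ι.base (q₀.base y)) = _
    rw [hy]
    rfl⟩
  let D₂ : SchDD p₂ := pullDD (𝟙 S) q ((rfl : q ≫ p = p₂).trans (Category.comp_id _).symm) D
  haveI : IsSeparated D₂.obj.hom := inferInstanceAs (IsSeparated (pullback.snd D.obj.hom q))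
  haveI : LocallyQuasiFinite D₂.obj.hom :=
    inferInstanceAs (LocallyQuasiFinite (pullback.snd D.obj.hom q))
  haveI : LocallyOfFiniteType D₂.obj.hom :=
    inferInstanceAs (LocallyOfFiniteType (pullback.snd D.obj.hom q))
  obtain ⟨U₂, ⟨θ₂⟩⟩ := effective_of_affine p₂ D₂
  exact effective_of_refine p p₂ q rfl D U₂ θ₂

/-- Effective fppf descent for separated, locally quasi-finite morphisms. -/
theorem effective_of_sep_lqf {X S : Scheme.{u}} (p : X ⟶ S) [Flat p] [Surjective p]
    [LocallyOfFinitePresentation p] (D : SchDD p) [IsSeparated D.obj.hom]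
    [LocallyQuasiFinite D.obj.hom] [LocallyOfFiniteType D.obj.hom] :
    ∃ U : Over S, Nonempty ((toDD p).obj U ≅ D) := by
  haveI : IsDescCover p := isDescCover_of_fppf p
  apply effective_of_open_cover D
  intro v
  obtain ⟨_, ⟨(S₁ : S.Opens), hS₁, rfl⟩, hs₀, -⟩ := S.isBasis_affineOpens.exists_subset_of_mem_open
    (Set.mem_univ (p.base (D.obj.hom.base v))) isOpen_univ
  haveI : IsAffine (S₁ : Scheme.{u}) := hS₁
  have hsq : IsPullback (p ⁻¹ᵁ S₁).ι (p ∣_ S₁) p S₁.ι := (isPullback_morphismRestrict p S₁).flip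
  have w : (p ⁻¹ᵁ S₁).ι ≫ p = (p ∣_ S₁) ≫ S₁.ι := hsq.w
  haveI : Flat (p ∣_ S₁) := MorphismProperty.of_isPullback hsq ‹Flat p›
  haveI : Surjective (p ∣_ S₁) := MorphismProperty.of_isPullback hsq ‹Surjective p›
  haveI : LocallyOfFinitePresentation (p ∣_ S₁) :=
    MorphismProperty.of_isPullback hsq ‹LocallyOfFinitePresentation p›
  let D₁ : SchDD (p ∣_ S₁) := pullDD S₁.ι (p ⁻¹ᵁ S₁).ι w D
  haveI : IsSeparated D₁.obj.hom :=
    inferInstanceAs (IsSeparated (pullback.snd D.obj.hom (p ⁻¹ᵁ S₁).ι))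
  haveI : LocallyQuasiFinite D₁.obj.hom :=
    inferInstanceAs (LocallyQuasiFinite (pullback.snd D.obj.hom (p ⁻¹ᵁ S₁).ι))
  haveI : LocallyOfFiniteType D₁.obj.hom :=
    inferInstanceAs (LocallyOfFiniteType (pullback.snd D.obj.hom (p ⁻¹ᵁ S₁).ι))
  obtain ⟨U₁, ⟨θ₁⟩⟩ := effective_of_isAffine_base (p ∣_ S₁) D₁
  refine ⟨(toDD p).obj (Over.mk (bcSec D hsq U₁ θ₁).t), (bcSec D hsq U₁ θ₁).a, inferInstance, ?_,
    Over.mk (bcSec D hsq U₁ θ₁).t, ⟨Iso.refl _⟩⟩
  apply mem_range_bcSec
  rw [Scheme.Opens.range_ι]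
  exact hs₀

end Groth.Agent.Lib.Helper5.DescSepLQF
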