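import Groth.Agent.Lib.Helper5.SheafPullback

set_option autoImplicit false
universe w v u
open CategoryTheory CategoryTheory.Limits Opposite

namespace Groth.Agent.Lib.Helper5

variable {C : Type u} [Category.{v} C] (J : GrothendieckTopology C)

/-- A pullback square of sheaves of types is a pullback sectionwise. -/
theorem sheaf_isPullback_sections {A B D E : Sheaf J (Type w)}
    {t : A ⟶ B} {l : A ⟶ D} {r : B ⟶ E} {b : D ⟶ E} (h : IsPullback t l r b) (Z : Cᵒᵖ) :
    (∀ x y : A.obj.obj Z, t.hom.app Z x = t.hom.app Z y → l.hom.app Z x = l.hom.app Z y → x = y) ∧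
    (∀ (x : B.obj.obj Z) (y : D.obj.obj Z), r.hom.app Z x = b.hom.app Z y →
      ∃ a, t.hom.app Z a = x ∧ l.hom.app Z a = y) := by
  have h1 := (h.map (sheafToPresheaf J (Type w))).map ((evaluation _ _).obj Z)
  rw [Types.isPullback_iff] at h1
  exact ⟨fun x y hx hy => h1.2.1 x y ⟨hx, hy⟩, fun x y hxy => h1.2.2 x y hxy⟩

lemma sheaf_comp_app {A B D : Sheaf J (Type w)} (f : A ⟶ B) (g : B ⟶ D) (Z : Cᵒᵖ)
    (x : A.obj.obj Z) : (f ≫ g).hom.app Z x = g.hom.app Z (f.hom.app Z x) := rfl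

lemma sheaf_congr_app {A B : Sheaf J (Type w)} {f g : A ⟶ B} (h : f = g) (Z : Cᵒᵖ)
    (x : A.obj.obj Z) : f.hom.app Z x = g.hom.app Z x := by rw [h]

end Groth.Agent.Lib.Helper5
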