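import Mathlib
import Groth.Prelude.Def_AlgSpGpd
import Groth.Agent.Lib.Helper5.SheafPullback2

/-!
# Quotient sheaves `U/R` of (pre-)equivalence relations of fppf sheaves (helper5)

Local (covering sieve) calculus with maps out of representables, and the description of the fibres
of `U ⟶ U/R` for a pre-equivalence relation.
-/

set_option autoImplicit false
universe u
open CategoryTheory CategoryTheory.Limits AlgebraicGeometry Opposite

namespace Groth.Agent.Lib.Helper5.SheafQuot

open AlgSp

variable {S : Scheme.{u}}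

/-- Two maps from a representable to a sheaf which agree on a covering sieve are equal. -/
theorem eq_of_locally_eq {F : Sp S} {T : Over S} (x y : (yon S).obj T ⟶ F) (R₀ : Sieve T)
    (hR₀ : R₀ ∈ J S T)
    (h : ∀ ⦃T' : Over S⦄ (φ : T' ⟶ T), R₀ φ → (yon S).map φ ≫ x = (yon S).map φ ≫ y) : x = y := by
  apply (J S).uliftYonedaEquiv.injective
  have hF : Presieve.IsSheaf (J S) F.obj := (isSheaf_iff_isSheaf_of_type _ _).1 F.property
  refine (hF R₀ hR₀).isSeparatedFor.ext ?_
  intro T' φ hφ
  rw [GrothendieckTopology.uliftYonedaEquiv_naturality,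
    GrothendieckTopology.uliftYonedaEquiv_naturality, h φ hφ]

/-- Sections of a sheaf over `W` are maps from the representable sheaf `h_W`. -/
noncomputable abbrev secEquiv (W : Over S) (F : Sp S) :
    ((yon S).obj W ⟶ F) ≃ F.obj.obj (op W) := (J S).uliftYonedaEquiv

/-- An epimorphism of sheaves lifts maps from representables locally. -/
theorem exists_local_lift_of_epi {F G : Sp S} (f : F ⟶ G) [Epi f] {T : Over S}
    (y : (yon S).obj T ⟶ G) :
    ∃ R₀ ∈ J S T, ∀ ⦃T' : Over S⦄ (φ : T' ⟶ T), R₀ φ →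
      ∃ x : (yon S).obj T' ⟶ F, x ≫ f = (yon S).map φ ≫ y := by
  haveI : Sheaf.IsLocallySurjective f := (Sheaf.isLocallySurjective_iff_epi f).2 inferInstance
  refine ⟨_, Presheaf.imageSieve_mem (J S) f.hom ((J S).uliftYonedaEquiv y), ?_⟩
  rintro T' φ ⟨t, ht⟩
  refine ⟨(J S).uliftYonedaEquiv.symm t, ?_⟩
  apply (J S).uliftYonedaEquiv.injective
  rw [GrothendieckTopology.uliftYonedaEquiv_comp, Equiv.apply_symm_apply,
    ← GrothendieckTopology.uliftYonedaEquiv_naturality]
  exact ht

/-- A morphism of sheaves through which maps from representables lift locally is an epimorphism. -/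
theorem epi_of_local_lift {F G : Sp S} (f : F ⟶ G)
    (h : ∀ (T : Over S) (y : (yon S).obj T ⟶ G), ∃ R₀ ∈ J S T, ∀ ⦃T' : Over S⦄ (φ : T' ⟶ T),
      R₀ φ → ∃ x : (yon S).obj T' ⟶ F, x ≫ f = (yon S).map φ ≫ y) : Epi f := by
  have : Sheaf.IsLocallySurjective f := by
    refine ⟨fun {Z} s => ?_⟩
    obtain ⟨R₀, hR₀, hl⟩ := h Z ((J S).uliftYonedaEquiv.symm s)
    refine (J S).superset_covering ?_ hR₀
    intro T' φ hφ
    obtain ⟨x, hx⟩ := hl φ hφ
    refine ⟨(J S).uliftYonedaEquiv x, ?_⟩
    have := congrArg (J S).uliftYonedaEquiv hx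
    rw [GrothendieckTopology.uliftYonedaEquiv_comp,
      ← GrothendieckTopology.uliftYonedaEquiv_naturality, Equiv.apply_symm_apply] at this
    exact this
  infer_instance

/-- Monomorphisms of sheaves are detected on maps from representables. -/
theorem mono_of_yon_cancel {G G' : Sp S} (m : G ⟶ G')
    (h : ∀ (Z : Over S) (a b : (yon S).obj Z ⟶ G), a ≫ m = b ≫ m → a = b) : Mono m := by
  suffices h' : Mono m.hom from Sheaf.Hom.mono_of_presheaf_mono _ _ m
  rw [NatTrans.mono_iff_mono_app]
  intro Z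
  rw [mono_iff_injective]
  intro x x' hxx'
  obtain ⟨Z⟩ := Z
  have := h Z ((J S).uliftYonedaEquiv.symm x) ((J S).uliftYonedaEquiv.symm x') (by
    rw [GrothendieckTopology.uliftYonedaEquiv_symm_naturality_right,
      GrothendieckTopology.uliftYonedaEquiv_symm_naturality_right]
    exact congrArg _ hxx')
  exact (J S).uliftYonedaEquiv.symm.injective this

section Quot

variable {R U : Sp S} (s t : R ⟶ U) (hpre : IsPreEqvRelSp s t)

/-- The setoid on `Z`-points of `U` given by the pre-equivalence relation. -/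
def ptSetoid (Z : Over S) : Setoid ((yon S).obj Z ⟶ U) where
  r a b := ∃ r : (yon S).obj Z ⟶ R, r ≫ t = a ∧ r ≫ s = b
  iseqv := hpre Z

/-- The presheaf quotient `Z ↦ U(Z)/R(Z)`. -/
def quotPresheaf : (Over S)ᵒᵖ ⥤ Type (u + 1) where
  obj Z := Quotient (ptSetoid s t hpre Z.unop)
  map {Z W} f := ↾(Quotient.map' (s₁ := ptSetoid s t hpre Z.unop) (s₂ := ptSetoid s t hpre W.unop)
    (fun x => (yon S).map f.unop ≫ x) (by
      rintro x y ⟨r, h1, h2⟩
      exact ⟨(yon S).map f.unop ≫ r, by rw [Category.assoc, h1], by rw [Category.assoc, h2]⟩))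
  map_id Z := by
    ext x
    induction x using Quotient.inductionOn with
    | h x =>
      apply Quotient.sound'
      simp only [unop_id, CategoryTheory.Functor.map_id, Category.id_comp]
      exact (ptSetoid s t hpre Z.unop).refl _
  map_comp {X Y Z} f g := by
    ext x
    induction x using Quotient.inductionOn with
    | h x =>
      apply Quotient.sound'
      simp only [unop_comp, Functor.map_comp, Category.assoc]
      exact (ptSetoid s t hpre Z.unop).refl _

/-- The natural map `U ⟶ U(-)/R(-)` of presheaves. -/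
def toQuotPresheaf : U.obj ⟶ quotPresheaf s t hpre where
  app Z := ↾(fun x => Quotient.mk (ptSetoid s t hpre Z.unop) ((J S).uliftYonedaEquiv.symm x))
  naturality := by
    intro Z W f
    ext x
    apply Quotient.sound'
    have : (J S).uliftYonedaEquiv.symm (U.obj.map f x) =
        (yon S).map f.unop ≫ (J S).uliftYonedaEquiv.symm x := by
      apply (J S).uliftYonedaEquiv.injective
      rw [Equiv.apply_symm_apply, ← GrothendieckTopology.uliftYonedaEquiv_naturality,
        Equiv.apply_symm_apply]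
      rfl
    change (ptSetoid s t hpre W.unop).r ((J S).uliftYonedaEquiv.symm (U.obj.map f x))
      ((yon S).map f.unop ≫ (J S).uliftYonedaEquiv.symm x)
    rw [this]

/-- The map `U ⟶ (U(-)/R(-))^sh` of sheaves. -/
noncomputable def toQuotSheaf :
    U ⟶ (presheafToSheaf (J S) (Type (u + 1))).obj (quotPresheaf s t hpre) :=
  ⟨toQuotPresheaf s t hpre ≫ toSheafify (J S) (quotPresheaf s t hpre)⟩

lemma toQuotSheaf_condition : s ≫ toQuotSheaf s t hpre = t ≫ toQuotSheaf s t hpre := by
  apply Sheaf.hom_ext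
  change s.hom ≫ toQuotPresheaf s t hpre ≫ toSheafify (J S) (quotPresheaf s t hpre) =
    t.hom ≫ toQuotPresheaf s t hpre ≫ toSheafify (J S) (quotPresheaf s t hpre)
  rw [← Category.assoc, ← Category.assoc]
  congr 1
  ext Z r
  apply Quotient.sound
  refine (ptSetoid s t hpre Z.unop).symm ⟨(J S).uliftYonedaEquiv.symm r, ?_, ?_⟩
  · apply (J S).uliftYonedaEquiv.injective
    rw [GrothendieckTopology.uliftYonedaEquiv_comp, Equiv.apply_symm_apply,
      Equiv.apply_symm_apply]
    rfl
  · apply (J S).uliftYonedaEquiv.injective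
    rw [GrothendieckTopology.uliftYonedaEquiv_comp, Equiv.apply_symm_apply,
      Equiv.apply_symm_apply]
    rfl

include hpre in
/-- **Fibres of `U ⟶ U/R`**: two points of `U` with the same image in `U/R` are locally
`R`-equivalent. -/
theorem exists_rel_of_quotSpπ_eq {T : Over S} (a b : (yon S).obj T ⟶ U)
    (h : a ≫ quotSpπ s t = b ≫ quotSpπ s t) :
    ∃ R₀ ∈ J S T, ∀ ⦃T' : Over S⦄ (φ : T' ⟶ T), R₀ φ →
      ∃ r : (yon S).obj T' ⟶ R, r ≫ t = (yon S).map φ ≫ a ∧ r ≫ s = (yon S).map φ ≫ b := by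
  let d := quotSpDesc (toQuotSheaf s t hpre) (toQuotSheaf_condition s t hpre)
  have hd : quotSpπ s t ≫ d = toQuotSheaf s t hpre := coequalizer.π_desc _ _
  have h1 : a ≫ toQuotSheaf s t hpre = b ≫ toQuotSheaf s t hpre := by
    rw [← hd, ← Category.assoc, h, Category.assoc]
  have h2 := congrArg (J S).uliftYonedaEquiv h1
  rw [GrothendieckTopology.uliftYonedaEquiv_comp, GrothendieckTopology.uliftYonedaEquiv_comp] at h2
  have hS : Presheaf.equalizerSieve (F := quotPresheaf s t hpre)
      ((toQuotPresheaf s t hpre).app (op T) ((J S).uliftYonedaEquiv a))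
      ((toQuotPresheaf s t hpre).app (op T) ((J S).uliftYonedaEquiv b)) ∈ J S T :=
    Presheaf.equalizerSieve_mem (J S) (toSheafify (J S) (quotPresheaf s t hpre)) _ _ h2
  refine ⟨_, hS, ?_⟩
  intro T' φ hφ
  have := Quotient.exact hφ
  obtain ⟨r, hr1, hr2⟩ := this
  simp only [Equiv.symm_apply_apply] at hr1 hr2
  exact ⟨r, hr1, hr2⟩

end Quot

section Kernel

variable {R U : Sp S} (s t : R ⟶ U) (h : IsEqvRelSp s t)

include h in
/-- For an equivalence relation, locally `R`-equivalent points are `R`-equivalent. -/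
theorem exists_rel_of_locally {T : Over S} (a b : (yon S).obj T ⟶ U) (R₀ : Sieve T)
    (hR₀ : R₀ ∈ J S T) (hrel : ∀ ⦃T' : Over S⦄ (φ : T' ⟶ T), R₀ φ →
      ∃ r : (yon S).obj T' ⟶ R, r ≫ t = (yon S).map φ ≫ a ∧ r ≫ s = (yon S).map φ ≫ b) :
    ∃ r : (yon S).obj T ⟶ R, r ≫ t = a ∧ r ≫ s = b := by
  have hP : Presieve.IsSheaf (J S) R.obj := (isSheaf_iff_isSheaf_of_type _ _).mp R.property
  let fam : Presieve.FamilyOfElements R.obj R₀.arrows :=
    fun W f hf => secEquiv W R (hrel f hf).choose
  have hfam1 : ∀ ⦃W : Over S⦄ (f : W ⟶ T) (hf : R₀ f),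
      (secEquiv W R).symm (fam f hf) ≫ t = (yon S).map f ≫ a := fun W f hf => by
    change (secEquiv W R).symm (secEquiv W R _) ≫ t = _
    rw [Equiv.symm_apply_apply]
    exact (hrel f hf).choose_spec.1
  have hfam2 : ∀ ⦃W : Over S⦄ (f : W ⟶ T) (hf : R₀ f),
      (secEquiv W R).symm (fam f hf) ≫ s = (yon S).map f ≫ b := fun W f hf => by
    change (secEquiv W R).symm (secEquiv W R _) ≫ s = _
    rw [Equiv.symm_apply_apply]
    exact (hrel f hf).choose_spec.2
  have hnat : ∀ ⦃W W' : Over S⦄ (g : W' ⟶ W) (x : R.obj.obj (op W)),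
      (secEquiv W' R).symm (R.obj.map g.op x) =
        (yon S).map g ≫ (secEquiv W R).symm x := by
    intro W W' g x
    apply (secEquiv W' R).injective
    rw [Equiv.apply_symm_apply, ← GrothendieckTopology.uliftYonedaEquiv_naturality,
      Equiv.apply_symm_apply]
  have compat : fam.Compatible := by
    intro Y₁ Y₂ Z' g₁ g₂ f₁ f₂ h₁ h₂ hg
    apply (secEquiv Z' R).symm.injective
    rw [hnat, hnat]
    apply h.injective
    · rw [Category.assoc, Category.assoc, hfam1 f₁ h₁, hfam1 f₂ h₂, ← Category.assoc,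
        ← Category.assoc, ← Functor.map_comp, ← Functor.map_comp, hg]
    · rw [Category.assoc, Category.assoc, hfam2 f₁ h₁, hfam2 f₂ h₂, ← Category.assoc,
        ← Category.assoc, ← Functor.map_comp, ← Functor.map_comp, hg]
  have hsf := hP _ hR₀
  let r := hsf.amalgamate fam compat
  have hr : ∀ ⦃W : Over S⦄ (f : W ⟶ T) (hf : R₀ f), R.obj.map f.op r = fam f hf :=
    fun W f hf => hsf.valid_glue compat f hf
  refine ⟨(secEquiv T R).symm r, ?_, ?_⟩
  · refine eq_of_locally_eq _ _ R₀ hR₀ ?_
    intro T' φ hφ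
    rw [← Category.assoc, ← hnat, hr φ hφ, hfam1 φ hφ]
  · refine eq_of_locally_eq _ _ R₀ hR₀ ?_
    intro T' φ hφ
    rw [← Category.assoc, ← hnat, hr φ hφ, hfam2 φ hφ]

include h in
/-- For an equivalence relation `s, t : R ⇉ U` of sheaves, `R` is the kernel pair of `U ⟶ U/R`. -/
theorem isPullback_quotSpπ : IsPullback t s (quotSpπ s t) (quotSpπ s t) := by
  refine sheaf_isPullback_of_yon.{u, u + 1, u + 1} (J S) _ _ _ _ (quotSp_condition s t).symm ?_ ?_
  · intro T z z' h1 h2
    exact h.injective T z z' h1 h2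
  · intro T x y hxy
    obtain ⟨R₀, hR₀, hrel⟩ := exists_rel_of_quotSpπ_eq s t h.equivalence x y hxy
    exact exists_rel_of_locally s t h x y R₀ hR₀ hrel

end Kernel

end Groth.Agent.Lib.Helper5.SheafQuot
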