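import Mathlib
import Groth.Prelude.Def_AlgSp
import Groth.Prelude.Def_Desc
import Groth.Agent.Lib.Helper5.SheafQuot
import Groth.Agent.Lib.Helper5.AffCore2

/-!
# fppf-local representability of sheaves via effective descent (helper5)

`ξ : G ⟶ h_T` a map of fppf sheaves over `S`, `p : T' ⟶ T` an fppf cover such that
`G ×_{h_T} h_{T'} ≅ h_Z`.  Then `Z ⟶ T'` carries a descent datum relative to `p`, and if it is
effective then `G` is representable.
-/

set_option autoImplicit false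
universe u
open CategoryTheory CategoryTheory.Limits AlgebraicGeometry Opposite Desc

namespace Groth.Agent.Lib.Helper5.FppfRep

open AlgSp Groth.Agent.Lib.Helper5.SheafQuot Groth.Agent.Lib.Helper5.AffCore

variable {S : Scheme.{u}}

/-! ### Sheaf tools for a single fppf cover -/

/-- A single fppf covering morphism generates a covering sieve. -/
theorem generate_singleton_mem_J {T' T : Over S} (c : T' ⟶ T) [Flat c.left] [Surjective c.left]
    [LocallyOfFinitePresentation c.left] :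
    Sieve.generate (Presieve.singleton c) ∈ J S T := by
  rw [AlgSp.J_eq, GrothendieckTopology.mem_over_iff]
  have hmem : Presieve.singleton c.left ∈ Scheme.fppfPrecoverage T.left :=
    c.left.singleton_mem_fppfPrecoverage
  refine (Scheme.fppfTopology).superset_covering ?_
    (Precoverage.generate_mem_toGrothendieck hmem)
  rintro Z _ ⟨W, ψ, _, ⟨⟩, rfl⟩
  rw [Sieve.overEquiv_iff]
  refine ⟨T', (Over.homMk ψ (by
    change ψ ≫ T'.hom = (ψ ≫ c.left) ≫ T.hom
    rw [Category.assoc, Over.w]) : Over.mk ((ψ ≫ c.left) ≫ T.hom) ⟶ T'), c,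
    Presieve.singleton.mk, ?_⟩
  ext1
  rfl

section tools

variable {T' T : Over S} (c : T' ⟶ T) [Flat c.left] [Surjective c.left]
    [LocallyOfFinitePresentation c.left]

/-- Maps from `h_T` to a sheaf agreeing on an fppf cover agree. -/
theorem hom_ext_of_fppf {G : Sp S} (x y : (yon S).obj T ⟶ G)
    (h : (yon S).map c ≫ x = (yon S).map c ≫ y) : x = y := by
  refine eq_of_locally_eq x y _ (generate_singleton_mem_J c) ?_
  rintro T'' φ ⟨Z, ψ, _, ⟨⟩, rfl⟩
  rw [Functor.map_comp, Category.assoc, Category.assoc, h]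

/-- Gluing along a single fppf cover. -/
theorem exists_glue_of_fppf {G : Sp S} (x' : (yon S).obj T' ⟶ G)
    (hx : ∀ (A : Over S) (a b : A ⟶ T'), a ≫ c = b ≫ c →
      (yon S).map a ≫ x' = (yon S).map b ≫ x') :
    ∃ y : (yon S).obj T ⟶ G, (yon S).map c ≫ y = x' := by
  have hG : Presieve.IsSheaf (J S) G.obj := (isSheaf_iff_isSheaf_of_type _ _).1 G.property
  have h1 : Presieve.IsSheafFor G.obj (Presieve.ofArrows (fun _ : PUnit.{u + 1} => T')
      (fun _ => c)) := by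
    apply hG.isSheafFor
    rw [Presieve.ofArrows_pUnit]
    exact generate_singleton_mem_J c
  rw [Presieve.isSheafFor_arrows_iff] at h1
  obtain ⟨t, ht, -⟩ := h1 (fun _ => (J S).uliftYonedaEquiv x') (by
    intro i j Z' gi gj hij
    dsimp only
    rw [GrothendieckTopology.uliftYonedaEquiv_naturality,
      GrothendieckTopology.uliftYonedaEquiv_naturality, hx Z' gi gj hij])
  refine ⟨(J S).uliftYonedaEquiv.symm t, ?_⟩
  apply (J S).uliftYonedaEquiv.injective
  rw [← GrothendieckTopology.uliftYonedaEquiv_naturality, Equiv.apply_symm_apply]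
  exact ht PUnit.unit

end tools

/-- Epimorphisms can be tested by lifting along fppf covers. -/
theorem epi_of_fppf_local_lift {G G' : Sp S} (m : G ⟶ G')
    (h : ∀ (Z : Over S) (z : (yon S).obj Z ⟶ G'), ∃ (Z' : Over S) (c : Z' ⟶ Z),
      Flat c.left ∧ Surjective c.left ∧ LocallyOfFinitePresentation c.left ∧
      ∃ a : (yon S).obj Z' ⟶ G, a ≫ m = (yon S).map c ≫ z) : Epi m := by
  apply epi_of_local_lift
  intro Z z
  obtain ⟨Z', c, h1, h2, h3, a, ha⟩ := h Z z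
  refine ⟨_, generate_singleton_mem_J c, ?_⟩
  rintro T'' φ ⟨Z'', ψ, _, ⟨⟩, rfl⟩
  refine ⟨(yon S).map ψ ≫ a, ?_⟩
  rw [Category.assoc, ha, Functor.map_comp, Category.assoc]

/-! ### The descent datum of a sheaf over `h_T` that is representable over an fppf cover -/

section dd

variable {G : Sp S} {T T' Z : Over S} (ξ : G ⟶ (yon S).obj T) (p : T' ⟶ T)
  (ζ : (yon S).obj Z ⟶ G) (z : Z ⟶ T') (sq : IsPullback ζ ((yon S).map z) ξ ((yon S).map p))

/-- the `S`-structure on a test scheme -/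
abbrev AS {A : Scheme.{u}} (y : A ⟶ T.left) : Over S := Over.mk (y ≫ T.hom)

/-- a point of `T'` as a morphism over `S` -/
def ptT' {A : Scheme.{u}} (y : A ⟶ T.left) (x : A ⟶ T'.left) (hx : x ≫ p.left = y) :
    AS y ⟶ T' :=
  Over.homMk x (by
    change x ≫ T'.hom = y ≫ T.hom
    rw [← hx, Category.assoc, Over.w p])

/-- a point of `Z` as a morphism over `S` -/
def ptZ {A : Scheme.{u}} (y : A ⟶ T.left) (v : A ⟶ Z.left) (hv : (v ≫ z.left) ≫ p.left = y) :
    AS y ⟶ Z :=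
  Over.homMk v (by
    change v ≫ Z.hom = y ≫ T.hom
    rw [← hv, ← Over.w z, ← Over.w p]
    simp only [Category.assoc])

lemma ptZ_z {A : Scheme.{u}} (y : A ⟶ T.left) (v : A ⟶ Z.left)
    (hv : (v ≫ z.left) ≫ p.left = y) :
    ptZ p z y v hv ≫ z = ptT' p y (v ≫ z.left) hv := by
  ext1
  rfl

lemma lifts_z {A : Scheme.{u}} {x : A ⟶ T'.left} (v : Lifts (Over.mk z.left) x) :
    v.1 ≫ z.left = x := v.2

lemma lifts_zp {A : Scheme.{u}} {y : A ⟶ T.left} {x : A ⟶ T'.left} (h : x ≫ p.left = y)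
    (v : Lifts (Over.mk z.left) x) : (v.1 ≫ z.left) ≫ p.left = y := by
  rw [lifts_z z v, h]

include sq in
lemma tr_cond {A : Scheme.{u}} (y : A ⟶ T.left) (x₀ x₁ : A ⟶ T'.left) (h₀ : x₀ ≫ p.left = y)
    (h₁ : x₁ ≫ p.left = y) (v : Lifts (Over.mk z.left) x₀) :
    ((yon S).map (ptZ p z y v.1 (lifts_zp p z h₀ v)) ≫ ζ) ≫ ξ =
      (yon S).map (ptT' p y x₁ h₁) ≫ (yon S).map p := by
  rw [Category.assoc, sq.w, ← Functor.map_comp, ← Functor.map_comp, ← Functor.map_comp]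
  congr 1
  ext1
  change v.1 ≫ z.left ≫ p.left = x₁ ≫ p.left
  rw [h₁, ← Category.assoc, lifts_z z v, h₀]

/-- transport of points -/
noncomputable def tr {A : Scheme.{u}} (y : A ⟶ T.left) (x₀ x₁ : A ⟶ T'.left)
    (h₀ : x₀ ≫ p.left = y) (h₁ : x₁ ≫ p.left = y) (v : Lifts (Over.mk z.left) x₀) :
    Lifts (Over.mk z.left) x₁ :=
  ⟨((yon S).preimage (sq.lift _ _ (tr_cond ξ p ζ z sq y x₀ x₁ h₀ h₁ v))).left, by
    have h := sq.lift_snd _ _ (tr_cond ξ p ζ z sq y x₀ x₁ h₀ h₁ v)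
    rw [← (yon S).map_preimage (sq.lift _ _ (tr_cond ξ p ζ z sq y x₀ x₁ h₀ h₁ v)),
      ← Functor.map_comp] at h
    have h' := congrArg (fun f => f.left) ((yon S).map_injective h)
    exact h'⟩

lemma ptZ_tr {A : Scheme.{u}} (y : A ⟶ T.left) (x₀ x₁ : A ⟶ T'.left)
    (h₀ : x₀ ≫ p.left = y) (h₁ : x₁ ≫ p.left = y) (v : Lifts (Over.mk z.left) x₀) :
    (yon S).map (ptZ p z y (tr ξ p ζ z sq y x₀ x₁ h₀ h₁ v).1
      (lifts_zp p z h₁ (tr ξ p ζ z sq y x₀ x₁ h₀ h₁ v))) =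
      sq.lift _ _ (tr_cond ξ p ζ z sq y x₀ x₁ h₀ h₁ v) := by
  rw [← (yon S).map_preimage (sq.lift _ _ (tr_cond ξ p ζ z sq y x₀ x₁ h₀ h₁ v))]
  congr 1

/-- the transported point has the same image in `G` -/
lemma tr_ζ {A : Scheme.{u}} (y : A ⟶ T.left) (x₀ x₁ : A ⟶ T'.left)
    (h₀ : x₀ ≫ p.left = y) (h₁ : x₁ ≫ p.left = y) (v : Lifts (Over.mk z.left) x₀) :
    (yon S).map (ptZ p z y (tr ξ p ζ z sq y x₀ x₁ h₀ h₁ v).1
      (lifts_zp p z h₁ (tr ξ p ζ z sq y x₀ x₁ h₀ h₁ v))) ≫ ζ =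
      (yon S).map (ptZ p z y v.1 (lifts_zp p z h₀ v)) ≫ ζ := by
  rw [ptZ_tr, sq.lift_fst]

/-- characterization of the transported point -/
lemma tr_spec {A : Scheme.{u}} (y : A ⟶ T.left) (x₀ x₁ : A ⟶ T'.left)
    (h₀ : x₀ ≫ p.left = y) (h₁ : x₁ ≫ p.left = y) (v : Lifts (Over.mk z.left) x₀)
    (v' : Lifts (Over.mk z.left) x₁)
    (h : (yon S).map (ptZ p z y v'.1 (lifts_zp p z h₁ v')) ≫ ζ =
      (yon S).map (ptZ p z y v.1 (lifts_zp p z h₀ v)) ≫ ζ) :
    v' = tr ξ p ζ z sq y x₀ x₁ h₀ h₁ v := by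
  apply Subtype.ext
  have e : (yon S).map (ptZ p z y v'.1 (lifts_zp p z h₁ v')) =
      (yon S).map (ptZ p z y (tr ξ p ζ z sq y x₀ x₁ h₀ h₁ v).1
        (lifts_zp p z h₁ (tr ξ p ζ z sq y x₀ x₁ h₀ h₁ v))) := by
    apply sq.hom_ext
    · rw [h, tr_ζ]
    · rw [← Functor.map_comp, ← Functor.map_comp]
      congr 1
      ext1
      change v'.1 ≫ z.left = (tr ξ p ζ z sq y x₀ x₁ h₀ h₁ v).1 ≫ z.left
      rw [lifts_z z v', lifts_z z]
  exact congrArg (fun f => f.left) ((yon S).map_injective e)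

lemma tr_congr {A : Scheme.{u}} {y y' : A ⟶ T.left} (e : y = y') (x₀ x₁ : A ⟶ T'.left)
    (h₀ : x₀ ≫ p.left = y) (h₁ : x₁ ≫ p.left = y) (h₀' : x₀ ≫ p.left = y')
    (h₁' : x₁ ≫ p.left = y') (v : Lifts (Over.mk z.left) x₀) :
    tr ξ p ζ z sq y x₀ x₁ h₀ h₁ v = tr ξ p ζ z sq y' x₀ x₁ h₀' h₁' v := by
  subst e
  rfl

lemma tr_self {A : Scheme.{u}} (y : A ⟶ T.left) (x₀ : A ⟶ T'.left)
    (h₀ : x₀ ≫ p.left = y) (v : Lifts (Over.mk z.left) x₀) :
    tr ξ p ζ z sq y x₀ x₀ h₀ h₀ v = v :=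
  (tr_spec ξ p ζ z sq y x₀ x₀ h₀ h₀ v v rfl).symm

lemma tr_tr {A : Scheme.{u}} (y : A ⟶ T.left) (x₀ x₁ x₂ : A ⟶ T'.left)
    (h₀ : x₀ ≫ p.left = y) (h₁ : x₁ ≫ p.left = y) (h₂ : x₂ ≫ p.left = y)
    (v : Lifts (Over.mk z.left) x₀) :
    tr ξ p ζ z sq y x₁ x₂ h₁ h₂ (tr ξ p ζ z sq y x₀ x₁ h₀ h₁ v) =
      tr ξ p ζ z sq y x₀ x₂ h₀ h₂ v :=
  tr_spec ξ p ζ z sq y x₀ x₂ h₀ h₂ v _ (by rw [tr_ζ, tr_ζ])

lemma tr_nat {A A' : Scheme.{u}} (g : A' ⟶ A) (y : A ⟶ T.left) (x₀ x₁ : A ⟶ T'.left)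
    (h₀ : x₀ ≫ p.left = y) (h₁ : x₁ ≫ p.left = y) (v : Lifts (Over.mk z.left) x₀)
    (y' : A' ⟶ T.left) (hy' : y' = g ≫ y) (h₀' : (g ≫ x₀) ≫ p.left = y')
    (h₁' : (g ≫ x₁) ≫ p.left = y') (v' : Lifts (Over.mk z.left) (g ≫ x₀)) (hv : v'.1 = g ≫ v.1) :
    (tr ξ p ζ z sq y' (g ≫ x₀) (g ≫ x₁) h₀' h₁' v').1 = g ≫ (tr ξ p ζ z sq y x₀ x₁ h₀ h₁ v).1 := by
  subst hy'
  let w : Lifts (Over.mk z.left) (g ≫ x₁) := ⟨g ≫ (tr ξ p ζ z sq y x₀ x₁ h₀ h₁ v).1, by
    change (g ≫ _) ≫ z.left = _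
    rw [Category.assoc, lifts_z z]⟩
  have key : w = tr ξ p ζ z sq (g ≫ y) (g ≫ x₀) (g ≫ x₁) h₀' h₁' v' := by
    apply tr_spec
    let gh : AS (T := T) (g ≫ y) ⟶ AS y := Over.homMk g (by
      change g ≫ y ≫ T.hom = (g ≫ y) ≫ T.hom
      rw [Category.assoc])
    have e1 : ptZ p z (g ≫ y) w.1 (lifts_zp p z h₁' w) =
        gh ≫ ptZ p z y (tr ξ p ζ z sq y x₀ x₁ h₀ h₁ v).1
          (lifts_zp p z h₁ (tr ξ p ζ z sq y x₀ x₁ h₀ h₁ v)) := by
      ext1; rfl
    have e2 : ptZ p z (g ≫ y) v'.1 (lifts_zp p z h₀' v') =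
        gh ≫ ptZ p z y v.1 (lifts_zp p z h₀ v) := by
      ext1; exact hv
    rw [e1, e2, Functor.map_comp, Functor.map_comp, Category.assoc, Category.assoc, tr_ζ]
  exact (congrArg Subtype.val key).symm

/-- The descent datum on `Z ⟶ T'` relative to `p`. -/
noncomputable def descData : SchDD p.left where
  obj := Over.mk z.left
  φ A x₀ x₁ h :=
    { toFun := tr ξ p ζ z sq (x₀ ≫ p.left) x₀ x₁ rfl h.symm
      invFun := tr ξ p ζ z sq (x₀ ≫ p.left) x₁ x₀ h.symm rfl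
      left_inv := fun v => by rw [tr_tr, tr_self]
      right_inv := fun v => by rw [tr_tr, tr_self] }
  φ_natural A A' g x₀ x₁ h h' v v' hv :=
    tr_nat ξ p ζ z sq g (x₀ ≫ p.left) x₀ x₁ rfl h.symm v _ (Category.assoc _ _ _) rfl h'.symm v' hv
  φ_self A x v := tr_self ξ p ζ z sq _ x rfl v
  φ_comp A x₀ x₁ x₂ h₀₁ h₁₂ v := by
    change tr ξ p ζ z sq (x₁ ≫ p.left) x₁ x₂ rfl h₁₂.symm
      (tr ξ p ζ z sq (x₀ ≫ p.left) x₀ x₁ rfl h₀₁.symm v) =
      tr ξ p ζ z sq (x₀ ≫ p.left) x₀ x₂ rfl (h₀₁.trans h₁₂).symm v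
    rw [tr_congr ξ p ζ z sq h₀₁.symm x₁ x₂ rfl h₁₂.symm h₀₁.symm (h₀₁.trans h₁₂).symm, tr_tr]

lemma descData_φ_iff' {A : Scheme.{u}} (a : A ⟶ S) (vh vh' : Over.mk a ⟶ Z)
    (x₀ x₁ : A ⟶ T'.left) (h : x₀ ≫ p.left = x₁ ≫ p.left) (h₀ : vh.left ≫ z.left = x₀)
    (h₁ : vh'.left ≫ z.left = x₁) :
    ((descData ξ p ζ z sq).φ x₀ x₁ h ⟨vh.left, h₀⟩).1 = vh'.left ↔
      (yon S).map vh' ≫ ζ = (yon S).map vh ≫ ζ := by
  have ha : a = (x₀ ≫ p.left) ≫ T.hom := by
    have := Over.w vh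
    change vh.left ≫ Z.hom = a at this
    rw [← this, ← h₀, ← Over.w z, ← Over.w p]
    simp only [Category.assoc]
  subst ha
  have e1 : vh = ptZ p z (x₀ ≫ p.left) vh.left (by rw [h₀]) := by ext1; rfl
  have e2 : vh' = ptZ p z (x₀ ≫ p.left) vh'.left (by rw [h₁]; exact h.symm) := by ext1; rfl
  constructor
  · intro hh
    have h3 := tr_ζ ξ p ζ z sq (x₀ ≫ p.left) x₀ x₁ rfl h.symm ⟨vh.left, h₀⟩
    rw [e1, e2]
    refine Eq.trans ?_ h3
    congr 2
    ext1
    exact hh.symm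
  · intro hh
    have h3 := tr_spec ξ p ζ z sq (x₀ ≫ p.left) x₀ x₁ rfl h.symm ⟨vh.left, h₀⟩ ⟨vh'.left, h₁⟩ (by
      rw [e1, e2] at hh
      exact hh)
    exact (congrArg Subtype.val h3).symm

lemma descData_φ_iff {B : Over S} (vh vh' : B ⟶ Z)
    (x₀ x₁ : B.left ⟶ T'.left) (h : x₀ ≫ p.left = x₁ ≫ p.left) (h₀ : vh.left ≫ z.left = x₀)
    (h₁ : vh'.left ≫ z.left = x₁) :
    ((descData ξ p ζ z sq).φ x₀ x₁ h ⟨vh.left, h₀⟩).1 = vh'.left ↔
      (yon S).map vh' ≫ ζ = (yon S).map vh ≫ ζ := by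
  obtain ⟨Bl, ⟨⟨⟩⟩, Bh⟩ := B
  exact descData_φ_iff' ξ p ζ z sq Bh vh vh' x₀ x₁ h h₀ h₁

end dd

/-! ### Representability from effectivity -/

section key

variable {G : Sp S} {T T' Z : Over S} (ξ : G ⟶ (yon S).obj T) (p : T' ⟶ T)
  (ζ : (yon S).obj Z ⟶ G) (z : Z ⟶ T') (sq : IsPullback ζ ((yon S).map z) ξ ((yon S).map p))
  (W₀ : Over T.left) (θ : (toDD p.left).obj W₀ ≅ descData ξ p ζ z sq)

/-- the descended scheme, over `S` -/
abbrev WW : Over S := Over.mk (W₀.hom ≫ T.hom)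

/-- its structure map to `T` -/
def ww : WW W₀ ⟶ T := Over.homMk W₀.hom rfl

/-- `T' ×_T W` over `S` -/
noncomputable abbrev WW' : Over S := Over.mk (pullback.snd p.left W₀.hom ≫ (WW W₀).hom)

/-- the cover `T' ×_T W ⟶ W` -/
noncomputable def cc : WW' p W₀ ⟶ WW W₀ := Over.homMk (pullback.snd p.left W₀.hom) rfl

/-- the projection `T' ×_T W ⟶ T'` -/
noncomputable def ff' : WW' p W₀ ⟶ T' := Over.homMk (pullback.fst p.left W₀.hom) (by
  change pullback.fst p.left W₀.hom ≫ T'.hom = pullback.snd p.left W₀.hom ≫ W₀.hom ≫ T.hom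
  rw [← Over.w p, ← Category.assoc, pullback.condition, Category.assoc])

lemma ff'_p : ff' p W₀ ≫ p = cc p W₀ ≫ ww W₀ := by
  ext1
  exact pullback.condition

variable {ξ p ζ z sq W₀}

/-- the underlying isomorphism -/
noncomputable abbrev thL : pullback p.left W₀.hom ⟶ Z.left := θ.hom.hom.left

/-- the underlying inverse -/
noncomputable abbrev thLinv : Z.left ⟶ pullback p.left W₀.hom := θ.inv.hom.left

lemma thL_z : thL θ ≫ z.left = pullback.fst p.left W₀.hom := Over.w θ.hom.hom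

lemma thLinv_fst : thLinv θ ≫ pullback.fst p.left W₀.hom = z.left := Over.w θ.inv.hom

lemma thL_thLinv : thL θ ≫ thLinv θ = 𝟙 _ := congrArg (fun f => f.hom.left) θ.hom_inv_id

lemma thLinv_thL : thLinv θ ≫ thL θ = 𝟙 _ := congrArg (fun f => f.hom.left) θ.inv_hom_id

/-- `θ` over `S` -/
noncomputable def thH : WW' p W₀ ⟶ Z := Over.homMk (thL θ) (by
  change thL θ ≫ Z.hom = pullback.snd p.left W₀.hom ≫ W₀.hom ≫ T.hom
  rw [← Over.w z, ← Category.assoc, thL_z, ← Over.w p, ← Category.assoc, pullback.condition,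
    Category.assoc])

/-- `θ⁻¹` over `S` -/
noncomputable def thHinv : Z ⟶ WW' p W₀ := Over.homMk (thLinv θ) (by
  change thLinv θ ≫ pullback.snd p.left W₀.hom ≫ W₀.hom ≫ T.hom = Z.hom
  rw [← Over.w z, ← thLinv_fst θ, ← Over.w p]
  simp only [Category.assoc]
  rw [pullback.condition_assoc])

lemma thH_thHinv : thH θ ≫ thHinv θ = 𝟙 _ := by
  ext1
  exact thL_thLinv θ

lemma thHinv_thH : thHinv θ ≫ thH θ = 𝟙 _ := by
  ext1
  exact thLinv_thL θ

lemma thH_z : thH θ ≫ z = ff' p W₀ := by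
  ext1
  exact thL_z θ

/-- the section of `G` over `T' ×_T W` -/
noncomputable def gam' : (yon S).obj (WW' p W₀) ⟶ G := (yon S).map (thH θ) ≫ ζ

lemma gam'_compat (A : Over S) (a b : A ⟶ WW' p W₀) (hab : a ≫ cc p W₀ = b ≫ cc p W₀) :
    (yon S).map a ≫ gam' θ = (yon S).map b ≫ gam' θ := by
  unfold gam'
  rw [← Category.assoc, ← Category.assoc, ← Functor.map_comp, ← Functor.map_comp]
  symm
  have hab' : a.left ≫ pullback.snd p.left W₀.hom = b.left ≫ pullback.snd p.left W₀.hom :=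
    congrArg (fun f => f.left) hab
  have h : (a.left ≫ pullback.fst p.left W₀.hom) ≫ p.left =
      (b.left ≫ pullback.fst p.left W₀.hom) ≫ p.left := by
    rw [Category.assoc, Category.assoc, pullback.condition, ← Category.assoc, hab',
      Category.assoc]
  refine (descData_φ_iff ξ p ζ z sq (a ≫ thH θ) (b ≫ thH θ) (a.left ≫ pullback.fst p.left W₀.hom)
    (b.left ≫ pullback.fst p.left W₀.hom) h ?_ ?_).1 ?_
  · change (a.left ≫ thL θ) ≫ z.left = _
    rw [Category.assoc, thL_z]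
  · change (b.left ≫ thL θ) ≫ z.left = _
    rw [Category.assoc, thL_z]
  · have hc := θ.hom.comm (a.left ≫ pullback.fst p.left W₀.hom)
      (b.left ≫ pullback.fst p.left W₀.hom) h ⟨a.left, rfl⟩
      ⟨a.left ≫ thL θ, by
        change (a.left ≫ thL θ) ≫ z.left = _
        rw [Category.assoc, thL_z]⟩ rfl
    refine hc.trans ?_
    change _ ≫ thL θ = b.left ≫ thL θ
    congr 1
    apply pullback.hom_ext
    · exact pullback.lift_fst _ _ _
    · exact (pullback.lift_snd _ _ _).trans hab'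

variable [Flat p.left] [Surjective p.left] [LocallyOfFinitePresentation p.left]

instance : Flat (cc p W₀).left := inferInstanceAs (Flat (pullback.snd p.left W₀.hom))
instance : Surjective (cc p W₀).left := inferInstanceAs (Surjective (pullback.snd p.left W₀.hom))
instance : LocallyOfFinitePresentation (cc p W₀).left :=
  inferInstanceAs (LocallyOfFinitePresentation (pullback.snd p.left W₀.hom))

lemma exists_omega : ∃ ω : (yon S).obj (WW W₀) ⟶ G, (yon S).map (cc p W₀) ≫ ω = gam' θ :=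
  exists_glue_of_fppf (cc p W₀) (gam' θ) (gam'_compat θ)

variable (ω : (yon S).obj (WW W₀) ⟶ G) (hω : (yon S).map (cc p W₀) ≫ ω = gam' θ)

include hω in
lemma omega_ξ : ω ≫ ξ = (yon S).map (ww W₀) := by
  apply hom_ext_of_fppf (cc p W₀)
  rw [← Category.assoc, hω]
  unfold gam'
  rw [Category.assoc, sq.w, ← Functor.map_comp, ← Functor.map_comp, ← Functor.map_comp,
    ← Category.assoc, thH_z, ff'_p]

/-- base change of the cover along a point of `T` -/
noncomputable abbrev AA' {A : Over S} (t : A ⟶ T) : Over S :=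
  Over.mk (pullback.snd p.left t.left ≫ A.hom)

/-- the cover `A' ⟶ A` -/
noncomputable def prA {A : Over S} (t : A ⟶ T) : AA' (p := p) t ⟶ A :=
  Over.homMk (pullback.snd p.left t.left) rfl

/-- the map `A' ⟶ T'` -/
noncomputable def xA {A : Over S} (t : A ⟶ T) : AA' (p := p) t ⟶ T' :=
  Over.homMk (pullback.fst p.left t.left) (by
    change pullback.fst p.left t.left ≫ T'.hom = pullback.snd p.left t.left ≫ A.hom
    rw [← Over.w p, ← Category.assoc, pullback.condition, Category.assoc, Over.w t])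

lemma xA_p {A : Over S} (t : A ⟶ T) : xA (p := p) t ≫ p = prA (p := p) t ≫ t := by
  ext1
  exact pullback.condition

instance {A : Over S} (t : A ⟶ T) : Flat (prA (p := p) t).left :=
  inferInstanceAs (Flat (pullback.snd p.left t.left))
instance {A : Over S} (t : A ⟶ T) : Surjective (prA (p := p) t).left :=
  inferInstanceAs (Surjective (pullback.snd p.left t.left))
instance {A : Over S} (t : A ⟶ T) : LocallyOfFinitePresentation (prA (p := p) t).left :=
  inferInstanceAs (LocallyOfFinitePresentation (pullback.snd p.left t.left))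

/-- lifting a point of `W` over the cover -/
noncomputable def liftA {A : Over S} (t : A ⟶ T) (a : A ⟶ WW W₀) (ht : a ≫ ww W₀ = t) :
    AA' (p := p) t ⟶ WW' p W₀ :=
  Over.homMk (pullback.lift (pullback.fst p.left t.left)
    (pullback.snd p.left t.left ≫ a.left) (by
      rw [pullback.condition, Category.assoc, ← ht]; rfl)) (by
    change pullback.lift _ _ _ ≫ pullback.snd p.left W₀.hom ≫ W₀.hom ≫ T.hom =
      pullback.snd p.left t.left ≫ A.hom
    rw [pullback.lift_snd_assoc, ← Over.w a]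
    rfl)

lemma liftA_cc {A : Over S} (t : A ⟶ T) (a : A ⟶ WW W₀) (ht : a ≫ ww W₀ = t) :
    liftA (p := p) t a ht ≫ cc p W₀ = prA (p := p) t ≫ a := by
  ext1
  exact pullback.lift_snd _ _ _

lemma liftA_ff' {A : Over S} (t : A ⟶ T) (a : A ⟶ WW W₀) (ht : a ≫ ww W₀ = t) :
    liftA (p := p) t a ht ≫ ff' p W₀ = xA (p := p) t := by
  ext1
  exact pullback.lift_fst _ _ _

include hω in
lemma liftA_gam' {A : Over S} (t : A ⟶ T) (a : A ⟶ WW W₀) (ht : a ≫ ww W₀ = t) :
    (yon S).map (liftA (p := p) t a ht) ≫ gam' θ =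
      (yon S).map (prA (p := p) t) ≫ (yon S).map a ≫ ω := by
  rw [← hω, ← Category.assoc, ← Functor.map_comp, liftA_cc, Functor.map_comp, Category.assoc]

include hω in
lemma mono_omega : Mono ω := by
  apply Groth.Agent.Lib.Helper5.SheafQuot.mono_of_yon_cancel
  intro A a b hab
  obtain ⟨a, rfl⟩ := (yon S).map_surjective a
  obtain ⟨b, rfl⟩ := (yon S).map_surjective b
  have hw : b ≫ ww W₀ = a ≫ ww W₀ := by
    apply (yon S).map_injective
    rw [Functor.map_comp, Functor.map_comp, ← omega_ξ θ ω hω, ← Category.assoc,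
      ← Category.assoc, hab]
  congr 1
  set t := a ≫ ww W₀ with ht
  have hepi : Epi (prA (p := p) t).left := Flat.epi_of_flat_of_surjective _
  have e1 : (yon S).map (liftA (p := p) t a rfl ≫ thH θ) =
      (yon S).map (liftA (p := p) t b hw ≫ thH θ) := by
    apply sq.hom_ext
    · have h1 := liftA_gam' θ ω hω t a rfl
      have h2 := liftA_gam' θ ω hω t b hw
      unfold gam' at h1 h2
      rw [← Category.assoc, ← Functor.map_comp] at h1 h2
      rw [h1, h2, hab]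
    · rw [← Functor.map_comp, ← Functor.map_comp, Category.assoc, Category.assoc, thH_z,
        liftA_ff', liftA_ff']
  have e2 : liftA (p := p) t a rfl = liftA (p := p) t b hw := by
    have e3 := (yon S).map_injective e1
    have e4 := congrArg (fun f => f ≫ thHinv θ) e3
    simp only [Category.assoc, thH_thHinv, Category.comp_id] at e4
    exact e4
  have e5 : prA (p := p) t ≫ a = prA (p := p) t ≫ b := by
    rw [← liftA_cc t a rfl, ← liftA_cc t b hw, e2]
  have e6 : (prA (p := p) t).left ≫ a.left = (prA (p := p) t).left ≫ b.left :=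
    congrArg (fun f => f.left) e5
  ext1
  exact (cancel_epi _).1 e6

include hω in
lemma epi_omega : Epi ω := by
  apply epi_of_fppf_local_lift
  intro A γ
  obtain ⟨t, ht⟩ := (yon S).map_surjective (γ ≫ ξ)
  refine ⟨AA' (p := p) t, prA (p := p) t, inferInstance, inferInstance, inferInstance, ?_⟩
  have hcond : ((yon S).map (prA (p := p) t) ≫ γ) ≫ ξ =
      (yon S).map (xA (p := p) t) ≫ (yon S).map p := by
    rw [Category.assoc, ← ht, ← Functor.map_comp, ← Functor.map_comp, xA_p]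
  obtain ⟨v, hv⟩ := (yon S).map_surjective (sq.lift _ _ hcond)
  have hv1 : (yon S).map v ≫ ζ = (yon S).map (prA (p := p) t) ≫ γ := by
    rw [hv, sq.lift_fst]
  refine ⟨(yon S).map (v ≫ thHinv θ ≫ cc p W₀), ?_⟩
  rw [Functor.map_comp, Functor.map_comp, Category.assoc, Category.assoc, hω]
  unfold gam'
  rw [← Category.assoc ((yon S).map (thHinv θ)), ← Functor.map_comp, thHinv_thH]
  erw [(yon S).map_id Z]
  rw [Category.id_comp, hv1]

include hω in
/-- `ω` is an isomorphism. -/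
lemma isIso_omega : IsIso ω := by
  haveI := mono_omega θ ω hω
  haveI := epi_omega θ ω hω
  exact isIso_of_mono_of_epi ω

end key

/-- **fppf-local representability via effective descent.** -/
theorem exists_rep_of_effective {G : Sp S} {T T' Z : Over S} (ξ : G ⟶ (yon S).obj T)
    (p : T' ⟶ T) [Flat p.left] [Surjective p.left] [LocallyOfFinitePresentation p.left]
    (ζ : (yon S).obj Z ⟶ G) (z : Z ⟶ T') (sq : IsPullback ζ ((yon S).map z) ξ ((yon S).map p))
    (heff : ∃ W₀ : Over T.left, Nonempty ((toDD p.left).obj W₀ ≅ descData ξ p ζ z sq)) :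
    ∃ (W : Over S) (w : W ⟶ T) (e : (yon S).obj W ≅ G) (k : Z ⟶ W),
      e.hom ≫ ξ = (yon S).map w ∧ IsPullback k.left z.left w.left p.left ∧
        (yon S).map k ≫ e.hom = ζ := by
  obtain ⟨W₀, ⟨θ⟩⟩ := heff
  obtain ⟨ω, hω⟩ := exists_omega θ
  haveI := isIso_omega θ ω hω
  refine ⟨WW W₀, ww W₀, asIso ω, thHinv θ ≫ cc p W₀, omega_ξ θ ω hω, ?_, ?_⟩
  · have hc : CommSq z.left (thLinv θ ≫ pullback.snd p.left W₀.hom) p.left W₀.hom := ⟨by
      rw [← thLinv_fst θ, Category.assoc, Category.assoc, pullback.condition]⟩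
    let i : Z.left ≅ pullback p.left W₀.hom :=
      ⟨thLinv θ, thL θ, thLinv_thL θ, thL_thLinv θ⟩
    exact (IsPullback.of_iso_pullback hc i (thLinv_fst θ) rfl).flip
  · change (yon S).map (thHinv θ ≫ cc p W₀) ≫ ω = ζ
    rw [Functor.map_comp, Category.assoc, hω]
    unfold gam'
    rw [← Category.assoc, ← Functor.map_comp, thHinv_thH]
    erw [(yon S).map_id Z]
    exact Category.id_comp _

end Groth.Agent.Lib.Helper5.FppfRep
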