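import Mathlib
import Groth.Prelude.Def_AlgSp
import Groth.Agent.Lib.Helper5.FppfRep
import Groth.Agent.Lib.Helper5.DescSepLQF

/-!
# Representability of the diagonal from an fppf-locally liftable chart (helper5)

`q : h_U ⟶ F` with kernel pair `h_R` (`t` locally of finite type), such that every `h_T ⟶ F` lifts to
`U` over an fppf cover of `T`.  Then the diagonal of `F` is representable.
-/

set_option autoImplicit false
universe u
open CategoryTheory CategoryTheory.Limits AlgebraicGeometry Opposite Desc

namespace Groth.Agent.Lib.Helper5.AtlasDiag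

open AlgSp Groth.Agent.Lib.Helper5.FppfRep

variable {S : Scheme.{u}} {F : Sp S} {U R : Over S} (q : (yon S).obj U ⟶ F) (s t : R ⟶ U)
  (hk : IsPullback ((yon S).map t) ((yon S).map s) q q)

/-- the monomorphism `R ⟶ U × U` -/
noncomputable abbrev jj : R ⟶ U ⨯ U := prod.lift t s

include hk in
lemma mono_jj : Mono (jj s t) := by
  constructor
  intro A x y hxy
  have h1 : x ≫ t = y ≫ t := by
    have := congrArg (fun f => f ≫ prod.fst) hxy
    simp only [Category.assoc, prod.lift_fst] at this
    exact this
  have h2 : x ≫ s = y ≫ s := by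
    have := congrArg (fun f => f ≫ prod.snd) hxy
    simp only [Category.assoc, prod.lift_snd] at this
    exact this
  apply (yon S).map_injective
  apply hk.hom_ext
  · rw [← Functor.map_comp, ← Functor.map_comp, h1]
  · rw [← Functor.map_comp, ← Functor.map_comp, h2]

lemma lft_jj [LocallyOfFiniteType t.left] : LocallyOfFiniteType (jj s t).left := by
  have e : (jj s t).left ≫ (prod.fst : U ⨯ U ⟶ U).left = t.left := by
    rw [← Over.comp_left, prod.lift_fst]
  haveI : LocallyOfFiniteType ((jj s t).left ≫ (prod.fst : U ⨯ U ⟶ U).left) := by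
    rw [e]; infer_instance
  exact locallyOfFiniteType_of_comp (jj s t).left (prod.fst : U ⨯ U ⟶ U).left

/-- maps into `h_{U × U}` are determined by their components -/
lemma hom_ext_yon_prod {K : Sp S} (x y : K ⟶ (yon S).obj (U ⨯ U))
    (h1 : x ≫ (yon S).map prod.fst = y ≫ (yon S).map prod.fst)
    (h2 : x ≫ (yon S).map prod.snd = y ≫ (yon S).map prod.snd) : x = y := by
  rw [← cancel_mono (prodComparison (yon S) U U)]
  apply Limits.prod.hom_ext
  · rw [Category.assoc, Category.assoc, prodComparison_fst, h1]
  · rw [Category.assoc, Category.assoc, prodComparison_snd, h2]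

section main

variable {T T' : Over S} (a b : (yon S).obj T ⟶ F) (p : T' ⟶ T) (a' b' : T' ⟶ U)
  (ha : (yon S).map a' ≫ q = (yon S).map p ≫ a) (hb : (yon S).map b' ≫ q = (yon S).map p ≫ b)

/-- the scheme `T' ×_{U × U} R` -/
noncomputable abbrev ZZ : Over S := pullback (jj s t) (prod.lift a' b')

/-- its projection to `T'` -/
noncomputable abbrev zz : ZZ s t a' b' ⟶ T' := pullback.snd _ _

/-- its projection to `R` -/
noncomputable abbrev rr : ZZ s t a' b' ⟶ R := pullback.fst _ _

lemma rr_t : rr s t a' b' ≫ t = zz s t a' b' ≫ a' := by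
  have h := congrArg (fun f => f ≫ prod.fst) (pullback.condition (f := jj s t) (g := prod.lift a' b'))
  simp only [Category.assoc, prod.lift_fst] at h
  exact h

lemma rr_s : rr s t a' b' ≫ s = zz s t a' b' ≫ b' := by
  have h := congrArg (fun f => f ≫ prod.snd) (pullback.condition (f := jj s t) (g := prod.lift a' b'))
  simp only [Category.assoc, prod.lift_snd] at h
  exact h

include hk ha hb in
lemma zet_cond : (yon S).map (zz s t a' b' ≫ p) ≫ a = (yon S).map (zz s t a' b' ≫ p) ≫ b := by
  rw [Functor.map_comp, Category.assoc, Category.assoc, ← ha, ← hb, ← Category.assoc,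
    ← Category.assoc, ← Functor.map_comp, ← Functor.map_comp, ← rr_t, ← rr_s, Functor.map_comp,
    Functor.map_comp, Category.assoc, Category.assoc, hk.w]

/-- the comparison map `h_Z ⟶ Eq(a, b)` -/
noncomputable def zet : (yon S).obj (ZZ s t a' b') ⟶ equalizer a b :=
  equalizer.lift ((yon S).map (zz s t a' b' ≫ p)) (zet_cond q s t hk a b p a' b' ha hb)

lemma zet_ι : zet q s t hk a b p a' b' ha hb ≫ equalizer.ι a b = (yon S).map (zz s t a' b' ≫ p) :=
  equalizer.lift_ι _ _

/-- The base change of the equalizer to the cover is `h_Z`. -/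
theorem sqZ : IsPullback (zet q s t hk a b p a' b' ha hb) ((yon S).map (zz s t a' b'))
    (equalizer.ι a b) ((yon S).map p) := by
  have w : zet q s t hk a b p a' b' ha hb ≫ equalizer.ι a b =
      (yon S).map (zz s t a' b') ≫ (yon S).map p := by
    rw [zet_ι, Functor.map_comp]
  have sqY : IsPullback ((yon S).map (rr s t a' b')) ((yon S).map (zz s t a' b'))
      ((yon S).map (jj s t)) ((yon S).map (prod.lift a' b')) :=
    (IsPullback.of_hasPullback (jj s t) (prod.lift a' b')).map (yon S)
  have he : ∀ c : PullbackCone (equalizer.ι a b) ((yon S).map p),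
      (c.snd ≫ (yon S).map a') ≫ q = (c.snd ≫ (yon S).map b') ≫ q := by
    intro c
    rw [Category.assoc, Category.assoc, ha, hb, ← Category.assoc, ← Category.assoc,
      ← c.condition, Category.assoc, Category.assoc, equalizer.condition]
  have hl : ∀ c : PullbackCone (equalizer.ι a b) ((yon S).map p),
      hk.lift (c.snd ≫ (yon S).map a') (c.snd ≫ (yon S).map b') (he c) ≫ (yon S).map (jj s t) =
        c.snd ≫ (yon S).map (prod.lift a' b') := by
    intro c
    apply hom_ext_yon_prod
    · rw [Category.assoc, Category.assoc, ← Functor.map_comp, ← Functor.map_comp, prod.lift_fst,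
        prod.lift_fst, hk.lift_fst]
    · rw [Category.assoc, Category.assoc, ← Functor.map_comp, ← Functor.map_comp, prod.lift_snd,
        prod.lift_snd, hk.lift_snd]
  refine IsPullback.of_isLimit' ⟨w⟩ (PullbackCone.IsLimit.mk w
    (fun c => sqY.lift _ c.snd (hl c)) ?_ ?_ ?_)
  · intro c
    apply equalizer.hom_ext
    rw [Category.assoc, w, ← Category.assoc, sqY.lift_snd, c.condition]
  · intro c
    exact sqY.lift_snd _ _ _
  · intro c m h1 h2
    apply sqY.hom_ext
    · rw [sqY.lift_fst]
      apply hk.hom_ext
      · rw [hk.lift_fst, Category.assoc, ← Functor.map_comp, rr_t, Functor.map_comp,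
          ← Category.assoc, h2]
      · rw [hk.lift_snd, Category.assoc, ← Functor.map_comp, rr_s, Functor.map_comp,
          ← Category.assoc, h2]
    · rw [sqY.lift_snd, h2]

end main

open Groth.Agent.Lib.Helper5.DescSepLQF in
include hk in
/-- **Representability of the diagonal.** -/
theorem representable_diag [LocallyOfFiniteType t.left]
    (hloc : ∀ (T : Over S) (a : (yon S).obj T ⟶ F), ∃ (T' : Over S) (p : T' ⟶ T),
      Flat p.left ∧ Surjective p.left ∧ LocallyOfFinitePresentation p.left ∧
        ∃ a' : T' ⟶ U, (yon S).map a' ≫ q = (yon S).map p ≫ a) :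
    Representable (Limits.diag F) := by
  intro T c
  set a := c ≫ prod.fst with hadef
  set b := c ≫ prod.snd with hbdef
  obtain ⟨T₁, p₁, h1, h2, h3, a₁, ha₁⟩ := hloc T a
  obtain ⟨T', p₂, h4, h5, h6, b', hb'⟩ := hloc T₁ ((yon S).map p₁ ≫ b)
  let p : T' ⟶ T := p₂ ≫ p₁
  let a' : T' ⟶ U := p₂ ≫ a₁
  haveI : Flat p.left := by change Flat (p₂.left ≫ p₁.left); infer_instance
  haveI : Surjective p.left := by change Surjective (p₂.left ≫ p₁.left); infer_instance
  haveI : LocallyOfFinitePresentation p.left := by
    change LocallyOfFinitePresentation (p₂.left ≫ p₁.left); infer_instance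
  have ha : (yon S).map a' ≫ q = (yon S).map p ≫ a := by
    rw [Functor.map_comp, Functor.map_comp, Category.assoc, Category.assoc, ha₁]
  have hb : (yon S).map b' ≫ q = (yon S).map p ≫ b := by
    rw [hb', Functor.map_comp, Category.assoc]
  have sq := sqZ q s t hk a b p a' b' ha hb
  haveI : Mono (jj s t) := mono_jj q s t hk
  haveI := lft_jj s t
  have hz : IsPullback (rr s t a' b').left (zz s t a' b').left (jj s t).left
      (prod.lift a' b').left := (IsPullback.of_hasPullback _ _).map (Over.forget S)
  haveI : Mono (zz s t a' b') := inferInstance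
  haveI hzm : Mono (zz s t a' b').left := inferInstance
  haveI hzl : LocallyOfFiniteType (zz s t a' b').left :=
    MorphismProperty.of_isPullback (P := @LocallyOfFiniteType) hz inferInstance
  let D := descData (equalizer.ι a b) p (zet q s t hk a b p a' b' ha hb) (zz s t a' b') sq
  haveI : IsSeparated D.obj.hom := inferInstanceAs (IsSeparated (zz s t a' b').left)
  haveI : LocallyOfFiniteType D.obj.hom := hzl
  haveI : LocallyQuasiFinite D.obj.hom := inferInstanceAs (LocallyQuasiFinite (zz s t a' b').left)
  have heff := effective_of_sep_lqf p.left D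
  obtain ⟨W, w, e, k, he, -, -⟩ := exists_rep_of_effective _ p _ _ sq heff
  have hwab : (yon S).map w ≫ a = (yon S).map w ≫ b := by
    rw [← he, Category.assoc, Category.assoc, equalizer.condition]
  have hw : ((yon S).map w ≫ a) ≫ Limits.diag F = (yon S).map w ≫ c := by
    apply Limits.prod.hom_ext
    · rw [Category.assoc, Limits.diag, prod.lift_fst, Category.comp_id, Category.assoc]
    · rw [Category.assoc, Limits.diag, prod.lift_snd, Category.comp_id, Category.assoc]
      exact hwab
  refine ⟨W, w, (yon S).map w ≫ a, IsPullback.of_isLimit' ⟨hw⟩ (PullbackCone.IsLimit.mk hw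
    (fun cn => equalizer.lift cn.snd (by
      have h1 := congrArg (fun f => f ≫ prod.fst) cn.condition
      have h2 := congrArg (fun f => f ≫ prod.snd) cn.condition
      simp only [Category.assoc, Limits.diag, prod.lift_fst, prod.lift_snd,
        Category.comp_id] at h1 h2
      exact h1.symm.trans h2) ≫ e.inv) ?_ ?_ ?_)⟩
  · intro cn
    have h1 := congrArg (fun f => f ≫ prod.fst) cn.condition
    simp only [Category.assoc, Limits.diag, prod.lift_fst, Category.comp_id] at h1
    rw [Category.assoc, ← Category.assoc e.inv, ← he, ← Category.assoc e.inv, e.inv_hom_id,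
      Category.id_comp, ← Category.assoc, equalizer.lift_ι, h1]
  · intro cn
    rw [Category.assoc, ← he, ← Category.assoc e.inv, e.inv_hom_id, Category.id_comp,
      equalizer.lift_ι]
  · intro cn m h1 h2
    rw [← cancel_mono e.hom, Category.assoc, e.inv_hom_id, Category.comp_id]
    apply equalizer.hom_ext
    rw [equalizer.lift_ι, Category.assoc, he, h2]

end Groth.Agent.Lib.Helper5.AtlasDiag
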