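import Mathlib
import Groth.Agent.Lib.Helper36.AlgSpCharts
import Groth.Agent.Lib.Helper23.AlgSpMor2

/-!
# Zariski-local representability for fppf sheaves over a scheme (helper5)

Let `p : F ⟶ h_T` be a morphism of fppf sheaves over `S` with `T` a scheme over `S`.  If over every
affine open `W` of `T` the fibre product `F ×_{h_T} h_W` is representable, then `F` is representable
(`exists_rep_of_local`): the representing schemes glue (Mathlib's relative gluing).
-/

set_option autoImplicit false
universe u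
open CategoryTheory CategoryTheory.Limits AlgebraicGeometry Opposite

namespace Groth.Agent.Lib.Helper5.LocalRep

open AlgSp Groth.Agent.Lib.Helper36.AlgSpCharts Groth.Agent.Lib.Helper23.AlgSpMor

variable {S : Scheme.{u}}

/-! ### Sheaf-theoretic tools -/

/-- A jointly surjective family of open immersions generates a covering sieve. -/
theorem ofArrows_mem_J {Z : Over S} {ι : Type u} (Y : ι → Over S) (f : ∀ i, Y i ⟶ Z)
    (hf : ∀ i, IsOpenImmersion (f i).left) (hc : ∀ z : ↥Z.left, ∃ i, z ∈ Set.range (f i).left) :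
    Sieve.ofArrows Y f ∈ J S Z := by
  rw [AlgSp.J_eq, GrothendieckTopology.mem_over_iff, Sieve.overEquiv_ofArrows]
  let 𝒰 : Z.left.OpenCover := Scheme.Cover.mkOfCovers ι (fun i => (Y i).left) (fun i => (f i).left)
    (fun x => by obtain ⟨i, y, hy⟩ := hc x; exact ⟨i, y, hy⟩) hf
  exact Precoverage.toGrothendieck_mono Scheme.zariskiPrecoverage_le_fppfPrecoverage _
    𝒰.mem_grothendieckTopology

/-- **Tool A.** Morphisms from `h_Z` to a sheaf agreeing on a Zariski covering agree. -/
theorem hom_ext_of_cover {Z : Over S} {G : Sp S} {ι : Type u} (Y : ι → Over S) (f : ∀ i, Y i ⟶ Z)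
    (hf : ∀ i, IsOpenImmersion (f i).left) (hc : ∀ z : ↥Z.left, ∃ i, z ∈ Set.range (f i).left)
    (x y : (yon S).obj Z ⟶ G) (h : ∀ i, (yon S).map (f i) ≫ x = (yon S).map (f i) ≫ y) : x = y := by
  apply (J S).uliftYonedaEquiv.injective
  have hG : Presieve.IsSheaf (J S) G.obj := (isSheaf_iff_isSheaf_of_type _ _).1 G.property
  refine (hG.isSheafFor (Presieve.ofArrows Y f) (ofArrows_mem_J Y f hf hc)).isSeparatedFor.ext ?_
  rintro _ _ ⟨i⟩
  rw [GrothendieckTopology.uliftYonedaEquiv_naturality,
    GrothendieckTopology.uliftYonedaEquiv_naturality, h i]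

/-- **Tool B.** Compatible morphisms from the members of a Zariski covering of `Z` to a sheaf glue. -/
theorem exists_glue_of_cover {Z : Over S} {G : Sp S} {ι : Type u} (Y : ι → Over S)
    (f : ∀ i, Y i ⟶ Z)
    (hf : ∀ i, IsOpenImmersion (f i).left) (hc : ∀ z : ↥Z.left, ∃ i, z ∈ Set.range (f i).left)
    (x : ∀ i, (yon S).obj (Y i) ⟶ G)
    (hx : ∀ (i j : ι) (Z' : Over S) (gi : Z' ⟶ Y i) (gj : Z' ⟶ Y j), gi ≫ f i = gj ≫ f j →
      (yon S).map gi ≫ x i = (yon S).map gj ≫ x j) :
    ∃ y : (yon S).obj Z ⟶ G, ∀ i, (yon S).map (f i) ≫ y = x i := by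
  have hG : Presieve.IsSheaf (J S) G.obj := (isSheaf_iff_isSheaf_of_type _ _).1 G.property
  have h1 : Presieve.IsSheafFor G.obj (Presieve.ofArrows Y f) :=
    hG.isSheafFor (Presieve.ofArrows Y f) (ofArrows_mem_J Y f hf hc)
  rw [Presieve.isSheafFor_arrows_iff] at h1
  obtain ⟨t, ht, -⟩ := h1 (fun i => (J S).uliftYonedaEquiv (x i)) (by
    intro i j Z' gi gj hij
    dsimp only
    rw [GrothendieckTopology.uliftYonedaEquiv_naturality,
      GrothendieckTopology.uliftYonedaEquiv_naturality, hx i j Z' gi gj hij])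
  refine ⟨(J S).uliftYonedaEquiv.symm t, fun i => ?_⟩
  apply (J S).uliftYonedaEquiv.injective
  rw [← GrothendieckTopology.uliftYonedaEquiv_naturality, Equiv.apply_symm_apply]
  exact ht i


/-- **Lemma M.** Monomorphisms of sheaves can be tested on representables. -/
theorem mono_of_yon_cancel {G G' : Sp S} (m : G ⟶ G')
    (h : ∀ (Z : Over S) (a b : (yon S).obj Z ⟶ G), a ≫ m = b ≫ m → a = b) : Mono m := by
  suffices h' : Mono m.hom from Sheaf.Hom.mono_of_presheaf_mono _ _ m
  rw [NatTrans.mono_iff_mono_app]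
  intro Z
  rw [mono_iff_injective]
  intro x x' hxx'
  obtain ⟨Z⟩ := Z
  have := h Z ((J S).uliftYonedaEquiv.symm x) ((J S).uliftYonedaEquiv.symm x') (by
    rw [GrothendieckTopology.uliftYonedaEquiv_symm_naturality_right,
      GrothendieckTopology.uliftYonedaEquiv_symm_naturality_right]
    exact congrArg _ hxx')
  exact (J S).uliftYonedaEquiv.symm.injective this

/-- **Lemma E.** A morphism of sheaves through which every section lifts Zariski locally is an
epimorphism. -/
theorem epi_of_local_lift {G G' : Sp S} (m : G ⟶ G')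
    (h : ∀ (Z : Over S) (z : (yon S).obj Z ⟶ G') (pt : ↥Z.left), ∃ O : Z.left.Opens, pt ∈ O ∧
      ∃ a : (yon S).obj (overOpens Z O) ⟶ G, a ≫ m = (yon S).map (overOpensι Z O) ≫ z) :
    Epi m := by
  have : Sheaf.IsLocallySurjective m := by
    refine ⟨fun {Z} s => ?_⟩
    choose O hO a ha using h Z ((J S).uliftYonedaEquiv.symm s)
    refine (J S).superset_covering ?_ (ofArrows_mem_J (fun pt : ↥Z.left => overOpens Z (O pt))
      (fun pt => overOpensι Z (O pt)) (fun pt => by change IsOpenImmersion (O pt).ι; infer_instance)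
      (fun pt => ⟨pt, ⟨⟨pt, hO pt⟩, rfl⟩⟩))
    rw [Sieve.ofArrows, Sieve.generate_le_iff]
    rintro _ _ ⟨pt⟩
    refine ⟨(J S).uliftYonedaEquiv (a pt), ?_⟩
    have := congrArg (J S).uliftYonedaEquiv (ha pt)
    rw [GrothendieckTopology.uliftYonedaEquiv_comp,
      ← GrothendieckTopology.uliftYonedaEquiv_naturality, Equiv.apply_symm_apply] at this
    exact this
  infer_instance

/-! ### Representing data over opens of `T` -/

/-- The inclusion of open subschemes of `T`, over `S`. -/
noncomputable def overOpensLE (T : Over S) {W' W : T.left.Opens} (h : W' ≤ W) :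
    overOpens T W' ⟶ overOpens T W :=
  Over.homMk (T.left.homOfLE h) (by
    change T.left.homOfLE h ≫ W.ι ≫ T.hom = W'.ι ≫ T.hom
    rw [Scheme.homOfLE_ι_assoc])

@[simp] lemma overOpensLE_left (T : Over S) {W' W : T.left.Opens} (h : W' ≤ W) :
    (overOpensLE T h).left = T.left.homOfLE h := rfl

lemma overOpensLE_ι (T : Over S) {W' W : T.left.Opens} (h : W' ≤ W) :
    overOpensLE T h ≫ overOpensι T W = overOpensι T W' := by
  ext1
  change T.left.homOfLE h ≫ W.ι = W'.ι
  exact Scheme.homOfLE_ι _ _

instance (T : Over S) (W : T.left.Opens) : Mono (overOpensι T W) := by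
  have : Mono ((Over.forget S).map (overOpensι T W)) := by
    change Mono W.ι
    infer_instance
  exact (Over.forget S).mono_of_mono_map this

/-- Representing data for `F ×_{h_T} h_W`. -/
structure RepData {T : Over S} {F : Sp S} (p : F ⟶ (yon S).obj T) (W : T.left.Opens) where
  /-- the representing scheme -/
  V : Over S
  /-- its structure map to `W` -/
  q : V ⟶ overOpens T W
  /-- the universal element -/
  v : (yon S).obj V ⟶ F
  sq : IsPullback v ((yon S).map q) p ((yon S).map (overOpensι T W))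

namespace RepData

variable {T : Over S} {F : Sp S} {p : F ⟶ (yon S).obj T}

/-- The transition map between representing schemes. -/
noncomputable def trans {W' W : T.left.Opens} (D' : RepData p W') (D : RepData p W) (h : W' ≤ W) :
    D'.V ⟶ D.V :=
  (yon S).preimage (D.sq.lift D'.v ((yon S).map (D'.q ≫ overOpensLE T h)) (by
    rw [D'.sq.w, ← Functor.map_comp, ← Functor.map_comp, Category.assoc, overOpensLE_ι]))

lemma trans_v {W' W : T.left.Opens} (D' : RepData p W') (D : RepData p W) (h : W' ≤ W) :
    (yon S).map (trans D' D h) ≫ D.v = D'.v := by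
  rw [trans, Functor.map_preimage, IsPullback.lift_fst]

lemma trans_q {W' W : T.left.Opens} (D' : RepData p W') (D : RepData p W) (h : W' ≤ W) :
    trans D' D h ≫ D.q = D'.q ≫ overOpensLE T h := by
  apply (yon S).map_injective
  rw [Functor.map_comp, trans, Functor.map_preimage, IsPullback.lift_snd]

lemma trans_unique {W' W : T.left.Opens} (D' : RepData p W') (D : RepData p W) (h : W' ≤ W)
    (s : D'.V ⟶ D.V) (h1 : (yon S).map s ≫ D.v = D'.v) (h2 : s ≫ D.q = D'.q ≫ overOpensLE T h) :
    s = trans D' D h := by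
  apply (yon S).map_injective
  apply D.sq.hom_ext
  · rw [h1, trans_v]
  · rw [← Functor.map_comp, ← Functor.map_comp, h2, trans_q]

lemma isPullback_trans {W' W : T.left.Opens} (D' : RepData p W') (D : RepData p W) (h : W' ≤ W) :
    IsPullback (trans D' D h) D'.q D.q (overOpensLE T h) := by
  apply isPullback_of_yon
  refine IsPullback.of_right ?_ ?_ D.sq
  · rw [trans_v, ← Functor.map_comp, overOpensLE_ι]
    exact D'.sq
  · rw [← Functor.map_comp, ← Functor.map_comp, trans_q]

end RepData


/-! ### Gluing -/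

section Glue

variable {T : Over S} {F : Sp S} {p : F ⟶ (yon S).obj T}
  (D : ∀ W : T.left.affineOpens, RepData p W.1)

lemma overOpensLE_refl (T : Over S) (W : T.left.Opens) : overOpensLE T (le_refl W) = 𝟙 _ := by
  ext1
  change T.left.homOfLE (le_refl W) = 𝟙 _
  exact Scheme.homOfLE_rfl _ _

lemma overOpensLE_trans (T : Over S) {W'' W' W : T.left.Opens} (h : W'' ≤ W') (h' : W' ≤ W) :
    overOpensLE T h ≫ overOpensLE T h' = overOpensLE T (h.trans h') := by
  ext1
  change T.left.homOfLE h ≫ T.left.homOfLE h' = T.left.homOfLE (h.trans h')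
  exact Scheme.homOfLE_homOfLE _ _ _

lemma trans_refl (W : T.left.affineOpens) :
    RepData.trans (D W) (D W) (le_refl W.1) = 𝟙 _ := by
  symm
  apply RepData.trans_unique
  · rw [CategoryTheory.Functor.map_id, Category.id_comp]
  · rw [Category.id_comp, overOpensLE_refl, Category.comp_id]

lemma trans_trans {W'' W' W : T.left.affineOpens} (h : W''.1 ≤ W'.1) (h' : W'.1 ≤ W.1) :
    RepData.trans (D W'') (D W) (h.trans h') =
      RepData.trans (D W'') (D W') h ≫ RepData.trans (D W') (D W) h' := by
  symm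
  apply RepData.trans_unique
  · rw [CategoryTheory.Functor.map_comp, Category.assoc, RepData.trans_v, RepData.trans_v]
  · rw [Category.assoc, RepData.trans_q, ← Category.assoc, RepData.trans_q, Category.assoc,
      overOpensLE_trans]

/-- The relative gluing datum defined by representing data over all affine opens. -/
noncomputable def gluingData :
    Scheme.Cover.RelativeGluingData T.left.directedAffineCover where
  functor :=
    { obj := fun (W : T.left.affineOpens) => (D W).V.left
      map := fun {W' W : T.left.affineOpens} hij =>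
        (RepData.trans (D W') (D W) (leOfHom hij)).left
      map_id := fun (W : T.left.affineOpens) => congrArg CommaMorphism.left (trans_refl D W)
      map_comp := fun {W'' W' W : T.left.affineOpens} f g =>
        congrArg CommaMorphism.left (trans_trans D (leOfHom f) (leOfHom g)) }
  natTrans :=
    { app := fun (W : T.left.affineOpens) => (D W).q.left
      naturality := fun (W' W : T.left.affineOpens) f =>
        congrArg CommaMorphism.left (RepData.trans_q (D W') (D W) (leOfHom f)) }
  equifibered := fun (W' W : T.left.affineOpens) f =>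
    (RepData.isPullback_trans (D W') (D W) (leOfHom f)).map (Over.forget S)

/-- The glued scheme, over `S`. -/
noncomputable def gluedV : Over S := Over.mk ((gluingData D).toBase ≫ T.hom)

/-- The structure map of the glued scheme to `T`. -/
noncomputable def gluedQ : gluedV D ⟶ T := Over.homMk (gluingData D).toBase rfl

/-- The inclusions of the pieces into the glued scheme. -/
noncomputable def gluedι (W : T.left.affineOpens) : (D W).V ⟶ gluedV D :=
  Over.homMk (colimit.ι (gluingData D).functor W) (by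
    change colimit.ι (gluingData D).functor W ≫ (gluingData D).toBase ≫ T.hom = (D W).V.hom
    rw [Scheme.Cover.RelativeGluingData.ι_toBase_assoc]
    exact Over.w (D W).q)

instance (W : T.left.affineOpens) : IsOpenImmersion (gluedι D W).left :=
  inferInstanceAs (IsOpenImmersion (colimit.ι (gluingData D).functor W))

instance (W : T.left.affineOpens) : Mono (gluedι D W) := by
  have : Mono ((Over.forget S).map (gluedι D W)) := by
    change Mono (gluedι D W).left
    infer_instance
  exact (Over.forget S).mono_of_mono_map this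

lemma gluedι_gluedQ (W : T.left.affineOpens) :
    gluedι D W ≫ gluedQ D = (D W).q ≫ overOpensι T W.1 := by
  ext1
  exact Scheme.Cover.RelativeGluingData.ι_toBase (gluingData D) W

lemma trans_gluedι {W' W : T.left.affineOpens} (h : W'.1 ≤ W.1) :
    RepData.trans (D W') (D W) h ≫ gluedι D W = gluedι D W' := by
  ext1
  exact colimit.w (gluingData D).functor (homOfLE h)

lemma gluedι_jointly_surjective (x : ↥(gluedV D).left) :
    ∃ W : T.left.affineOpens, x ∈ Set.range (gluedι D W).left := by
  obtain ⟨W, y, hy⟩ := Scheme.IsLocallyDirected.ι_jointly_surjective (gluingData D).functor x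
  exact ⟨W, y, hy⟩

lemma isPullback_gluedι (W : T.left.affineOpens) :
    IsPullback (gluedι D W).left (D W).q.left (gluedQ D).left W.1.ι :=
  ((gluingData D).isPullback_natTrans_ι_toBase W).flip

/-- Restriction of a morphism over `S` to opens of source and target. -/
noncomputable def overResLE {Z T : Over S} (c : Z ⟶ T) (W : T.left.Opens) (O : Z.left.Opens)
    (e : O ≤ c.left ⁻¹ᵁ W) : overOpens Z O ⟶ overOpens T W :=
  Over.homMk (c.left.resLE W O e) (by
    change c.left.resLE W O e ≫ W.ι ≫ T.hom = O.ι ≫ Z.hom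
    rw [Scheme.Hom.resLE_comp_ι_assoc, Over.w c])

lemma overResLE_ι {Z T : Over S} (c : Z ⟶ T) (W : T.left.Opens) (O : Z.left.Opens)
    (e : O ≤ c.left ⁻¹ᵁ W) : overResLE c W O e ≫ overOpensι T W = overOpensι Z O ≫ c := by
  ext1
  exact Scheme.Hom.resLE_comp_ι _ _

/-- Local factorisation: a morphism to `V_W` whose image in `T` lies in `W'' ≤ W` factors through
`V_{W''}`. -/
lemma exists_factor_trans {W'' W : T.left.affineOpens} (h : W''.1 ≤ W.1) {Z : Over S}
    (g : Z ⟶ (D W).V) (c' : Z ⟶ overOpens T W''.1)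
    (hc : g ≫ (D W).q ≫ overOpensι T W.1 = c' ≫ overOpensι T W''.1) :
    ∃ b : Z ⟶ (D W'').V, b ≫ RepData.trans (D W'') (D W) h = g ∧ b ≫ (D W'').q = c' := by
  have comm : g ≫ (D W).q = c' ≫ overOpensLE T h := by
    rw [← cancel_mono (overOpensι T W.1), Category.assoc, Category.assoc, overOpensLE_ι, hc]
  exact ⟨(RepData.isPullback_trans (D W'') (D W) h).lift g c' comm,
    IsPullback.lift_fst _ _ _ _, IsPullback.lift_snd _ _ _ _⟩

/-- The universal elements are compatible on the glued scheme. -/
lemma compat (W W' : T.left.affineOpens) (Z : Over S) (gi : Z ⟶ (D W).V) (gj : Z ⟶ (D W').V)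
    (hij : gi ≫ gluedι D W = gj ≫ gluedι D W') :
    (yon S).map gi ≫ (D W).v = (yon S).map gj ≫ (D W').v := by
  classical
  -- the common map to `T`
  set c : Z ⟶ T := gi ≫ (D W).q ≫ overOpensι T W.1 with hc
  have hc' : c = gj ≫ (D W').q ≫ overOpensι T W'.1 := by
    rw [hc, ← gluedι_gluedQ, ← gluedι_gluedQ, ← Category.assoc, hij, Category.assoc]
  have hmem : ∀ z : ↥Z.left, c.left z ∈ W.1 ⊓ W'.1 := by
    intro z
    constructor
    · have : c.left z = W.1.ι (((D W).q.left) (gi.left z)) := by rw [hc]; rfl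
      rw [this]; exact (((D W).q.left) (gi.left z)).2
    · have : c.left z = W'.1.ι (((D W').q.left) (gj.left z)) := by rw [hc']; rfl
      rw [this]; exact (((D W').q.left) (gj.left z)).2
  have hex : ∀ z : ↥Z.left, ∃ W'' : T.left.affineOpens, c.left z ∈ W''.1 ∧ W''.1 ≤ W.1 ⊓ W'.1 := by
    intro z
    obtain ⟨_, ⟨W'', hW'', rfl⟩, hz, hsub⟩ :=
      T.left.isBasis_affineOpens.exists_subset_of_mem_open (hmem z) (W.1 ⊓ W'.1).isOpen
    exact ⟨⟨W'', hW''⟩, hz, hsub⟩
  choose W'' hW''z hW''le using hex
  let O : ↥Z.left → Z.left.Opens := fun z => c.left ⁻¹ᵁ (W'' z).1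
  refine hom_ext_of_cover (fun z => overOpens Z (O z)) (fun z => overOpensι Z (O z))
    (fun z => by change IsOpenImmersion (O z).ι; infer_instance)
    (fun z => ⟨z, ⟨⟨z, hW''z z⟩, rfl⟩⟩) _ _ fun z => ?_
  have h1 : (W'' z).1 ≤ W.1 := (hW''le z).trans inf_le_left
  have h2 : (W'' z).1 ≤ W'.1 := (hW''le z).trans inf_le_right
  set cO := overResLE c (W'' z).1 (O z) le_rfl with hcO
  have hcOι : cO ≫ overOpensι T (W'' z).1 = overOpensι Z (O z) ≫ c := overResLE_ι _ _ _ _
  obtain ⟨b, hb1, hb2⟩ := exists_factor_trans D h1 (overOpensι Z (O z) ≫ gi) cO (by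
    rw [Category.assoc, hcOι])
  obtain ⟨b', hb'1, hb'2⟩ := exists_factor_trans D h2 (overOpensι Z (O z) ≫ gj) cO (by
    rw [Category.assoc, hcOι, hc'])
  have e1 : b ≫ gluedι D (W'' z) = overOpensι Z (O z) ≫ gi ≫ gluedι D W := by
    rw [← trans_gluedι D h1, ← Category.assoc, hb1, Category.assoc]
  have e2 : b' ≫ gluedι D (W'' z) = overOpensι Z (O z) ≫ gj ≫ gluedι D W' := by
    rw [← trans_gluedι D h2, ← Category.assoc, hb'1, Category.assoc]
  have hbb' : b = b' := by
    rw [← cancel_mono (gluedι D (W'' z)), e1, e2, hij]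
  rw [← Category.assoc, ← Functor.map_comp, ← hb1, Functor.map_comp, Category.assoc,
    RepData.trans_v, ← Category.assoc, ← Functor.map_comp, ← hb'1, Functor.map_comp,
    Category.assoc, RepData.trans_v, hbb']

/-- The universal element over the glued scheme. -/
lemma exists_phi : ∃ φ : (yon S).obj (gluedV D) ⟶ F,
    (∀ W : T.left.affineOpens, (yon S).map (gluedι D W) ≫ φ = (D W).v) ∧
      φ ≫ p = (yon S).map (gluedQ D) := by
  obtain ⟨φ, hφ⟩ := exists_glue_of_cover (fun W : T.left.affineOpens => (D W).V) (gluedι D)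
    (fun W => inferInstance) (gluedι_jointly_surjective D) (fun W => (D W).v)
    (fun W W' Z gi gj hij => compat D W W' Z gi gj hij)
  refine ⟨φ, hφ, ?_⟩
  refine hom_ext_of_cover (fun W : T.left.affineOpens => (D W).V) (gluedι D)
    (fun W => inferInstance) (gluedι_jointly_surjective D) _ _ fun W => ?_
  rw [← Category.assoc, hφ W, (D W).sq.w, ← Functor.map_comp, ← Functor.map_comp, gluedι_gluedQ]

/-- The pullback square of the glued scheme over an affine open, over `S`. -/
lemma isPullback_gluedι_over (W : T.left.affineOpens) :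
    IsPullback (gluedι D W) (D W).q (gluedQ D) (overOpensι T W.1) :=
  IsPullback.of_map (Over.forget S) (gluedι_gluedQ D W) (isPullback_gluedι D W)

variable {D} in
lemma mono_phi (φ : (yon S).obj (gluedV D) ⟶ F)
    (hφ1 : ∀ W : T.left.affineOpens, (yon S).map (gluedι D W) ≫ φ = (D W).v)
    (hφ2 : φ ≫ p = (yon S).map (gluedQ D)) : Mono φ := by
  classical
  refine mono_of_yon_cancel φ fun Z a b hab => ?_
  obtain ⟨a', rfl⟩ : ∃ a' : Z ⟶ gluedV D, (yon S).map a' = a := ⟨_, Functor.map_preimage _ _⟩
  obtain ⟨b', rfl⟩ : ∃ b' : Z ⟶ gluedV D, (yon S).map b' = b := ⟨_, Functor.map_preimage _ _⟩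
  have hc : a' ≫ gluedQ D = b' ≫ gluedQ D := by
    apply (yon S).map_injective
    rw [Functor.map_comp, Functor.map_comp, ← hφ2, ← Category.assoc, hab, Category.assoc]
  set c : Z ⟶ T := a' ≫ gluedQ D with hcdef
  have hex : ∀ z : ↥Z.left, ∃ W : T.left.affineOpens, c.left z ∈ W.1 := by
    intro z
    obtain ⟨_, ⟨W, hW, rfl⟩, hz, -⟩ :=
      T.left.isBasis_affineOpens.exists_subset_of_mem_open (Set.mem_univ (c.left z)) isOpen_univ
    exact ⟨⟨W, hW⟩, hz⟩
  choose W hW using hex
  let O : ↥Z.left → Z.left.Opens := fun z => c.left ⁻¹ᵁ (W z).1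
  refine hom_ext_of_cover (fun z => overOpens Z (O z)) (fun z => overOpensι Z (O z))
    (fun z => by change IsOpenImmersion (O z).ι; infer_instance)
    (fun z => ⟨z, ⟨⟨z, hW z⟩, rfl⟩⟩) _ _ fun z => ?_
  set cO := overResLE c (W z).1 (O z) le_rfl with hcO
  have hcOι : cO ≫ overOpensι T (W z).1 = overOpensι Z (O z) ≫ c := overResLE_ι _ _ _ _
  have sqW := isPullback_gluedι_over D (W z)
  obtain ⟨aW, ha1, ha2⟩ : ∃ aW : overOpens Z (O z) ⟶ (D (W z)).V,
      aW ≫ gluedι D (W z) = overOpensι Z (O z) ≫ a' ∧ aW ≫ (D (W z)).q = cO :=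
    ⟨sqW.lift (overOpensι Z (O z) ≫ a') cO (by rw [Category.assoc, hcOι]),
      sqW.lift_fst _ _ _, sqW.lift_snd _ _ _⟩
  obtain ⟨bW, hb1, hb2⟩ : ∃ bW : overOpens Z (O z) ⟶ (D (W z)).V,
      bW ≫ gluedι D (W z) = overOpensι Z (O z) ≫ b' ∧ bW ≫ (D (W z)).q = cO :=
    ⟨sqW.lift (overOpensι Z (O z) ≫ b') cO (by rw [Category.assoc, hcOι, hc]),
      sqW.lift_fst _ _ _, sqW.lift_snd _ _ _⟩
  have hab' : aW = bW := by
    apply (yon S).map_injective
    apply (D (W z)).sq.hom_ext
    · rw [← hφ1 (W z), ← Category.assoc, ← Category.assoc, ← Functor.map_comp, ← Functor.map_comp,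
        ha1, hb1, Functor.map_comp, Functor.map_comp, Category.assoc, Category.assoc, hab]
    · rw [← Functor.map_comp, ← Functor.map_comp, ha2, hb2]
  rw [← Functor.map_comp, ← Functor.map_comp, ← ha1, ← hb1, hab']

variable {D} in
lemma epi_phi (φ : (yon S).obj (gluedV D) ⟶ F)
    (hφ1 : ∀ W : T.left.affineOpens, (yon S).map (gluedι D W) ≫ φ = (D W).v) : Epi φ := by
  classical
  refine epi_of_local_lift φ fun Z z pt => ?_
  set c : Z ⟶ T := (yon S).preimage (z ≫ p) with hcdef
  have hc : (yon S).map c = z ≫ p := Functor.map_preimage _ _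
  obtain ⟨_, ⟨W, hW, rfl⟩, hz, -⟩ :=
    T.left.isBasis_affineOpens.exists_subset_of_mem_open (Set.mem_univ (c.left pt)) isOpen_univ
  let W' : T.left.affineOpens := ⟨W, hW⟩
  refine ⟨c.left ⁻¹ᵁ W, hz, ?_⟩
  set O : Z.left.Opens := c.left ⁻¹ᵁ W
  set cO := overResLE c W O le_rfl with hcO
  have hcOι : cO ≫ overOpensι T W = overOpensι Z O ≫ c := overResLE_ι _ _ _ _
  have comm : ((yon S).map (overOpensι Z O) ≫ z) ≫ p =
      (yon S).map cO ≫ (yon S).map (overOpensι T W) := by
    rw [Category.assoc, ← hc, ← Functor.map_comp, ← Functor.map_comp, hcOι]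
  refine ⟨(D W').sq.lift _ _ comm ≫ (yon S).map (gluedι D W'), ?_⟩
  rw [Category.assoc, hφ1 W', IsPullback.lift_fst]

/-- **Zariski-local representability.** -/
theorem exists_rep_of_local :
    ∃ (V : Over S) (q : V ⟶ T) (e : (yon S).obj V ≅ F), e.hom ≫ p = (yon S).map q ∧
      ∀ W : T.left.affineOpens, ∃ i : (D W).V ⟶ V, IsPullback i.left (D W).q.left q.left W.1.ι := by
  obtain ⟨φ, hφ1, hφ2⟩ := exists_phi D
  haveI := mono_phi φ hφ1 hφ2
  haveI := epi_phi φ hφ1
  haveI : IsIso φ := isIso_of_mono_of_epi φ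
  exact ⟨gluedV D, gluedQ D, asIso φ, hφ2, fun W => ⟨gluedι D W, isPullback_gluedι D W⟩⟩

end Glue


/-! ### Application: affine-tested properties are representable -/

/-- Representing data over an affine open from an affine-test hypothesis. -/
noncomputable def RepData.ofPullback {X Y : Sp S} (f : X ⟶ Y) {T : Over S}
    (g : (yon S).obj T ⟶ Y) (W : T.left.Opens) (V : Over S) (i : V ⟶ overOpens T W)
    (fst : (yon S).obj V ⟶ X)
    (sq : IsPullback fst ((yon S).map i) f ((yon S).map (overOpensι T W) ≫ g)) :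
    RepData (pullback.snd f g) W where
  V := V
  q := i
  v := pullback.lift fst ((yon S).map i ≫ (yon S).map (overOpensι T W)) (by
    rw [sq.w, Category.assoc])
  sq := by
    refine IsPullback.of_right ?_ (pullback.lift_snd _ _ _) (IsPullback.of_hasPullback f g)
    rw [pullback.lift_fst]
    exact sq

/-- If the base change of `f` to every affine scheme is representable with `P` (local on the
target), then `f` is representable with `P`. -/
theorem repWith_of_affine_test (P : MorphismProperty Scheme.{u}) [IsZariskiLocalAtTarget P]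
    [P.IsStableUnderBaseChange] {X Y : Sp S} (f : X ⟶ Y)
    (h : ∀ ⦃Z : Over S⦄, IsAffine Z.left → ∀ g : (yon S).obj Z ⟶ Y,
      ∃ (W : Over S) (i : W ⟶ Z) (fst : (yon S).obj W ⟶ X),
        IsPullback fst ((yon S).map i) f g ∧ P i.left) : RepWith P f := by
  have : P.RespectsIso := MorphismProperty.IsStableUnderBaseChange.respectsIso
  apply MorphismProperty.relative.of_exists
  intro T g
  have hW : ∀ W : T.left.affineOpens, IsAffine (overOpens T W.1).left := fun W => W.2
  choose V i fst sq hP using fun W : T.left.affineOpens =>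
    h (hW W) ((yon S).map (overOpensι T W.1) ≫ g)
  let D : ∀ W : T.left.affineOpens, RepData (pullback.snd f g) W.1 := fun W =>
    RepData.ofPullback f g W.1 (V W) (i W) (fst W) (sq W)
  obtain ⟨V', q, e, he, hpb⟩ := exists_rep_of_local D
  refine ⟨V', e.hom ≫ pullback.fst f g, q, ?_, ?_⟩
  · exact IsPullback.of_iso_pullback ⟨by
      rw [Category.assoc, pullback.condition, ← Category.assoc, he]⟩ e rfl he
  · change P q.left
    apply IsZariskiLocalAtTarget.of_openCover T.left.directedAffineCover
    intro W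
    obtain ⟨j, sqj⟩ := hpb W
    have e' : pullback.snd q.left W.1.ι = sqj.isoPullback.inv ≫ (i W).left :=
      (Iso.eq_inv_comp _).mpr sqj.isoPullback_hom_snd
    change P (pullback.snd q.left W.1.ι)
    rw [e']
    exact (P.cancel_left_of_respectsIso _ _).mpr (hP W)

end Groth.Agent.Lib.Helper5.LocalRep
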