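import Groth.Agent.Lib.Helper5.AlgSpCoprod
import Groth.Agent.Lib.Helper5.SheafPullback2

/-! # Coproducts of algebraic spaces -/

set_option autoImplicit false
universe u

open CategoryTheory CategoryTheory.Limits AlgebraicGeometry Opposite

namespace Groth.Agent.Lib.Helper5

open AlgSp

variable {S : Scheme.{u}} {ι : Type u}

/-- A sheaf over a coproduct all of whose "fibres" are representable is representable (by the
coproduct of the representing schemes). -/
theorem rep_of_cofan_pullbacks (F : ι → Sp S) (c : Cofan F) (hc : IsColimit c) {P : Sp S}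
    (q : P ⟶ c.pt) (W : ι → Over S) (a : ∀ i, (yon S).obj (W i) ⟶ P)
    (b : ∀ i, (yon S).obj (W i) ⟶ F i) (sq : ∀ i, IsPullback (a i) (b i) q (c.inj i)) :
    ∃ ε : (yon S).obj (sigmaOver W) ≅ P, ∀ i, (yon S).map (sigmaOverι W i) ≫ ε.hom = a i := by
  let c' : Cofan (fun i => (yon S).obj (W i)) := Cofan.mk P a
  have hc' : IsColimit c' :=
    ((cofan_sheaf_vanKampen (J S) c hc c' b q (fun i => (sq i).w.symm)).mpr sq).some
  have hc'' := isColimitYonSigmaOver W
  refine ⟨hc''.coconePointUniqueUpToIso hc', fun i => ?_⟩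
  exact hc''.comp_coconePointUniqueUpToIso_hom hc' ⟨i⟩

/-- Every map from a scheme to a coproduct of algebraic spaces is representable. -/
theorem representable_from_yon_of_cofan (F : ι → Sp S) (c : Cofan F) (hc : IsColimit c)
    (h : ∀ i, IsAlgSpace (F i)) {T : Over S} (g : (yon S).obj T ⟶ c.pt) : Representable g := by
  intro T' g'
  obtain ⟨Ti, t, gi, hpb, -, -⟩ := cofan_decomp F c hc g
  obtain ⟨Ti', t', gi', hpb', -, -⟩ := cofan_decomp F c hc g'
  have r : ∀ i, Representable (gi i) := fun i => (h i).representable_from_yon (gi i)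
  let W : ι → Over S := fun i => (r i).pullback (gi' i)
  let fstW : ∀ i, (yon S).obj (W i) ⟶ (yon S).obj (Ti i) := fun i => (r i).fst (gi' i)
  let sndW : ∀ i, W i ⟶ Ti' i := fun i => (r i).snd (gi' i)
  have sqW : ∀ i, IsPullback (fstW i) ((yon S).map (sndW i)) (gi i) (gi' i) :=
    fun i => (r i).isPullback (gi' i)
  have cond : ∀ i, (fstW i ≫ (yon S).map (t i)) ≫ g =
      ((yon S).map (sndW i) ≫ (yon S).map (t' i)) ≫ g' := by
    intro i
    rw [Category.assoc, (hpb i).w, ← Category.assoc, (sqW i).w, Category.assoc, Category.assoc,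
      (hpb' i).w]
  let a : ∀ i, (yon S).obj (W i) ⟶ pullback g g' := fun i =>
    pullback.lift (fstW i ≫ (yon S).map (t i)) ((yon S).map (sndW i) ≫ (yon S).map (t' i)) (cond i)
  let b : ∀ i, (yon S).obj (W i) ⟶ F i := fun i => fstW i ≫ gi i
  have ha1 : ∀ i, a i ≫ pullback.fst g g' = fstW i ≫ (yon S).map (t i) :=
    fun i => pullback.lift_fst _ _ _
  have ha2 : ∀ i, a i ≫ pullback.snd g g' = (yon S).map (sndW i) ≫ (yon S).map (t' i) :=
    fun i => pullback.lift_snd _ _ _
  have sq : ∀ i, IsPullback (a i) (b i) (pullback.fst g g' ≫ g) (c.inj i) := by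
    intro i
    have hP := IsPullback.of_hasPullback g g'
    refine sheaf_isPullback_of_sections (J S) _ _ _ _ ?_ ?_ ?_
    · rw [← Category.assoc, ha1, Category.assoc, (hpb i).w, Category.assoc]
    · intro Z x y h1 h2
      obtain ⟨injT, -⟩ := sheaf_isPullback_sections (J S) (hpb i) Z
      obtain ⟨injT', -⟩ := sheaf_isPullback_sections (J S) (hpb' i) Z
      obtain ⟨injW, -⟩ := sheaf_isPullback_sections (J S) (sqW i) Z
      have e1 : (fstW i).hom.app Z x = (fstW i).hom.app Z y := by
        apply injT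
        · have := congrArg ((pullback.fst g g').hom.app Z) h1
          rw [← sheaf_comp_app, ← sheaf_comp_app, ha1] at this
          exact this
        · exact h2
      have e2 : ((yon S).map (sndW i)).hom.app Z x = ((yon S).map (sndW i)).hom.app Z y := by
        apply injT'
        · have := congrArg ((pullback.snd g g').hom.app Z) h1
          rw [← sheaf_comp_app, ← sheaf_comp_app, ha2] at this
          exact this
        · have w1 := sheaf_congr_app (J S) (sqW i).w Z x
          have w2 := sheaf_congr_app (J S) (sqW i).w Z y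
          simp only [sheaf_comp_app] at w1 w2
          rw [← w1, ← w2, e1]
      exact injW x y e1 e2
    · intro Z p y hpy
      obtain ⟨-, surjT⟩ := sheaf_isPullback_sections (J S) (hpb i) Z
      obtain ⟨-, surjT'⟩ := sheaf_isPullback_sections (J S) (hpb' i) Z
      obtain ⟨-, surjW⟩ := sheaf_isPullback_sections (J S) (sqW i) Z
      obtain ⟨injP, -⟩ := sheaf_isPullback_sections (J S) hP Z
      rw [sheaf_comp_app] at hpy
      obtain ⟨u, hu1, hu2⟩ := surjT _ _ hpy
      have hpy' : g'.hom.app Z ((pullback.snd g g').hom.app Z p) = (c.inj i).hom.app Z y := by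
        rw [← hpy]
        have := sheaf_congr_app (J S) hP.w Z p
        simp only [sheaf_comp_app] at this
        exact this.symm
      obtain ⟨u', hu1', hu2'⟩ := surjT' _ _ hpy'
      obtain ⟨w, hw1, hw2⟩ := surjW u u' (by rw [hu2, hu2'])
      refine ⟨w, ?_, ?_⟩
      · apply injP
        · rw [← sheaf_comp_app, ha1, sheaf_comp_app, hw1, hu1]
        · rw [← sheaf_comp_app, ha2, sheaf_comp_app, hw2, hu1']
      · change (gi i).hom.app Z ((fstW i).hom.app Z w) = y
        rw [hw1, hu2]
  obtain ⟨ε, hε⟩ := rep_of_cofan_pullbacks F c hc (pullback.fst g g' ≫ g) W a b sq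
  obtain ⟨snd, hsnd⟩ := (yon S).map_surjective (ε.hom ≫ pullback.snd g g')
  refine ⟨sigmaOver W, snd, ε.hom ≫ pullback.fst g g', ?_⟩
  rw [hsnd]
  exact IsPullback.of_iso_pullback ⟨by simp [pullback.condition]⟩ ε rfl rfl

/-- The map `h_{∐ Uᵢ} ⟶ ∐ Fᵢ` induced by maps `pᵢ : h_{Uᵢ} ⟶ Fᵢ` with a property `P` (Zariski local on
the target and stable under base change) has `P`, once it is representable. -/
theorem repWith_desc_of_cofan (F : ι → Sp S) (c : Cofan F) (hc : IsColimit c)
    (P : MorphismProperty Scheme.{u}) [P.IsStableUnderBaseChange] [IsZariskiLocalAtTarget P]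
    (U : ι → Over S) (p : ∀ i, (yon S).obj (U i) ⟶ F i) (hp : ∀ i, RepWith P (p i))
    (pp : (yon S).obj (sigmaOver U) ⟶ c.pt)
    (hpp : ∀ i, (yon S).map (sigmaOverι U i) ≫ pp = p i ≫ c.inj i)
    (hrep : Representable pp) : RepWith P pp := by
  have : P.RespectsIso := MorphismProperty.IsStableUnderBaseChange.respectsIso
  let cU : Cofan (fun i => (yon S).obj (U i)) :=
    Cofan.mk ((yon S).obj (sigmaOver U)) fun i => (yon S).map (sigmaOverι U i)
  have hcU : IsColimit cU := isColimitYonSigmaOver U
  have sqU : ∀ i, IsPullback (cU.inj i) (p i) pp (c.inj i) :=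
    (cofan_sheaf_vanKampen (J S) c hc cU p pp (fun i => (hpp i).symm)).mp ⟨hcU⟩
  refine ⟨hrep, ?_⟩
  intro T V g fst snd sq
  obtain ⟨Ti, t, gi, hpb, hcl, -, hcov⟩ := cofan_decomp' F c hc g
  have ho : ∀ i, IsOpenImmersion (t i).left := fun i => (hcl i).1
  let 𝒰 : T.left.OpenCover := Scheme.Cover.mkOfCovers ι (fun i => (Ti i).left) (fun i => (t i).left)
    (fun x => by obtain ⟨i, y, hy⟩ := hcov x; exact ⟨i, y, hy⟩) ho
  change P snd.left
  apply IsZariskiLocalAtTarget.of_openCover 𝒰
  intro i
  let Vi : Over S := pullback snd (t i)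
  let wi : Vi ⟶ V := pullback.fst _ _
  let vi : Vi ⟶ Ti i := pullback.snd _ _
  have sqO : IsPullback wi vi snd (t i) := IsPullback.of_hasPullback _ _
  have sqS : IsPullback wi.left vi.left snd.left (t i).left := sqO.map (Over.forget S)
  have sqY := sqO.map (yon S)
  have big : IsPullback ((yon S).map wi ≫ fst) ((yon S).map vi) pp ((yon S).map (t i) ≫ g) :=
    sqY.paste_horiz sq
  rw [(hpb i).w] at big
  let k : (yon S).obj Vi ⟶ (yon S).obj (U i) :=
    (sqU i).lift ((yon S).map wi ≫ fst) ((yon S).map vi ≫ gi i) (by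
      rw [Category.assoc]; exact big.w)
  have hk1 : k ≫ cU.inj i = (yon S).map wi ≫ fst := (sqU i).lift_fst _ _ _
  have hk2 : k ≫ p i = (yon S).map vi ≫ gi i := (sqU i).lift_snd _ _ _
  have small : IsPullback k ((yon S).map vi) (p i) (gi i) := by
    rw [← hk1] at big
    exact IsPullback.of_right big hk2 (sqU i)
  have hvi : P vi.left := (hp i).property (gi i) k vi small
  have e : pullback.snd snd.left (t i).left = sqS.isoPullback.inv ≫ vi.left :=
    (Iso.eq_inv_comp _).mpr sqS.isoPullback_hom_snd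
  change P (pullback.snd snd.left (t i).left)
  rw [e]
  exact (P.cancel_left_of_respectsIso _ _).mpr hvi

/-- The coproduct (in fppf sheaves) of a `u`-small family of algebraic spaces is an algebraic space. -/
theorem isAlgSpace_cofan (F : ι → Sp S) (c : Cofan F) (hc : IsColimit c)
    (h : ∀ i, IsAlgSpace (F i)) : IsAlgSpace c.pt := by
  have hrep : ∀ ⦃T : Over S⦄ (g : (yon S).obj T ⟶ c.pt), Representable g :=
    fun T g => representable_from_yon_of_cofan F c hc h g
  refine ⟨Functor.relativelyRepresentable.diag_of_map_from_obj hrep, ?_⟩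
  choose U p he hs using fun i => (h i).atlas
  let cU : Cofan (fun i => (yon S).obj (U i)) :=
    Cofan.mk ((yon S).obj (sigmaOver U)) fun i => (yon S).map (sigmaOverι U i)
  have hcU : IsColimit cU := isColimitYonSigmaOver U
  let pp : (yon S).obj (sigmaOver U) ⟶ c.pt :=
    Cofan.IsColimit.desc hcU (fun i => p i ≫ c.inj i)
  have hpp : ∀ i, (yon S).map (sigmaOverι U i) ≫ pp = p i ≫ c.inj i :=
    fun i => Cofan.IsColimit.fac hcU (fun i => p i ≫ c.inj i) i
  exact ⟨sigmaOver U, pp, repWith_desc_of_cofan F c hc @Etale U p he pp hpp (hrep pp),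
    repWith_desc_of_cofan F c hc @Surjective U p hs pp hpp (hrep pp)⟩

end Groth.Agent.Lib.Helper5
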