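import Mathlib
import Groth.Agent.Lib.Helper5.LocalRep

/-!
# Zariski-local representability over a basis of opens (helper5)

Generalisation of `Groth.Agent.Lib.Helper5.LocalRep.exists_rep_of_local`: it is enough to have
representing data over the members of a basis of opens of `T` (not necessarily all affine opens).
-/

set_option autoImplicit false
universe u
open CategoryTheory CategoryTheory.Limits AlgebraicGeometry Opposite

namespace Groth.Agent.Lib.Helper5.LocalRepB

open AlgSp Groth.Agent.Lib.Helper36.AlgSpCharts Groth.Agent.Lib.Helper23.AlgSpMor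
  Groth.Agent.Lib.Helper5.LocalRep

variable {S : Scheme.{u}}

section Cover

variable {X : Scheme.{u}} {B : Set X.Opens} (hB : TopologicalSpace.Opens.IsBasis B)

/-- The open cover by the members of a basis of opens. -/
@[simps I₀ X f]
noncomputable def basisCover : X.OpenCover where
  I₀ := B
  X W := W.1
  f W := W.1.ι
  mem₀ := by
    rw [Scheme.presieve₀_mem_precoverage_iff]
    refine ⟨fun x => ?_, inferInstance⟩
    obtain ⟨_, ⟨W, hW, rfl⟩, hx, -⟩ := hB.exists_subset_of_mem_open (Set.mem_univ x) isOpen_univ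
    exact ⟨⟨W, hW⟩, ⟨x, hx⟩, rfl⟩

instance : Preorder (basisCover hB).I₀ := inferInstanceAs <| Preorder B

set_option backward.isDefEq.respectTransparency.types false in
set_option backward.defeqAttrib.useBackward true in
noncomputable instance : Scheme.Cover.LocallyDirected (basisCover hB) :=
  .ofIsBasisOpensRange (by intros; simp; rfl) <| by
    convert! hB
    simp

end Cover

section Glue

variable {T : Over S} {F : Sp S} {p : F ⟶ (yon S).obj T}
  {B : Set T.left.Opens} (hB : TopologicalSpace.Opens.IsBasis B)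
  (D : ∀ W : ↥B, RepData p W.1)

lemma trans_refl (W : ↥B) :
    RepData.trans (D W) (D W) (le_refl W.1) = 𝟙 _ := by
  symm
  apply RepData.trans_unique
  · rw [CategoryTheory.Functor.map_id, Category.id_comp]
  · rw [Category.id_comp, overOpensLE_refl, Category.comp_id]

lemma trans_trans {W'' W' W : ↥B} (h : W''.1 ≤ W'.1) (h' : W'.1 ≤ W.1) :
    RepData.trans (D W'') (D W) (h.trans h') =
      RepData.trans (D W'') (D W') h ≫ RepData.trans (D W') (D W) h' := by
  symm
  apply RepData.trans_unique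
  · rw [CategoryTheory.Functor.map_comp, Category.assoc, RepData.trans_v, RepData.trans_v]
  · rw [Category.assoc, RepData.trans_q, ← Category.assoc, RepData.trans_q, Category.assoc,
      overOpensLE_trans]

/-- The relative gluing datum defined by representing data over all affine opens. -/
noncomputable def gluingData :
    Scheme.Cover.RelativeGluingData (basisCover hB) where
  functor :=
    { obj := fun (W : ↥B) => (D W).V.left
      map := fun {W' W : ↥B} hij =>
        (RepData.trans (D W') (D W) (leOfHom hij)).left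
      map_id := fun (W : ↥B) => congrArg CommaMorphism.left (trans_refl D W)
      map_comp := fun {W'' W' W : ↥B} f g =>
        congrArg CommaMorphism.left (trans_trans D (leOfHom f) (leOfHom g)) }
  natTrans :=
    { app := fun (W : ↥B) => (D W).q.left
      naturality := fun (W' W : ↥B) f =>
        congrArg CommaMorphism.left (RepData.trans_q (D W') (D W) (leOfHom f)) }
  equifibered := fun (W' W : ↥B) f =>
    (RepData.isPullback_trans (D W') (D W) (leOfHom f)).map (Over.forget S)

/-- The glued scheme, over `S`. -/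
noncomputable def gluedV : Over S := Over.mk ((gluingData hB D).toBase ≫ T.hom)

/-- The structure map of the glued scheme to `T`. -/
noncomputable def gluedQ : gluedV hB D ⟶ T := Over.homMk (gluingData hB D).toBase rfl

/-- The inclusions of the pieces into the glued scheme. -/
noncomputable def gluedι (W : ↥B) : (D W).V ⟶ gluedV hB D :=
  Over.homMk (colimit.ι (gluingData hB D).functor W) (by
    change colimit.ι (gluingData hB D).functor W ≫ (gluingData hB D).toBase ≫ T.hom = (D W).V.hom
    rw [Scheme.Cover.RelativeGluingData.ι_toBase_assoc]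
    exact Over.w (D W).q)

instance (W : ↥B) : IsOpenImmersion (gluedι hB D W).left :=
  inferInstanceAs (IsOpenImmersion (colimit.ι (gluingData hB D).functor W))

instance (W : ↥B) : Mono (gluedι hB D W) := by
  have : Mono ((Over.forget S).map (gluedι hB D W)) := by
    change Mono (gluedι hB D W).left
    infer_instance
  exact (Over.forget S).mono_of_mono_map this

lemma gluedι_gluedQ (W : ↥B) :
    gluedι hB D W ≫ gluedQ hB D = (D W).q ≫ overOpensι T W.1 := by
  ext1
  exact Scheme.Cover.RelativeGluingData.ι_toBase (gluingData hB D) W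

lemma trans_gluedι {W' W : ↥B} (h : W'.1 ≤ W.1) :
    RepData.trans (D W') (D W) h ≫ gluedι hB D W = gluedι hB D W' := by
  ext1
  exact colimit.w (gluingData hB D).functor (homOfLE h)

lemma gluedι_jointly_surjective (x : ↥(gluedV hB D).left) :
    ∃ W : ↥B, x ∈ Set.range (gluedι hB D W).left := by
  obtain ⟨W, y, hy⟩ := Scheme.IsLocallyDirected.ι_jointly_surjective (gluingData hB D).functor x
  exact ⟨W, y, hy⟩

lemma isPullback_gluedι (W : ↥B) :
    IsPullback (gluedι hB D W).left (D W).q.left (gluedQ hB D).left W.1.ι :=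
  ((gluingData hB D).isPullback_natTrans_ι_toBase W).flip

/-- Local factorisation: a morphism to `V_W` whose image in `T` lies in `W'' ≤ W` factors through
`V_{W''}`. -/
lemma exists_factor_trans {W'' W : ↥B} (h : W''.1 ≤ W.1) {Z : Over S}
    (g : Z ⟶ (D W).V) (c' : Z ⟶ overOpens T W''.1)
    (hc : g ≫ (D W).q ≫ overOpensι T W.1 = c' ≫ overOpensι T W''.1) :
    ∃ b : Z ⟶ (D W'').V, b ≫ RepData.trans (D W'') (D W) h = g ∧ b ≫ (D W'').q = c' := by
  have comm : g ≫ (D W).q = c' ≫ overOpensLE T h := by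
    rw [← cancel_mono (overOpensι T W.1), Category.assoc, Category.assoc, overOpensLE_ι, hc]
  exact ⟨(RepData.isPullback_trans (D W'') (D W) h).lift g c' comm,
    IsPullback.lift_fst _ _ _ _, IsPullback.lift_snd _ _ _ _⟩

/-- The universal elements are compatible on the glued scheme. -/
lemma compat (W W' : ↥B) (Z : Over S) (gi : Z ⟶ (D W).V) (gj : Z ⟶ (D W').V)
    (hij : gi ≫ gluedι hB D W = gj ≫ gluedι hB D W') :
    (yon S).map gi ≫ (D W).v = (yon S).map gj ≫ (D W').v := by
  classical
  -- the common map to `T`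
  set c : Z ⟶ T := gi ≫ (D W).q ≫ overOpensι T W.1 with hc
  have hc' : c = gj ≫ (D W').q ≫ overOpensι T W'.1 := by
    rw [hc, ← gluedι_gluedQ, ← gluedι_gluedQ, ← Category.assoc, hij, Category.assoc]
  have hmem : ∀ z : ↥Z.left, c.left z ∈ W.1 ⊓ W'.1 := by
    intro z
    constructor
    · have : c.left z = W.1.ι (((D W).q.left) (gi.left z)) := by rw [hc]; rfl
      rw [this]; exact (((D W).q.left) (gi.left z)).2
    · have : c.left z = W'.1.ι (((D W').q.left) (gj.left z)) := by rw [hc']; rfl
      rw [this]; exact (((D W').q.left) (gj.left z)).2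
  have hex : ∀ z : ↥Z.left, ∃ W'' : ↥B, c.left z ∈ W''.1 ∧ W''.1 ≤ W.1 ⊓ W'.1 := by
    intro z
    obtain ⟨_, ⟨W'', hW'', rfl⟩, hz, hsub⟩ :=
      hB.exists_subset_of_mem_open (hmem z) (W.1 ⊓ W'.1).isOpen
    exact ⟨⟨W'', hW''⟩, hz, hsub⟩
  choose W'' hW''z hW''le using hex
  let O : ↥Z.left → Z.left.Opens := fun z => c.left ⁻¹ᵁ (W'' z).1
  refine hom_ext_of_cover (fun z => overOpens Z (O z)) (fun z => overOpensι Z (O z))
    (fun z => by change IsOpenImmersion (O z).ι; infer_instance)
    (fun z => ⟨z, ⟨⟨z, hW''z z⟩, rfl⟩⟩) _ _ fun z => ?_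
  have h1 : (W'' z).1 ≤ W.1 := (hW''le z).trans inf_le_left
  have h2 : (W'' z).1 ≤ W'.1 := (hW''le z).trans inf_le_right
  set cO := overResLE c (W'' z).1 (O z) le_rfl with hcO
  have hcOι : cO ≫ overOpensι T (W'' z).1 = overOpensι Z (O z) ≫ c := overResLE_ι _ _ _ _
  obtain ⟨b, hb1, hb2⟩ := exists_factor_trans D h1 (overOpensι Z (O z) ≫ gi) cO (by
    rw [Category.assoc, hcOι])
  obtain ⟨b', hb'1, hb'2⟩ := exists_factor_trans D h2 (overOpensι Z (O z) ≫ gj) cO (by
    rw [Category.assoc, hcOι, hc'])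
  have e1 : b ≫ gluedι hB D (W'' z) = overOpensι Z (O z) ≫ gi ≫ gluedι hB D W := by
    rw [← trans_gluedι hB D h1, ← Category.assoc, hb1, Category.assoc]
  have e2 : b' ≫ gluedι hB D (W'' z) = overOpensι Z (O z) ≫ gj ≫ gluedι hB D W' := by
    rw [← trans_gluedι hB D h2, ← Category.assoc, hb'1, Category.assoc]
  have hbb' : b = b' := by
    rw [← cancel_mono (gluedι hB D (W'' z)), e1, e2, hij]
  rw [← Category.assoc, ← Functor.map_comp, ← hb1, Functor.map_comp, Category.assoc,
    RepData.trans_v, ← Category.assoc, ← Functor.map_comp, ← hb'1, Functor.map_comp,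
    Category.assoc, RepData.trans_v, hbb']

/-- The universal element over the glued scheme. -/
lemma exists_phi : ∃ φ : (yon S).obj (gluedV hB D) ⟶ F,
    (∀ W : ↥B, (yon S).map (gluedι hB D W) ≫ φ = (D W).v) ∧
      φ ≫ p = (yon S).map (gluedQ hB D) := by
  obtain ⟨φ, hφ⟩ := exists_glue_of_cover (fun W : ↥B => (D W).V) (gluedι hB D)
    (fun W => inferInstance) (gluedι_jointly_surjective hB D) (fun W => (D W).v)
    (fun W W' Z gi gj hij => compat hB D W W' Z gi gj hij)
  refine ⟨φ, hφ, ?_⟩
  refine hom_ext_of_cover (fun W : ↥B => (D W).V) (gluedι hB D)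
    (fun W => inferInstance) (gluedι_jointly_surjective hB D) _ _ fun W => ?_
  rw [← Category.assoc, hφ W, (D W).sq.w, ← Functor.map_comp, ← Functor.map_comp, gluedι_gluedQ]

/-- The pullback square of the glued scheme over an affine open, over `S`. -/
lemma isPullback_gluedι_over (W : ↥B) :
    IsPullback (gluedι hB D W) (D W).q (gluedQ hB D) (overOpensι T W.1) :=
  IsPullback.of_map (Over.forget S) (gluedι_gluedQ hB D W) (isPullback_gluedι hB D W)

variable {D} in
lemma mono_phi (φ : (yon S).obj (gluedV hB D) ⟶ F)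
    (hφ1 : ∀ W : ↥B, (yon S).map (gluedι hB D W) ≫ φ = (D W).v)
    (hφ2 : φ ≫ p = (yon S).map (gluedQ hB D)) : Mono φ := by
  classical
  refine mono_of_yon_cancel φ fun Z a b hab => ?_
  obtain ⟨a', rfl⟩ : ∃ a' : Z ⟶ gluedV hB D, (yon S).map a' = a := ⟨_, Functor.map_preimage _ _⟩
  obtain ⟨b', rfl⟩ : ∃ b' : Z ⟶ gluedV hB D, (yon S).map b' = b := ⟨_, Functor.map_preimage _ _⟩
  have hc : a' ≫ gluedQ hB D = b' ≫ gluedQ hB D := by
    apply (yon S).map_injective
    rw [Functor.map_comp, Functor.map_comp, ← hφ2, ← Category.assoc, hab, Category.assoc]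
  set c : Z ⟶ T := a' ≫ gluedQ hB D with hcdef
  have hex : ∀ z : ↥Z.left, ∃ W : ↥B, c.left z ∈ W.1 := by
    intro z
    obtain ⟨_, ⟨W, hW, rfl⟩, hz, -⟩ :=
      hB.exists_subset_of_mem_open (Set.mem_univ (c.left z)) isOpen_univ
    exact ⟨⟨W, hW⟩, hz⟩
  choose W hW using hex
  let O : ↥Z.left → Z.left.Opens := fun z => c.left ⁻¹ᵁ (W z).1
  refine hom_ext_of_cover (fun z => overOpens Z (O z)) (fun z => overOpensι Z (O z))
    (fun z => by change IsOpenImmersion (O z).ι; infer_instance)
    (fun z => ⟨z, ⟨⟨z, hW z⟩, rfl⟩⟩) _ _ fun z => ?_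
  set cO := overResLE c (W z).1 (O z) le_rfl with hcO
  have hcOι : cO ≫ overOpensι T (W z).1 = overOpensι Z (O z) ≫ c := overResLE_ι _ _ _ _
  have sqW := isPullback_gluedι_over hB D (W z)
  obtain ⟨aW, ha1, ha2⟩ : ∃ aW : overOpens Z (O z) ⟶ (D (W z)).V,
      aW ≫ gluedι hB D (W z) = overOpensι Z (O z) ≫ a' ∧ aW ≫ (D (W z)).q = cO :=
    ⟨sqW.lift (overOpensι Z (O z) ≫ a') cO (by rw [Category.assoc, hcOι]),
      sqW.lift_fst _ _ _, sqW.lift_snd _ _ _⟩
  obtain ⟨bW, hb1, hb2⟩ : ∃ bW : overOpens Z (O z) ⟶ (D (W z)).V,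
      bW ≫ gluedι hB D (W z) = overOpensι Z (O z) ≫ b' ∧ bW ≫ (D (W z)).q = cO :=
    ⟨sqW.lift (overOpensι Z (O z) ≫ b') cO (by rw [Category.assoc, hcOι, hc]),
      sqW.lift_fst _ _ _, sqW.lift_snd _ _ _⟩
  have hab' : aW = bW := by
    apply (yon S).map_injective
    apply (D (W z)).sq.hom_ext
    · rw [← hφ1 (W z), ← Category.assoc, ← Category.assoc, ← Functor.map_comp, ← Functor.map_comp,
        ha1, hb1, Functor.map_comp, Functor.map_comp, Category.assoc, Category.assoc, hab]
    · rw [← Functor.map_comp, ← Functor.map_comp, ha2, hb2]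
  rw [← Functor.map_comp, ← Functor.map_comp, ← ha1, ← hb1, hab']

variable {D} in
lemma epi_phi (φ : (yon S).obj (gluedV hB D) ⟶ F)
    (hφ1 : ∀ W : ↥B, (yon S).map (gluedι hB D W) ≫ φ = (D W).v) : Epi φ := by
  classical
  refine epi_of_local_lift φ fun Z z pt => ?_
  set c : Z ⟶ T := (yon S).preimage (z ≫ p) with hcdef
  have hc : (yon S).map c = z ≫ p := Functor.map_preimage _ _
  obtain ⟨_, ⟨W, hW, rfl⟩, hz, -⟩ :=
    hB.exists_subset_of_mem_open (Set.mem_univ (c.left pt)) isOpen_univ
  let W' : ↥B := ⟨W, hW⟩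
  refine ⟨c.left ⁻¹ᵁ W, hz, ?_⟩
  set O : Z.left.Opens := c.left ⁻¹ᵁ W
  set cO := overResLE c W O le_rfl with hcO
  have hcOι : cO ≫ overOpensι T W = overOpensι Z O ≫ c := overResLE_ι _ _ _ _
  have comm : ((yon S).map (overOpensι Z O) ≫ z) ≫ p =
      (yon S).map cO ≫ (yon S).map (overOpensι T W) := by
    rw [Category.assoc, ← hc, ← Functor.map_comp, ← Functor.map_comp, hcOι]
  refine ⟨(D W').sq.lift _ _ comm ≫ (yon S).map (gluedι hB D W'), ?_⟩
  rw [Category.assoc, hφ1 W', IsPullback.lift_fst]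

include hB in
/-- **Zariski-local representability** over a basis of opens. -/
theorem exists_rep_of_basis :
    ∃ (V : Over S) (q : V ⟶ T) (e : (yon S).obj V ≅ F), e.hom ≫ p = (yon S).map q ∧
      ∀ W : ↥B, ∃ i : (D W).V ⟶ V, IsPullback i.left (D W).q.left q.left W.1.ι := by
  obtain ⟨φ, hφ1, hφ2⟩ := exists_phi hB D
  haveI := mono_phi hB φ hφ1 hφ2
  haveI := epi_phi hB φ hφ1
  haveI : IsIso φ := isIso_of_mono_of_epi φ
  exact ⟨gluedV hB D, gluedQ hB D, asIso φ, hφ2, fun W => ⟨gluedι hB D W, isPullback_gluedι hB D W⟩⟩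

end Glue

/-- If the base change of `f` along `g : h_T ⟶ Y` is representable with `P` (local on the target)
over the members of a basis of opens of `T`, then it is representable with `P`. -/
theorem exists_isPullback_of_local (P : MorphismProperty Scheme.{u}) [IsZariskiLocalAtTarget P]
    [P.IsStableUnderBaseChange] {X Y : Sp S} (f : X ⟶ Y) {T : Over S} (g : (yon S).obj T ⟶ Y)
    {B : Set T.left.Opens} (hB : TopologicalSpace.Opens.IsBasis B)
    (h : ∀ W ∈ B, ∃ (V : Over S) (i : V ⟶ overOpens T W) (fst : (yon S).obj V ⟶ X),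
      IsPullback fst ((yon S).map i) f ((yon S).map (overOpensι T W) ≫ g) ∧ P i.left) :
    ∃ (V : Over S) (q : V ⟶ T) (fst : (yon S).obj V ⟶ X),
      IsPullback fst ((yon S).map q) f g ∧ P q.left := by
  have : P.RespectsIso := MorphismProperty.IsStableUnderBaseChange.respectsIso
  choose V i fst sq hP using fun W : ↥B => h W.1 W.2
  let D : ∀ W : ↥B, RepData (pullback.snd f g) W.1 := fun W =>
    RepData.ofPullback f g W.1 (V W) (i W) (fst W) (sq W)
  obtain ⟨V', q, e, he, hpb⟩ := exists_rep_of_basis hB D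
  refine ⟨V', q, e.hom ≫ pullback.fst f g, ?_, ?_⟩
  · exact IsPullback.of_iso_pullback ⟨by
      rw [Category.assoc, pullback.condition, ← Category.assoc, he]⟩ e rfl he
  · apply IsZariskiLocalAtTarget.of_openCover (basisCover hB)
    intro W
    obtain ⟨j, sqj⟩ := hpb W
    have e' : pullback.snd q.left W.1.ι = sqj.isoPullback.inv ≫ (i W).left :=
      (Iso.eq_inv_comp _).mpr sqj.isoPullback_hom_snd
    change P (pullback.snd q.left W.1.ι)
    rw [e']
    exact (P.cancel_left_of_respectsIso _ _).mpr (hP W)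

/-- Local (on the test scheme) criterion for `RepWith P f`. -/
theorem repWith_of_local_test (P : MorphismProperty Scheme.{u}) [IsZariskiLocalAtTarget P]
    [P.IsStableUnderBaseChange] {X Y : Sp S} (f : X ⟶ Y)
    (h : ∀ (T : Over S) (g : (yon S).obj T ⟶ Y), ∃ B : Set T.left.Opens,
      TopologicalSpace.Opens.IsBasis B ∧
      ∀ W ∈ B, ∃ (V : Over S) (i : V ⟶ overOpens T W) (fst : (yon S).obj V ⟶ X),
        IsPullback fst ((yon S).map i) f ((yon S).map (overOpensι T W) ≫ g) ∧ P i.left) :
    RepWith P f := by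
  have : P.RespectsIso := MorphismProperty.IsStableUnderBaseChange.respectsIso
  apply MorphismProperty.relative.of_exists
  intro T g
  obtain ⟨B, hB, hBW⟩ := h T g
  obtain ⟨V, q, fst, sq, hq⟩ := exists_isPullback_of_local P f g hB hBW
  exact ⟨V, fst, q, sq, hq⟩

end Groth.Agent.Lib.Helper5.LocalRepB
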