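import Mathlib
import Groth.Agent.Lib.Helper5.LocalRepB
import Groth.Agent.Lib.Helper5.AlgSpCoprod2
import Groth.Agent.Lib.Helper36.OpenSubspace

/-!
# Zariski gluing of algebraic spaces (helper5)

A sheaf covered by open subfunctors which are algebraic spaces is an algebraic space.
-/

set_option autoImplicit false
universe u
open CategoryTheory CategoryTheory.Limits AlgebraicGeometry Opposite

namespace Groth.Agent.Lib.Helper5.ZarGlueSp

open AlgSp Groth.Agent.Lib.Helper36.AlgSpCharts Groth.Agent.Lib.Helper23.AlgSpMor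
  Groth.Agent.Lib.Helper5.LocalRep Groth.Agent.Lib.Helper5.LocalRepB Groth.Agent.Lib.Helper5

variable {S : Scheme.{u}} {ι : Type u} {F : Sp S} {Fi : ι → Sp S} (f : ∀ i, Fi i ⟶ F)
  (hopen : ∀ i, RepWith @IsOpenImmersion (f i)) (c : Cofan Fi) (hc : IsColimit c)

include hopen in
/-- The preimages of the open subfunctors cover every scheme mapping to `F`. -/
theorem cover_of_locallySurjective
    (hsurj : Sheaf.IsLocallySurjective (Cofan.IsColimit.desc hc f)) {T : Over S}
    (g : (yon S).obj T ⟶ F) (x : ↥T.left) :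
    ∃ i, x ∈ Set.range ((hopen i).rep.snd g).left := by
  set π := Cofan.IsColimit.desc hc f with hπ
  have hπi : ∀ i, c.inj i ≫ π = f i := fun i => Cofan.IsColimit.fac hc f i
  have hmem := Presheaf.imageSieve_mem (J S) π.hom ((J S).uliftYonedaEquiv g)
  obtain ⟨Z, φ, ⟨t, ht⟩, z, rfl⟩ :=
    Groth.Agent.Lib.Helper36.OpenSubspace.exists_mem_of_mem_J _ hmem x
  set l : (yon S).obj Z ⟶ c.pt := (J S).uliftYonedaEquiv.symm t with hl
  have hlπ : l ≫ π = (yon S).map φ ≫ g := by
    apply (J S).uliftYonedaEquiv.injective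
    rw [GrothendieckTopology.uliftYonedaEquiv_comp, hl, Equiv.apply_symm_apply,
      ← GrothendieckTopology.uliftYonedaEquiv_naturality]
    exact ht
  obtain ⟨Zi, ti, li, hpb, -, -, hcov⟩ := cofan_decomp' Fi c hc l
  obtain ⟨i, z', rfl⟩ := hcov z
  refine ⟨i, ?_⟩
  have sqi := (hopen i).rep.isPullback g
  have comm : li i ≫ f i = (yon S).map (ti i ≫ φ) ≫ g := by
    rw [Functor.map_comp, Category.assoc, ← hlπ, ← Category.assoc, (hpb i).w, Category.assoc,
      hπi]
  set k : Zi i ⟶ (hopen i).rep.pullback g := (yon S).preimage (sqi.lift _ _ comm) with hk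
  have hk2 : k ≫ (hopen i).rep.snd g = ti i ≫ φ := by
    apply (yon S).map_injective
    rw [Functor.map_comp, hk, Functor.map_preimage, IsPullback.lift_snd]
  refine ⟨k.left z', ?_⟩
  have := congrArg (fun m : Zi i ⟶ T => m.left z') hk2
  exact this


include hopen in
/-- Every map from a scheme to `F` is representable. -/
theorem representable_from_yon (halg : ∀ i, IsAlgSpace (Fi i))
    (hsurj : Sheaf.IsLocallySurjective (Cofan.IsColimit.desc hc f)) {T : Over S}
    (g : (yon S).obj T ⟶ F) : Representable g := by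
  intro T' t'
  have hoi : ∀ i, IsOpenImmersion ((hopen i).rep.snd t').left := fun i => (hopen i).property_snd t'
  let B : Set T'.left.Opens := {W | ∃ i, W ≤ ((hopen i).rep.snd t').left.opensRange}
  have hB : TopologicalSpace.Opens.IsBasis B := by
    rw [TopologicalSpace.Opens.isBasis_iff_nbhd]
    intro O x hx
    obtain ⟨i, hi⟩ := cover_of_locallySurjective f hopen c hc hsurj t' x
    exact ⟨O ⊓ ((hopen i).rep.snd t').left.opensRange, ⟨i, inf_le_right⟩, ⟨hx, hi⟩, inf_le_left⟩
  obtain ⟨V, q, fst, sq, -⟩ := exists_isPullback_of_local ⊤ g t' hB (by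
    rintro W ⟨j, hW⟩
    haveI := hoi j
    set sndj := (hopen j).rep.snd t' with hsndj
    set fstj := (hopen j).rep.fst t' with hfstj
    have sqj : IsPullback fstj ((yon S).map sndj) (f j) t' := (hopen j).rep.isPullback t'
    let lift : overOpens T' W ⟶ (hopen j).rep.pullback t' :=
      Over.homMk (IsOpenImmersion.lift sndj.left W.ι (by
        rw [Scheme.Opens.range_ι]; exact hW)) (by
        rw [← Over.w sndj, IsOpenImmersion.lift_fac_assoc]; rfl)
    have hlift : lift ≫ sndj = overOpensι T' W := by
      ext1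
      exact IsOpenImmersion.lift_fac _ _ _
    set tW : (yon S).obj (overOpens T' W) ⟶ Fi j := (yon S).map lift ≫ fstj with htW
    have htWf : tW ≫ f j = (yon S).map (overOpensι T' W) ≫ t' := by
      rw [htW, Category.assoc, sqj.w, ← Category.assoc, ← Functor.map_comp, hlift]
    have sq1 : IsPullback ((hopen j).rep.fst g) ((yon S).map ((hopen j).rep.snd g)) (f j) g :=
      (hopen j).rep.isPullback g
    obtain ⟨Q, p1, p2, sqQ⟩ := exists_isPullback_yon ((hopen j).rep.fst g) tW
      ((halg j).representable_from_yon tW)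
    have big := sqQ.paste_horiz sq1.flip
    rw [htWf] at big
    exact ⟨Q, p2, _, big, trivial⟩)
  exact ⟨V, q, fst, sq⟩

include hopen in
/-- The map from the coproduct of the open subfunctors is representable, etale and surjective. -/
theorem repWith_desc (hsurj : Sheaf.IsLocallySurjective (Cofan.IsColimit.desc hc f)) :
    RepWith @Etale (Cofan.IsColimit.desc hc f) ∧ RepWith @Surjective (Cofan.IsColimit.desc hc f) := by
  set π := Cofan.IsColimit.desc hc f with hπ
  have hπi : ∀ i, c.inj i ≫ π = f i := fun i => Cofan.IsColimit.fac hc f i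
  have key : ∀ (T : Over S) (g : (yon S).obj T ⟶ F), ∃ (V : Over S) (fst : (yon S).obj V ⟶ c.pt)
      (snd : V ⟶ T), IsPullback fst ((yon S).map snd) π g ∧ Etale snd.left ∧
        Surjective snd.left := by
    intro T g
    let Ti : ι → Over S := fun i => (hopen i).rep.pullback g
    let sndi : ∀ i, Ti i ⟶ T := fun i => (hopen i).rep.snd g
    let fsti : ∀ i, (yon S).obj (Ti i) ⟶ Fi i := fun i => (hopen i).rep.fst g
    have sqi : ∀ i, IsPullback (fsti i) ((yon S).map (sndi i)) (f i) g := fun i =>
      (hopen i).rep.isPullback g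
    have hoi : ∀ i, IsOpenImmersion (sndi i).left := fun i => (hopen i).property_snd g
    have comm : ∀ i, (fsti i ≫ c.inj i) ≫ π = (yon S).map (sndi i) ≫ g := fun i => by
      rw [Category.assoc, hπi, (sqi i).w]
    let a : ∀ i, (yon S).obj (Ti i) ⟶ pullback π g := fun i =>
      pullback.lift (fsti i ≫ c.inj i) ((yon S).map (sndi i)) (comm i)
    have ha1 : ∀ i, a i ≫ pullback.fst π g = fsti i ≫ c.inj i := fun i => pullback.lift_fst _ _ _
    have ha2 : ∀ i, a i ≫ pullback.snd π g = (yon S).map (sndi i) := fun i =>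
      pullback.lift_snd _ _ _
    have sqa : ∀ i, IsPullback (a i) (fsti i) (pullback.fst π g) (c.inj i) := by
      intro i
      refine IsPullback.of_right ?_ (ha1 i) (IsPullback.of_hasPullback π g).flip
      rw [ha2 i, hπi]
      exact (sqi i).flip
    obtain ⟨ε, hε⟩ := rep_of_cofan_pullbacks Fi c hc (pullback.fst π g) Ti a fsti sqa
    -- the map `∐ Tᵢ ⟶ T`
    let d : sigmaOver Ti ⟶ T := (yon S).preimage (ε.hom ≫ pullback.snd π g)
    have hd : (yon S).map d = ε.hom ≫ pullback.snd π g := Functor.map_preimage _ _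
    have hdi : ∀ i, sigmaOverι Ti i ≫ d = sndi i := by
      intro i
      apply (yon S).map_injective
      rw [Functor.map_comp, hd, ← Category.assoc, hε, ha2]
    refine ⟨sigmaOver Ti, ε.hom ≫ pullback.fst π g, d, ?_, ?_, ?_⟩
    · rw [hd]
      exact IsPullback.of_iso_pullback ⟨by
        rw [Category.assoc, pullback.condition, Category.assoc]⟩ ε rfl rfl
    · -- etale: check on the open cover by the coprojections
      refine (IsZariskiLocalAtSource.iff_of_openCover (P := @Etale)
        (sigmaOpenCover fun i => (Ti i).left)).2 ?_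
      intro i
      change Etale ((sigmaOpenCover fun i => (Ti i).left).f i ≫ d.left)
      have : (sigmaOpenCover fun i => (Ti i).left).f i ≫ d.left = (sndi i).left :=
        congrArg CommaMorphism.left (hdi i)
      rw [this]
      exact @AlgebraicGeometry.Etale.instOfIsOpenImmersion _ _ _ (hoi i)
    · refine ⟨fun x => ?_⟩
      obtain ⟨i, y, hy⟩ := cover_of_locallySurjective f hopen c hc hsurj g x
      refine ⟨(sigmaOverι Ti i).left y, ?_⟩
      have := congrArg (fun m : Ti i ⟶ T => m.left y) (hdi i)
      exact this.trans hy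
  constructor
  · apply MorphismProperty.relative.of_exists
    intro T g
    obtain ⟨V, fst, snd, sq, h1, -⟩ := key T g
    exact ⟨V, fst, snd, sq, h1⟩
  · apply MorphismProperty.relative.of_exists
    intro T g
    obtain ⟨V, fst, snd, sq, -, h2⟩ := key T g
    exact ⟨V, fst, snd, sq, h2⟩

include hopen in
/-- **Zariski gluing of algebraic spaces.** -/
theorem isAlgSpace_of_open_cover (halg : ∀ i, IsAlgSpace (Fi i))
    (hsurj : Sheaf.IsLocallySurjective (Cofan.IsColimit.desc hc f)) (hcop : IsAlgSpace c.pt) :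
    IsAlgSpace F := by
  refine ⟨Functor.relativelyRepresentable.diag_of_map_from_obj
    (fun T g => representable_from_yon f hopen c hc halg hsurj g), ?_⟩
  obtain ⟨U, a₀, he, hs⟩ := hcop.atlas
  obtain ⟨hπe, hπs⟩ := repWith_desc f hopen c hc hsurj
  have i2 := AlgSp.repWith_isMultiplicative (S := S) (@Etale : MorphismProperty Scheme.{u})
  have i4 := AlgSp.repWith_isMultiplicative (S := S) (@Surjective : MorphismProperty Scheme.{u})
  exact ⟨U, a₀ ≫ Cofan.IsColimit.desc hc f, i2.comp_mem _ _ he hπe, i4.comp_mem _ _ hs hπs⟩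

end Groth.Agent.Lib.Helper5.ZarGlueSp
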