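import Mathlib

/-!
# Wide pullbacks over `Fin (n + 1)` as iterated binary pullbacks (helper5)
-/

set_option autoImplicit false
universe v u w
open CategoryTheory CategoryTheory.Limits

namespace Groth.Agent.Lib.Helper5.WidePB

variable {C : Type u} [Category.{v} C]

/-- `W` with `b : W ⟶ B` and `π k : W ⟶ objs k` is a wide pullback of the `arrows k : objs k ⟶ B`. -/
structure IsWidePB {ι : Type w} {B : C} {objs : ι → C} (arrows : ∀ k, objs k ⟶ B) {W : C}
    (b : W ⟶ B) (π : ∀ k, W ⟶ objs k) : Prop where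
  w : ∀ k, π k ≫ arrows k = b
  lift : ∀ {Z : C} (z : Z ⟶ B) (zk : ∀ k, Z ⟶ objs k), (∀ k, zk k ≫ arrows k = z) →
    ∃ l : Z ⟶ W, l ≫ b = z ∧ ∀ k, l ≫ π k = zk k
  hom_ext : ∀ {Z : C} (l l' : Z ⟶ W), l ≫ b = l' ≫ b → (∀ k, l ≫ π k = l' ≫ π k) → l = l'

/-- A wide pullback in the sense of `IsWidePB` is isomorphic to Mathlib's chosen one, compatibly
with the maps to the base. -/
theorem IsWidePB.exists_iso {ι : Type w} {B : C} {objs : ι → C} {arrows : ∀ k, objs k ⟶ B} {W : C}
    {b : W ⟶ B} {π : ∀ k, W ⟶ objs k} (h : IsWidePB arrows b π) [HasWidePullback B objs arrows] :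
    ∃ e : widePullback B objs arrows ≅ W, e.hom ≫ b = WidePullback.base arrows ∧
      ∀ k, e.hom ≫ π k = WidePullback.π arrows k := by
  obtain ⟨l, hl1, hl2⟩ := h.lift (WidePullback.base arrows) (WidePullback.π arrows)
    (fun k => WidePullback.π_arrow arrows k)
  refine ⟨⟨l, WidePullback.lift b π h.w, ?_, ?_⟩, hl1, hl2⟩
  · apply WidePullback.hom_ext
    · intro k
      rw [Category.assoc, WidePullback.lift_π, hl2, Category.id_comp]
    · rw [Category.assoc, WidePullback.lift_base, hl1, Category.id_comp]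
  · apply h.hom_ext
    · rw [Category.assoc, hl1, WidePullback.lift_base, Category.id_comp]
    · intro k
      rw [Category.assoc, hl2, WidePullback.lift_π, Category.id_comp]

/-- The wide pullback of a single arrow. -/
theorem isWidePB_one {B : C} {objs : Fin 1 → C} (arrows : ∀ k, objs k ⟶ B) {W : C}
    (b : W ⟶ B) (π : ∀ k, W ⟶ objs k) (w : ∀ k, π k ≫ arrows k = b) [IsIso (π (Fin.last 0))] :
    IsWidePB arrows b π := by
  refine ⟨w, ?_, ?_⟩
  · intro Z z zk hz
    refine ⟨zk (Fin.last 0) ≫ inv (π (Fin.last 0)), ?_, ?_⟩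
    · rw [← w (Fin.last 0), Category.assoc, IsIso.inv_hom_id_assoc, hz]
    · intro k
      obtain rfl : k = Fin.last 0 := Subsingleton.elim _ _
      rw [Category.assoc, IsIso.inv_hom_id, Category.comp_id]
  · intro Z l l' _ h2
    exact (cancel_mono (π (Fin.last 0))).1 (h2 (Fin.last 0))

/-- Inductive step: a wide pullback over `Fin (n + 2)` from one over `Fin (n + 1)` and a binary
pullback. -/
theorem isWidePB_succ {n : ℕ} {B : C} {objs : Fin (n + 1) → C} (arrows : ∀ k, objs k ⟶ B)
    {W' : C} (b' : W' ⟶ B) (π' : ∀ k : Fin n, W' ⟶ objs k.castSucc)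
    (h' : IsWidePB (fun k : Fin n => arrows k.castSucc) b' π')
    {W : C} (p₁ : W ⟶ W') (p₂ : W ⟶ objs (Fin.last n))
    (sq : IsPullback p₂ p₁ (arrows (Fin.last n)) b') :
    IsWidePB arrows (p₁ ≫ b')
      (Fin.lastCases (motive := fun k => W ⟶ objs k) p₂ (fun k => p₁ ≫ π' k)) := by
  refine ⟨?_, ?_, ?_⟩
  · intro k
    induction k using Fin.lastCases with
    | last => rw [Fin.lastCases_last, sq.w]
    | cast k => rw [Fin.lastCases_castSucc, Category.assoc, h'.w k]
  · intro Z z zk hz
    obtain ⟨l', hl'1, hl'2⟩ := h'.lift z (fun k => zk k.castSucc) (fun k => hz k.castSucc)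
    refine ⟨sq.lift (zk (Fin.last n)) l' (by rw [hz, hl'1]), ?_, ?_⟩
    · rw [← Category.assoc, sq.lift_snd, hl'1]
    · intro k
      induction k using Fin.lastCases with
      | last => rw [Fin.lastCases_last, sq.lift_fst]
      | cast k => rw [Fin.lastCases_castSucc, ← Category.assoc, sq.lift_snd, hl'2]
  · intro Z l l' h1 h2
    apply sq.hom_ext
    · have := h2 (Fin.last n)
      rwa [Fin.lastCases_last] at this
    · apply h'.hom_ext
      · rw [Category.assoc, Category.assoc, h1]
      · intro k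
        have := h2 k.castSucc
        rw [Fin.lastCases_castSucc] at this
        rw [Category.assoc, Category.assoc, this]

end Groth.Agent.Lib.Helper5.WidePB
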