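import Mathlib.RingTheory.GradedAlgebra.HomogeneousLocalization
import Mathlib.RingTheory.GradedAlgebra.Radical

set_option autoImplicit false
universe u
open DirectSum HomogeneousLocalization

namespace Groth.Agent.Lib.Helper5

section Dehomog

variable {R A : Type*} [CommRing R] [CommRing A] [Algebra R A]
variable (𝒜 : ℕ → Submodule R A) [GradedAlgebra 𝒜] {f : A} (hf : f ∈ 𝒜 1)

/-- `a ↦ a / f ^ d` for `a` of degree `d`, `f` of degree one. -/
def awayMkOne (d : ℕ) (a : A) (ha : a ∈ 𝒜 d) : Away 𝒜 f :=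
  Away.mk 𝒜 hf d a (by simpa using ha)

theorem val_awayMkOne (d : ℕ) (a : A) (ha : a ∈ 𝒜 d) :
    (awayMkOne 𝒜 hf d a ha).val = Localization.mk a (⟨f ^ d, ⟨d, rfl⟩⟩ : Submonoid.powers f) :=
  rfl

def dehomogComponent (d : ℕ) : 𝒜 d →+ Away 𝒜 f where
  toFun a := awayMkOne 𝒜 hf d a a.2
  map_zero' := by
    apply HomogeneousLocalization.val_injective
    simp [val_awayMkOne, Localization.mk_zero]
  map_add' a b := by
    apply HomogeneousLocalization.val_injective
    simp only [val_awayMkOne, HomogeneousLocalization.val_add, Submodule.coe_add]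
    rw [Localization.add_mk_self]

theorem dehomogComponent_one :
    dehomogComponent 𝒜 hf 0 (GradedMonoid.GOne.one (A := fun i => 𝒜 i)) = 1 := by
  apply HomogeneousLocalization.val_injective
  change (awayMkOne 𝒜 hf 0 1 SetLike.GradedOne.one_mem).val = _
  rw [val_awayMkOne, HomogeneousLocalization.val_one]
  simp [Localization.mk_one]

theorem dehomogComponent_mul {i j : ℕ} (ai : 𝒜 i) (aj : 𝒜 j) :
    dehomogComponent 𝒜 hf (i + j) (GradedMonoid.GMul.mul (A := fun i => 𝒜 i) ai aj) =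
      dehomogComponent 𝒜 hf i ai * dehomogComponent 𝒜 hf j aj := by
  apply HomogeneousLocalization.val_injective
  change (awayMkOne 𝒜 hf (i + j) ((ai : A) * (aj : A))
    (SetLike.GradedMul.mul_mem ai.2 aj.2)).val =
    ((awayMkOne 𝒜 hf i ai ai.2) * (awayMkOne 𝒜 hf j aj aj.2)).val
  rw [HomogeneousLocalization.val_mul, val_awayMkOne, val_awayMkOne, val_awayMkOne,
    Localization.mk_mul]
  congr 1
  ext
  simp [pow_add]

noncomputable def dehomog₀ : (⨁ i, 𝒜 i) →+* Away 𝒜 f :=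
  DirectSum.toSemiring (fun d => dehomogComponent 𝒜 hf d)
    (dehomogComponent_one 𝒜 hf)
    (fun ai aj => dehomogComponent_mul 𝒜 hf ai aj)

theorem dehomog₀_of (d : ℕ) (x : 𝒜 d) :
    dehomog₀ 𝒜 hf (DirectSum.of (fun i => 𝒜 i) d x) = dehomogComponent 𝒜 hf d x := by
  rw [dehomog₀, DirectSum.toSemiring_of]

noncomputable def dehomog : A →+* Away 𝒜 f :=
  (dehomog₀ 𝒜 hf).comp (DirectSum.decomposeRingEquiv 𝒜).toRingHom

theorem dehomog_of_mem {d : ℕ} {a : A} (ha : a ∈ 𝒜 d) :
    dehomog 𝒜 hf a = awayMkOne 𝒜 hf d a ha := by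
  change dehomog₀ 𝒜 hf (DirectSum.decompose 𝒜 a) = _
  rw [DirectSum.decompose_of_mem 𝒜 ha, dehomog₀_of]
  rfl

end Dehomog

end Groth.Agent.Lib.Helper5
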