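import Groth.Agent.Lib.Helper5.AwayBaseChange
import Mathlib.AlgebraicGeometry.Pullbacks

set_option autoImplicit false
universe u
open CategoryTheory CategoryTheory.Limits AlgebraicGeometry HomogeneousLocalization

namespace Groth.Agent.Lib.Helper5

section

variable {R' R B A : Type u} [CommRing R'] [CommRing R] [Algebra R' R]
  [CommRing B] [Algebra R' B] (ℬ : ℕ → Submodule R' B) [GradedAlgebra ℬ]
  [CommRing A] [Algebra R A] [Algebra R' A] [IsScalarTower R' R A]
  (𝒜 : ℕ → Submodule R A) [GradedAlgebra 𝒜]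
  [Algebra B A] [IsScalarTower R' B A] [Algebra.IsPushout R' R B A]

variable {ℬ 𝒜}

/-- The local (affine chart) version of base change for `Proj`. -/
theorem isPullback_spec_awayMap (φ : ℬ →+*ᵍ 𝒜) (hφA : ∀ b : B, φ b = algebraMap B A b)
    {t : B} {d : ℕ} (ht : t ∈ ℬ d) :
    IsPullback (Spec.map (CommRingCat.ofHom (Away.map φ t)))
      (Spec.map (CommRingCat.ofHom ((fromZeroRingHom 𝒜 (.powers (φ t))).comp
        (algebraMap R (𝒜 0)))))
      (Spec.map (CommRingCat.ofHom ((fromZeroRingHom ℬ (.powers t)).comp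
        (algebraMap R' (ℬ 0)))))
      (Spec.map (CommRingCat.ofHom (algebraMap R' R))) :=
  (isPullback_SpecMap_of_isPushout _ _ _ _ (isPushout_awayMap φ hφA ht)).flip

/-- Base change for `Proj`: if `A = B ⊗[R'] R` compatibly with gradings then
`Proj A = Proj B ×[Spec R'] Spec R`. -/
theorem proj_baseChange_isPullback (φ : ℬ →+*ᵍ 𝒜) (hφA : ∀ b : B, φ b = algebraMap B A b)
    (hφ : HomogeneousIdeal.irrelevant 𝒜 ≤ (HomogeneousIdeal.irrelevant ℬ).map φ) :
    IsPullback (Proj.map φ hφ)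
      (Proj.toSpecZero 𝒜 ≫ Spec.map (CommRingCat.ofHom (algebraMap R (𝒜 0))))
      (Proj.toSpecZero ℬ ≫ Spec.map (CommRingCat.ofHom (algebraMap R' (ℬ 0))))
      (Spec.map (CommRingCat.ofHom (algebraMap R' R))) := by
  refine Scheme.isPullback_of_openCover _ _ _ _ (Proj.affineOpenCover ℬ).openCover ?_
  intro (i : Σ i : PNat, ℬ i)
  have hd : 0 < (i.1 : ℕ) := i.1.2
  have ht : (i.2 : B) ∈ ℬ i.1 := i.2.2
  have hpb := (isPullback_awayι_map φ hφ hd ht).flip
  have hsq := isPullback_spec_awayMap φ hφA ht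
  refine hsq.of_iso hpb.isoPullback (Iso.refl _) (Iso.refl _) (Iso.refl _) ?_ ?_ ?_ ?_
  · exact (Category.comp_id _).trans hpb.isoPullback_hom_snd.symm
  · refine (Category.comp_id _).trans ?_
    change _ = hpb.isoPullback.hom ≫ pullback.fst _ _ ≫ _
    rw [hpb.isoPullback_hom_fst_assoc, Proj.awayι_toSpecZero_assoc, ← Spec.map_comp]
    rfl
  · refine (Category.comp_id _).trans ((Category.id_comp _).trans ?_).symm
    change Proj.awayι ℬ _ ht hd ≫ _ = _
    rw [Proj.awayι_toSpecZero_assoc, ← Spec.map_comp]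
    rfl
  · exact (Category.comp_id _).trans (Category.id_comp _).symm

end

end Groth.Agent.Lib.Helper5
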