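import Mathlib
import Groth.Prelude.Def_AlgSpGpd

/-!
# Algebra of `T`-valued points of a groupoid in sheaves (helper5)
-/

set_option autoImplicit false
universe u
open CategoryTheory CategoryTheory.Limits AlgebraicGeometry Opposite

namespace Groth.Agent.Lib.Helper5.GroupoidAlg

open AlgSp

variable {S : Scheme.{u}} {B : Sp S} (G : GroupoidSp B)

/-- Composition `α ∘ β` of `T`-valued arrows with `s α = t β`. -/
noncomputable def comp {T : Sp S} (α β : T ⟶ G.R) (h : α ≫ G.s = β ≫ G.t) : T ⟶ G.R :=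
  pullback.lift α β h ≫ G.c

lemma comp_congr {T : Sp S} {α α' β β' : T ⟶ G.R} (hα : α = α') (hβ : β = β')
    (h : α ≫ G.s = β ≫ G.t) : comp G α β h = comp G α' β' (by rw [← hα, ← hβ]; exact h) := by
  subst hα hβ; rfl

@[simp] lemma comp_s {T : Sp S} (α β : T ⟶ G.R) (h : α ≫ G.s = β ≫ G.t) :
    comp G α β h ≫ G.s = β ≫ G.s := G.comp_s α β h

@[simp] lemma comp_t {T : Sp S} (α β : T ⟶ G.R) (h : α ≫ G.s = β ≫ G.t) :
    comp G α β h ≫ G.t = α ≫ G.t := G.comp_t α β h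

lemma precomp {T T' : Sp S} (f : T' ⟶ T) (α β : T ⟶ G.R) (h : α ≫ G.s = β ≫ G.t) :
    f ≫ comp G α β h = comp G (f ≫ α) (f ≫ β) (by rw [Category.assoc, h, Category.assoc]) := by
  unfold comp
  rw [← Category.assoc]
  congr 1
  apply pullback.hom_ext
  · rw [Category.assoc, pullback.lift_fst, pullback.lift_fst]
  · rw [Category.assoc, pullback.lift_snd, pullback.lift_snd]

lemma assoc {T : Sp S} (α β γ : T ⟶ G.R) (h₁ : α ≫ G.s = β ≫ G.t) (h₂ : β ≫ G.s = γ ≫ G.t) :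
    comp G (comp G α β h₁) γ ((comp_s G α β h₁).trans h₂) =
      comp G α (comp G β γ h₂) (h₁.trans (comp_t G β γ h₂).symm) := G.assoc α β γ h₁ h₂

lemma comp_e {T : Sp S} (α : T ⟶ G.R) :
    comp G α (α ≫ G.s ≫ G.e) (by rw [Category.assoc, Category.assoc, G.e_t, Category.comp_id]) = α :=
  G.comp_e α

lemma e_comp {T : Sp S} (α : T ⟶ G.R) :
    comp G (α ≫ G.t ≫ G.e) α (by rw [Category.assoc, Category.assoc, G.e_s, Category.comp_id]) = α :=
  G.e_comp α

lemma comp_i {T : Sp S} (α : T ⟶ G.R) :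
    comp G α (α ≫ G.i) (by rw [Category.assoc, G.i_t]) = α ≫ G.t ≫ G.e := G.comp_i α

lemma i_comp {T : Sp S} (α : T ⟶ G.R) :
    comp G (α ≫ G.i) α (by rw [Category.assoc, G.i_s]) = α ≫ G.s ≫ G.e := G.i_comp α

/-- `(α ∘ β) ∘ β⁻¹ = α`. -/
lemma comp_comp_inv {T : Sp S} (α β : T ⟶ G.R) (h : α ≫ G.s = β ≫ G.t) :
    comp G (comp G α β h) (β ≫ G.i) (by rw [comp_s, Category.assoc, G.i_t]) = α := by
  rw [assoc G α β (β ≫ G.i) h (by rw [Category.assoc, G.i_t])]
  have h1 := comp_i G β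
  rw [comp_congr G rfl h1]
  refine (comp_congr G rfl ?_ _).trans (comp_e G α)
  rw [← Category.assoc, ← h, Category.assoc]

/-- `(α ∘ β⁻¹) ∘ β = α` for `s α = s β`. -/
lemma comp_inv_comp {T : Sp S} (α β : T ⟶ G.R) (h : α ≫ G.s = β ≫ G.s) :
    comp G (comp G α (β ≫ G.i) (by rw [Category.assoc, G.i_t]; exact h)) β
      (by rw [comp_s, Category.assoc, G.i_s]) = α := by
  rw [assoc G α (β ≫ G.i) β (by rw [Category.assoc, G.i_t]; exact h)
    (by rw [Category.assoc, G.i_s])]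
  have h1 := i_comp G β
  rw [comp_congr G rfl h1]
  refine (comp_congr G rfl ?_ _).trans (comp_e G α)
  rw [← Category.assoc, ← h, Category.assoc]

/-- `α ∘ (α⁻¹ ∘ β) = β` for `t α = t β`. -/
lemma comp_inv_comp' {T : Sp S} (α β : T ⟶ G.R) (h : α ≫ G.t = β ≫ G.t) :
    comp G α (comp G (α ≫ G.i) β (by rw [Category.assoc, G.i_s]; exact h))
      (by rw [comp_t, Category.assoc, G.i_t]) = β := by
  rw [← assoc G α (α ≫ G.i) β (by rw [Category.assoc, G.i_t])
    (by rw [Category.assoc, G.i_s]; exact h)]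
  have h1 := comp_i G α
  rw [comp_congr G h1 rfl]
  refine (comp_congr G ?_ rfl _).trans (e_comp G β)
  rw [← Category.assoc, h, Category.assoc]

/-- `α⁻¹ ∘ (α ∘ β) = β`. -/
lemma inv_comp_comp {T : Sp S} (α β : T ⟶ G.R) (h : α ≫ G.s = β ≫ G.t) :
    comp G (α ≫ G.i) (comp G α β h) (by rw [comp_t, Category.assoc, G.i_s]) = β := by
  rw [← assoc G (α ≫ G.i) α β (by rw [Category.assoc, G.i_s]) h]
  have h1 := i_comp G α
  rw [comp_congr G h1 rfl]
  refine (comp_congr G ?_ rfl _).trans (e_comp G β)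
  rw [← Category.assoc, h, Category.assoc]

end Groth.Agent.Lib.Helper5.GroupoidAlg
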