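import Mathlib
import Groth.Prelude.Def_AlgSpGpd
import Groth.Prelude.Def_AlgSp3
import Groth.Prelude.Def_AlgSp4
import Groth.Agent.Lib.Helper5.GroupoidAlg

/-!
# Separation conditions for a groupoid in sheaves: `j`, the stabilizer and its unit section (helper5)

Base-change relations between `Δ_j`, `Δ_{G/U}` and the unit section `e : U ⟶ G` of the stabilizer `G` of a groupoid
`(U, R, s, t, c)` in fppf sheaves:

* `Δ_{G/U}` is a base change of `Δ_j` (formal, `MorphismProperty.diagonal` is stable under base change);
* a section `σ` of `f` is a base change of `Δ_f` (`of_section`);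
* `Δ_j` is a base change of `e` (`isPullback_diagonal_j`).
-/

set_option autoImplicit false
universe u
open CategoryTheory CategoryTheory.Limits AlgebraicGeometry Opposite

namespace Groth.Agent.Lib.Helper5.GroupoidSep

open AlgSp Groth.Agent.Lib.Helper5.GroupoidAlg

section General

variable {C : Type*} [Category C] [HasPullbacks C]

/-- A section of `f` has every property of `Δ_f` that is stable under base change. -/
theorem of_section (P : MorphismProperty C) [P.IsStableUnderBaseChange] {X Y : C} (f : X ⟶ Y)
    (σ : Y ⟶ X) (h : σ ≫ f = 𝟙 Y) (hP : P (pullback.diagonal f)) : P σ := by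
  have : P.RespectsIso := MorphismProperty.IsStableUnderBaseChange.respectsIso
  have sq := pullback_lift_diagonal_isPullback σ f
  have h1 : P (pullback.lift (𝟙 Y) σ (by simp) : Y ⟶ pullback (σ ≫ f) f) :=
    MorphismProperty.of_isPullback sq hP
  have hiso : IsIso (σ ≫ f) := by rw [h]; infer_instance
  have h2 : (pullback.lift (𝟙 Y) σ (by simp) : Y ⟶ pullback (σ ≫ f) f) ≫ pullback.snd (σ ≫ f) f = σ :=
    pullback.lift_snd _ _ _
  rw [← h2]
  exact (MorphismProperty.cancel_right_of_respectsIso P _ (pullback.snd (σ ≫ f) f)).2 h1

/-- If `f ≫ m` is a base change of `g ≫ m`-type square and `m` is mono, the square over the source of `m` is a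
pullback. -/
theorem isPullback_of_comp_mono {W X A Y Z : C} {fst : W ⟶ X} {snd : W ⟶ A} {f : X ⟶ Y} {g : A ⟶ Y}
    (m : Y ⟶ Z) [Mono m] (sq : IsPullback fst snd (f ≫ m) (g ≫ m)) : IsPullback fst snd f g := by
  have w : fst ≫ f = snd ≫ g := by
    rw [← cancel_mono m, Category.assoc, Category.assoc]
    exact sq.w
  refine ⟨⟨w⟩, ⟨PullbackCone.IsLimit.mk _
    (fun c => sq.lift c.fst c.snd (by rw [← Category.assoc, c.condition, Category.assoc])) ?_ ?_ ?_⟩⟩
  · intro c
    exact sq.lift_fst _ _ _
  · intro c
    exact sq.lift_snd _ _ _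
  · intro c l h1 h2
    apply sq.hom_ext
    · rw [h1, sq.lift_fst]
    · rw [h2, sq.lift_snd]

end General

variable {S : Scheme.{u}} {B : Sp S} (G : GroupoidSp B)

/-- The unit section of the stabilizer is a section of its structure map. -/
theorem unit_stabilizerToU (eG : G.U ⟶ G.stabilizer) (heG : eG ≫ G.stabilizerι = G.e) :
    eG ≫ G.stabilizerToU = 𝟙 G.U := by
  have h1 : eG ≫ G.stabilizerToU ≫ G.diag = G.e ≫ G.j := by
    rw [← heG, Category.assoc]
    congr 1
    exact pullback.condition.symm
  have h2 := congrArg (· ≫ pullback.fst G.pU G.pU) h1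
  simp only [Category.assoc, GroupoidSp.j_fst, G.e_t] at h2
  rw [← h2]
  unfold GroupoidSp.diag
  rw [pullback.lift_fst, Category.comp_id]

/-- `(r, r') ↦ r⁻¹ ∘ r'` from `R ×_{j, j} R` to the stabilizer. -/
noncomputable def quotientMap : pullback G.j G.j ⟶ G.stabilizer :=
  have hc : pullback.fst G.j G.j ≫ G.j = pullback.snd G.j G.j ≫ G.j := pullback.condition
  have ht : pullback.fst G.j G.j ≫ G.t = pullback.snd G.j G.j ≫ G.t := by
    have := congrArg (· ≫ pullback.fst G.pU G.pU) hc
    simpa only [Category.assoc, GroupoidSp.j_fst] using this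
  have hs : pullback.fst G.j G.j ≫ G.s = pullback.snd G.j G.j ≫ G.s := by
    have := congrArg (· ≫ pullback.snd G.pU G.pU) hc
    simpa only [Category.assoc, GroupoidSp.j_snd] using this
  pullback.lift
    (comp G (pullback.fst G.j G.j ≫ G.i) (pullback.snd G.j G.j)
      (by rw [Category.assoc, G.i_s]; exact ht))
    (pullback.fst G.j G.j ≫ G.s)
    (by
      apply pullback.hom_ext
      · rw [Category.assoc, GroupoidSp.j_fst, comp_t, Category.assoc, G.i_t, Category.assoc]
        unfold GroupoidSp.diag
        rw [pullback.lift_fst, Category.comp_id]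
      · rw [Category.assoc, GroupoidSp.j_snd, comp_s, Category.assoc]
        unfold GroupoidSp.diag
        rw [pullback.lift_snd, Category.comp_id, hs])

theorem quotientMap_ι :
    quotientMap G ≫ G.stabilizerι =
      comp G (pullback.fst G.j G.j ≫ G.i) (pullback.snd G.j G.j)
        (by
          rw [Category.assoc, G.i_s]
          have := congrArg (· ≫ pullback.fst G.pU G.pU) (pullback.condition (f := G.j) (g := G.j))
          simpa only [Category.assoc, GroupoidSp.j_fst] using this) :=
  pullback.lift_fst _ _ _

theorem quotientMap_toU :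
    quotientMap G ≫ G.stabilizerToU = pullback.fst G.j G.j ≫ G.s :=
  pullback.lift_snd _ _ _

theorem pb_t {T : Sp S} (b : T ⟶ pullback G.j G.j) :
    (b ≫ pullback.fst G.j G.j) ≫ G.t = (b ≫ pullback.snd G.j G.j) ≫ G.t := by
  have := congrArg (· ≫ pullback.fst G.pU G.pU) (pullback.condition (f := G.j) (g := G.j))
  simp only [Category.assoc, GroupoidSp.j_fst] at this
  rw [Category.assoc, Category.assoc, this]

theorem pb_s {T : Sp S} (b : T ⟶ pullback G.j G.j) :
    (b ≫ pullback.fst G.j G.j) ≫ G.s = (b ≫ pullback.snd G.j G.j) ≫ G.s := by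
  have := congrArg (· ≫ pullback.snd G.pU G.pU) (pullback.condition (f := G.j) (g := G.j))
  simp only [Category.assoc, GroupoidSp.j_snd] at this
  rw [Category.assoc, Category.assoc, this]

/-- `T`-points of `quotientMap ≫ ι`. -/
theorem comp_quotientMap_ι {T : Sp S} (b : T ⟶ pullback G.j G.j) :
    b ≫ quotientMap G ≫ G.stabilizerι =
      comp G ((b ≫ pullback.fst G.j G.j) ≫ G.i) (b ≫ pullback.snd G.j G.j)
        (by rw [Category.assoc, G.i_s]; exact pb_t G b) := by
  rw [quotientMap_ι, precomp]
  exact comp_congr G (by rw [Category.assoc]) rfl _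

/-- The diagonal of `j` is a base change of the unit section of the stabilizer. -/
theorem isPullback_diagonal_j (eG : G.U ⟶ G.stabilizer) (heG : eG ≫ G.stabilizerι = G.e) :
    IsPullback G.s (pullback.diagonal G.j) eG (quotientMap G) := by
  have hπ := unit_stabilizerToU G eG heG
  have w : G.s ≫ eG = pullback.diagonal G.j ≫ quotientMap G := by
    apply pullback.hom_ext
    · change (G.s ≫ eG) ≫ G.stabilizerι = (pullback.diagonal G.j ≫ quotientMap G) ≫ G.stabilizerι
      rw [Category.assoc, heG, Category.assoc, comp_quotientMap_ι]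
      have h1 := i_comp G (𝟙 G.R)
      rw [Category.id_comp (G.s ≫ G.e)] at h1
      rw [← h1]
      exact comp_congr G (by rw [pullback.diagonal_fst]) (by rw [pullback.diagonal_snd]) _
    · change (G.s ≫ eG) ≫ G.stabilizerToU = (pullback.diagonal G.j ≫ quotientMap G) ≫ G.stabilizerToU
      rw [Category.assoc, hπ, Category.comp_id, Category.assoc, quotientMap_toU,
        pullback.diagonal_fst_assoc]
  refine ⟨⟨w⟩, ⟨PullbackCone.IsLimit.mk _ (fun c => c.snd ≫ pullback.fst G.j G.j) ?_ ?_ ?_⟩⟩
  · intro c
    have h1 := congrArg (· ≫ G.stabilizerToU) c.condition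
    simp only [Category.assoc, hπ, Category.comp_id, quotientMap_toU] at h1
    rw [Category.assoc]
    exact h1.symm
  · intro c
    have key : c.snd ≫ pullback.fst G.j G.j = c.snd ≫ pullback.snd G.j G.j := by
      have h1 := congrArg (· ≫ G.stabilizerι) c.condition
      simp only [Category.assoc, heG] at h1
      rw [comp_quotientMap_ι] at h1
      have h2 := comp_inv_comp' G (c.snd ≫ pullback.fst G.j G.j) (c.snd ≫ pullback.snd G.j G.j)
        (pb_t G c.snd)
      rw [← h2]
      have h3 := comp_e G (c.snd ≫ pullback.fst G.j G.j)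
      refine h3.symm.trans (comp_congr G rfl ?_ _)
      rw [← h1]
      have h4 := congrArg (· ≫ G.stabilizerToU) c.condition
      simp only [Category.assoc, hπ, Category.comp_id, quotientMap_toU] at h4
      rw [h4]
      simp only [Category.assoc]
    apply pullback.hom_ext
    · rw [Category.assoc, pullback.diagonal_fst, Category.comp_id]
    · rw [Category.assoc, pullback.diagonal_snd, Category.comp_id]
      exact key
  · intro c m _ hm
    rw [← hm, Category.assoc, pullback.diagonal_fst, Category.comp_id]

/-- A morphism whose composite with a monomorphism is representable is representable. -/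
theorem representable_of_comp_mono {X Y Z : Sp S} (f : X ⟶ Y) (m : Y ⟶ Z) [Mono m]
    (h : Representable (f ≫ m)) : Representable f := by
  intro a g
  obtain ⟨b, snd, fst, sq⟩ := h (g ≫ m)
  exact ⟨b, snd, fst, isPullback_of_comp_mono m sq⟩

/-- The diagonal of `j : R ⟶ U ×_B U` is representable when `R` is an algebraic space. -/
theorem representable_diagonal_j (hR : IsAlgSpace G.R) : Representable (pullback.diagonal G.j) := by
  let m : pullback G.j G.j ⟶ G.R ⨯ G.R := prod.lift (pullback.fst G.j G.j) (pullback.snd G.j G.j)
  have hm : Mono m := by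
    refine ⟨fun a b hab => ?_⟩
    apply pullback.hom_ext
    · have := congrArg (· ≫ prod.fst) hab
      simpa only [m, Category.assoc, prod.lift_fst] using this
    · have := congrArg (· ≫ prod.snd) hab
      simpa only [m, Category.assoc, prod.lift_snd] using this
  have hcomp : pullback.diagonal G.j ≫ m = Limits.diag G.R := by
    apply Limits.prod.hom_ext
    · simp [m]
    · simp [m]
  apply representable_of_comp_mono _ m
  rw [hcomp]
  exact hR.diag

/-- The diagonal of any morphism out of an algebraic space is representable. -/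
theorem representable_diagonal {X Y : Sp S} (hX : IsAlgSpace X) (f : X ⟶ Y) :
    Representable (pullback.diagonal f) := by
  let m : pullback f f ⟶ X ⨯ X := prod.lift (pullback.fst f f) (pullback.snd f f)
  have hm : Mono m := by
    refine ⟨fun a b hab => ?_⟩
    apply pullback.hom_ext
    · have := congrArg (· ≫ prod.fst) hab
      simpa only [m, Category.assoc, prod.lift_fst] using this
    · have := congrArg (· ≫ prod.snd) hab
      simpa only [m, Category.assoc, prod.lift_snd] using this
  have hcomp : pullback.diagonal f ≫ m = Limits.diag X := by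
    apply Limits.prod.hom_ext
    · simp [m]
    · simp [m]
  apply representable_of_comp_mono _ m
  rw [hcomp]
  exact hX.diag

section Group

open MonoidalCategory CartesianMonoidalCategory MonObj

section General
variable {C : Type*} [Category C] [CartesianMonoidalCategory C] (G : C) [GrpObj G]

/-- `(g, g') ↦ g⁻¹ g'`. -/
noncomputable def delta : G ⊗ G ⟶ G := (fst G G)⁻¹ * snd G G

/-- The diagonal of a group object is a base change of its unit. -/
theorem isPullback_delta : IsPullback (toUnit G) (lift (𝟙 G) (𝟙 G)) η[G] (delta G) := by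
  have w : toUnit G ≫ η[G] = lift (𝟙 G) (𝟙 G) ≫ delta G := by
    unfold delta
    rw [← Hom.one_def, comp_mul, GrpObj.comp_inv, lift_fst, lift_snd, inv_mul_cancel]
  refine ⟨⟨w⟩, ⟨PullbackCone.IsLimit.mk _ (fun c => c.snd ≫ fst G G) ?_ ?_ ?_⟩⟩
  · intro c
    exact toUnit_unique _ _
  · intro c
    have h1 : c.snd ≫ fst G G = c.snd ≫ snd G G := by
      have h2 := c.condition
      unfold delta at h2
      rw [toUnit_unique c.fst (toUnit _), ← Hom.one_def, comp_mul, GrpObj.comp_inv] at h2
      exact inv_mul_eq_one.1 h2.symm
    apply CartesianMonoidalCategory.hom_ext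
    · rw [Category.assoc, lift_fst, Category.comp_id]
    · rw [Category.assoc, lift_snd, Category.comp_id, h1]
  · intro c m _ hm
    rw [← hm, Category.assoc, lift_fst, Category.comp_id]

end General

/-- For a group sheaf `G` over `B`, the diagonal of `G ⟶ B` is a base change of the unit section. -/
theorem isPullback_unit_diagonal (G : Over B) [GrpObj G] :
    IsPullback G.hom (pullback.diagonal G.hom) (η[G]).left (delta G).left := by
  have h := (isPullback_delta G).map (Over.forget B)
  have h1 : (Over.forget B).map (toUnit G) = G.hom := by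
    simp
  have h2 : (Over.forget B).map (lift (𝟙 G) (𝟙 G)) = pullback.diagonal G.hom := by
    apply pullback.hom_ext
    · simp
      exact pullback.lift_fst _ _ _
    · simp
      exact pullback.lift_snd _ _ _
  rw [h1, h2] at h
  exact h

end Group

end Groth.Agent.Lib.Helper5.GroupoidSep
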