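import Mathlib
import Groth.Agent.Lib.Helper23.AlgSpMor10
import Groth.Agent.Lib.Helper46.LocPChart
import Groth.Agent.Lib.Helper5.GroupoidAlg
import Groth.Agent.Lib.Helper5.GroupoidSep

/-!
# Sheaves over the spectrum of a field: flatness and universal openness (helper5)

* `locP_flat_to_field`: every morphism from a sheaf to `h_{Spec k}` is flat chart-wise.
* `locP_flat_of_comp_iso`, `isUnivOpenMor_of_comp_iso`, `isUnivOpenMor_of_isPullback`.
* `isPullback_c`: for a groupoid `(U, R, s, t, c)`, `(c, pr₂) : R ×_{s,U,t} R ≅ R ×_{s,U,s} R`, so that `c` is a base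
  change of `s`.
* `isPullback_mul`: for a group object, `(μ, pr₂) : G × G ≅ G × G`, so that `μ` is a base change of `G ⟶ 1`.
-/

set_option autoImplicit false
universe u
open CategoryTheory CategoryTheory.Limits AlgebraicGeometry Opposite

namespace Groth.Agent.Lib.Helper5.FieldBase

open AlgSp Groth.Agent.Lib.Helper5.GroupoidAlg Groth.Agent.Lib.Helper23.AlgSpMor
  Groth.Agent.Lib.Helper46 Groth.Agent.Lib.Helper46.LocPChart

variable {S : Scheme.{u}}

/-- Every morphism from a sheaf to the spectrum of a field is flat (chart-wise). -/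
theorem locP_flat_to_field {X : Sp S} {k : Type u} [Field k] (str : Spec (CommRingCat.of k) ⟶ S)
    (p : X ⟶ (yon S).obj (Over.mk str)) : LocP @Flat p := by
  intro U V a b h _ hb w
  obtain ⟨b₀, rfl⟩ := (yon S).map_surjective b
  have hb₀ : Etale b₀.left := (repWith_yon_map_iff @Etale b₀).1 hb
  have : Subsingleton ↥(Over.mk str).left := inferInstanceAs (Subsingleton (PrimeSpectrum k))
  have : IsIntegral (Over.mk str).left := by
    change IsIntegral (Spec (CommRingCat.of k))
    infer_instance
  have hfl : Flat (h.left ≫ b₀.left) := inferInstance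
  exact etLocal_flat.cancel h.left b₀.left hb₀ hfl

/-- `LocP Q f` when `LocP Q (f ≫ e)` for an isomorphism `e`. -/
theorem locP_of_comp_iso {Q : MorphismProperty Scheme.{u}} {X Y Y' : Sp S} (f : X ⟶ Y) (e : Y ≅ Y')
    (h : LocP Q (f ≫ e.hom)) : LocP Q f := by
  intro U V a b k ha hb w
  refine h a (b ≫ e.hom) k ha (MorphismProperty.RespectsIso.postcomp _ e.hom b hb) ?_
  rw [← Category.assoc, w, Category.assoc]

/-- `LocP Q (ψ ≫ f)` for an isomorphism `ψ`. -/
theorem locP_iso_comp {Q : MorphismProperty Scheme.{u}} {X' X Y : Sp S} (ψ : X' ≅ X) (f : X ⟶ Y)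
    (h : LocP Q f) : LocP Q (ψ.hom ≫ f) := by
  intro U V a b k ha hb w
  refine h (a ≫ ψ.hom) b k (MorphismProperty.RespectsIso.postcomp _ ψ.hom a ha) hb ?_
  rw [Category.assoc, w]

/-- Universal openness is stable under base change. -/
theorem isUnivOpenMor_of_isPullback {X Y Z Z' : Sp S} {f : X ⟶ Y} {g : Z ⟶ Y} {fst : Z' ⟶ X}
    {snd : Z' ⟶ Z} (sq : IsPullback fst snd f g) (hf : IsUnivOpenMor f) : IsUnivOpenMor snd := by
  intro W W' hW g' fst' snd' sq'
  exact hf hW (g' ≫ g) (fst' ≫ fst) snd' (sq'.paste_horiz sq)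

/-- `IsUnivOpenMor f` when `IsUnivOpenMor (f ≫ e)` for an isomorphism `e`. -/
theorem isUnivOpenMor_of_comp_iso {X Y Y' : Sp S} (f : X ⟶ Y) (e : Y ≅ Y')
    (h : IsUnivOpenMor (f ≫ e.hom)) : IsUnivOpenMor f := by
  intro W W' hW g fst snd sq
  refine h hW (g ≫ e.hom) fst snd ?_
  have h1 : IsPullback g (𝟙 W) e.hom (g ≫ e.hom) :=
    IsPullback.of_vert_isIso ⟨(Category.id_comp _).symm⟩
  have h2 := sq.paste_vert h1
  rwa [Category.comp_id] at h2

/-- Postcomposing both legs of a pullback square with a monomorphism keeps it a pullback. -/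
theorem isPullback_comp_mono {C : Type*} [Category C] {W X A Y Z : C} {fst : W ⟶ X} {snd : W ⟶ A}
    {f : X ⟶ Y} {g : A ⟶ Y} (m : Y ⟶ Z) [Mono m] (sq : IsPullback fst snd f g) :
    IsPullback fst snd (f ≫ m) (g ≫ m) := by
  refine ⟨⟨by rw [← Category.assoc, sq.w, Category.assoc]⟩, ⟨PullbackCone.IsLimit.mk _
    (fun c => sq.lift c.fst c.snd (by
      rw [← cancel_mono m, Category.assoc, Category.assoc]; exact c.condition)) ?_ ?_ ?_⟩⟩
  · intro c
    exact sq.lift_fst _ _ _
  · intro c
    exact sq.lift_snd _ _ _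
  · intro c l h1 h2
    apply sq.hom_ext
    · rw [h1, sq.lift_fst]
    · rw [h2, sq.lift_snd]

section Groupoid

variable {B : Sp S} (G : GroupoidSp B)

/-- `(α, β) ↦ (α ∘ β, β)` identifies `R ×_{s,U,t} R` with `R ×_{s,U,s} R`: the composition is a base change of
the source map. -/
theorem isPullback_c : IsPullback G.c (pullback.snd G.s G.t) G.s G.s := by
  have hc : G.c = comp G (pullback.fst G.s G.t) (pullback.snd G.s G.t) pullback.condition := by
    unfold comp
    have : pullback.lift (pullback.fst G.s G.t) (pullback.snd G.s G.t) pullback.condition =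
        𝟙 (pullback G.s G.t) := by
      apply pullback.hom_ext <;> simp
    rw [this, Category.id_comp]
  have w : G.c ≫ G.s = pullback.snd G.s G.t ≫ G.s := by
    rw [hc, comp_s]
  refine ⟨⟨w⟩, ⟨PullbackCone.IsLimit.mk _
    (fun c => pullback.lift (comp G c.fst (c.snd ≫ G.i)
        (by rw [Category.assoc, G.i_t]; exact c.condition)) c.snd
        (by rw [comp_s, Category.assoc, G.i_s])) ?_ ?_ ?_⟩⟩
  · intro c
    rw [hc, precomp]
    refine (comp_congr G (pullback.lift_fst _ _ _) (pullback.lift_snd _ _ _) _).trans ?_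
    exact comp_inv_comp G c.fst c.snd c.condition
  · intro c
    exact pullback.lift_snd _ _ _
  · intro c m h1 h2
    apply pullback.hom_ext
    · rw [pullback.lift_fst]
      have h3 : comp G (m ≫ pullback.fst G.s G.t) (m ≫ pullback.snd G.s G.t)
          (by rw [Category.assoc, pullback.condition, Category.assoc]) = c.fst := by
        rw [← h1, hc, precomp]
      have h4 := comp_comp_inv G (m ≫ pullback.fst G.s G.t) (m ≫ pullback.snd G.s G.t)
        (by rw [Category.assoc, pullback.condition, Category.assoc])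
      rw [← h4]
      exact comp_congr G h3 (by rw [h2]) _
    · rw [pullback.lift_snd]
      exact h2

/-- Source and target of a groupoid whose object sheaf is the spectrum of a field are surjective, flat and
universally open. -/
theorem source_target_props (hR : IsAlgSpace G.R) {k : Type u} [Field k]
    (σ : Spec (CommRingCat.of k) ⟶ S) (eU : G.U ≅ (yon S).obj (Over.mk σ)) :
    ∀ f ∈ [G.s, G.t], IsSurjectiveMor f ∧ LocP @Flat f ∧ IsUnivOpenMor f := by
  intro f hf
  simp only [List.mem_cons, List.not_mem_nil, or_false] at hf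
  refine ⟨?_, ?_, ?_⟩
  · rcases hf with rfl | rfl
    · intro y
      exact ⟨Points.map G.e y, by rw [← Points.map_comp, G.e_s, Points.map_id]⟩
    · intro y
      exact ⟨Points.map G.e y, by rw [← Points.map_comp, G.e_t, Points.map_id]⟩
  · exact locP_of_comp_iso f eU (locP_flat_to_field σ _)
  · exact isUnivOpenMor_of_comp_iso f eU (isUnivOpenMor_to_field hR σ _)

end Groupoid

section Group

open MonoidalCategory CartesianMonoidalCategory MonObj

variable {C : Type*} [Category C] [CartesianMonoidalCategory C] (G : C) [GrpObj G]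

/-- `(g, h) ↦ (g h, h)` is an automorphism of `G × G`: the multiplication is a base change of `G ⟶ 1`. -/
theorem isPullback_mul : IsPullback μ[G] (snd G G) (toUnit G) (toUnit G) := by
  refine ⟨⟨toUnit_unique _ _⟩, ⟨PullbackCone.IsLimit.mk _
    (fun c => lift (c.fst * (c.snd)⁻¹) c.snd) ?_ ?_ ?_⟩⟩
  · intro c
    rw [← Hom.mul_def, inv_mul_cancel_right]
  · intro c
    exact lift_snd _ _
  · intro c m h1 h2
    apply CartesianMonoidalCategory.hom_ext
    · rw [lift_fst]
      have h3 : m = lift (m ≫ fst G G) (m ≫ snd G G) := by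
        apply CartesianMonoidalCategory.hom_ext <;> simp
      have h4 : (m ≫ fst G G) * (m ≫ snd G G) = c.fst := by
        rw [Hom.mul_def, ← h3, h1]
      rw [← h4, h2, mul_inv_cancel_right]
    · rw [lift_snd]
      exact h2

end Group

end Groth.Agent.Lib.Helper5.FieldBase
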