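import Groth.Agent.Lib.Helper5.FppfSource
import Groth.Agent.Lib.Helper30.EtaleSourceSmooth
import Groth.Agent.Lib.Helper30.EtLocalInst
import Groth.Agent.Lib.Helper17.AtlasCover
import Groth.Agent.Lib.Helper53.QcGen

/-!
# Locality on the source of chart-wise properties `LocP P` of morphisms of algebraic spaces (helper5)

If a property `P` of morphisms of schemes is local at the source for the etale / smooth / fppf / fpqc
precoverage, then `AlgSp.LocP P` is local on the source for the corresponding coverings of algebraic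
spaces.
-/

set_option autoImplicit false
universe u
open CategoryTheory CategoryTheory.Limits AlgebraicGeometry Opposite

namespace Groth.Agent.Lib.Helper5.LocPSource

open AlgSp Groth.Agent.Lib.Helper36.AlgSpCharts Groth.Agent.Lib.Helper23.AlgSpMor
open Groth.Agent.Lib.Helper46 Groth.Agent.Lib.Helper46.LocPChart
open Groth.Agent.Lib.Helper37.AlgSpPoints Groth.Agent.Lib.Helper5.FppfCover

variable {S : Scheme.{u}} {P Q : MorphismProperty Scheme.{u}}

theorem EtLocal.inf {Q₁ Q₂ : MorphismProperty Scheme.{u}} (h₁ : EtLocal Q₁) (h₂ : EtLocal Q₂) :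
    EtLocal (Q₁ ⊓ Q₂) where
  baseChange :=
    haveI := h₁.baseChange
    haveI := h₂.baseChange
    inferInstance
  precomp _ _ _ g q hg hq := ⟨h₁.precomp g q hg hq.1, h₂.precomp g q hg hq.2⟩
  postcomp _ _ _ q b hb hq := ⟨h₁.postcomp q b hb hq.1, h₂.postcomp q b hb hq.2⟩
  of_cover _ _ _ g q hg hs h := ⟨h₁.of_cover g q hg hs h.1, h₂.of_cover g q hg hs h.2⟩

theorem locP_inf {Q₁ Q₂ : MorphismProperty Scheme.{u}} {X Y : Sp S} (f : X ⟶ Y)
    (h₁ : LocP Q₁ f) (h₂ : LocP Q₂ f) : LocP (Q₁ ⊓ Q₂) f :=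
  fun _ _ a b h ha hb comm => ⟨h₁ a b h ha hb comm, h₂ a b h ha hb comm⟩

/-- **Forward direction**: precomposing a morphism with `LocP P` by a morphism with `LocP Q` keeps
`LocP P`, when `P` is stable under precomposition with `Q`-morphisms of schemes and descends along
etale surjections of the source. -/
theorem locP_precomp (hQ : EtLocal Q)
    (hPQ : ∀ ⦃A B C : Scheme.{u}⦄ (r : A ⟶ B) (q : B ⟶ C), Q r → P q → P (r ≫ q))
    (hPet : ∀ ⦃A B C : Scheme.{u}⦄ (e : A ⟶ B) (q : B ⟶ C), Etale e → Surjective e →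
      P (e ≫ q) → P q)
    {X' X Y : Sp S} (hX : IsAlgSpace X) (g : X' ⟶ X) (f : X ⟶ Y) (hg : LocP Q g)
    (hf : LocP P f) : LocP P (g ≫ f) := by
  intro U V a b h ha hb comm
  obtain ⟨W, c, hce, hcs⟩ := hX.atlas
  obtain ⟨U', p1, p2, sq1⟩ := exists_isPullback_yon (a ≫ g) c hce.rep
  have hp1e : Etale p1.left := prop_fst_of_isPullback sq1 hce
  have hp1s : Surjective p1.left := prop_fst_of_isPullback sq1 hcs
  have hp2 : Q p2.left := by
    refine hg ((yon S).map p1 ≫ a) c p2 ?_ hce (by rw [Category.assoc]; exact sq1.w)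
    exact (RepWith @Etale).comp_mem _ _ ((repWith_yon_map_iff _ _).2 hp1e) ha
  obtain ⟨W', r1, r2, sq2⟩ := exists_isPullback_yon (c ≫ f) b hb.rep
  have hr1 : Etale r1.left := prop_fst_of_isPullback sq2 hb
  have hr2 : P r2.left := by
    refine hf ((yon S).map r1 ≫ c) b r2 ?_ hb (by rw [Category.assoc]; exact sq2.w)
    exact (RepWith @Etale).comp_mem _ _ ((repWith_yon_map_iff _ _).2 hr1) hce
  obtain ⟨ρ', hρ1, hρ2⟩ := sq2.exists_lift ((yon S).map p2) ((yon S).map (p1 ≫ h)) (by
    rw [← Category.assoc, ← sq1.w, Category.assoc, Category.assoc, comm, Functor.map_comp,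
      Category.assoc])
  obtain ⟨ρ, rfl⟩ := (yon S).map_surjective ρ'
  have e1 : ρ ≫ r1 = p2 := (yon S).map_injective (by simpa using hρ1)
  have e2 : ρ ≫ r2 = p1 ≫ h := (yon S).map_injective (by simpa using hρ2)
  have hρ : Q ρ.left := by
    refine hQ.cancel ρ.left r1.left hr1 ?_
    rw [← Over.comp_left, e1]
    exact hp2
  have h3 : P (p1.left ≫ h.left) := by
    rw [← Over.comp_left, ← e2, Over.comp_left]
    exact hPQ _ _ hρ hr2
  exact hPet _ _ hp1e hp1s h3

/-- Charts of the fibre products `X_i ×_X h_U` used for the backward direction. -/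
theorem exists_source_charts {X : Sp S} (hX : IsAlgSpace X) {ι : Type u} (Xi : ι → Sp S)
    (hXi : ∀ i, IsAlgSpace (Xi i)) (g : ∀ i, Xi i ⟶ X) {Y : Sp S} (f : X ⟶ Y)
    (H : ∀ i, LocP P (g i ≫ f)) {U V : Over S} (a : (yon S).obj U ⟶ X) (b : (yon S).obj V ⟶ Y)
    (h : U ⟶ V) (ha : RepWith @Etale a) (hb : RepWith @Etale b)
    (comm : a ≫ f = (yon S).map h ≫ b) :
    ∃ (E : ι → Over S) (d : ∀ i, (yon S).obj (E i) ⟶ pullback (g i) a) (k : ∀ i, E i ⟶ U),
      (∀ i, RepWith @Etale (d i)) ∧ (∀ i, RepWith @Surjective (d i)) ∧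
      (∀ i, (yon S).map (k i) = d i ≫ pullback.snd (g i) a) ∧
      ∀ i, P ((k i).left ≫ h.left) := by
  have hP : ∀ i, IsAlgSpace (pullback (g i) a) := fun i =>
    isAlgSpace_of_isPullback (hXi i) (IsAlgSpace.yon_obj U) hX.diag (IsPullback.of_hasPullback _ _)
  choose E d hde hds using fun i => (hP i).atlas
  choose k hk using fun i => (yon S).map_surjective (d i ≫ pullback.snd (g i) a)
  refine ⟨E, d, k, hde, hds, hk, fun i => ?_⟩
  have hfst : RepWith @Etale (pullback.fst (g i) a) :=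
    MorphismProperty.pullback_fst (P := RepWith @Etale) (g i) a ha
  have hl : RepWith @Etale (d i ≫ pullback.fst (g i) a) :=
    (RepWith @Etale).comp_mem _ _ (hde i) hfst
  have := H i (d i ≫ pullback.fst (g i) a) b (k i ≫ h) hl hb (by
    rw [Functor.map_comp, hk, Category.assoc, Category.assoc, Category.assoc, ← comm,
      ← Category.assoc (pullback.snd (g i) a), ← pullback.condition, Category.assoc])
  rwa [Over.comp_left] at this

/-- A point of `U` whose image in `|X|` comes from `|X_i|` is in the image of an atlas of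
`X_i ×_X h_U`. -/
theorem mem_range_of_atlas {X : Sp S} {Xi : Sp S} (g : Xi ⟶ X) {U : Over S}
    (a : (yon S).obj U ⟶ X) {E : Over S} (d : (yon S).obj E ⟶ pullback g a)
    (hds : RepWith @Surjective d) (k : E ⟶ U) (hk : (yon S).map k = d ≫ pullback.snd g a)
    (z : ↥U.left) (hz : Points.ofPt a z ∈ Set.range (Points.map g)) :
    z ∈ Set.range k.left := by
  obtain ⟨y, hy⟩ := hz
  have e : Points.map g y = Points.map a (Points.ofScheme U z) := by
    rw [hy, Points.ofPt_eq_map_ofScheme]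
  obtain ⟨p, -, hp2⟩ := points_exists_of_isPullback (IsPullback.of_hasPullback g a) y
    (Points.ofScheme U z) e
  obtain ⟨w, hw⟩ := ofPt_surjective d hds p
  refine ⟨w, ?_⟩
  apply (Points.schemeEquiv U).injective
  change Points.ofScheme U (k.left w) = Points.ofScheme U z
  rw [← ofPt_yon_map, hk, ← hp2, ← hw, Points.map_ofPt]

/-- **Backward direction** for jointly surjective coverings whose members have `LocP Q`. -/
theorem locP_of_forall_precomp (hQ : EtLocal Q)
    (hdesc : ∀ ⦃U C : Scheme.{u}⦄ (h : U ⟶ C) {ι : Type u} (E : ι → Scheme.{u})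
      (k : ∀ i, E i ⟶ U), (∀ i, Q (k i)) → (∀ z : ↥U, ∃ i, z ∈ Set.range (k i)) →
      (∀ i, P (k i ≫ h)) → P h)
    {X : Sp S} (hX : IsAlgSpace X) {ι : Type u} (Xi : ι → Sp S)
    (hXi : ∀ i, IsAlgSpace (Xi i)) (g : ∀ i, Xi i ⟶ X) (hgQ : ∀ i, LocP Q (g i))
    (hsurj : ∀ x : Points X, ∃ i, x ∈ Set.range (Points.map (g i)))
    {Y : Sp S} (f : X ⟶ Y) (H : ∀ i, LocP P (g i ≫ f)) : LocP P f := by
  intro U V a b h ha hb comm
  obtain ⟨E, d, k, hde, hds, hk, hPk⟩ := exists_source_charts hX Xi hXi g f H a b h ha hb comm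
  refine hdesc h.left (fun i => (E i).left) (fun i => (k i).left) (fun i => ?_) (fun z => ?_) hPk
  · exact locP_fibre hQ (hXi i) hX (g i) (hgQ i) a _ _ (IsPullback.of_hasPullback (g i) a) (d i)
      (hde i) (k i) (hk i)
  · obtain ⟨i, hi⟩ := hsurj (Points.ofPt a z)
    exact ⟨i, mem_range_of_atlas (g i) a (d i) (hds i) (k i) (hk i) z hi⟩

section precoverage

/-- precomposition with a `Q`-morphism, from locality at the source for `Scheme.precoverage Q`. -/
theorem comp_of_isLocalAtSource (hQid : ∀ B : Scheme.{u}, Q (𝟙 B))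
    [P.IsLocalAtSource (Scheme.precoverage Q)]
    ⦃A B C : Scheme.{u}⦄ (r : A ⟶ B) (q : B ⟶ C) (hr : Q r) (hq : P q) : P (r ≫ q) := by
  let E : PreZeroHypercover.{0} B :=
    (PreZeroHypercover.singleton r).sum (PreZeroHypercover.singleton (𝟙 B))
  have hE : E.presieve₀ ∈ Scheme.precoverage Q B := by
    rw [Scheme.presieve₀_mem_precoverage_iff]
    refine ⟨fun x => ⟨Sum.inr ⟨⟩, x, rfl⟩, ?_⟩
    rintro (⟨⟩ | ⟨⟩)
    · exact hr
    · exact hQid B
  exact MorphismProperty.IsLocalAtSource.comp hE r (Presieve.ofArrows.mk (Sum.inl ⟨⟩) :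
    E.presieve₀ (E.f (Sum.inl ⟨⟩))) hq

theorem of_surjective_comp_of_isLocalAtSource [P.IsLocalAtSource (Scheme.precoverage Q)]
    ⦃A B C : Scheme.{u}⦄ (e : A ⟶ B) (q : B ⟶ C) (he : Q e) (hs : Surjective e)
    (h : P (e ≫ q)) : P q := by
  have hE : Presieve.singleton e ∈ Scheme.precoverage Q B := by
    rw [Scheme.singleton_mem_precoverage_iff]
    exact ⟨hs.surj, he⟩
  refine MorphismProperty.IsLocalAtSource.of_forall_comp hE ?_
  rintro _ _ ⟨⟩
  exact h

theorem desc_of_isLocalAtSource [P.IsLocalAtSource (Scheme.precoverage Q)]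
    ⦃U C : Scheme.{u}⦄ (h : U ⟶ C) {ι : Type u} (E : ι → Scheme.{u})
    (k : ∀ i, E i ⟶ U) (hk : ∀ i, Q (k i)) (hs : ∀ z : ↥U, ∃ i, z ∈ Set.range (k i))
    (H : ∀ i, P (k i ≫ h)) : P h := by
  have hE : Presieve.ofArrows E k ∈ Scheme.precoverage Q U := by
    rw [Scheme.ofArrows_mem_precoverage_iff]
    exact ⟨hs, hk⟩
  refine MorphismProperty.IsLocalAtSource.of_forall_comp hE ?_
  rintro _ _ ⟨i⟩
  exact H i

end precoverage

/-- General form for jointly surjective coverings: if `P` is local at the source for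
`Scheme.precoverage Q` (with `Q` etale local on source and target and containing etale morphisms),
then `LocP P` is local on the source for every covering notion whose coverings are jointly surjective
families of `LocP Q` morphisms. -/
theorem isLocalOnSource_of_precoverage (hQ : EtLocal Q) (hQid : ∀ B : Scheme.{u}, Q (𝟙 B))
    (hQet : ∀ ⦃A B : Scheme.{u}⦄ (e : A ⟶ B), Etale e → Q e)
    [P.IsLocalAtSource (Scheme.precoverage Q)] (τ : CovNotion S)
    (hτ : ∀ ⦃ι : Type u⦄ ⦃X : Sp S⦄ (Xi : ι → Sp S) (g : ∀ i, Xi i ⟶ X), τ Xi g →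
      (∀ i, LocP Q (g i)) ∧ ∀ x : Points X, ∃ i, x ∈ Set.range (Points.map (g i))) :
    IsLocalOnSource τ (LocP P) := by
  intro ι X Xi g hX hXi hcov Y f hY
  obtain ⟨h1, h2⟩ := hτ Xi g hcov
  constructor
  · intro hf i
    exact locP_precomp hQ (fun _ _ _ r q hr hq => comp_of_isLocalAtSource hQid r q hr hq)
      (fun _ _ _ e q he hs h => of_surjective_comp_of_isLocalAtSource e q (hQet e he) hs h)
      hX (g i) f (h1 i) hf
  · intro H
    exact locP_of_forall_precomp hQ (fun _ _ h _ E k hk hs HH =>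
      desc_of_isLocalAtSource h E k hk hs HH) hX Xi hXi g h1 h2 f H

theorem isLocalOnSource_et [P.IsLocalAtSource Scheme.etalePrecoverage] :
    IsLocalOnSource (IsEtCover (S := S)) (LocP P) := by
  haveI : P.IsLocalAtSource (Scheme.precoverage @Etale) :=
    ‹P.IsLocalAtSource Scheme.etalePrecoverage›
  refine isLocalOnSource_of_precoverage (Q := @Etale) Groth.Agent.Lib.Helper30.EtLocalInst.etLocal_etale
    (fun B => inferInstance) (fun _ _ e he => he) _ fun ι X Xi g hcov => ⟨fun i => ?_, hcov.2⟩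
  exact Groth.Agent.Lib.Helper17.ACov.locP_of_isEtaleMor (fun _ _ f hf => hf) (g i) (hcov.1 i)

theorem isLocalOnSource_sm [P.IsLocalAtSource (Scheme.precoverage @Smooth)] :
    IsLocalOnSource (IsSmCover (S := S)) (LocP P) := by
  refine isLocalOnSource_of_precoverage (Q := @Smooth)
    Groth.Agent.Lib.Helper30.EtLocalInst.etLocal_smooth (fun B => inferInstance)
    (fun _ _ e he => by haveI := he; infer_instance) _ fun ι X Xi g hcov => ⟨hcov.1, hcov.2⟩

theorem isLocalOnSource_fppf [P.IsLocalAtSource Scheme.fppfPrecoverage] :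
    IsLocalOnSource (IsFppfCover (S := S)) (LocP P) := by
  haveI : P.IsLocalAtSource (Scheme.precoverage (@Flat ⊓ @LocallyOfFinitePresentation)) :=
    ‹P.IsLocalAtSource Scheme.fppfPrecoverage›
  refine isLocalOnSource_of_precoverage (Q := @Flat ⊓ @LocallyOfFinitePresentation)
    (EtLocal.inf etLocal_flat etLocal_lfp) (fun B => ⟨inferInstance, inferInstance⟩)
    (fun _ _ e he => by haveI := he; exact ⟨inferInstance, inferInstance⟩) _
    fun ι X Xi g hcov => ⟨fun i => locP_inf (g i) (hcov.1 i).1 (hcov.1 i).2, hcov.2⟩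

section fpqc

/-- precomposition with a flat morphism, from locality at the source for the fpqc precoverage. -/
theorem comp_of_isLocalAtSource_fpqc [P.IsLocalAtSource Scheme.fpqcPrecoverage]
    ⦃A B C : Scheme.{u}⦄ (r : A ⟶ B) (q : B ⟶ C) (hr : Flat r) (hq : P q) : P (r ≫ q) := by
  let E : PreZeroHypercover.{0} B :=
    (PreZeroHypercover.singleton r).sum (PreZeroHypercover.singleton (𝟙 B))
  have hE : E.presieve₀ ∈ Scheme.fpqcPrecoverage B := by
    refine ⟨Scheme.presieve₀_mem_qcPrecoverage_iff.mpr inferInstance, ?_⟩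
    rw [Scheme.presieve₀_mem_precoverage_iff]
    refine ⟨fun x => ⟨Sum.inr ⟨⟩, x, rfl⟩, ?_⟩
    rintro (⟨⟩ | ⟨⟩)
    · exact hr
    · exact (inferInstance : Flat (𝟙 B))
  exact MorphismProperty.IsLocalAtSource.comp hE r (Presieve.ofArrows.mk (Sum.inl ⟨⟩) :
    E.presieve₀ (E.f (Sum.inl ⟨⟩))) hq

theorem of_surjective_comp_of_isLocalAtSource_fpqc [P.IsLocalAtSource Scheme.fpqcPrecoverage]
    ⦃A B C : Scheme.{u}⦄ (e : A ⟶ B) (q : B ⟶ C) (he : Etale e) (hs : Surjective e)
    (h : P (e ≫ q)) : P q := by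
  have hE : Presieve.singleton e ∈ Scheme.fpqcPrecoverage B :=
    Scheme.fppfPrecoverage_le_fpqcPrecoverage _ e.singleton_mem_fppfPrecoverage
  refine MorphismProperty.IsLocalAtSource.of_forall_comp hE ?_
  rintro _ _ ⟨⟩
  exact h

/-- **Backward direction** for fpqc coverings. -/
theorem locP_of_forall_precomp_fpqc [P.IsLocalAtSource Scheme.fpqcPrecoverage]
    {X : Sp S} (hX : IsAlgSpace X) {ι : Type u} (Xi : ι → Sp S)
    (hXi : ∀ i, IsAlgSpace (Xi i)) (g : ∀ i, Xi i ⟶ X) (hcov : IsFpqcCover Xi g)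
    {Y : Sp S} (f : X ⟶ Y) (H : ∀ i, LocP P (g i ≫ f)) : LocP P f := by
  classical
  intro U V a b h ha hb comm
  obtain ⟨E, d, k, hde, hds, hk, hPk⟩ := exists_source_charts hX Xi hXi g f H a b h ha hb comm
  have hkfl : ∀ i, Flat (k i).left := fun i =>
    locP_fibre etLocal_flat (hXi i) hX (g i) (hcov.1 i) a _ _ (IsPullback.of_hasPullback (g i) a)
      (d i) (hde i) (k i) (hk i)
  -- data attached to an affine open `O` of `U`
  have key : ∀ O : U.left.Opens, IsAffineOpen O →
      ∃ (m : ℕ) (idx : Fin m → ι) (Vc : ∀ j, (E (idx j)).left.Opens),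
        (∀ j, IsCompact (Vc j : Set ↥(E (idx j)).left)) ∧
        ⋃ j, (k (idx j)).left '' (Vc j : Set ↥(E (idx j)).left) = (O : Set ↥U.left) := by
    intro O hO
    have hOaff : IsAffine (overOpens U O).left := hO
    obtain ⟨m, W, c, hW, hc, hcs, hl⟩ := hcov.2 (overOpens U O) hOaff
      ((yon S).map (overOpensι U O) ≫ a)
    choose idx l hl using hl
    -- lifts to the fibre products
    let lam : ∀ j, (yon S).obj (W j) ⟶ pullback (g (idx j)) a := fun j =>
      pullback.lift (l j) ((yon S).map (c j ≫ overOpensι U O)) (by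
        rw [hl j, Functor.map_comp, Category.assoc])
    choose T τ1 τ2 sqT using fun j => exists_isPullback_yon (lam j) (d (idx j)) (hde (idx j)).rep
    have hτ1e : ∀ j, Etale (τ1 j).left := fun j => prop_fst_of_isPullback (sqT j) (hde (idx j))
    have hτ1s : ∀ j, Surjective (τ1 j).left := fun j =>
      prop_fst_of_isPullback (sqT j) (hds (idx j))
    have hcomm : ∀ j, τ1 j ≫ c j ≫ overOpensι U O = τ2 j ≫ k (idx j) := by
      intro j
      apply (yon S).map_injective
      have e1 : lam j ≫ pullback.snd (g (idx j)) a = (yon S).map (c j ≫ overOpensι U O) :=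
        pullback.lift_snd _ _ _
      calc (yon S).map (τ1 j ≫ c j ≫ overOpensι U O)
          = (yon S).map (τ1 j) ≫ (yon S).map (c j ≫ overOpensι U O) := Functor.map_comp _ _ _
        _ = (yon S).map (τ1 j) ≫ lam j ≫ pullback.snd _ _ := by rw [e1]
        _ = ((yon S).map (τ2 j) ≫ d (idx j)) ≫ pullback.snd _ _ := by
            rw [← Category.assoc, (sqT j).w]
        _ = (yon S).map (τ2 j) ≫ (yon S).map (k (idx j)) := by rw [Category.assoc, hk]
        _ = (yon S).map (τ2 j ≫ k (idx j)) := (Functor.map_comp _ _ _).symm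
    -- compact opens of `T j` surjecting onto `W j`
    have hcpt : ∀ j, ∃ T' : (T j).left.Opens, IsCompact (T' : Set ↥(T j).left) ∧
        (Set.univ : Set ↥(W j).left) ⊆ (τ1 j).left '' (T' : Set ↥(T j).left) := by
      intro j
      haveI := hW j
      haveI := hτ1e j
      refine exists_compact_opens_of_isOpenMap (T j).left (τ1 j).left (τ1 j).left.isOpenMap
        Set.univ isCompact_univ ?_
      intro w _
      exact (hτ1s j).surj w
    choose T' hT'c hT'cov using hcpt
    -- compact opens of `E (idx j)` between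
    have hbetween : ∀ j, ∃ Vc : (E (idx j)).left.Opens, IsCompact (Vc : Set ↥(E (idx j)).left) ∧
        (τ2 j).left '' (T' j : Set ↥(T j).left) ⊆ Vc ∧ Vc ≤ (k (idx j)).left ⁻¹ᵁ O := by
      intro j
      refine Groth.Agent.Lib.Helper53.exists_isCompact_opens_between
        ((hT'c j).image (τ2 j).left.continuous) _ ?_
      rintro _ ⟨t, -, rfl⟩
      change (k (idx j)).left ((τ2 j).left t) ∈ O
      have e1 : (k (idx j)).left ((τ2 j).left t) = (τ2 j ≫ k (idx j)).left t := rfl
      rw [e1, ← hcomm j]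
      exact ((c j).left ((τ1 j).left t)).2
    choose Vc hVc1 hVc2 hVc3 using hbetween
    refine ⟨m, idx, Vc, hVc1, ?_⟩
    apply subset_antisymm
    · intro z hz
      obtain ⟨j, e, he, rfl⟩ := Set.mem_iUnion.1 hz
      exact hVc3 j he
    · intro z hz
      obtain ⟨j, w, hw⟩ := hcs ⟨z, hz⟩
      obtain ⟨t, ht, rfl⟩ := hT'cov j (Set.mem_univ w)
      refine Set.mem_iUnion.2 ⟨j, (τ2 j).left t, hVc2 j ⟨t, ht, rfl⟩, ?_⟩
      have e1 : (k (idx j)).left ((τ2 j).left t) = (τ2 j ≫ k (idx j)).left t := rfl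
      rw [e1, ← hcomm j]
      change O.ι ((c j).left ((τ1 j).left t)) = z
      rw [hw]
      rfl
  let 𝒰 : PreZeroHypercover.{u} U.left :=
    { I₀ := ι, X := fun i => (E i).left, f := fun i => (k i).left }
  have hqc : QuasiCompactCover 𝒰 := by
    refine ⟨fun {O} hO => ?_⟩
    obtain ⟨m, idx, Vc, hVc, hU⟩ := key O hO
    exact IsCompactOpenCovered.of_finite (κ := Fin m) idx Vc hVc hU
  have hmem : 𝒰.presieve₀ ∈ Scheme.fpqcPrecoverage U.left := by
    refine ⟨Scheme.presieve₀_mem_qcPrecoverage_iff.mpr hqc, ?_⟩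
    rw [Scheme.presieve₀_mem_precoverage_iff]
    refine ⟨fun z => ?_, hkfl⟩
    obtain ⟨_, ⟨O, hO, rfl⟩, hzO, -⟩ :=
      U.left.isBasis_affineOpens.exists_subset_of_mem_open (Set.mem_univ z) isOpen_univ
    obtain ⟨m, idx, Vc, hVc, hU⟩ := key O hO
    have hz : z ∈ ⋃ j, (k (idx j)).left '' (Vc j : Set ↥(E (idx j)).left) := by
      rw [hU]; exact hzO
    obtain ⟨j, e, -, rfl⟩ := Set.mem_iUnion.1 hz
    exact ⟨idx j, e, rfl⟩
  refine MorphismProperty.IsLocalAtSource.of_forall_comp hmem ?_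
  rintro _ _ ⟨i⟩
  exact hPk i

theorem isLocalOnSource_fpqc [P.IsLocalAtSource Scheme.fpqcPrecoverage] :
    IsLocalOnSource (IsFpqcCover (S := S)) (LocP P) := by
  intro ι X Xi g hX hXi hcov Y f hY
  constructor
  · intro hf i
    exact locP_precomp etLocal_flat (fun _ _ _ r q hr hq => comp_of_isLocalAtSource_fpqc r q hr hq)
      (fun _ _ _ e q he hs h => of_surjective_comp_of_isLocalAtSource_fpqc e q he hs h)
      hX (g i) f (hcov.1 i) hf
  · intro H
    exact locP_of_forall_precomp_fpqc hX Xi hXi g hcov f H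

end fpqc

end Groth.Agent.Lib.Helper5.LocPSource
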