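import Mathlib
import Groth.Prelude.Def_QuotSh
import Groth.Prelude.Def_AlgSp
import Groth.Agent.Lib.Helper5.SheafPullback2

/-!
# Quotient sheaves `QuotSh.quot K s t` for a general subcanonical precoverage `K` (helper5)

Port of `SheafQuot`, `QuotShBasic`, `QuotShKernel`, `QuotSchemes` (fppf) to any precoverage `K` with
`(QuotSh.J K S).Subcanonical`.
-/

set_option autoImplicit false
universe u
open CategoryTheory CategoryTheory.Limits AlgebraicGeometry Opposite

namespace Groth.Agent.Lib.Helper5.QuotShK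

variable (K : Precoverage Scheme.{u}) (S : Scheme.{u}) [(QuotSh.J K S).Subcanonical]

/-- The functor `U ↦ h_U` to `K`-sheaves. -/
abbrev yonK : Over S ⥤ QuotSh.Sh K S := (QuotSh.J K S).uliftYoneda.{u + 1}

variable {K S}

/-- Two maps from a representable to a sheaf which agree on a covering sieve are equal. -/
theorem eq_of_locally_eq {F : QuotSh.Sh K S} {T : Over S} (x y : (yonK K S).obj T ⟶ F) (R₀ : Sieve T)
    (hR₀ : R₀ ∈ QuotSh.J K S T)
    (h : ∀ ⦃T' : Over S⦄ (φ : T' ⟶ T), R₀ φ → (yonK K S).map φ ≫ x = (yonK K S).map φ ≫ y) : x = y := by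
  apply (QuotSh.J K S).uliftYonedaEquiv.injective
  have hF : Presieve.IsSheaf (QuotSh.J K S) F.obj := (isSheaf_iff_isSheaf_of_type _ _).1 F.property
  refine (hF R₀ hR₀).isSeparatedFor.ext ?_
  intro T' φ hφ
  rw [GrothendieckTopology.uliftYonedaEquiv_naturality,
    GrothendieckTopology.uliftYonedaEquiv_naturality, h φ hφ]

/-- An epimorphism of sheaves lifts maps from representables locally. -/
theorem exists_local_lift_of_epi {F G : QuotSh.Sh K S} (f : F ⟶ G) [Epi f] {T : Over S}
    (y : (yonK K S).obj T ⟶ G) :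
    ∃ R₀ ∈ QuotSh.J K S T, ∀ ⦃T' : Over S⦄ (φ : T' ⟶ T), R₀ φ →
      ∃ x : (yonK K S).obj T' ⟶ F, x ≫ f = (yonK K S).map φ ≫ y := by
  haveI : Sheaf.IsLocallySurjective f := (Sheaf.isLocallySurjective_iff_epi f).2 inferInstance
  refine ⟨_, Presheaf.imageSieve_mem (QuotSh.J K S) f.hom ((QuotSh.J K S).uliftYonedaEquiv y), ?_⟩
  rintro T' φ ⟨t, ht⟩
  refine ⟨(QuotSh.J K S).uliftYonedaEquiv.symm t, ?_⟩
  apply (QuotSh.J K S).uliftYonedaEquiv.injective
  rw [GrothendieckTopology.uliftYonedaEquiv_comp, Equiv.apply_symm_apply,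
    ← GrothendieckTopology.uliftYonedaEquiv_naturality]
  exact ht

/-- A morphism of sheaves through which maps from representables lift locally is an epimorphism. -/
theorem epi_of_local_lift {F G : QuotSh.Sh K S} (f : F ⟶ G)
    (h : ∀ (T : Over S) (y : (yonK K S).obj T ⟶ G), ∃ R₀ ∈ QuotSh.J K S T, ∀ ⦃T' : Over S⦄ (φ : T' ⟶ T),
      R₀ φ → ∃ x : (yonK K S).obj T' ⟶ F, x ≫ f = (yonK K S).map φ ≫ y) : Epi f := by
  have : Sheaf.IsLocallySurjective f := by
    refine ⟨fun {Z} s => ?_⟩
    obtain ⟨R₀, hR₀, hl⟩ := h Z ((QuotSh.J K S).uliftYonedaEquiv.symm s)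
    refine (QuotSh.J K S).superset_covering ?_ hR₀
    intro T' φ hφ
    obtain ⟨x, hx⟩ := hl φ hφ
    refine ⟨(QuotSh.J K S).uliftYonedaEquiv x, ?_⟩
    have := congrArg (QuotSh.J K S).uliftYonedaEquiv hx
    rw [GrothendieckTopology.uliftYonedaEquiv_comp,
      ← GrothendieckTopology.uliftYonedaEquiv_naturality, Equiv.apply_symm_apply] at this
    exact this
  infer_instance

/-- Monomorphisms of sheaves are detected on maps from representables. -/
theorem mono_of_yon_cancel {G G' : QuotSh.Sh K S} (m : G ⟶ G')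
    (h : ∀ (Z : Over S) (a b : (yonK K S).obj Z ⟶ G), a ≫ m = b ≫ m → a = b) : Mono m := by
  suffices h' : Mono m.hom from Sheaf.Hom.mono_of_presheaf_mono _ _ m
  rw [NatTrans.mono_iff_mono_app]
  intro Z
  rw [mono_iff_injective]
  intro x x' hxx'
  obtain ⟨Z⟩ := Z
  have := h Z ((QuotSh.J K S).uliftYonedaEquiv.symm x) ((QuotSh.J K S).uliftYonedaEquiv.symm x') (by
    rw [GrothendieckTopology.uliftYonedaEquiv_symm_naturality_right,
      GrothendieckTopology.uliftYonedaEquiv_symm_naturality_right]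
    exact congrArg _ hxx')
  exact (QuotSh.J K S).uliftYonedaEquiv.symm.injective this


section Basic

variable (K)

/-- Naturality of `QuotSh.repIsoUliftYoneda`. -/
lemma repMap_comp_repIso_hom {V W : Over S} (g : V ⟶ W) :
    QuotSh.repMap K g ≫ (QuotSh.repIsoUliftYoneda K W).hom =
      (QuotSh.repIsoUliftYoneda K V).hom ≫ (yonK K S).map g := by
  have h := (sheafificationNatIso (QuotSh.J K S) (Type (u + 1))).hom.naturality ((yonK K S).map g)
  exact (Iso.comp_inv_eq (sheafificationIso ((yonK K S).obj W))).mpr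
    (((Iso.eq_inv_comp (sheafificationIso ((yonK K S).obj V))).mpr h.symm).trans
      (Category.assoc _ _ _).symm)

lemma repIso_inv_comp_repMap {V W : Over S} (g : V ⟶ W) :
    (QuotSh.repIsoUliftYoneda K V).inv ≫ QuotSh.repMap K g =
      (yonK K S).map g ≫ (QuotSh.repIsoUliftYoneda K W).inv :=
  (Iso.inv_comp_eq _).mpr (((Iso.eq_comp_inv _).mpr (repMap_comp_repIso_hom K g)).trans
    (Category.assoc _ _ _))

variable {R U : Over S} (s t : R ⟶ U)

/-- The quotient map written on `h_U`. -/
noncomputable def quotπ' : (yonK K S).obj U ⟶ QuotSh.quot K s t :=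
  (QuotSh.repIsoUliftYoneda K U).inv ≫ QuotSh.quotπ K s t

lemma quotπ'_condition : (yonK K S).map s ≫ quotπ' K s t = (yonK K S).map t ≫ quotπ' K s t := by
  have h := QuotSh.quot_condition K s t
  have hs := repIso_inv_comp_repMap K s
  have ht := repIso_inv_comp_repMap K t
  calc (yonK K S).map s ≫ quotπ' K s t
      = ((yonK K S).map s ≫ (QuotSh.repIsoUliftYoneda K U).inv) ≫
          QuotSh.quotπ K s t := (Category.assoc _ _ _).symm
    _ = ((QuotSh.repIsoUliftYoneda K R).inv ≫
          QuotSh.repMap K s) ≫ QuotSh.quotπ K s t := by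
        rw [hs]
    _ = (QuotSh.repIsoUliftYoneda K R).inv ≫
          QuotSh.repMap K s ≫ QuotSh.quotπ K s t :=
        Category.assoc _ _ _
    _ = (QuotSh.repIsoUliftYoneda K R).inv ≫
          QuotSh.repMap K t ≫ QuotSh.quotπ K s t := by
        rw [h]
    _ = ((QuotSh.repIsoUliftYoneda K R).inv ≫
          QuotSh.repMap K t) ≫ QuotSh.quotπ K s t :=
        (Category.assoc _ _ _).symm
    _ = ((yonK K S).map t ≫ (QuotSh.repIsoUliftYoneda K U).inv) ≫
          QuotSh.quotπ K s t := by rw [ht]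
    _ = (yonK K S).map t ≫ quotπ' K s t := Category.assoc _ _ _


/-- `U/R` is the coequalizer of `h_s, h_t : h_R ⇉ h_U`. -/
noncomputable def quotIsColimit :
    IsColimit (Cofork.ofπ (quotπ' K s t) (quotπ'_condition K s t)) :=
  Cofork.isColimitOfIsos
    (Cofork.ofπ (QuotSh.quotπ K s t)
      (QuotSh.quot_condition K s t))
    (coequalizerIsCoequalizer _ _)
    (Cofork.ofπ (quotπ' K s t) (quotπ'_condition K s t))
    (QuotSh.repIsoUliftYoneda K R)
    (QuotSh.repIsoUliftYoneda K U) (Iso.refl _)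
    (repMap_comp_repIso_hom K s).symm (repMap_comp_repIso_hom K t).symm
    (by
      change _ ≫ QuotSh.quotπ K s t ≫ 𝟙 _ = quotπ' K s t
      rw [Category.comp_id]; rfl)

instance : Epi (QuotSh.quotπ K s t) :=
  inferInstanceAs (Epi (coequalizer.π (QuotSh.repMap K s)
    (QuotSh.repMap K t)))

instance : Epi (quotπ' K s t) :=
  epi_comp _ _

instance : Sheaf.IsLocallySurjective (quotπ' K s t) :=
  (Sheaf.isLocallySurjective_iff_epi _).mpr inferInstance


variable (h : AlgSp.IsEqvRel s t)

/-- The setoid on `Z`-points of `U` given by the equivalence relation. -/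
def ptSetoid (Z : Over S) : Setoid (ULift.{u + 1} (Z ⟶ U)) where
  r x y := ∃ r : Z ⟶ R, r ≫ t = x.down ∧ r ≫ s = y.down
  iseqv := ⟨fun x => (h.equivalence Z).refl x.down, fun hxy => (h.equivalence Z).symm hxy,
    fun h1 h2 => (h.equivalence Z).trans h1 h2⟩

/-- The presheaf quotient `Z ↦ U(Z)/R(Z)`. -/
def quotPresheaf : (Over S)ᵒᵖ ⥤ Type (u + 1) where
  obj Z := Quotient (ptSetoid s t h Z.unop)
  map {Z W} f := ↾(Quotient.map' (s₁ := ptSetoid s t h Z.unop) (s₂ := ptSetoid s t h W.unop)
    (fun x => ⟨f.unop ≫ x.down⟩) (by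
      rintro x y ⟨r, h1, h2⟩
      exact ⟨f.unop ≫ r, by rw [Category.assoc, h1], by rw [Category.assoc, h2]⟩))
  map_id Z := by
    ext x
    induction x using Quotient.inductionOn with
    | h x => 
      apply Quotient.sound'
      simp only [unop_id, Category.id_comp]
      exact (ptSetoid s t h Z.unop).refl _
  map_comp {X Y Z} f g := by
    ext x
    induction x using Quotient.inductionOn with
    | h x => 
      apply Quotient.sound'
      simp only [unop_comp, Category.assoc]
      exact (ptSetoid s t h Z.unop).refl _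

/-- The natural map `h_U ⟶ U(-)/R(-)` of presheaves. -/
def toQuotPresheaf : ((yonK K S).obj U).obj ⟶ quotPresheaf s t h where
  app Z := ↾(fun x => Quotient.mk (ptSetoid s t h Z.unop) x)
  naturality := by
    intro Z W f
    rfl

/-- The map `h_U ⟶ (U(-)/R(-))^sh` of sheaves. -/
noncomputable def toQuotSheaf :
    (yonK K S).obj U ⟶ (presheafToSheaf (QuotSh.J K S) (Type (u + 1))).obj (quotPresheaf s t h) :=
  ⟨toQuotPresheaf K s t h ≫ toSheafify (QuotSh.J K S) (quotPresheaf s t h)⟩

lemma toQuotSheaf_condition :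
    (yonK K S).map s ≫ toQuotSheaf K s t h = (yonK K S).map t ≫ toQuotSheaf K s t h := by
  apply Sheaf.hom_ext
  change ((yonK K S).map s).hom ≫ toQuotPresheaf K s t h ≫ toSheafify (QuotSh.J K S) (quotPresheaf s t h) =
    ((yonK K S).map t).hom ≫ toQuotPresheaf K s t h ≫ toSheafify (QuotSh.J K S) (quotPresheaf s t h)
  rw [← Category.assoc, ← Category.assoc]
  congr 1
  ext Z r
  apply Quotient.sound
  exact (ptSetoid s t h Z.unop).symm ⟨r.down, rfl, rfl⟩

include h in
/-- Two points of `U` with the same image in `U/R` are `R`-equivalent. -/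
theorem exists_of_quotπ'_eq (Z : (Over S)ᵒᵖ) (x y : ((yonK K S).obj U).obj.obj Z)
    (hxy : (quotπ' K s t).hom.app Z x = (quotπ' K s t).hom.app Z y) :
    ∃ r : ((yonK K S).obj R).obj.obj Z,
      ((yonK K S).map t).hom.app Z r = x ∧ ((yonK K S).map s).hom.app Z r = y := by
  let d := (quotIsColimit K s t).desc (Cofork.ofπ (toQuotSheaf K s t h) (toQuotSheaf_condition K s t h))
  have hd : quotπ' K s t ≫ d = toQuotSheaf K s t h :=
    (quotIsColimit K s t).fac (Cofork.ofπ (toQuotSheaf K s t h) (toQuotSheaf_condition K s t h))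
      WalkingParallelPair.one
  have h1 : (toQuotSheaf K s t h).hom.app Z x = (toQuotSheaf K s t h).hom.app Z y := by
    rw [← hd, sheaf_comp_app, sheaf_comp_app, hxy]
  have hS : Presheaf.equalizerSieve (F := quotPresheaf s t h)
      ((toQuotPresheaf K s t h).app Z x) ((toQuotPresheaf K s t h).app Z y) ∈ QuotSh.J K S Z.unop :=
    Presheaf.equalizerSieve_mem (QuotSh.J K S) (toSheafify (QuotSh.J K S) (quotPresheaf s t h)) _ _ h1
  have hrel : ∀ ⦃W : Over S⦄ (f : W ⟶ Z.unop),
      (Presheaf.equalizerSieve (F := quotPresheaf s t h)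
      ((toQuotPresheaf K s t h).app Z x) ((toQuotPresheaf K s t h).app Z y)).arrows f →
      ∃ r : W ⟶ R, r ≫ t = f ≫ x.down ∧ r ≫ s = f ≫ y.down := by
    intro W f hf
    exact Quotient.exact hf
  let P := ((yonK K S).obj R).obj
  have hP : Presieve.IsSheaf (QuotSh.J K S) P := (isSheaf_iff_isSheaf_of_type _ _).mp ((yonK K S).obj R).2
  let fam : Presieve.FamilyOfElements P (Presheaf.equalizerSieve (F := quotPresheaf s t h)
      ((toQuotPresheaf K s t h).app Z x) ((toQuotPresheaf K s t h).app Z y)).arrows :=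
    fun W f hf => ⟨(hrel f hf).choose⟩
  have hfam1 : ∀ ⦃W : Over S⦄ (f : W ⟶ Z.unop) (hf), (fam f hf).down ≫ t = f ≫ x.down :=
    fun W f hf => (hrel f hf).choose_spec.1
  have hfam2 : ∀ ⦃W : Over S⦄ (f : W ⟶ Z.unop) (hf), (fam f hf).down ≫ s = f ≫ y.down :=
    fun W f hf => (hrel f hf).choose_spec.2
  have compat : fam.Compatible := by
    intro Y₁ Y₂ Z' g₁ g₂ f₁ f₂ h₁ h₂ hg
    apply ULift.ext
    change g₁ ≫ (fam f₁ h₁).down = g₂ ≫ (fam f₂ h₂).down
    apply h.injective
    · rw [Category.assoc, Category.assoc, hfam1 f₁ h₁, hfam1 f₂ h₂, ← Category.assoc,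
        ← Category.assoc, hg]
    · rw [Category.assoc, Category.assoc, hfam2 f₁ h₁, hfam2 f₂ h₂, ← Category.assoc,
        ← Category.assoc, hg]
  have hsf := hP _ hS
  let r := hsf.amalgamate fam compat
  have hr : ∀ ⦃W : Over S⦄ (f : W ⟶ Z.unop) (hf), P.map f.op r = fam f hf :=
    fun W f hf => hsf.valid_glue compat f hf
  have hU : Presieve.IsSheaf (QuotSh.J K S) ((yonK K S).obj U).obj :=
    (isSheaf_iff_isSheaf_of_type _ _).mp ((yonK K S).obj U).2
  have hsep := (hU _ hS).isSeparatedFor
  refine ⟨r, ?_, ?_⟩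
  · apply hsep.ext
    intro W f hf
    apply ULift.ext
    have := congrArg ULift.down (hr f hf)
    change f ≫ r.down = (fam f hf).down at this
    change f ≫ (r.down ≫ t) = f ≫ x.down
    rw [← Category.assoc, this, hfam1 f hf]
  · apply hsep.ext
    intro W f hf
    apply ULift.ext
    have := congrArg ULift.down (hr f hf)
    change f ≫ r.down = (fam f hf).down at this
    change f ≫ (r.down ≫ s) = f ≫ y.down
    rw [← Category.assoc, this, hfam2 f hf]

include h in
/-- For an equivalence relation `s, t : R ⇉ U`, `h_R` is the kernel pair of `h_U ⟶ U/R`. -/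
theorem isPullback_quotπ' :
    IsPullback ((yonK K S).map t) ((yonK K S).map s) (quotπ' K s t) (quotπ' K s t) := by
  refine sheaf_isPullback_of_sections (QuotSh.J K S) _ _ _ _ (quotπ'_condition K s t).symm ?_ ?_
  · intro Z x y h1 h2
    apply ULift.ext
    apply h.injective
    · exact congrArg ULift.down h1
    · exact congrArg ULift.down h2
  · intro Z x y hxy
    exact exists_of_quotπ'_eq K s t h Z x y hxy


end Basic

/-- Descent from the coequalizer: if `π` is a coequalizer of `s, t`, `q` is an epimorphism which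
coequalizes them and `R ⟶ U ×_M U` is an epimorphism, then the induced map is an isomorphism. -/
theorem isIso_desc_of_epi {R U M Q : QuotSh.Sh K S} (s t : R ⟶ U) (π : U ⟶ Q) (hπ : s ≫ π = t ≫ π)
    [Epi π] (q : U ⟶ M) (w : s ≫ q = t ≫ q) [Epi q]
    [Epi (pullback.lift t s w.symm : R ⟶ pullback q q)] (d : Q ⟶ M) (hd : π ≫ d = q) :
    IsIso d := by
  haveI : Epi d := epi_of_epi_fac hd
  haveI : Mono d := by
    apply mono_of_yon_cancel
    intro T x y hxy
    obtain ⟨R₁, hR₁, h1⟩ := exists_local_lift_of_epi π x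
    obtain ⟨R₂, hR₂, h2⟩ := exists_local_lift_of_epi π y
    refine eq_of_locally_eq x y (R₁ ⊓ R₂) ((QuotSh.J K S).intersection_covering hR₁ hR₂) ?_
    rintro T' φ ⟨hφ1, hφ2⟩
    obtain ⟨a, ha⟩ := h1 φ hφ1
    obtain ⟨b, hb⟩ := h2 φ hφ2
    have hab : a ≫ q = b ≫ q := by
      rw [← hd, ← Category.assoc, ha, ← Category.assoc, hb, Category.assoc, hxy, Category.assoc]
    obtain ⟨R₃, hR₃, h3⟩ := exists_local_lift_of_epi
      (pullback.lift t s w.symm : R ⟶ pullback q q) (pullback.lift a b hab)
    refine eq_of_locally_eq _ _ R₃ hR₃ ?_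
    intro T'' ψ hψ
    obtain ⟨r, hr⟩ := h3 ψ hψ
    have hr1 : r ≫ t = (yonK K S).map ψ ≫ a := by
      have := congrArg (· ≫ pullback.fst q q) hr
      simpa only [Category.assoc, pullback.lift_fst] using this
    have hr2 : r ≫ s = (yonK K S).map ψ ≫ b := by
      have := congrArg (· ≫ pullback.snd q q) hr
      simpa only [Category.assoc, pullback.lift_snd] using this
    rw [← ha, ← hb, ← Category.assoc, ← Category.assoc, ← hr1, ← hr2, Category.assoc,
      Category.assoc, hπ]
  exact isIso_of_mono_of_epi _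


section Desc

variable (K) {R U Y : Over S} (s t : R ⟶ U)

/-- The comparison `U/R ⟶ h_Y` on `yon`. -/
lemma quotπ'_quotDesc (q : U ⟶ Y) (w : s ≫ q = t ≫ q) :
    quotπ' K s t ≫ QuotSh.quotDesc K q w ≫
      (QuotSh.repIsoUliftYoneda K Y).hom = (yonK K S).map q := by
  have h1 : QuotSh.quotπ K s t ≫ QuotSh.quotDesc K q w =
      QuotSh.repMap K q := coequalizer.π_desc _ _
  calc quotπ' K s t ≫ QuotSh.quotDesc K q w ≫
        (QuotSh.repIsoUliftYoneda K Y).hom
      = (QuotSh.repIsoUliftYoneda K U).inv ≫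
          (QuotSh.quotπ K s t ≫ (QuotSh.quotDesc K q w ≫
            (QuotSh.repIsoUliftYoneda K Y).hom)) := Category.assoc _ _ _
    _ = (QuotSh.repIsoUliftYoneda K U).inv ≫
          ((QuotSh.quotπ K s t ≫ QuotSh.quotDesc K q w) ≫
            (QuotSh.repIsoUliftYoneda K Y).hom) :=
        congrArg (fun z => (QuotSh.repIsoUliftYoneda K U).inv ≫ z)
          (Category.assoc _ _ _).symm
    _ = (QuotSh.repIsoUliftYoneda K U).inv ≫
          (QuotSh.repMap K q ≫
            (QuotSh.repIsoUliftYoneda K Y).hom) :=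
        congrArg (fun z => (QuotSh.repIsoUliftYoneda K U).inv ≫
          (z ≫ (QuotSh.repIsoUliftYoneda K Y).hom)) h1
    _ = (QuotSh.repIsoUliftYoneda K U).inv ≫
          ((QuotSh.repIsoUliftYoneda K U).hom ≫ (yonK K S).map q) :=
        congrArg (fun z => (QuotSh.repIsoUliftYoneda K U).inv ≫ z)
          (repMap_comp_repIso_hom K q)
    _ = ((QuotSh.repIsoUliftYoneda K U).inv ≫
          (QuotSh.repIsoUliftYoneda K U).hom) ≫ (yonK K S).map q :=
        (Category.assoc _ _ _).symm
    _ = (yonK K S).map q := by rw [Iso.inv_hom_id]; exact Category.id_comp _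


end Desc

section Kernel

variable (K : Precoverage Scheme.{u}) {S : Scheme.{u}} [(QuotSh.J K S).Subcanonical]
variable {R U Y : Over S} (s t : R ⟶ U)

/-- **Scheme quotients are sheaf quotients**: a `q : U ⟶ Y` with kernel pair `R` which is an
epimorphism of `K`-sheaves identifies `h_Y` with `U/R`. -/
theorem isQuotient_of_isKernelPair_of_epi (q : U ⟶ Y) (hk : IsKernelPair q s t)
    [Epi ((yonK K S).map q)] : QuotSh.IsQuotient K s t q := by
  refine ⟨hk.w, ?_⟩
  have hkY : IsPullback ((yonK K S).map s) ((yonK K S).map t) ((yonK K S).map q)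
      ((yonK K S).map q) := hk.map (yonK K S)
  have hw' : (yonK K S).map s ≫ (yonK K S).map q = (yonK K S).map t ≫ (yonK K S).map q := hkY.w
  haveI : Epi (pullback.lift ((yonK K S).map t) ((yonK K S).map s) hw'.symm :
      (yonK K S).obj R ⟶ pullback ((yonK K S).map q) ((yonK K S).map q)) := by
    have : pullback.lift ((yonK K S).map t) ((yonK K S).map s) hw'.symm =
        hkY.flip.isoPullback.hom := by
      apply pullback.hom_ext
      · rw [pullback.lift_fst, IsPullback.isoPullback_hom_fst]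
      · rw [pullback.lift_snd, IsPullback.isoPullback_hom_snd]
    rw [this]
    infer_instance
  have hiso : IsIso (QuotSh.quotDesc K q hk.w ≫ (QuotSh.repIsoUliftYoneda K Y).hom) :=
    isIso_desc_of_epi ((yonK K S).map s) ((yonK K S).map t) (quotπ' K s t)
      (quotπ'_condition K s t) ((yonK K S).map q) hw' _ (quotπ'_quotDesc K s t q hk.w)
  exact IsIso.of_isIso_comp_right _ (QuotSh.repIsoUliftYoneda K Y).hom

/-- **Sheaf quotients that are schemes**: if `q` identifies `h_Y` with `U/R` for an equivalence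
relation, then `R` is the kernel pair of `q` and `h_q` is an epimorphism of `K`-sheaves. -/
theorem isKernelPair_of_isQuotient (hR : AlgSp.IsEqvRel s t) (q : U ⟶ Y)
    (hq : QuotSh.IsQuotient K s t q) :
    IsKernelPair q s t ∧ Epi ((yonK K S).map q) := by
  obtain ⟨w, hiso⟩ := hq
  haveI := hiso
  set d := QuotSh.quotDesc K q w ≫ (QuotSh.repIsoUliftYoneda K Y).hom with hd
  have hπd : quotπ' K s t ≫ d = (yonK K S).map q := quotπ'_quotDesc K s t q w
  haveI : IsIso d := by rw [hd]; infer_instance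
  have hepi : Epi ((yonK K S).map q) := by rw [← hπd]; infer_instance
  have hker : IsPullback ((yonK K S).map t) ((yonK K S).map s) ((yonK K S).map q)
      ((yonK K S).map q) := by
    have h1 : IsKernelPair (quotπ' K s t) ((yonK K S).map t) ((yonK K S).map s) :=
      isPullback_quotπ' K s t hR
    have h2 := h1.comp_of_mono (f₂ := d)
    rw [hπd] at h2
    exact h2
  exact ⟨IsPullback.of_map (yonK K S) w hker.flip, hepi⟩

end Kernel

end Groth.Agent.Lib.Helper5.QuotShK
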