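import Mathlib
import Groth.Agent.Lib.Helper5.QuotShK
import Groth.Agent.Lib.Helper30.EtLocalInst

/-!
# Étale quotient sheaves of schemes: étale-specific input (helper5)
-/

set_option autoImplicit false
universe u
open CategoryTheory CategoryTheory.Limits AlgebraicGeometry Opposite

namespace Groth.Agent.Lib.Helper5.QuotShEt

open Groth.Agent.Lib.Helper5.QuotShK

variable {S : Scheme.{u}}

theorem etaleTopology_le_fppfTopology :
    Scheme.etalePrecoverage.toGrothendieck ≤ Scheme.fppfTopology.{u} := by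
  apply Precoverage.toGrothendieck_mono
  apply Scheme.precoverage_mono
  intro X Y f hf
  have : Etale f := hf
  exact ⟨inferInstance, inferInstance⟩

instance : (Scheme.etalePrecoverage.{u}.toGrothendieck).Subcanonical :=
  .of_le etaleTopology_le_fppfTopology

instance (S : Scheme.{u}) : (QuotSh.J Scheme.etalePrecoverage S).Subcanonical :=
  GrothendieckTopology.subcanonical_over _ S

/-- A single étale covering morphism generates a covering sieve. -/
theorem generate_singleton_mem_J {T' T : Over S} (c : T' ⟶ T) [Etale c.left] [Surjective c.left] :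
    Sieve.generate (Presieve.singleton c) ∈ QuotSh.J Scheme.etalePrecoverage S T := by
  rw [GrothendieckTopology.mem_over_iff]
  have hmem : Presieve.singleton c.left ∈ Scheme.etalePrecoverage T.left := by
    rw [Scheme.etalePrecoverage, Scheme.singleton_mem_precoverage_iff]
    exact ⟨c.left.surjective, inferInstance⟩
  refine (Scheme.etalePrecoverage.toGrothendieck).superset_covering ?_
    (Precoverage.generate_mem_toGrothendieck hmem)
  rintro Z _ ⟨W, ψ, _, ⟨⟩, rfl⟩
  rw [Sieve.overEquiv_iff]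
  refine ⟨T', (Over.homMk ψ (by
    change ψ ≫ T'.hom = (ψ ≫ c.left) ≫ T.hom
    rw [Category.assoc, Over.w]) : Over.mk ((ψ ≫ c.left) ≫ T.hom) ⟶ T'), c,
    Presieve.singleton.mk, ?_⟩
  ext1
  rfl

/-- An étale covering morphism of schemes gives an epimorphism of étale sheaves. -/
theorem epi_yon_map_of_etale {U Y : Over S} (q : U ⟶ Y) [Etale q.left] [Surjective q.left] :
    Epi ((yonK Scheme.etalePrecoverage S).map q) := by
  apply epi_of_local_lift
  intro T y
  obtain ⟨y₀, rfl⟩ := (yonK Scheme.etalePrecoverage S).map_surjective y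
  let T' : Over S := Over.mk (pullback.snd q.left y₀.left ≫ T.hom)
  let c : T' ⟶ T := Over.homMk (pullback.snd q.left y₀.left) rfl
  let x : T' ⟶ U := Over.homMk (pullback.fst q.left y₀.left) (by
    change pullback.fst q.left y₀.left ≫ U.hom = pullback.snd q.left y₀.left ≫ T.hom
    rw [← Over.w q, ← Over.w y₀, pullback.condition_assoc])
  have hxc : x ≫ q = c ≫ y₀ := by
    ext1
    exact pullback.condition
  haveI : Etale c.left := by change Etale (pullback.snd q.left y₀.left); infer_instance
  haveI : Surjective c.left := by change Surjective (pullback.snd q.left y₀.left); infer_instance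
  refine ⟨_, generate_singleton_mem_J c, ?_⟩
  rintro T'' φ ⟨Z, ψ, _, ⟨⟩, rfl⟩
  refine ⟨(yonK Scheme.etalePrecoverage S).map (ψ ≫ x), ?_⟩
  rw [← Functor.map_comp, ← Functor.map_comp, Category.assoc, hxc, Category.assoc]

/-- A covering sieve of the étale topology over `S` contains an étale covering family. -/
theorem exists_etale_family_of_mem_J {V : Over S} (R₀ : Sieve V)
    (hR₀ : R₀ ∈ QuotSh.J Scheme.etalePrecoverage S V) :
    ∃ (ι : Type u) (Vi : ι → Over S) (c : ∀ i, Vi i ⟶ V), (∀ i, R₀ (c i)) ∧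
      (∀ i, Etale (c i).left) ∧ ∀ v : ↥V.left, ∃ i, v ∈ Set.range (c i).left := by
  rw [GrothendieckTopology.mem_over_iff] at hR₀
  obtain ⟨𝒰, h𝒰⟩ := (Scheme.mem_grothendieckTopology_iff (P := @Etale)).1 hR₀
  refine ⟨𝒰.I₀, fun i => Over.mk (𝒰.f i ≫ V.hom), fun i => Over.homMk (𝒰.f i) rfl, fun i => ?_,
    fun i => 𝒰.map_prop i, fun v => ?_⟩
  · have h1 : Sieve.overEquiv V R₀ (𝒰.f i) := h𝒰 _ _ (Presieve.ofArrows.mk i)
    rw [Sieve.overEquiv_iff] at h1
    exact h1
  · obtain ⟨i, y, hy⟩ := 𝒰.exists_eq v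
    exact ⟨i, y, hy⟩

/-- If the kernel pair of `q : U ⟶ Y` has étale first projection `s`, and `q` has sections over an
étale covering family of `Y`, then `q` is étale and surjective. -/
theorem etale_surjective_of_local_sections {R U Y : Scheme.{u}} (s t : R ⟶ U) (q : U ⟶ Y)
    (hk : IsPullback s t q q) [Etale s] {ι : Type u} (Yi : ι → Scheme.{u}) (c : ∀ i, Yi i ⟶ Y)
    (hce : ∀ i, Etale (c i)) (hcs : ∀ y : ↥Y, ∃ i, y ∈ Set.range (c i))
    (a : ∀ i, Yi i ⟶ U) (ha : ∀ i, a i ≫ q = c i) : Etale q ∧ Surjective q := by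
  haveI := hce
  refine ⟨?_, ⟨fun y => ?_⟩⟩
  swap
  · obtain ⟨i, v, hv⟩ := hcs y
    refine ⟨a i v, ?_⟩
    rw [← hv, ← ha i]
    rfl
  -- the base changes
  have big : ∀ i, IsPullback (pullback.fst s (a i) ≫ t) (pullback.snd s (a i)) q (c i) := fun i => by
    rw [← ha i]
    exact (IsPullback.of_hasPullback s (a i)).paste_horiz hk.flip
  have hp : ∀ i, Etale (pullback.fst s (a i) ≫ t) := fun i =>
    MorphismProperty.of_isPullback (P := @Etale) (big i).flip (hce i)
  have hpq : ∀ i, Etale ((pullback.fst s (a i) ≫ t) ≫ q) := fun i => by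
    rw [(big i).w]
    infer_instance
  let V : ι → U.Opens := fun i =>
    ⟨Set.range (pullback.fst s (a i) ≫ t), by
      haveI := hp i
      exact (pullback.fst s (a i) ≫ t).isOpenMap.isOpen_range⟩
  have hV : iSup V = ⊤ := by
    rw [eq_top_iff]
    intro u _
    obtain ⟨i, v, hv⟩ := hcs (q u)
    obtain ⟨z, hz1, hz2⟩ := Scheme.Pullback.exists_preimage_pullback (f := q) (g := c i) u v hv.symm
    rw [TopologicalSpace.Opens.mem_iSup]
    refine ⟨i, (big i).isoPullback.inv z, ?_⟩
    rw [← hz1, ← Scheme.Hom.comp_apply, IsPullback.isoPullback_inv_fst]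
  rw [IsZariskiLocalAtSource.iff_of_iSup_eq_top (P := @Etale) V hV]
  intro i
  have hrV : Set.range (V i).ι = Set.range (pullback.fst s (a i) ≫ t) := Scheme.Opens.range_ι (V i)
  let p' : pullback s (a i) ⟶ (V i : Scheme.{u}) :=
    IsOpenImmersion.lift (V i).ι (pullback.fst s (a i) ≫ t) hrV.ge
  have hp' : p' ≫ (V i).ι = pullback.fst s (a i) ≫ t := IsOpenImmersion.lift_fac _ _ _
  have hp'e : Etale p' := by
    refine MorphismProperty.of_postcomp (W := @Etale) (W' := @Etale) p' (V i).ι inferInstance ?_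
    rw [hp']
    exact hp i
  have hp's : Surjective p' := by
    refine ⟨fun x => ?_⟩
    have hw : (V i).ι x ∈ Set.range (pullback.fst s (a i) ≫ t) := by rw [← hrV]; exact ⟨x, rfl⟩
    obtain ⟨z, hz⟩ := hw
    refine ⟨z, ?_⟩
    apply (V i).ι.isOpenEmbedding.injective
    rw [← hz, ← hp']
    rfl
  refine Groth.Agent.Lib.Helper30.EtLocalInst.etLocal_etale.of_cover p' ((V i).ι ≫ q) hp'e hp's ?_
  rw [← Category.assoc, hp']
  exact hpq i


end Groth.Agent.Lib.Helper5.QuotShEt
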