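import Groth.Agent.Lib.Helper5.AMonDom
import Groth.Prelude.Def_Magnet4

/-!
# Attractors of `A(M)_S`-actions: consequences of schematic dominance (helper5)
-/

set_option autoImplicit false

universe u

open CategoryTheory CategoryTheory.Limits MonoidalCategory CartesianMonoidalCategory MonObj AlgebraicGeometry Opposite
open Magnet

noncomputable section

namespace Groth.Agent.Lib.Helper5.AMonAttr

open Groth.Agent.Lib.Helper5.AMonDom

variable {S : Scheme.{u}} {M : Type} [AddCommMonoid M] {X : Over S}

/-- evaluation of an equivariant family at the unit section. -/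
abbrev ev {N : AddSubmonoid M} {T : Over S} (φ : AMonS S N ⊗ T ⟶ X) : T ⟶ X :=
  lift (toUnit T ≫ η[AMonS S N]) (𝟙 T) ≫ φ

/-- On the image of `A(M) × T ⟶ A(N) × T` an equivariant family is the orbit map of its value
at the unit section. -/
theorem map_whisker_comp_eq (a : MonAct (AMonS S M) X) (N : AddSubmonoid M) {T : Over S}
    (φ : AMonS S N ⊗ T ⟶ X)
    (hφ : MonAct.IsEquivariant ((subAct S M N).prod (MonAct.trivial (AMonS S M) T)) a φ) :
    (AMonS.map S N.subtype ▷ T) ≫ φ = (AMonS S M ◁ ev φ) ≫ a.act := by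
  rw [MonAct.mem_eqvHom_iff] at hφ
  apply Magnet.hom_ext_lift₂
  intro T' g t
  have h1 := hφ T' g 1 t
  have h2 : lift g (1 : T' ⟶ AMonS S N) ≫ (subAct S M N).act = g ≫ AMonS.map S N.subtype := by
    rw [subAct, MonAct.lift_restrict_act, MonAct.lift_regular_act, _root_.mul_one]
  have h3 : lift (1 : T' ⟶ AMonS S N) t = t ≫ lift (toUnit T ≫ η[AMonS S N]) (𝟙 T) := by
    rw [comp_lift, Category.comp_id, ← Category.assoc, toUnit_unique (t ≫ toUnit T) (toUnit T')]
    rfl
  rw [h2, h3, Category.assoc] at h1
  rw [lift_whiskerRight_assoc, h1, lift_whiskerLeft_assoc]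

theorem dominant_subtype (N : AddSubmonoid M) (T : Over S) :
    IsSchemeTheoreticallyDominant (AMonS.map S N.subtype ▷ T).left :=
  (dominant_map_whiskerRight N.subtype Subtype.val_injective T).2

/-- For `X` separated over `S`, an equivariant family `A(N) × T ⟶ X` is determined by its value
at the unit section. -/
theorem eq_of_ev_eq [IsSeparated X.hom] (a : MonAct (AMonS S M) X) (N : AddSubmonoid M) {T : Over S}
    (φ ψ : AMonS S N ⊗ T ⟶ X)
    (hφ : MonAct.IsEquivariant ((subAct S M N).prod (MonAct.trivial (AMonS S M) T)) a φ)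
    (hψ : MonAct.IsEquivariant ((subAct S M N).prod (MonAct.trivial (AMonS S M) T)) a ψ)
    (h : ev φ = ev ψ) : φ = ψ := by
  have := dominant_subtype (S := S) N T
  apply ext_of_dominant_of_separated (AMonS.map S N.subtype ▷ T).left
  have h1 : (AMonS.map S N.subtype ▷ T) ≫ φ = (AMonS.map S N.subtype ▷ T) ≫ ψ := by
    rw [map_whisker_comp_eq a N φ hφ, map_whisker_comp_eq a N ψ hψ, h]
  exact congrArg (fun k => k.left) h1

end Groth.Agent.Lib.Helper5.AMonAttr
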