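import Groth.Agent.Lib.Helper5.A1Pts
import Mathlib.AlgebraicGeometry.AffineScheme
import Mathlib.Algebra.Polynomial.AlgebraMap

/-!
# Coordinates on `𝔸¹ × Spec B` (helper5)

For `T = Spec B` over `S`, the product `A ⊗ T` (with `A = AMonS S ↥NN` the affine line) is
isomorphic over `S` to `Spec B[X]`, the coordinate `aFn (fst A T)` corresponding to `X`.
-/

set_option autoImplicit false

universe u

open CategoryTheory CategoryTheory.Limits MonoidalCategory CartesianMonoidalCategory MonObj AlgebraicGeometry Opposite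
open Magnet

noncomputable section

namespace Groth.Agent.Lib.Helper5.A1Coord

open Groth.Agent.Lib.Helper5.A1Pts

/-- morphisms into an affine spectrum are determined by global sections. -/
theorem spec_hom_ext {X : Scheme.{u}} {R : CommRingCat.{u}} (f g : X ⟶ Spec R)
    (h : (Scheme.ΓSpecIso R).inv ≫ f.appTop = (Scheme.ΓSpecIso R).inv ≫ g.appTop) : f = g := by
  apply ext_of_isAffine
  exact (cancel_epi (Scheme.ΓSpecIso R).inv).mp h

variable {S : Scheme.{u}} (B : CommRingCat.{u}) (τ : Spec B ⟶ S)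

abbrev A : Over S := AMonS S ↥NN

abbrev T : Over S := Over.mk τ

abbrev PB : CommRingCat.{u} := CommRingCat.of (Polynomial B)

abbrev cHom : B ⟶ PB B := CommRingCat.ofHom (Polynomial.C : (B : Type u) →+* Polynomial B)

abbrev E : Over S := Over.mk (Spec.map (cHom B) ≫ τ)

def yE : E B τ ⟶ T B τ := Over.homMk (Spec.map (cHom B)) rfl

def tE : Γ((E B τ).left, ⊤) := (Scheme.ΓSpecIso (PB B)).inv (Polynomial.X : Polynomial B)

def mE : E B τ ⟶ (A : Over S) := ptOfFn (tE B τ)

def e₀ : E B τ ⟶ (A : Over S) ⊗ T B τ := lift (mE B τ) (yE B τ)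

/-- the ring map `B → Γ(A ⊗ T)`. -/
def bHom : B ⟶ Γ(((A : Over S) ⊗ T B τ).left, ⊤) :=
  (Scheme.ΓSpecIso B).inv ≫ (snd (A : Over S) (T B τ)).left.appTop

def evHom : PB B ⟶ Γ(((A : Over S) ⊗ T B τ).left, ⊤) :=
  CommRingCat.ofHom (Polynomial.eval₂RingHom (bHom B τ).hom (aFn (fst (A : Over S) (T B τ))))

theorem evHom_C (b : B) : (evHom B τ).hom (Polynomial.C b) = (bHom B τ).hom b := by
  simp [evHom]

theorem evHom_X : (evHom B τ).hom Polynomial.X = aFn (fst (A : Over S) (T B τ)) := by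
  simp [evHom]

def e' : ((A : Over S) ⊗ T B τ).left ⟶ Spec (PB B) :=
  ΓSpec.adjunction.homEquiv _ (op (PB B)) (evHom B τ).op

theorem ΓSpecIso_inv_e' : (Scheme.ΓSpecIso (PB B)).inv ≫ (e' B τ).appTop = evHom B τ :=
  ΓSpecIso_inv_ΓSpec_adjunction_homEquiv _

theorem e'_appTop_apply (p : Polynomial B) :
    (e' B τ).appTop ((Scheme.ΓSpecIso (PB B)).inv p) = (evHom B τ).hom p := by
  have := congrArg (fun f => f.hom p) (ΓSpecIso_inv_e' B τ)
  exact this

theorem specMap_cHom_appTop (b : B) :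
    (Spec.map (cHom B)).appTop ((Scheme.ΓSpecIso B).inv b) = (Scheme.ΓSpecIso (PB B)).inv (Polynomial.C b) := by
  have h := congrArg (fun ψ => (ConcreteCategory.hom ψ) b) (Scheme.ΓSpecIso_inv_naturality (cHom B))
  exact h.symm

theorem e'_comp_specMap : e' B τ ≫ Spec.map (cHom B) = (snd (A : Over S) (T B τ)).left := by
  apply spec_hom_ext
  ext b
  change (e' B τ ≫ Spec.map (cHom B)).appTop ((Scheme.ΓSpecIso B).inv b) =
    (snd (A : Over S) (T B τ)).left.appTop ((Scheme.ΓSpecIso B).inv b)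
  rw [Scheme.Hom.comp_appTop]
  change (e' B τ).appTop ((Spec.map (cHom B)).appTop ((Scheme.ΓSpecIso B).inv b)) = _
  rw [specMap_cHom_appTop, e'_appTop_apply, evHom_C]
  rfl

def e'Over : (A : Over S) ⊗ T B τ ⟶ E B τ :=
  Over.homMk (e' B τ) (by
    change e' B τ ≫ Spec.map (cHom B) ≫ τ = _
    rw [← Category.assoc, e'_comp_specMap]
    exact Over.w (snd (A : Over S) (T B τ)))

theorem aFn_mE : aFn (mE B τ) = tE B τ := aFn_ptOfFn _

theorem e'Over_comp_e₀ : e'Over B τ ≫ e₀ B τ = 𝟙 _ := by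
  apply CartesianMonoidalCategory.hom_ext
  · rw [Category.assoc, e₀, lift_fst, Category.id_comp]
    apply aFn_injective
    rw [aFn_comp, aFn_mE]
    change (e' B τ).appTop ((Scheme.ΓSpecIso (PB B)).inv Polynomial.X) = _
    rw [e'_appTop_apply, evHom_X]
  · rw [Category.assoc, e₀, lift_snd, Category.id_comp]
    ext1
    exact e'_comp_specMap B τ

theorem e₀_left_appTop_aFn : (e₀ B τ).left.appTop (aFn (fst (A : Over S) (T B τ))) = tE B τ := by
  rw [← aFn_comp, e₀, lift_fst, aFn_mE]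

theorem e₀_comp_e'Over : e₀ B τ ≫ e'Over B τ = 𝟙 _ := by
  ext1
  change (e₀ B τ).left ≫ e' B τ = 𝟙 (Spec (PB B))
  apply spec_hom_ext
  refine CommRingCat.hom_ext (RingHom.ext fun p => ?_)
  change ((e₀ B τ).left ≫ e' B τ).appTop ((Scheme.ΓSpecIso (PB B)).inv p) =
    (𝟙 (Spec (PB B)) : Spec (PB B) ⟶ Spec (PB B)).appTop ((Scheme.ΓSpecIso (PB B)).inv p)
  rw [Scheme.Hom.comp_appTop]
  change (e₀ B τ).left.appTop ((e' B τ).appTop ((Scheme.ΓSpecIso (PB B)).inv p)) = _
  rw [e'_appTop_apply]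
  have hid : (𝟙 (Spec (PB B)) : Spec (PB B) ⟶ Spec (PB B)).appTop ((Scheme.ΓSpecIso (PB B)).inv p) =
      (Scheme.ΓSpecIso (PB B)).inv p := by simp
  rw [hid]
  -- both sides are ring homs in p
  let F : Polynomial B →+* Γ(Spec (PB B), ⊤) :=
    ((e₀ B τ).left.appTop.hom).comp (evHom B τ).hom
  let G : Polynomial B →+* Γ(Spec (PB B), ⊤) := (Scheme.ΓSpecIso (PB B)).inv.hom
  change F p = G p
  have hFG : F = G := by
    apply Polynomial.ringHom_ext
    · intro b
      change (e₀ B τ).left.appTop ((evHom B τ).hom (Polynomial.C b)) = (Scheme.ΓSpecIso (PB B)).inv (Polynomial.C b)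
      rw [evHom_C]
      change (e₀ B τ).left.appTop ((snd (A : Over S) (T B τ)).left.appTop ((Scheme.ΓSpecIso B).inv b)) = _
      have h1 : (e₀ B τ).left ≫ (snd (A : Over S) (T B τ)).left = Spec.map (cHom B) := by
        rw [← Over.comp_left, e₀, lift_snd]; rfl
      have h2 := congrArg (fun f => f.appTop ((Scheme.ΓSpecIso B).inv b)) h1
      simp only [Scheme.Hom.comp_appTop] at h2
      exact h2.trans (specMap_cHom_appTop B b)
    · change (e₀ B τ).left.appTop ((evHom B τ).hom Polynomial.X) = (Scheme.ΓSpecIso (PB B)).inv Polynomial.X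
      rw [evHom_X, e₀_left_appTop_aFn]
      rfl
  rw [hFG]

instance : IsIso (e₀ B τ) := ⟨e'Over B τ, e₀_comp_e'Over B τ, e'Over_comp_e₀ B τ⟩

instance : IsIso (e₀ B τ).left := by
  change IsIso ((Over.forget S).map (e₀ B τ))
  infer_instance

end Groth.Agent.Lib.Helper5.A1Coord
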