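import Groth.Agent.Lib.Helper5.AMonPts
import Groth.Agent.Lib.Helper5.A1Coord
import Mathlib.AlgebraicGeometry.AffineScheme

/-!
# Coordinates on `A(M)_S × Spec B` (helper5)

For `T = Spec B` over `S`, the product `AMonS S M ⊗ T` is isomorphic over `S` to `Spec B[M]`,
naturally in `M`.
-/

set_option autoImplicit false

universe u

open CategoryTheory CategoryTheory.Limits MonoidalCategory CartesianMonoidalCategory MonObj AlgebraicGeometry Opposite
open Magnet

noncomputable section

namespace Groth.Agent.Lib.Helper5.AMonCoord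

open Groth.Agent.Lib.Helper5.AMonPts
open Groth.Agent.Lib.Helper5.A1Coord (spec_hom_ext)

variable {S : Scheme.{u}} (M : Type) [AddCommMonoid M] (B : CommRingCat.{u}) (τ : Spec B ⟶ S)

abbrev A : Over S := AMonS S M

abbrev T : Over S := Over.mk τ

abbrev BM : CommRingCat.{u} := CommRingCat.of (MonoidAlgebra B (Multiplicative M))

abbrev cHom : B ⟶ BM M B :=
  CommRingCat.ofHom (MonoidAlgebra.singleOneRingHom : (B : Type u) →+* MonoidAlgebra B (Multiplicative M))

abbrev E : Over S := Over.mk (Spec.map (cHom M B) ≫ τ)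

def yE : E M B τ ⟶ T B τ := Over.homMk (Spec.map (cHom M B)) rfl

def φE : Multiplicative M →* Γ((E M B τ).left, ⊤) :=
  ((Scheme.ΓSpecIso (BM M B)).inv.hom : MonoidAlgebra B (Multiplicative M) →+* _).toMonoidHom.comp
    (MonoidAlgebra.of B (Multiplicative M))

theorem φE_apply (m : Multiplicative M) :
    φE M B τ m = (Scheme.ΓSpecIso (BM M B)).inv (MonoidAlgebra.of B (Multiplicative M) m) := rfl

def mE : E M B τ ⟶ (A M : Over S) := ptOfMonHom (φE M B τ)

def e₀ : E M B τ ⟶ (A M : Over S) ⊗ T B τ := lift (mE M B τ) (yE M B τ)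

/-- the ring map `B → Γ(A ⊗ T)`. -/
def bHom : B ⟶ Γ(((A M : Over S) ⊗ T B τ).left, ⊤) :=
  (Scheme.ΓSpecIso B).inv ≫ (snd (A M : Over S) (T B τ)).left.appTop

def evHom : BM M B ⟶ Γ(((A M : Over S) ⊗ T B τ).left, ⊤) :=
  CommRingCat.ofHom (MonoidAlgebra.liftNCRingHom (bHom M B τ).hom
    (monHomOfPt (fst (A M : Over S) (T B τ))) (fun _ _ => Commute.all _ _))

theorem evHom_C (b : B) : (evHom M B τ).hom (MonoidAlgebra.singleOneRingHom b) = (bHom M B τ).hom b := by
  simp [evHom, MonoidAlgebra.liftNCRingHom, MonoidAlgebra.singleOneRingHom]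

theorem evHom_of (m : Multiplicative M) :
    (evHom M B τ).hom (MonoidAlgebra.of B (Multiplicative M) m) =
      monHomOfPt (fst (A M : Over S) (T B τ)) m := by
  simp [evHom, MonoidAlgebra.liftNCRingHom]

def e' : ((A M : Over S) ⊗ T B τ).left ⟶ Spec (BM M B) :=
  ΓSpec.adjunction.homEquiv _ (op (BM M B)) (evHom M B τ).op

theorem ΓSpecIso_inv_e' : (Scheme.ΓSpecIso (BM M B)).inv ≫ (e' M B τ).appTop = evHom M B τ :=
  ΓSpecIso_inv_ΓSpec_adjunction_homEquiv _

theorem e'_appTop_apply (p : MonoidAlgebra B (Multiplicative M)) :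
    (e' M B τ).appTop ((Scheme.ΓSpecIso (BM M B)).inv p) = (evHom M B τ).hom p := by
  have := congrArg (fun f => f.hom p) (ΓSpecIso_inv_e' M B τ)
  exact this

theorem specMap_appTop {R R' : CommRingCat.{u}} (g : R ⟶ R') (b : R) :
    (Spec.map g).appTop ((Scheme.ΓSpecIso R).inv b) = (Scheme.ΓSpecIso R').inv (g.hom b) := by
  have h := congrArg (fun ψ => (ConcreteCategory.hom ψ) b) (Scheme.ΓSpecIso_inv_naturality g)
  exact h.symm

theorem e'_comp_specMap : e' M B τ ≫ Spec.map (cHom M B) = (snd (A M : Over S) (T B τ)).left := by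
  apply spec_hom_ext
  ext b
  change (e' M B τ ≫ Spec.map (cHom M B)).appTop ((Scheme.ΓSpecIso B).inv b) =
    (snd (A M : Over S) (T B τ)).left.appTop ((Scheme.ΓSpecIso B).inv b)
  rw [Scheme.Hom.comp_appTop]
  change (e' M B τ).appTop ((Spec.map (cHom M B)).appTop ((Scheme.ΓSpecIso B).inv b)) = _
  rw [specMap_appTop, e'_appTop_apply]
  change (evHom M B τ).hom (MonoidAlgebra.singleOneRingHom b) = _
  rw [evHom_C]
  rfl

def e'Over : (A M : Over S) ⊗ T B τ ⟶ E M B τ :=
  Over.homMk (e' M B τ) (by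
    change e' M B τ ≫ Spec.map (cHom M B) ≫ τ = _
    rw [← Category.assoc, e'_comp_specMap]
    exact Over.w (snd (A M : Over S) (T B τ)))

theorem monHomOfPt_mE : monHomOfPt (mE M B τ) = φE M B τ := monHomOfPt_ptOfMonHom _

theorem e'Over_comp_e₀ : e'Over M B τ ≫ e₀ M B τ = 𝟙 _ := by
  apply CartesianMonoidalCategory.hom_ext
  · rw [Category.assoc, e₀, lift_fst, Category.id_comp]
    apply monHomOfPt_injective
    rw [monHomOfPt_comp, monHomOfPt_mE]
    refine MonoidHom.ext fun m => ?_
    change (e' M B τ).appTop ((Scheme.ΓSpecIso (BM M B)).inv (MonoidAlgebra.of B (Multiplicative M) m)) = _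
    rw [e'_appTop_apply, evHom_of]
  · rw [Category.assoc, e₀, lift_snd, Category.id_comp]
    ext1
    exact e'_comp_specMap M B τ

theorem e₀_comp_e'Over : e₀ M B τ ≫ e'Over M B τ = 𝟙 _ := by
  ext1
  change (e₀ M B τ).left ≫ e' M B τ = 𝟙 (Spec (BM M B))
  apply spec_hom_ext
  refine CommRingCat.hom_ext (RingHom.ext fun p => ?_)
  change ((e₀ M B τ).left ≫ e' M B τ).appTop ((Scheme.ΓSpecIso (BM M B)).inv p) =
    (𝟙 (Spec (BM M B)) : Spec (BM M B) ⟶ Spec (BM M B)).appTop ((Scheme.ΓSpecIso (BM M B)).inv p)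
  rw [Scheme.Hom.comp_appTop]
  change (e₀ M B τ).left.appTop ((e' M B τ).appTop ((Scheme.ΓSpecIso (BM M B)).inv p)) = _
  rw [e'_appTop_apply]
  have hid : (𝟙 (Spec (BM M B)) : Spec (BM M B) ⟶ Spec (BM M B)).appTop ((Scheme.ΓSpecIso (BM M B)).inv p) =
      (Scheme.ΓSpecIso (BM M B)).inv p := by simp
  rw [hid]
  let F : MonoidAlgebra B (Multiplicative M) →+* Γ(Spec (BM M B), ⊤) :=
    ((e₀ M B τ).left.appTop.hom).comp (evHom M B τ).hom
  let G : MonoidAlgebra B (Multiplicative M) →+* Γ(Spec (BM M B), ⊤) := (Scheme.ΓSpecIso (BM M B)).inv.hom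
  change F p = G p
  have hFG : F = G := by
    apply MonoidAlgebra.ringHom_ext
    · intro b
      change (e₀ M B τ).left.appTop ((evHom M B τ).hom (MonoidAlgebra.singleOneRingHom b)) =
        (Scheme.ΓSpecIso (BM M B)).inv (MonoidAlgebra.singleOneRingHom b)
      rw [evHom_C]
      change (e₀ M B τ).left.appTop ((snd (A M : Over S) (T B τ)).left.appTop ((Scheme.ΓSpecIso B).inv b)) = _
      have h1 : (e₀ M B τ).left ≫ (snd (A M : Over S) (T B τ)).left = Spec.map (cHom M B) := by
        rw [← Over.comp_left, e₀, lift_snd]; rfl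
      have h2 := congrArg (fun f => f.appTop ((Scheme.ΓSpecIso B).inv b)) h1
      simp only [Scheme.Hom.comp_appTop] at h2
      exact h2.trans (specMap_appTop (cHom M B) b)
    · intro m
      change (e₀ M B τ).left.appTop ((evHom M B τ).hom (MonoidAlgebra.of B (Multiplicative M) m)) =
        (Scheme.ΓSpecIso (BM M B)).inv (MonoidAlgebra.of B (Multiplicative M) m)
      rw [evHom_of]
      have h3 := monHomOfPt_comp (e₀ M B τ) (fst (A M : Over S) (T B τ))
      rw [e₀, lift_fst, monHomOfPt_mE] at h3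
      have h4 := DFunLike.congr_fun h3 m
      exact h4.symm
  rw [hFG]

instance : IsIso (e₀ M B τ) := ⟨e'Over M B τ, e₀_comp_e'Over M B τ, e'Over_comp_e₀ M B τ⟩

instance : IsIso (e₀ M B τ).left := by
  change IsIso ((Over.forget S).map (e₀ M B τ))
  infer_instance

/-! ### Naturality in `M` -/

section nat
variable {M} {N : Type} [AddCommMonoid N] (f : N →+ M)

abbrev gHom : BM N B ⟶ BM M B :=
  CommRingCat.ofHom (MonoidAlgebra.mapDomainRingHom B (AddMonoidHom.toMultiplicative f))

theorem cHom_gHom : cHom N B ≫ gHom B f = cHom M B := by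
  refine CommRingCat.hom_ext (RingHom.ext fun b => ?_)
  change MonoidAlgebra.mapDomainRingHom B (AddMonoidHom.toMultiplicative f) (MonoidAlgebra.single 1 b) =
    MonoidAlgebra.single 1 b
  simp

def sE : E M B τ ⟶ E N B τ :=
  Over.homMk (Spec.map (gHom B f)) (by
    change Spec.map (gHom B f) ≫ Spec.map (cHom N B) ≫ τ = Spec.map (cHom M B) ≫ τ
    rw [← Category.assoc, ← Spec.map_comp, cHom_gHom])

theorem sE_left : (sE B τ f).left = Spec.map (gHom B f) := rfl

theorem e₀_naturality : e₀ M B τ ≫ (AMonS.map S f ▷ T B τ) = sE B τ f ≫ e₀ N B τ := by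
  apply CartesianMonoidalCategory.hom_ext
  · rw [Category.assoc, whiskerRight_fst, e₀, lift_fst_assoc, Category.assoc, e₀, lift_fst]
    apply monHomOfPt_injective
    rw [monHomOfPt_map, monHomOfPt_comp, monHomOfPt_mE, monHomOfPt_mE]
    refine MonoidHom.ext fun n => ?_
    change (Scheme.ΓSpecIso (BM M B)).inv (MonoidAlgebra.of B (Multiplicative M) (AddMonoidHom.toMultiplicative f n)) =
      (Spec.map (gHom B f)).appTop ((Scheme.ΓSpecIso (BM N B)).inv (MonoidAlgebra.of B (Multiplicative N) n))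
    rw [specMap_appTop]
    congr 1
    change _ = MonoidAlgebra.mapDomainRingHom B (AddMonoidHom.toMultiplicative f) (MonoidAlgebra.of B (Multiplicative N) n)
    simp
  · rw [Category.assoc, whiskerRight_snd, e₀, lift_snd, Category.assoc, e₀, lift_snd]
    ext1
    change Spec.map (cHom M B) = Spec.map (gHom B f) ≫ Spec.map (cHom N B)
    rw [← Spec.map_comp, cHom_gHom]

theorem gHom_injective (hf : Function.Injective f) : Function.Injective (gHom B f).hom := by
  change Function.Injective (MonoidAlgebra.mapDomainRingHom B (AddMonoidHom.toMultiplicative f))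
  exact MonoidAlgebra.mapDomain_injective (by exact hf)

end nat

end Groth.Agent.Lib.Helper5.AMonCoord
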