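import Groth.Prelude.Def_GmPts
import Groth.Prelude.Def_Red2

/-! # Points of the diagonalisable group `D_S(M)` (helper5)

Generalises the prelude's `GmPts` (the case `M = ℤ`): `T`-points of `Red.DS S M` are monoid
homomorphisms `Multiplicative M →* Γ(T, O_T)`, multiplicatively, naturally in `T` and in `M`. -/

set_option autoImplicit false
universe u

open CategoryTheory CategoryTheory.Limits MonoidalCategory CartesianMonoidalCategory MonObj
  AlgebraicGeometry Opposite

noncomputable section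

namespace Groth.Agent.Lib.Helper5.DSPts

open GmPts (baseZ toBaseZ appTop_comp_apply pullback_map_left_fst)

section coord

variable (M : Type) [AddCommGroup M]

/-- The coordinate ring `ℤ[M]`. -/
abbrev CoordM : Type u := MonoidAlgebra (ULift.{u} ℤ) (Multiplicative M)

/-- `D(M)` over `Spec ℤ`. -/
abbrev DZ : Over baseZ.{u} := Red.diag (ULift.{u} ℤ) M

/-- The monomial of `m`. -/
abbrev mono (m : M) : CoordM.{u} M := MonoidAlgebra.single (Multiplicative.ofAdd m) 1

theorem mono_mul (m n : M) : mono M m * mono M n = mono.{u} M (m + n) := by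
  rw [MonoidAlgebra.single_mul_single, _root_.mul_one]; rfl

abbrev coordIsoM : Γ(Spec (CommRingCat.of (CoordM.{u} M)), ⊤) ≅ CommRingCat.of (CoordM.{u} M) :=
  Scheme.ΓSpecIso (CommRingCat.of (CoordM.{u} M))

theorem ringHom_ext_mono {R : Type u} [CommRing R] {f g : CoordM.{u} M →+* R}
    (h : ∀ m : M, f (mono M m) = g (mono M m)) : f = g := by
  refine MonoidAlgebra.ringHom_ext (fun r => ?_) (fun m => h (Multiplicative.toAdd m))
  have : MonoidAlgebra.single (1 : Multiplicative M) r = ((r.down : ℤ) : CoordM.{u} M) := by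
    rcases r with ⟨r⟩
    change MonoidAlgebra.single 1 (ULift.up r) = _
    rw [MonoidAlgebra.intCast_def]
    rfl
  rw [this, map_intCast, map_intCast]

/-- The ring map `ℤ[M] → R` of a character. -/
def ringHomOfChar {R : Type u} [CommRing R] (χ : Multiplicative M →* R) : CoordM.{u} M →+* R :=
  MonoidAlgebra.liftNCRingHom
    ((Int.castRingHom R).comp (ULift.ringEquiv : ULift.{u} ℤ ≃+* ℤ).toRingHom) χ
    (fun _ _ => Commute.all _ _)

theorem ringHomOfChar_mono {R : Type u} [CommRing R] (χ : Multiplicative M →* R) (m : M) :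
    ringHomOfChar M χ (mono M m) = χ (Multiplicative.ofAdd m) := by
  simp [ringHomOfChar, MonoidAlgebra.liftNCRingHom_single]

end coord

variable {M : Type} [AddCommGroup M] {S : Scheme.{u}} {T T' : Over S}

/-- The component `T.left ⟶ Spec ℤ[M]` of a point. -/
abbrev specPt (t : T ⟶ Red.DS S M) : T.left ⟶ Spec (CommRingCat.of (CoordM.{u} M)) :=
  t.left ≫ pullback.fst (DZ M).hom (toBaseZ S)

/-- The ring map classified by a point. -/
def ringHomOfPt (t : T ⟶ Red.DS S M) : CoordM.{u} M →+* Γ(T.left, ⊤) :=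
  ((coordIsoM M).inv ≫ (specPt t).appTop).hom

/-- The character of a point. -/
def charOfPt (t : T ⟶ Red.DS S M) : Multiplicative M →* Γ(T.left, ⊤) :=
  ((ringHomOfPt t : CoordM.{u} M →* Γ(T.left, ⊤))).comp (MonoidAlgebra.of _ _)

theorem charOfPt_apply (t : T ⟶ Red.DS S M) (m : M) :
    charOfPt t (Multiplicative.ofAdd m) = ringHomOfPt t (mono M m) := rfl

def homOfChar (χ : Multiplicative M →* Γ(T.left, ⊤)) :
    CommRingCat.of (CoordM.{u} M) ⟶ Γ(T.left, ⊤) := CommRingCat.ofHom (ringHomOfChar M χ)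

def specOfChar (χ : Multiplicative M →* Γ(T.left, ⊤)) :
    T.left ⟶ Spec (CommRingCat.of (CoordM.{u} M)) :=
  ΓSpec.adjunction.homEquiv T.left (op (CommRingCat.of (CoordM.{u} M))) (homOfChar χ).op

theorem coordIso_inv_specOfChar (χ : Multiplicative M →* Γ(T.left, ⊤)) :
    (coordIsoM M).inv ≫ (specOfChar χ).appTop = homOfChar χ :=
  ΓSpecIso_inv_ΓSpec_adjunction_homEquiv _

theorem specOfChar_w (χ : Multiplicative M →* Γ(T.left, ⊤)) :
    specOfChar χ ≫ (DZ M).hom = T.hom ≫ toBaseZ S :=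
  specULiftZIsTerminal.hom_ext _ _

/-- The point of a character. -/
def ptOfChar (χ : Multiplicative M →* Γ(T.left, ⊤)) : T ⟶ Red.DS S M :=
  Over.homMk (pullback.lift (specOfChar χ) T.hom (specOfChar_w χ)) (pullback.lift_snd _ _ _)

theorem specPt_ptOfChar (χ : Multiplicative M →* Γ(T.left, ⊤)) :
    specPt (ptOfChar χ) = specOfChar χ := pullback.lift_fst _ _ _

theorem ringHomOfPt_ptOfChar (χ : Multiplicative M →* Γ(T.left, ⊤)) :
    ringHomOfPt (ptOfChar χ) = ringHomOfChar M χ := by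
  change ((coordIsoM M).inv ≫ (specPt (ptOfChar χ)).appTop).hom = _
  rw [specPt_ptOfChar, coordIso_inv_specOfChar]
  rfl

theorem charOfPt_ptOfChar (χ : Multiplicative M →* Γ(T.left, ⊤)) : charOfPt (ptOfChar χ) = χ := by
  ext m
  change ringHomOfPt (ptOfChar χ) (mono M (Multiplicative.toAdd m)) = χ m
  rw [ringHomOfPt_ptOfChar, ringHomOfChar_mono]
  rfl

theorem ringHomOfChar_charOfPt (t : T ⟶ Red.DS S M) :
    ringHomOfChar M (charOfPt t) = ringHomOfPt t :=
  ringHom_ext_mono M (fun m => by rw [ringHomOfChar_mono]; rfl)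

theorem specOfChar_charOfPt (t : T ⟶ Red.DS S M) : specOfChar (charOfPt t) = specPt t := by
  have h : (homOfChar (charOfPt t)).op =
      (ΓSpec.adjunction.homEquiv T.left (op (CommRingCat.of (CoordM.{u} M)))).symm (specPt t) := by
    rw [Adjunction.homEquiv_counit, ΓSpec.adjunction_counit_app]
    change (homOfChar (charOfPt t)).op = ((coordIsoM M).inv ≫ (specPt t).appTop).op
    congr 1
    ext1
    exact ringHomOfChar_charOfPt t
  rw [specOfChar, h, Equiv.apply_symm_apply]

theorem ptOfChar_charOfPt (t : T ⟶ Red.DS S M) : ptOfChar (charOfPt t) = t := by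
  ext1
  apply pullback.hom_ext
  · exact (specPt_ptOfChar _).trans (specOfChar_charOfPt t)
  · exact (pullback.lift_snd _ _ _).trans (Over.w t).symm

theorem charOfPt_injective : Function.Injective (charOfPt : (T ⟶ Red.DS S M) → _) := by
  intro t t' h
  rw [← ptOfChar_charOfPt t, ← ptOfChar_charOfPt t', h]

/-! ### Naturality in `T` -/

theorem ringHomOfPt_comp (g : T' ⟶ T) (t : T ⟶ Red.DS S M) :
    ringHomOfPt (g ≫ t) = g.left.appTop.hom.comp (ringHomOfPt t) := by
  change ((coordIsoM M).inv ≫ ((g ≫ t).left ≫ pullback.fst (DZ M).hom (toBaseZ S)).appTop).hom = _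
  rw [Over.comp_left, Category.assoc, Scheme.Hom.comp_appTop]
  rfl

theorem charOfPt_comp (g : T' ⟶ T) (t : T ⟶ Red.DS S M) :
    charOfPt (g ≫ t) = (g.left.appTop.hom : Γ(T.left, ⊤) →* Γ(T'.left, ⊤)).comp (charOfPt t) := by
  ext m
  change ringHomOfPt (g ≫ t) _ = g.left.appTop.hom (ringHomOfPt t _)
  rw [ringHomOfPt_comp]
  rfl

/-! ### Multiplicativity -/

theorem specMap_appTop_coordIso_inv {R : CommRingCat.{u}} (φ : CommRingCat.of (CoordM.{u} M) ⟶ R)
    (c : CoordM.{u} M) :
    (Spec.map φ).appTop ((coordIsoM M).inv c) = (Scheme.ΓSpecIso R).inv (φ c) := by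
  have h := congrArg (fun ψ => (ConcreteCategory.hom ψ) c) (Scheme.ΓSpecIso_inv_naturality φ)
  exact h.symm

def pairPt (t t' : T ⟶ Red.DS S M) : T.left ⟶ (DZ.{u} M ⊗ DZ.{u} M).left :=
  (lift t t').left ≫ (Functor.LaxMonoidal.μ (Over.pullback (toBaseZ S)) (DZ M) (DZ M)).left ≫
    pullback.fst (DZ.{u} M ⊗ DZ.{u} M).hom (toBaseZ S)

theorem specPt_mul (t t' : T ⟶ Red.DS S M) : specPt (t * t') = pairPt t t' ≫ μ[DZ.{u} M].left := by
  have h1 : t * t' = lift t t' ≫ μ[Red.DS S M] := Hom.mul_def t t'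
  have h2 : μ[Red.DS S M] = Functor.LaxMonoidal.μ (Over.pullback (toBaseZ S)) (DZ M) (DZ M) ≫
      (Over.pullback (toBaseZ S)).map μ[DZ.{u} M] := rfl
  have h3 := pullback_map_left_fst (S := S) μ[DZ.{u} M]
  rw [specPt, pairPt, h1, h2, Over.comp_left, Over.comp_left]
  simp only [Category.assoc]
  exact _ ≫= (_ ≫= h3)

theorem pairPt_fst (t t' : T ⟶ Red.DS S M) :
    pairPt t t' ≫ pullback.fst (DZ.{u} M).hom (DZ.{u} M).hom = specPt t := by
  rw [pairPt, Category.assoc, Category.assoc, Over.μ_pullback_left_fst_fst, ← Category.assoc]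
  congr 1
  rw [← Over.fst_left, ← Over.comp_left, lift_fst]

theorem pairPt_snd (t t' : T ⟶ Red.DS S M) :
    pairPt t t' ≫ pullback.snd (DZ.{u} M).hom (DZ.{u} M).hom = specPt t' := by
  rw [pairPt, Category.assoc, Category.assoc, Over.μ_pullback_left_fst_snd, ← Category.assoc]
  congr 1
  rw [← Over.snd_left, ← Over.comp_left, lift_snd]

theorem comul_mono (m : M) :
    Coalgebra.comul (R := ULift.{u} ℤ) (mono.{u} M m) = mono M m ⊗ₜ[ULift.{u} ℤ] mono M m := by
  rw [MonoidAlgebra.comul_single]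
  simp

theorem mul_appTop_mono (m : M) : μ[DZ.{u} M].left.appTop ((coordIsoM M).inv (mono.{u} M m)) =
    (pullback.fst (DZ.{u} M).hom (DZ.{u} M).hom).appTop ((coordIsoM M).inv (mono M m)) *
      (pullback.snd (DZ.{u} M).hom (DZ.{u} M).hom).appTop ((coordIsoM M).inv (mono M m)) := by
  let CC : Type u := TensorProduct (ULift.{u} ℤ) (CoordM.{u} M) (CoordM.{u} M)
  let iL : CoordM.{u} M →+* CC := Algebra.TensorProduct.includeLeftRingHom
  let iR : CoordM.{u} M →+* CC :=
    ((Algebra.TensorProduct.includeRight (R := ULift.{u} ℤ) (A := CoordM.{u} M) (B := CoordM.{u} M) :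
      CoordM.{u} M →ₐ[ULift.{u} ℤ] CC) : CoordM.{u} M →+* CC)
  let fC : Spec (CommRingCat.of (CoordM.{u} M)) ⟶ baseZ.{u} :=
    Spec.map (CommRingCat.ofHom (algebraMap (ULift.{u} ℤ) (CoordM.{u} M)))
  let psi := pullbackSpecIso (ULift.{u} ℤ) (CoordM.{u} M) (CoordM.{u} M)
  have hfst : pullback.fst fC fC =
      psi.hom ≫ Spec.map (CommRingCat.ofHom (R := CoordM.{u} M) (S := CC) iL) := by
    rw [← pullbackSpecIso_inv_fst, Iso.hom_inv_id_assoc]
  have hsnd : pullback.snd fC fC =
      psi.hom ≫ Spec.map (CommRingCat.ofHom (R := CoordM.{u} M) (S := CC) iR) := by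
    rw [← pullbackSpecIso_inv_snd, Iso.hom_inv_id_assoc]
  have hc : (CommRingCat.ofHom (Bialgebra.comulAlgHom (ULift.{u} ℤ) (CoordM.{u} M)).toRingHom)
      (mono M m) =
      (CommRingCat.ofHom (R := CoordM.{u} M) (S := CC) iL) (mono.{u} M m) *
        (CommRingCat.ofHom (R := CoordM.{u} M) (S := CC) iR) (mono.{u} M m) := by
    change Coalgebra.comul (R := ULift.{u} ℤ) (mono.{u} M m) =
      (mono M m ⊗ₜ[ULift.{u} ℤ] (1 : CoordM.{u} M)) * ((1 : CoordM.{u} M) ⊗ₜ[ULift.{u} ℤ] mono M m)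
    rw [comul_mono, Algebra.TensorProduct.tmul_mul_tmul, _root_.mul_one, _root_.one_mul]
  change (psi.hom ≫ Spec.map (CommRingCat.ofHom
      (Bialgebra.comulAlgHom (ULift.{u} ℤ) (CoordM.{u} M)).toRingHom)).appTop
      ((coordIsoM M).inv (mono M m)) =
    (pullback.fst fC fC).appTop ((coordIsoM M).inv (mono M m)) *
      (pullback.snd fC fC).appTop ((coordIsoM M).inv (mono M m))
  rw [hfst, hsnd, appTop_comp_apply, appTop_comp_apply, appTop_comp_apply,
    specMap_appTop_coordIso_inv, specMap_appTop_coordIso_inv, specMap_appTop_coordIso_inv, hc,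
    map_mul, map_mul]

theorem ringHomOfPt_mul_mono (t t' : T ⟶ Red.DS S M) (m : M) :
    ringHomOfPt (t * t') (mono M m) = ringHomOfPt t (mono M m) * ringHomOfPt t' (mono M m) := by
  have e1 : ringHomOfPt (t * t') (mono M m) =
      (pairPt t t').appTop (μ[DZ.{u} M].left.appTop ((coordIsoM M).inv (mono M m))) := by
    change (specPt (t * t')).appTop ((coordIsoM M).inv (mono M m)) = _
    rw [specPt_mul]
    exact appTop_comp_apply _ _ _
  rw [e1, mul_appTop_mono, map_mul, ← appTop_comp_apply, ← appTop_comp_apply, pairPt_fst,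
    pairPt_snd]
  rfl

theorem charOfPt_mul (t t' : T ⟶ Red.DS S M) : charOfPt (t * t') = charOfPt t * charOfPt t' := by
  ext m
  exact ringHomOfPt_mul_mono t t' (Multiplicative.toAdd m)

theorem isUnit_charOfPt (t : T ⟶ Red.DS S M) (m : Multiplicative M) : IsUnit (charOfPt t m) := by
  refine IsUnit.of_mul_eq_one (charOfPt t m⁻¹) ?_
  rw [← map_mul, mul_inv_cancel, map_one]

theorem charOfPt_one : charOfPt (1 : T ⟶ Red.DS S M) = 1 := by
  refine MonoidHom.ext fun m => ?_
  have h := congrArg (fun χ : Multiplicative M →* Γ(T.left, ⊤) => χ m)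
    (charOfPt_mul (1 : T ⟶ Red.DS S M) 1)
  have e : (1 : T ⟶ Red.DS S M) * 1 = 1 := _root_.mul_one (1 : T ⟶ Red.DS S M)
  rw [e] at h
  simp only [MonoidHom.mul_apply] at h
  obtain ⟨w, hw⟩ := isUnit_charOfPt (1 : T ⟶ Red.DS S M) m
  rw [MonoidHom.one_apply, ← hw]
  rw [← hw] at h
  have h2 : (w : Γ(T.left, ⊤)) * 1 = w * w := by rw [_root_.mul_one]; exact h
  exact ((Units.mul_right_inj w).mp h2).symm

/-! ### Naturality in `M` -/

variable {N : Type} [AddCommGroup N]

theorem specPt_DSmap (φ : M →+ N) (t : T ⟶ Red.DS S N) :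
    specPt (t ≫ Red.DSmap S φ) = specPt t ≫ (Red.diagMap (ULift.{u} ℤ) φ).left := by
  have h3 := pullback_map_left_fst (S := S) (Red.diagMap (ULift.{u} ℤ) φ)
  rw [specPt, specPt, Over.comp_left, Category.assoc, Category.assoc]
  exact _ ≫= h3

theorem ringHomOfPt_DSmap_mono (φ : M →+ N) (t : T ⟶ Red.DS S N) (m : M) :
    ringHomOfPt (t ≫ Red.DSmap S φ) (mono M m) = ringHomOfPt t (mono N (φ m)) := by
  have key : (Red.diagMap (ULift.{u} ℤ) φ).left.appTop ((coordIsoM M).inv (mono M m)) =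
      (coordIsoM N).inv (mono N (φ m)) := by
    change (Spec.map (CommRingCat.ofHom (MonoidAlgebra.mapDomainAlgHom (ULift.{u} ℤ) (ULift.{u} ℤ)
      (AddMonoidHom.toMultiplicative φ)).toRingHom)).appTop ((coordIsoM M).inv (mono M m)) = _
    rw [specMap_appTop_coordIso_inv]
    have : (CommRingCat.ofHom (MonoidAlgebra.mapDomainAlgHom (ULift.{u} ℤ) (ULift.{u} ℤ)
        (AddMonoidHom.toMultiplicative φ)).toRingHom) (mono M m) = mono N (φ m) := by
      change MonoidAlgebra.mapDomain _ (mono M m) = _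
      rw [MonoidAlgebra.mapDomain_single]
      rfl
    rw [this]
  change (specPt (t ≫ Red.DSmap S φ)).appTop ((coordIsoM M).inv (mono M m)) =
    (specPt t).appTop ((coordIsoM N).inv (mono N (φ m)))
  rw [specPt_DSmap]
  exact (appTop_comp_apply (specPt t) _ _).trans (congrArg _ key)

theorem charOfPt_DSmap (φ : M →+ N) (t : T ⟶ Red.DS S N) :
    charOfPt (t ≫ Red.DSmap S φ) = (charOfPt t).comp (AddMonoidHom.toMultiplicative φ) := by
  ext m
  exact ringHomOfPt_DSmap_mono φ t (Multiplicative.toAdd m)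

end Groth.Agent.Lib.Helper5.DSPts

end
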