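import Groth.Prelude.Def_AlgSp
import Mathlib.CategoryTheory.Sites.Subcanonical
import Mathlib.AlgebraicGeometry.Limits

/-! # `h_{∐ Xᵢ} = ∐ h_{Xᵢ}` in fppf sheaves over `S` -/

set_option autoImplicit false
universe w v v' u

open CategoryTheory CategoryTheory.Limits AlgebraicGeometry Opposite

namespace Groth.Agent.Lib.Helper5

section general

variable {C : Type u} [Category.{v} C] (J : GrothendieckTopology C) [J.Subcanonical]

/-- Version of `GrothendieckTopology.isColimitCofanMkYoneda` for `uliftYoneda`. -/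
noncomputable def isColimitCofanMkUliftYoneda {ι : Type*} (X : ι → C) {c : Cofan X}
    (H : (Sieve.ofArrows _ c.inj) ∈ J c.pt) [∀ (i : ι), Mono (c.inj i)]
    (hempty : ∀ (Y : C), IsInitial Y → ⊥ ∈ J Y)
    (hdisj : ∀ {i j : ι} (_ : i ≠ j) {Y : C} (a : Y ⟶ X i)
      (b : Y ⟶ X j), a ≫ c.inj i = b ≫ c.inj j → Nonempty (IsInitial Y)) :
    IsColimit (Cofan.mk _ fun i ↦ (J.uliftYoneda.{v'}).map (c.inj i)) := by
  have key : ∀ (s : Cofan fun i ↦ (J.uliftYoneda.{v'}).obj (X i)),
      ∃! t : s.pt.obj.obj (op c.pt), ∀ i, s.pt.obj.map (c.inj i).op t =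
        J.uliftYonedaEquiv (s.inj i) := by
    intro s
    have hsh : Presieve.IsSheafFor s.pt.obj (Presieve.ofArrows X c.inj) :=
      ((isSheaf_iff_isSheaf_of_type J _).mp s.pt.2).isSheafFor _ H
    rw [Presieve.isSheafFor_arrows_iff] at hsh
    apply hsh
    intro i j Z gi gj hg
    by_cases h : i = j
    · subst h
      rw [(cancel_mono _).mp hg]
    · obtain ⟨hZ⟩ := hdisj h gi gj hg
      have := Types.isTerminalEquivUnique _ (Sheaf.isTerminalOfBotCover s.pt _ (hempty Z hZ))
      exact Subsingleton.elim _ _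
  refine Cofan.IsColimit.mk _ (fun s ↦ J.uliftYonedaEquiv.symm (key s).choose)
    (fun s j ↦ ?_) fun s m hm ↦ ?_
  · dsimp
    rw [J.uliftYonedaEquiv_symm_naturality_left, (key s).choose_spec.1 j, Equiv.symm_apply_apply]
  · dsimp
    rw [Equiv.eq_symm_apply]
    apply (key s).choose_spec.2
    intro i
    rw [J.uliftYonedaEquiv_naturality]
    exact congrArg _ (hm i)

end general

section overS

variable {S : Scheme.{u}}

/-- The coproduct of a family of schemes over `S`, as a scheme over `S`. -/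
noncomputable def sigmaOver {ι : Type w} [Small.{u} ι] (X : ι → Over S) : Over S :=
  Over.mk (Sigma.desc fun i => (X i).hom)

/-- The coprojections of `sigmaOver`. -/
noncomputable def sigmaOverι {ι : Type w} [Small.{u} ι] (X : ι → Over S) (i : ι) : X i ⟶ sigmaOver X :=
  Over.homMk (Sigma.ι (fun i => (X i).left) i) (by simp [sigmaOver])

@[simp] lemma sigmaOver_left {ι : Type w} [Small.{u} ι] (X : ι → Over S) :
    (sigmaOver X).left = ∐ fun i => (X i).left := rfl

@[simp] lemma sigmaOverι_left {ι : Type w} [Small.{u} ι] (X : ι → Over S) (i : ι) :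
    (sigmaOverι X i).left = Sigma.ι (fun i => (X i).left) i := rfl

instance {ι : Type w} [Small.{u} ι] (X : ι → Over S) (i : ι) : Mono (sigmaOverι X i) := by
  have : Mono ((Over.forget S).map (sigmaOverι X i)) := by
    change Mono (Sigma.ι (fun i => (X i).left) i)
    infer_instance
  exact (Over.forget S).mono_of_mono_map this

/-- A scheme over `S` whose underlying scheme is empty is initial. -/
noncomputable def isInitialOverOfIsEmpty (Y : Over S) [IsEmpty Y.left] : IsInitial Y :=
  IsInitial.ofUniqueHom (fun Z => Over.homMk (isInitialOfIsEmpty.to _) (isInitialOfIsEmpty.hom_ext _ _))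
    (fun Z m => by
      ext1
      exact isInitialOfIsEmpty.hom_ext _ _)

lemma isEmpty_left_of_isInitial (Y : Over S) (hY : IsInitial Y) : IsEmpty Y.left := by
  let Z : Over S := Over.mk (initial.to S)
  have : IsEmpty Z.left := inferInstanceAs (IsEmpty (⊥_ Scheme))
  have f : Y.left ⟶ Z.left := (hY.to Z).left
  exact Function.isEmpty f.base

lemma bot_mem_J_of_isInitial (Y : Over S) (hY : IsInitial Y) : ⊥ ∈ AlgSp.J S Y := by
  have := isEmpty_left_of_isInitial Y hY
  rw [AlgSp.J_eq, GrothendieckTopology.mem_over_iff]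
  have : Sieve.overEquiv Y (⊥ : Sieve Y) = ⊥ := map_bot _
  rw [this]
  exact Scheme.bot_mem_grothendieckTopology _

lemma ofArrows_sigmaOverι_mem {ι : Type w} [Small.{u} ι] (X : ι → Over S) :
    Sieve.ofArrows X (sigmaOverι X) ∈ AlgSp.J S (sigmaOver X) := by
  rw [AlgSp.J_eq, GrothendieckTopology.mem_over_iff, Sieve.overEquiv_ofArrows]
  exact Precoverage.toGrothendieck_mono Scheme.zariskiPrecoverage_le_fppfPrecoverage _
    (sigmaOpenCover fun i => (X i).left).mem_grothendieckTopology

/-- `h_{∐ Xᵢ}` with the maps `h_{Xᵢ} ⟶ h_{∐ Xᵢ}` is the coproduct of the `h_{Xᵢ}` in fppf sheaves. -/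
noncomputable def isColimitYonSigmaOver {ι : Type w} [Small.{u} ι] (X : ι → Over S) :
    IsColimit (Cofan.mk ((AlgSp.yon S).obj (sigmaOver X))
      fun i => (AlgSp.yon S).map (sigmaOverι X i)) := by
  have hm : ∀ i, Mono ((Cofan.mk (sigmaOver X) (sigmaOverι X)).inj i) := fun i => by
    change Mono (sigmaOverι X i)
    infer_instance
  refine isColimitCofanMkUliftYoneda (AlgSp.J S) X (c := Cofan.mk (sigmaOver X) (sigmaOverι X))
    (ofArrows_sigmaOverι_mem X) bot_mem_J_of_isInitial ?_
  intro i j hij Y a b hab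
  have : IsEmpty Y.left := by
    refine isEmpty_of_commSq_sigmaι_of_ne (g := fun i => (X i).left) (a := a.left) (b := b.left)
      ⟨?_⟩ hij
    exact congrArg CommaMorphism.left hab
  exact ⟨isInitialOverOfIsEmpty Y⟩

end overS

section clopen

lemma isClosedImmersion_sigmaι {σ : Type w} [Small.{u} σ] (g : σ → Scheme.{u}) (i : σ) :
    IsClosedImmersion (Sigma.ι g i) := by
  apply IsClosedImmersion.of_isPreimmersion
  rw [← isOpen_compl_iff]
  have : (Set.range (Sigma.ι g i))ᶜ = ⋃ j ∈ {j | j ≠ i}, Set.range (Sigma.ι g j) := by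
    ext x
    simp only [Set.mem_compl_iff, Set.mem_iUnion, Set.mem_ofPred_eq, exists_prop]
    constructor
    · intro hx
      obtain ⟨j, y, hy⟩ := (sigmaOpenCover g).exists_eq x
      refine ⟨j, ?_, y, hy⟩
      rintro rfl
      exact hx ⟨y, hy⟩
    · rintro ⟨j, hj, y, hy⟩ ⟨z, hz⟩
      have h1 := (disjoint_opensRange_sigmaι g j i hj).le_bot
      exact h1 (show x ∈ (Sigma.ι g j).opensRange ⊓ (Sigma.ι g i).opensRange from
        ⟨⟨y, hy⟩, ⟨z, hz⟩⟩)
  rw [this]
  exact isOpen_biUnion fun j _ => (Sigma.ι g j).isOpenEmbedding.isOpen_range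

end clopen

end Groth.Agent.Lib.Helper5
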