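import Mathlib
import Groth.Prelude.Def_DescFam
import Groth.Agent.Lib.Helper5.DescPull
import Groth.Agent.Lib.Helper5.AffCore2

/-!
# Effective descent for affine data over affine covers of affine bases (helper5)
-/

set_option autoImplicit false
universe u
open CategoryTheory CategoryTheory.Limits AlgebraicGeometry Desc Opposite

namespace Groth.Agent.Lib.Helper5.DescAffine

open Groth.Agent.Lib.Helper5.AffCore Groth.Agent.Lib.Helper5.DescPull

/-- Affine descent data relative to a flat surjective morphism of affine schemes are effective. -/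
theorem effective_of_affine {X S : Scheme.{u}} [IsAffine X] [IsAffine S] (p : X ⟶ S) [Flat p]
    [Surjective p] (D : SchDD p) [IsAffine D.obj.left] :
    ∃ U : Over S, Nonempty ((toDD p).obj U ≅ D) := by
  let A : CommRingCat.{u} := Γ(S, ⊤)
  let A' : CommRingCat.{u} := Γ(X, ⊤)
  let φ : A ⟶ A' := p.appTop
  letI algAA' : Algebra A A' := φ.hom.toAlgebra
  let g : Spec (CommRingCat.of A) ⟶ S := S.isoSpec.inv
  let g' : Spec (CommRingCat.of A') ⟶ X := X.isoSpec.inv
  have w : g' ≫ p = pp A A' ≫ g := (Scheme.isoSpec_inv_naturality p).symm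
  have hsq : IsPullback g' (pp A A') p g := IsPullback.of_horiz_isIso ⟨w⟩
  let D₀ : SchDD (pp A A') := pullDD g g' w D
  let V₀ : Scheme.{u} := pullback D.obj.hom g'
  have hV₀ : IsAffine V₀ := IsAffine.of_isIso (pullback.fst D.obj.hom g')
  let M' : CommRingCat.{u} := Γ(V₀, ⊤)
  let ψ : A' ⟶ M' := (Scheme.ΓSpecIso A').inv ≫ (pullback.snd D.obj.hom g').appTop
  letI algA'M' : Algebra A' M' := ψ.hom.toAlgebra
  letI algAM' : Algebra A M' := (φ ≫ ψ).hom.toAlgebra
  haveI : IsScalarTower A A' M' := IsScalarTower.of_algebraMap_eq (fun _ => rfl)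
  have he : V₀.isoSpec.hom ≫ (objV A' M').hom = D₀.obj.hom := by
    change V₀.isoSpec.hom ≫ Spec.map ψ = pullback.snd D.obj.hom g'
    have hid : (Scheme.ΓSpecIso A').inv ≫ (Scheme.ΓSpecIso (CommRingCat.of ↑A')).hom = 𝟙 _ :=
      (Scheme.ΓSpecIso A').inv_hom_id
    rw [Spec.map_comp, Scheme.isoSpec_hom_naturality_assoc, Scheme.isoSpec_Spec_hom,
      ← Spec.map_comp, hid, Spec.map_id]
    exact Category.comp_id _
  let e : D₀.obj ≅ objV A' M' := Over.isoMk V₀.isoSpec he
  have hflat : Flat (pp A A') := MorphismProperty.of_isPullback hsq ‹Flat p›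
  have hsurj : Surjective (pp A A') := MorphismProperty.of_isPullback hsq ‹Surjective p›
  haveI : Module.Flat A A' := by
    have := (HasRingHomProperty.Spec_iff (P := @Flat)).mp hflat
    exact this
  haveI : Module.FaithfullyFlat A A' := by
    apply Module.FaithfullyFlat.of_comap_surjective
    exact hsurj.surj
  obtain ⟨U₀, ⟨θ⟩⟩ := affine_core D₀ e
  exact effective_of_isIso D hsq U₀ θ

end Groth.Agent.Lib.Helper5.DescAffine
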