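import Mathlib
import Groth.Prelude.Def_DescFam
import Groth.Agent.Lib.Helper5.DescPull
import Groth.Agent.Lib.Helper5.DescRefine
import Groth.Agent.Lib.Helper5.DescAffine
import Groth.Agent.Lib.Helper5.DescGlue

/-!
# Effective fpqc descent for affine morphisms (helper5)
-/

set_option autoImplicit false
universe u
open CategoryTheory CategoryTheory.Limits AlgebraicGeometry Desc Opposite

namespace Groth.Agent.Lib.Helper5.DescAffineHom

open Groth.Agent.Lib.Helper5.DescPull Groth.Agent.Lib.Helper5.DescRefine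
  Groth.Agent.Lib.Helper5.DescAffine Groth.Agent.Lib.Helper5.DescFunctor

/-- The case of an affine base. -/
theorem effective_of_isAffine_base {X S : Scheme.{u}} [IsAffine S] (p : X ⟶ S) [Surjective p]
    [Flat p] [QuasiCompact p] (D : SchDD p) [IsAffineHom D.obj.hom] :
    ∃ U : Over S, Nonempty ((toDD p).obj U ≅ D) := by
  haveI : CompactSpace X := QuasiCompact.compactSpace_of_compactSpace p
  obtain ⟨X₂, q, hqs, hqf, hX₂⟩ := Scheme.exists_hom_isAffine_of_isZariskiLocalAtSource @Flat X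
  haveI : Flat q := hqf
  let p₂ : X₂ ⟶ S := q ≫ p
  haveI : Flat p₂ := inferInstanceAs (Flat (q ≫ p))
  haveI : Surjective p₂ := inferInstanceAs (Surjective (q ≫ p))
  haveI : QuasiCompact p₂ := inferInstance
  let D₂ : SchDD p₂ := pullDD (𝟙 S) q ((rfl : q ≫ p = p₂).trans (Category.comp_id _).symm) D
  haveI : IsAffineHom (pullback.snd D.obj.hom q) :=
    MorphismProperty.pullback_snd (P := @IsAffineHom) _ _ inferInstance
  have h2 : IsAffine (pullback D.obj.hom q) := isAffine_of_isAffineHom (pullback.snd D.obj.hom q)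
  haveI : IsAffine D₂.obj.left := h2
  obtain ⟨U₂, ⟨θ₂⟩⟩ := effective_of_affine p₂ D₂
  exact effective_of_refine p p₂ q rfl D U₂ θ₂

/-- Descent data relative to an fpqc morphism whose underlying scheme is affine over the cover are
effective. -/
theorem effective_of_isAffineHom {X S : Scheme.{u}} (p : X ⟶ S) [Surjective p] [Flat p]
    [QuasiCompact p] (D : SchDD p) [IsAffineHom D.obj.hom] :
    ∃ U : Over S, Nonempty ((toDD p).obj U ≅ D) := by
  apply effective_of_open_cover D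
  intro v
  obtain ⟨_, ⟨(S₁ : S.Opens), hS₁, rfl⟩, hs₀, -⟩ := S.isBasis_affineOpens.exists_subset_of_mem_open
    (Set.mem_univ (p.base (D.obj.hom.base v))) isOpen_univ
  haveI : IsAffine (S₁ : Scheme.{u}) := hS₁
  have hsq : IsPullback (p ⁻¹ᵁ S₁).ι (p ∣_ S₁) p S₁.ι := (isPullback_morphismRestrict p S₁).flip
  have w : (p ⁻¹ᵁ S₁).ι ≫ p = (p ∣_ S₁) ≫ S₁.ι := hsq.w
  haveI : Flat (p ∣_ S₁) := MorphismProperty.of_isPullback hsq ‹Flat p›
  haveI : Surjective (p ∣_ S₁) := MorphismProperty.of_isPullback hsq ‹Surjective p›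
  haveI : QuasiCompact (p ∣_ S₁) := MorphismProperty.of_isPullback hsq ‹QuasiCompact p›
  let D₁ : SchDD (p ∣_ S₁) := pullDD S₁.ι (p ⁻¹ᵁ S₁).ι w D
  haveI : IsAffineHom D₁.obj.hom :=
    MorphismProperty.pullback_snd (P := @IsAffineHom) D.obj.hom (p ⁻¹ᵁ S₁).ι inferInstance
  obtain ⟨U₁, ⟨θ₁⟩⟩ := effective_of_isAffine_base (p ∣_ S₁) D₁
  refine ⟨(toDD p).obj (Over.mk (bcSec D hsq U₁ θ₁).t), (bcSec D hsq U₁ θ₁).a, inferInstance, ?_,
    Over.mk (bcSec D hsq U₁ θ₁).t, ⟨Iso.refl _⟩⟩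
  apply mem_range_bcSec
  rw [Scheme.Opens.range_ι]
  exact hs₀

end Groth.Agent.Lib.Helper5.DescAffineHom
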