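import Mathlib
import Groth.Agent.Lib.Helper5.SheafQuot
import Groth.Agent.Lib.Helper5.FppfCover
import Groth.Agent.Lib.Helper46.LocPFpqc
import Groth.Agent.Lib.Helper23.AlgSpNoeth2
import Groth.Agent.Lib.Helper36.OpenSubspace
import Groth.Agent.S9961

/-!
# The quotient map `U ⟶ U/R` inherits fpqc-local properties of `s` (helper5)
-/

set_option autoImplicit false
universe u
open CategoryTheory CategoryTheory.Limits AlgebraicGeometry Opposite

namespace Groth.Agent.Lib.Helper5.QuotFlat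

open AlgSp Groth.Agent.Lib.Helper23.AlgSpMor Groth.Agent.Lib.Helper37.AlgSpPoints
  Groth.Agent.Lib.Helper46 Groth.Agent.Lib.Helper46.LocPChart Groth.Agent.Lib.Helper5.SheafQuot
  Groth.Agent.Lib.Helper5

variable {S : Scheme.{u}}

set_option backward.isDefEq.respectTransparency false in
/-- A covering sieve of the fppf topology over `S` contains an fppf covering family. -/
theorem exists_fppf_family_of_mem_J {V : Over S} (R₀ : Sieve V) (hR₀ : R₀ ∈ J S V) :
    ∃ (ι : Type u) (Vi : ι → Over S) (c : ∀ i, Vi i ⟶ V), (∀ i, R₀ (c i)) ∧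
      (∀ i, Flat (c i).left) ∧ (∀ i, LocallyOfFinitePresentation (c i).left) ∧
      ∀ v : ↥V.left, ∃ i, v ∈ Set.range (c i).left := by
  rw [J_eq, GrothendieckTopology.mem_over_iff] at hR₀
  have : MorphismProperty.IsMultiplicative
      (@LocallyOfFinitePresentation : MorphismProperty Scheme.{u}) :=
    { id_mem := fun _ => inferInstance
      comp_mem := fun f g hf hg => by
        have : LocallyOfFinitePresentation f := hf
        have : LocallyOfFinitePresentation g := hg
        exact (inferInstance : LocallyOfFinitePresentation (f ≫ g)) }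
  obtain ⟨𝒰, h𝒰⟩ := (Scheme.mem_grothendieckTopology_iff
    (P := @Flat ⊓ @LocallyOfFinitePresentation)).1 hR₀
  refine ⟨𝒰.I₀, fun i => Over.mk (𝒰.f i ≫ V.hom), fun i => Over.homMk (𝒰.f i) rfl, fun i => ?_,
    fun i => (𝒰.map_prop i).1, fun i => (𝒰.map_prop i).2, fun v => ?_⟩
  · have h1 : Sieve.overEquiv V R₀ (𝒰.f i) := h𝒰 _ _ (Presieve.ofArrows.mk i)
    rw [Sieve.overEquiv_iff] at h1
    exact h1
  · obtain ⟨i, y, hy⟩ := 𝒰.exists_eq v
    exact ⟨i, y, hy⟩

/-- An fppf covering family of schemes over `S` is an fpqc covering of the represented sheaf. -/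
theorem isFpqcCover_of_scheme_fppf {V : Over S} {ι : Type u} (Vi : ι → Over S)
    (c : ∀ i, Vi i ⟶ V) (hfl : ∀ i, Flat (c i).left)
    (hfp : ∀ i, LocallyOfFinitePresentation (c i).left)
    (hsurj : ∀ v : ↥V.left, ∃ i, v ∈ Set.range (c i).left) :
    IsFpqcCover (fun i => (yon S).obj (Vi i)) (fun i => (yon S).map (c i)) := by
  refine FppfCover.isFpqcCover_of_isFppfCover (IsAlgSpace.yon_obj V) _ (fun i => IsAlgSpace.yon_obj _) _
    ⟨fun i => ⟨locP_yon_map_of etLocal_flat _ (hfl i),
      locP_yon_map_of Groth.Agent.Lib.Helper30.EtLocalInst.etLocal_lfp _ (hfp i)⟩, fun x => ?_⟩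
  obtain ⟨v, rfl⟩ := (Points.schemeEquiv V).surjective x
  obtain ⟨i, v', hv'⟩ := hsurj v
  refine ⟨i, Points.ofScheme (Vi i) v', ?_⟩
  change Points.map ((yon S).map (c i)) (Points.ofScheme (Vi i) v') = Points.ofScheme V v
  rw [← Points.ofPt_eq_map_ofScheme, ofPt_yon_map, hv']

/-- An atlas is an fpqc covering. -/
theorem isFpqcCover_atlas {F : Sp S} (hF : IsAlgSpace F) {V : Over S} (b : (yon S).obj V ⟶ F)
    (hbe : RepWith @Etale b) (hbs : RepWith @Surjective b) :
    IsFpqcCover (fun _ : PUnit.{u + 1} => (yon S).obj V) (fun _ => b) := by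
  refine FppfCover.isFpqcCover_of_isFppfCover hF _ (fun _ => IsAlgSpace.yon_obj _) _
    ⟨fun _ => ⟨Groth.Agent.S9961.locP_of_repWith etLocal_flat (P := @Etale)
        (fun _ _ f hf => by haveI : Etale f := hf; infer_instance) hF b hbe,
      Groth.Agent.S9961.locP_of_repWith Groth.Agent.Lib.Helper30.EtLocalInst.etLocal_lfp
        (P := @Etale) (fun _ _ f hf => by haveI : Etale f := hf; infer_instance) hF b hbe⟩,
      fun x => ?_⟩
  obtain ⟨y, hy⟩ := isSurjectiveMor_of_repWith_surjective b hbs x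
  exact ⟨PUnit.unit, y, hy⟩

variable {Q : MorphismProperty Scheme.{u}}

/-- If `π : U ⟶ F` is an epimorphism of sheaves between algebraic spaces with kernel pair
`(t, s) : R ⇉ U` and `s` has the fpqc-local property `Q`, then so does `π`. -/
theorem locP_of_epi_of_kernel (hQ : EtLocal Q) [IsZariskiLocalAtTarget Q]
    [Q.DescendsAlong (@Surjective ⊓ @Flat ⊓ @QuasiCompact)] {R U F : Sp S} (hR : IsAlgSpace R)
    (hU : IsAlgSpace U) (hF : IsAlgSpace F) (π : U ⟶ F) [Epi π] (s t : R ⟶ U)
    (hker : IsPullback t s π π) (hs : LocP Q s) : LocP Q π := by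
  have hloc := LocPFpqc.isLocalOnBase_fpqc_locP (S := S) hQ
  obtain ⟨V, b, hbe, hbs⟩ := hF.atlas
  -- reduce to the base change to the atlas
  have sqP := IsPullback.of_hasPullback π b
  have hP : IsAlgSpace (pullback π b) :=
    isAlgSpace_of_isPullback hU (IsAlgSpace.yon_obj V) hF.diag sqP
  refine (hloc (fun _ : PUnit.{u + 1} => (yon S).obj V) (fun _ => b) hF
    (fun _ => IsAlgSpace.yon_obj V) (isFpqcCover_atlas hF b hbe hbs) π hU
    (fun _ => pullback π b) (fun _ => pullback.snd _ _) (fun _ => pullback.fst _ _)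
    (fun _ => hP) (fun _ => sqP)).2 fun _ => ?_
  -- local lifts of the atlas through `U`
  obtain ⟨R₀, hR₀, hlift⟩ := exists_local_lift_of_epi π b
  obtain ⟨ι, Vi, c, hc, hfl, hfp, hsurj⟩ := exists_fppf_family_of_mem_J R₀ hR₀
  choose l hl using fun i => hlift (c i) (hc i)
  -- the base changes are base changes of `s`
  have hXi : ∀ i, IsAlgSpace (pullback s (l i)) := fun i =>
    isAlgSpace_of_isPullback hR (IsAlgSpace.yon_obj (Vi i)) hU.diag (IsPullback.of_hasPullback _ _)
  have big : ∀ i, IsPullback (pullback.fst s (l i) ≫ t) (pullback.snd s (l i)) π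
      ((yon S).map (c i) ≫ b) := fun i => by
    rw [← hl i]
    exact (IsPullback.of_hasPullback s (l i)).paste_horiz hker
  let q : ∀ i, pullback s (l i) ⟶ pullback π b := fun i =>
    pullback.lift (pullback.fst s (l i) ≫ t) (pullback.snd s (l i) ≫ (yon S).map (c i))
      (by rw [Category.assoc (pullback.snd s (l i)), ← (big i).w])
  have hq1 : ∀ i, q i ≫ pullback.fst π b = pullback.fst s (l i) ≫ t :=
    fun i => pullback.lift_fst _ _ _
  have hq2 : ∀ i, q i ≫ pullback.snd π b =
      pullback.snd s (l i) ≫ (yon S).map (c i) := fun i => pullback.lift_snd _ _ _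
  have sqi : ∀ i, IsPullback (q i) (pullback.snd s (l i)) (pullback.snd π b)
      ((yon S).map (c i)) := fun i => by
    refine IsPullback.of_right ?_ (hq2 i) sqP
    rw [hq1 i]
    exact big i
  refine (hloc (fun i => (yon S).obj (Vi i)) (fun i => (yon S).map (c i)) (IsAlgSpace.yon_obj V)
    (fun i => IsAlgSpace.yon_obj _) (isFpqcCover_of_scheme_fppf Vi c hfl hfp hsurj)
    (pullback.snd π b) hP (fun i => pullback s (l i))
    (fun i => pullback.snd s (l i)) q hXi sqi).2 fun i => ?_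
  exact locP_of_isPullback hQ hR hU (hXi i) (IsAlgSpace.yon_obj _)
    (IsPullback.of_hasPullback s (l i)) hs

/-- If `s` has the fpqc-local property `Q` then so does the quotient map `U ⟶ U/R` of an
equivalence relation whose quotient is an algebraic space. -/
theorem locP_quotSpπ (hQ : EtLocal Q) [IsZariskiLocalAtTarget Q]
    [Q.DescendsAlong (@Surjective ⊓ @Flat ⊓ @QuasiCompact)] {R U : Sp S} (hR : IsAlgSpace R)
    (hU : IsAlgSpace U) (s t : R ⟶ U) (hj : IsEqvRelSp s t) (hs : LocP Q s)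
    (hF : IsAlgSpace (quotSp s t)) : LocP Q (quotSpπ s t) := by
  haveI : Epi (quotSpπ s t) := coequalizer.π_epi
  exact locP_of_epi_of_kernel hQ hR hU hF (quotSpπ s t) s t (isPullback_quotSpπ s t hj) hs

/-- An epimorphism of sheaves is surjective on points. -/
theorem isSurjectiveMor_of_epi {U F : Sp S} (π : U ⟶ F) [Epi π] : IsSurjectiveMor π := by
  intro x
  obtain ⟨p, s₀, rfl⟩ := exists_ofPt_toHom x
  obtain ⟨R₀, hR₀, hlift⟩ := exists_local_lift_of_epi π p.toHom
  obtain ⟨T', φ, hφ, t', ht'⟩ :=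
    Groth.Agent.Lib.Helper36.OpenSubspace.exists_mem_of_mem_J R₀ hR₀ s₀
  obtain ⟨u, hu⟩ := hlift φ hφ
  refine ⟨Points.ofPt u t', ?_⟩
  rw [Points.map_ofPt, hu, ofPt_map_comp, ht']

/-- The quotient map `U ⟶ U/R` is surjective on points. -/
theorem isSurjectiveMor_quotSpπ {R U : Sp S} (s t : R ⟶ U) :
    IsSurjectiveMor (quotSpπ s t) := by
  haveI : Epi (quotSpπ s t) := coequalizer.π_epi
  intro x
  obtain ⟨p, s₀, rfl⟩ := exists_ofPt_toHom x
  obtain ⟨R₀, hR₀, hlift⟩ := exists_local_lift_of_epi (quotSpπ s t) p.toHom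
  obtain ⟨T', φ, hφ, t', ht'⟩ :=
    Groth.Agent.Lib.Helper36.OpenSubspace.exists_mem_of_mem_J R₀ hR₀ s₀
  obtain ⟨u, hu⟩ := hlift φ hφ
  refine ⟨Points.ofPt u t', ?_⟩
  rw [Points.map_ofPt, hu, ofPt_map_comp, ht']

end Groth.Agent.Lib.Helper5.QuotFlat
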