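import Groth.Agent.Lib.Helper5.QuotShBasic
import Mathlib.CategoryTheory.Sites.LocallyBijective

/-! # The kernel pair of `h_U ⟶ U/R` for an equivalence relation -/

set_option autoImplicit false
universe u

open CategoryTheory CategoryTheory.Limits AlgebraicGeometry Opposite

namespace Groth.Agent.Lib.Helper5

open AlgSp

variable {S : Scheme.{u}} {R U : Over S} (s t : R ⟶ U) (h : AlgSp.IsEqvRel s t)

/-- The setoid on `Z`-points of `U` given by the equivalence relation. -/
def ptSetoid (Z : Over S) : Setoid (ULift.{u + 1} (Z ⟶ U)) where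
  r x y := ∃ r : Z ⟶ R, r ≫ t = x.down ∧ r ≫ s = y.down
  iseqv := ⟨fun x => (h.equivalence Z).refl x.down, fun hxy => (h.equivalence Z).symm hxy,
    fun h1 h2 => (h.equivalence Z).trans h1 h2⟩

/-- The presheaf quotient `Z ↦ U(Z)/R(Z)`. -/
def quotPresheaf : (Over S)ᵒᵖ ⥤ Type (u + 1) where
  obj Z := Quotient (ptSetoid s t h Z.unop)
  map {Z W} f := ↾(Quotient.map' (s₁ := ptSetoid s t h Z.unop) (s₂ := ptSetoid s t h W.unop)
    (fun x => ⟨f.unop ≫ x.down⟩) (by
      rintro x y ⟨r, h1, h2⟩
      exact ⟨f.unop ≫ r, by rw [Category.assoc, h1], by rw [Category.assoc, h2]⟩))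
  map_id Z := by
    ext x
    induction x using Quotient.inductionOn with
    | h x => 
      apply Quotient.sound'
      simp only [unop_id, Category.id_comp]
      exact (ptSetoid s t h Z.unop).refl _
  map_comp {X Y Z} f g := by
    ext x
    induction x using Quotient.inductionOn with
    | h x => 
      apply Quotient.sound'
      simp only [unop_comp, Category.assoc]
      exact (ptSetoid s t h Z.unop).refl _

/-- The natural map `h_U ⟶ U(-)/R(-)` of presheaves. -/
def toQuotPresheaf : ((yon S).obj U).obj ⟶ quotPresheaf s t h where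
  app Z := ↾(fun x => Quotient.mk (ptSetoid s t h Z.unop) x)
  naturality := by
    intro Z W f
    rfl

/-- The map `h_U ⟶ (U(-)/R(-))^sh` of sheaves. -/
noncomputable def toQuotSheaf :
    (yon S).obj U ⟶ (presheafToSheaf (J S) (Type (u + 1))).obj (quotPresheaf s t h) :=
  ⟨toQuotPresheaf s t h ≫ toSheafify (J S) (quotPresheaf s t h)⟩

lemma toQuotSheaf_condition :
    (yon S).map s ≫ toQuotSheaf s t h = (yon S).map t ≫ toQuotSheaf s t h := by
  apply Sheaf.hom_ext
  change ((yon S).map s).hom ≫ toQuotPresheaf s t h ≫ toSheafify (J S) (quotPresheaf s t h) =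
    ((yon S).map t).hom ≫ toQuotPresheaf s t h ≫ toSheafify (J S) (quotPresheaf s t h)
  rw [← Category.assoc, ← Category.assoc]
  congr 1
  ext Z r
  apply Quotient.sound
  exact (ptSetoid s t h Z.unop).symm ⟨r.down, rfl, rfl⟩

include h in
/-- Two points of `U` with the same image in `U/R` are `R`-equivalent. -/
theorem exists_of_quotπ'_eq (Z : (Over S)ᵒᵖ) (x y : ((yon S).obj U).obj.obj Z)
    (hxy : (quotπ' s t).hom.app Z x = (quotπ' s t).hom.app Z y) :
    ∃ r : ((yon S).obj R).obj.obj Z,
      ((yon S).map t).hom.app Z r = x ∧ ((yon S).map s).hom.app Z r = y := by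
  let d := (quotIsColimit s t).desc (Cofork.ofπ (toQuotSheaf s t h) (toQuotSheaf_condition s t h))
  have hd : quotπ' s t ≫ d = toQuotSheaf s t h :=
    (quotIsColimit s t).fac (Cofork.ofπ (toQuotSheaf s t h) (toQuotSheaf_condition s t h))
      WalkingParallelPair.one
  have h1 : (toQuotSheaf s t h).hom.app Z x = (toQuotSheaf s t h).hom.app Z y := by
    rw [← hd, sheaf_comp_app, sheaf_comp_app, hxy]
  have hS : Presheaf.equalizerSieve (F := quotPresheaf s t h)
      ((toQuotPresheaf s t h).app Z x) ((toQuotPresheaf s t h).app Z y) ∈ J S Z.unop :=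
    Presheaf.equalizerSieve_mem (J S) (toSheafify (J S) (quotPresheaf s t h)) _ _ h1
  have hrel : ∀ ⦃W : Over S⦄ (f : W ⟶ Z.unop),
      (Presheaf.equalizerSieve (F := quotPresheaf s t h)
      ((toQuotPresheaf s t h).app Z x) ((toQuotPresheaf s t h).app Z y)).arrows f →
      ∃ r : W ⟶ R, r ≫ t = f ≫ x.down ∧ r ≫ s = f ≫ y.down := by
    intro W f hf
    exact Quotient.exact hf
  let P := ((yon S).obj R).obj
  have hP : Presieve.IsSheaf (J S) P := (isSheaf_iff_isSheaf_of_type _ _).mp ((yon S).obj R).2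
  let fam : Presieve.FamilyOfElements P (Presheaf.equalizerSieve (F := quotPresheaf s t h)
      ((toQuotPresheaf s t h).app Z x) ((toQuotPresheaf s t h).app Z y)).arrows :=
    fun W f hf => ⟨(hrel f hf).choose⟩
  have hfam1 : ∀ ⦃W : Over S⦄ (f : W ⟶ Z.unop) (hf), (fam f hf).down ≫ t = f ≫ x.down :=
    fun W f hf => (hrel f hf).choose_spec.1
  have hfam2 : ∀ ⦃W : Over S⦄ (f : W ⟶ Z.unop) (hf), (fam f hf).down ≫ s = f ≫ y.down :=
    fun W f hf => (hrel f hf).choose_spec.2
  have compat : fam.Compatible := by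
    intro Y₁ Y₂ Z' g₁ g₂ f₁ f₂ h₁ h₂ hg
    apply ULift.ext
    change g₁ ≫ (fam f₁ h₁).down = g₂ ≫ (fam f₂ h₂).down
    apply h.injective
    · rw [Category.assoc, Category.assoc, hfam1 f₁ h₁, hfam1 f₂ h₂, ← Category.assoc,
        ← Category.assoc, hg]
    · rw [Category.assoc, Category.assoc, hfam2 f₁ h₁, hfam2 f₂ h₂, ← Category.assoc,
        ← Category.assoc, hg]
  have hsf := hP _ hS
  let r := hsf.amalgamate fam compat
  have hr : ∀ ⦃W : Over S⦄ (f : W ⟶ Z.unop) (hf), P.map f.op r = fam f hf :=
    fun W f hf => hsf.valid_glue compat f hf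
  have hU : Presieve.IsSheaf (J S) ((yon S).obj U).obj :=
    (isSheaf_iff_isSheaf_of_type _ _).mp ((yon S).obj U).2
  have hsep := (hU _ hS).isSeparatedFor
  refine ⟨r, ?_, ?_⟩
  · apply hsep.ext
    intro W f hf
    apply ULift.ext
    have := congrArg ULift.down (hr f hf)
    change f ≫ r.down = (fam f hf).down at this
    change f ≫ (r.down ≫ t) = f ≫ x.down
    rw [← Category.assoc, this, hfam1 f hf]
  · apply hsep.ext
    intro W f hf
    apply ULift.ext
    have := congrArg ULift.down (hr f hf)
    change f ≫ r.down = (fam f hf).down at this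
    change f ≫ (r.down ≫ s) = f ≫ y.down
    rw [← Category.assoc, this, hfam2 f hf]

include h in
/-- For an equivalence relation `s, t : R ⇉ U`, `h_R` is the kernel pair of `h_U ⟶ U/R`. -/
theorem isPullback_quotπ' :
    IsPullback ((yon S).map t) ((yon S).map s) (quotπ' s t) (quotπ' s t) := by
  refine sheaf_isPullback_of_sections (J S) _ _ _ _ (quotπ'_condition s t).symm ?_ ?_
  · intro Z x y h1 h2
    apply ULift.ext
    apply h.injective
    · exact congrArg ULift.down h1
    · exact congrArg ULift.down h2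
  · intro Z x y hxy
    exact exists_of_quotπ'_eq s t h Z x y hxy

end Groth.Agent.Lib.Helper5
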