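import Mathlib
import Groth.Agent.Lib.Helper5.QuotFlat
import Groth.Agent.Lib.Helper5.QuotShKernel

/-!
# Quotients of schemes by fppf equivalence relations: scheme quotients vs quotient sheaves (helper5)
-/

set_option autoImplicit false
universe u
open CategoryTheory CategoryTheory.Limits AlgebraicGeometry Opposite

namespace Groth.Agent.Lib.Helper5.QuotSchemes

open AlgSp Groth.Agent.Lib.Helper23.AlgSpMor Groth.Agent.Lib.Helper37.AlgSpPoints
  Groth.Agent.Lib.Helper46 Groth.Agent.Lib.Helper46.LocPChart Groth.Agent.Lib.Helper5.SheafQuot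
  Groth.Agent.Lib.Helper5

variable {S : Scheme.{u}}

/-- An internal equivalence relation in schemes over `S` is an equivalence relation on points. -/
theorem isEqvRel_of_isEquivalenceRelation {R U : Over S} (s t : R ⟶ U)
    [h : IsEquivalenceRelation s t] : AlgSp.IsEqvRel s t := by
  obtain ⟨e⟩ := h.nonempty_equivalenceRelation
  refine ⟨fun T r r' h1 h2 => e.right_cancellation r r' h2 h1, fun T => ⟨fun a => ?_, ?_, ?_⟩⟩
  · exact ⟨a ≫ e.r, by rw [Category.assoc, e.reflexivity₂, Category.comp_id],
      by rw [Category.assoc, e.reflexivity₁, Category.comp_id]⟩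
  · rintro a b ⟨r, h1, h2⟩
    exact ⟨r ≫ e.s, by rw [Category.assoc, e.symmetry₂, h2], by rw [Category.assoc, e.symmetry₁, h1]⟩
  · rintro a b c ⟨r1, h1, h2⟩ ⟨r2, h3, h4⟩
    let l : T ⟶ e.c.pt := PullbackCone.IsLimit.lift e.isLimit r2 r1 (h3.trans h2.symm)
    have hl1 : l ≫ e.c.fst = r2 := PullbackCone.IsLimit.lift_fst _ _ _ _
    have hl2 : l ≫ e.c.snd = r1 := PullbackCone.IsLimit.lift_snd _ _ _ _
    exact ⟨l ≫ e.t, by rw [Category.assoc, e.transitivity₂, ← Category.assoc, hl2, h1],
      by rw [Category.assoc, e.transitivity₁, ← Category.assoc, hl1, h4]⟩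

/-- A single fppf covering morphism generates a covering sieve. -/
theorem generate_singleton_mem_J {T' T : Over S} (c : T' ⟶ T) [Flat c.left] [Surjective c.left]
    [LocallyOfFinitePresentation c.left] : Sieve.generate (Presieve.singleton c) ∈ J S T := by
  rw [AlgSp.J_eq, GrothendieckTopology.mem_over_iff]
  refine Scheme.fppfTopology.superset_covering ?_
    (Precoverage.generate_mem_toGrothendieck c.left.singleton_mem_fppfPrecoverage)
  rintro Z _ ⟨W, ψ, _, ⟨⟩, rfl⟩
  rw [Sieve.overEquiv_iff]
  refine ⟨T', (Over.homMk ψ (by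
    change ψ ≫ T'.hom = (ψ ≫ c.left) ≫ T.hom
    rw [Category.assoc, Over.w]) : Over.mk ((ψ ≫ c.left) ≫ T.hom) ⟶ T'), c,
    Presieve.singleton.mk, ?_⟩
  ext1
  rfl

/-- An fppf covering morphism of schemes gives an epimorphism of fppf sheaves. -/
theorem epi_yon_map_of_fppf {U Y : Over S} (q : U ⟶ Y) [Flat q.left] [Surjective q.left]
    [LocallyOfFinitePresentation q.left] : Epi ((yon S).map q) := by
  apply epi_of_local_lift
  intro T y
  obtain ⟨y₀, rfl⟩ := (yon S).map_surjective y
  let T' : Over S := Over.mk (pullback.snd q.left y₀.left ≫ T.hom)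
  let c : T' ⟶ T := Over.homMk (pullback.snd q.left y₀.left) rfl
  let x : T' ⟶ U := Over.homMk (pullback.fst q.left y₀.left) (by
    change pullback.fst q.left y₀.left ≫ U.hom = pullback.snd q.left y₀.left ≫ T.hom
    rw [← Over.w q, ← Over.w y₀, pullback.condition_assoc])
  have hxc : x ≫ q = c ≫ y₀ := by
    ext1
    exact pullback.condition
  haveI : Flat c.left := by change Flat (pullback.snd q.left y₀.left); infer_instance
  haveI : Surjective c.left := by change Surjective (pullback.snd q.left y₀.left); infer_instance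
  haveI : LocallyOfFinitePresentation c.left := by
    change LocallyOfFinitePresentation (pullback.snd q.left y₀.left); infer_instance
  refine ⟨_, generate_singleton_mem_J c, ?_⟩
  rintro T'' φ ⟨Z, ψ, _, ⟨⟩, rfl⟩
  refine ⟨(yon S).map (ψ ≫ x), ?_⟩
  rw [← Functor.map_comp, ← Functor.map_comp, Category.assoc, hxc, Category.assoc]

/-- Descent from the coequalizer: if `π` is a coequalizer of `s, t`, `q` is an epimorphism which
coequalizes them and `R ⟶ U ×_M U` is an epimorphism, then the induced map is an isomorphism. -/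
theorem isIso_desc_of_epi {R U M Q : Sp S} (s t : R ⟶ U) (π : U ⟶ Q) (hπ : s ≫ π = t ≫ π)
    [Epi π] (q : U ⟶ M) (w : s ≫ q = t ≫ q) [Epi q]
    [Epi (pullback.lift t s w.symm : R ⟶ pullback q q)] (d : Q ⟶ M) (hd : π ≫ d = q) :
    IsIso d := by
  haveI : Epi d := epi_of_epi_fac hd
  haveI : Mono d := by
    apply mono_of_yon_cancel
    intro T x y hxy
    obtain ⟨R₁, hR₁, h1⟩ := exists_local_lift_of_epi π x
    obtain ⟨R₂, hR₂, h2⟩ := exists_local_lift_of_epi π y
    refine eq_of_locally_eq x y (R₁ ⊓ R₂) ((J S).intersection_covering hR₁ hR₂) ?_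
    rintro T' φ ⟨hφ1, hφ2⟩
    obtain ⟨a, ha⟩ := h1 φ hφ1
    obtain ⟨b, hb⟩ := h2 φ hφ2
    have hab : a ≫ q = b ≫ q := by
      rw [← hd, ← Category.assoc, ha, ← Category.assoc, hb, Category.assoc, hxy, Category.assoc]
    obtain ⟨R₃, hR₃, h3⟩ := exists_local_lift_of_epi
      (pullback.lift t s w.symm : R ⟶ pullback q q) (pullback.lift a b hab)
    refine eq_of_locally_eq _ _ R₃ hR₃ ?_
    intro T'' ψ hψ
    obtain ⟨r, hr⟩ := h3 ψ hψ
    have hr1 : r ≫ t = (yon S).map ψ ≫ a := by
      have := congrArg (· ≫ pullback.fst q q) hr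
      simpa only [Category.assoc, pullback.lift_fst] using this
    have hr2 : r ≫ s = (yon S).map ψ ≫ b := by
      have := congrArg (· ≫ pullback.snd q q) hr
      simpa only [Category.assoc, pullback.lift_snd] using this
    rw [← ha, ← hb, ← Category.assoc, ← Category.assoc, ← hr1, ← hr2, Category.assoc,
      Category.assoc, hπ]
  exact isIso_of_mono_of_epi _

variable {R U Y : Over S} (s t : R ⟶ U)

/-- The comparison `U/R ⟶ h_Y` on `yon`. -/
lemma quotπ'_quotDesc (q : U ⟶ Y) (w : s ≫ q = t ≫ q) :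
    quotπ' s t ≫ QuotSh.quotDesc Scheme.fppfPrecoverage q w ≫
      (QuotSh.repIsoUliftYoneda Scheme.fppfPrecoverage Y).hom = (yon S).map q := by
  have h1 : QuotSh.quotπ Scheme.fppfPrecoverage s t ≫ QuotSh.quotDesc Scheme.fppfPrecoverage q w =
      QuotSh.repMap Scheme.fppfPrecoverage q := coequalizer.π_desc _ _
  calc quotπ' s t ≫ QuotSh.quotDesc Scheme.fppfPrecoverage q w ≫
        (QuotSh.repIsoUliftYoneda Scheme.fppfPrecoverage Y).hom
      = (QuotSh.repIsoUliftYoneda Scheme.fppfPrecoverage U).inv ≫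
          (QuotSh.quotπ Scheme.fppfPrecoverage s t ≫ (QuotSh.quotDesc Scheme.fppfPrecoverage q w ≫
            (QuotSh.repIsoUliftYoneda Scheme.fppfPrecoverage Y).hom)) := Category.assoc _ _ _
    _ = (QuotSh.repIsoUliftYoneda Scheme.fppfPrecoverage U).inv ≫
          ((QuotSh.quotπ Scheme.fppfPrecoverage s t ≫ QuotSh.quotDesc Scheme.fppfPrecoverage q w) ≫
            (QuotSh.repIsoUliftYoneda Scheme.fppfPrecoverage Y).hom) :=
        congrArg (fun z => (QuotSh.repIsoUliftYoneda Scheme.fppfPrecoverage U).inv ≫ z)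
          (Category.assoc _ _ _).symm
    _ = (QuotSh.repIsoUliftYoneda Scheme.fppfPrecoverage U).inv ≫
          (QuotSh.repMap Scheme.fppfPrecoverage q ≫
            (QuotSh.repIsoUliftYoneda Scheme.fppfPrecoverage Y).hom) :=
        congrArg (fun z => (QuotSh.repIsoUliftYoneda Scheme.fppfPrecoverage U).inv ≫
          (z ≫ (QuotSh.repIsoUliftYoneda Scheme.fppfPrecoverage Y).hom)) h1
    _ = (QuotSh.repIsoUliftYoneda Scheme.fppfPrecoverage U).inv ≫
          ((QuotSh.repIsoUliftYoneda Scheme.fppfPrecoverage U).hom ≫ (yon S).map q) :=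
        congrArg (fun z => (QuotSh.repIsoUliftYoneda Scheme.fppfPrecoverage U).inv ≫ z)
          (repMap_comp_repIso_hom q)
    _ = ((QuotSh.repIsoUliftYoneda Scheme.fppfPrecoverage U).inv ≫
          (QuotSh.repIsoUliftYoneda Scheme.fppfPrecoverage U).hom) ≫ (yon S).map q :=
        (Category.assoc _ _ _).symm
    _ = (yon S).map q := by rw [Iso.inv_hom_id]; exact Category.id_comp _

/-- **Scheme quotients are sheaf quotients** (fppf): a faithfully flat, locally finitely presented
`q : U ⟶ Y` with kernel pair `R` identifies `h_Y` with `U/R`. -/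
theorem isQuotient_of_isKernelPair (q : U ⟶ Y) (hk : IsKernelPair q s t) [Flat q.left]
    [Surjective q.left] [LocallyOfFinitePresentation q.left] :
    QuotSh.IsQuotient Scheme.fppfPrecoverage s t q := by
  refine ⟨hk.w, ?_⟩
  haveI : Epi ((yon S).map q) := epi_yon_map_of_fppf q
  have hkY : IsPullback ((yon S).map s) ((yon S).map t) ((yon S).map q) ((yon S).map q) :=
    hk.map (yon S)
  have hw' : (yon S).map s ≫ (yon S).map q = (yon S).map t ≫ (yon S).map q := hkY.w
  haveI : Epi (pullback.lift ((yon S).map t) ((yon S).map s) hw'.symm :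
      (yon S).obj R ⟶ pullback ((yon S).map q) ((yon S).map q)) := by
    have : pullback.lift ((yon S).map t) ((yon S).map s) hw'.symm = hkY.flip.isoPullback.hom := by
      apply pullback.hom_ext
      · rw [pullback.lift_fst, IsPullback.isoPullback_hom_fst]
      · rw [pullback.lift_snd, IsPullback.isoPullback_hom_snd]
    rw [this]
    infer_instance
  have hiso : IsIso (QuotSh.quotDesc Scheme.fppfPrecoverage q hk.w ≫
      (QuotSh.repIsoUliftYoneda Scheme.fppfPrecoverage Y).hom) :=
    isIso_desc_of_epi ((yon S).map s) ((yon S).map t) (quotπ' s t) (quotπ'_condition s t)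
      ((yon S).map q) hw' _ (quotπ'_quotDesc s t q hk.w)
  exact IsIso.of_isIso_comp_right _ (QuotSh.repIsoUliftYoneda Scheme.fppfPrecoverage Y).hom

/-- **Sheaf quotients that are schemes are fppf quotients**: if `q` identifies `h_Y` with `U/R` for
an equivalence relation with `s` flat, surjective and locally of finite presentation, then `R` is
the kernel pair of `q` and `q` is flat, surjective and locally of finite presentation. -/
theorem isKernelPair_of_isQuotient (hR : AlgSp.IsEqvRel s t) [Flat s.left]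
    [LocallyOfFinitePresentation s.left] (q : U ⟶ Y)
    (hq : QuotSh.IsQuotient Scheme.fppfPrecoverage s t q) :
    IsKernelPair q s t ∧ Flat q.left ∧ Surjective q.left ∧
      LocallyOfFinitePresentation q.left := by
  obtain ⟨w, hiso⟩ := hq
  haveI := hiso
  set d := QuotSh.quotDesc Scheme.fppfPrecoverage q w ≫
    (QuotSh.repIsoUliftYoneda Scheme.fppfPrecoverage Y).hom with hd
  have hπd : quotπ' s t ≫ d = (yon S).map q := quotπ'_quotDesc s t q w
  haveI : IsIso d := by rw [hd]; infer_instance
  haveI : Epi ((yon S).map q) := by rw [← hπd]; infer_instance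
  have hker : IsPullback ((yon S).map t) ((yon S).map s) ((yon S).map q) ((yon S).map q) := by
    have h1 : IsKernelPair (quotπ' s t) ((yon S).map t) ((yon S).map s) := isPullback_quotπ' s t hR
    have h2 := h1.comp_of_mono (f₂ := d)
    rw [hπd] at h2
    exact h2
  have hkp : IsKernelPair q s t := IsPullback.of_map (yon S) w hker.flip
  have hflat : LocP @Flat ((yon S).map q) :=
    QuotFlat.locP_of_epi_of_kernel etLocal_flat (IsAlgSpace.yon_obj R) (IsAlgSpace.yon_obj U)
      (IsAlgSpace.yon_obj Y) _ _ _ hker (locP_yon_map_of etLocal_flat s inferInstance)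
  have hlfp : LocP @LocallyOfFinitePresentation ((yon S).map q) :=
    QuotFlat.locP_of_epi_of_kernel Groth.Agent.Lib.Helper30.EtLocalInst.etLocal_lfp
      (IsAlgSpace.yon_obj R) (IsAlgSpace.yon_obj U) (IsAlgSpace.yon_obj Y) _ _ _ hker
      (locP_yon_map_of Groth.Agent.Lib.Helper30.EtLocalInst.etLocal_lfp s inferInstance)
  refine ⟨hkp, locP_yon_map hflat, ⟨fun y => ?_⟩, locP_yon_map hlfp⟩
  obtain ⟨x, hx⟩ := QuotFlat.isSurjectiveMor_of_epi ((yon S).map q) (Points.ofScheme Y y)
  obtain ⟨u, rfl⟩ := (Points.schemeEquiv U).surjective x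
  refine ⟨u, ?_⟩
  apply (Points.schemeEquiv Y).injective
  change Points.ofScheme Y (q.left u) = Points.ofScheme Y y
  rw [← hx]
  change _ = Points.map ((yon S).map q) (Points.ofScheme U u)
  rw [← Points.ofPt_eq_map_ofScheme, ofPt_yon_map]

end Groth.Agent.Lib.Helper5.QuotSchemes
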