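import Mathlib
import Groth.Agent.Lib.Helper5.QuotSchemes

/-!
# Descent of maps along epimorphisms of fppf sheaves (helper5)
-/

set_option autoImplicit false
universe u
open CategoryTheory CategoryTheory.Limits AlgebraicGeometry Opposite

namespace Groth.Agent.Lib.Helper5.QuotShDescend

open AlgSp Groth.Agent.Lib.Helper5.SheafQuot Groth.Agent.Lib.Helper5

variable {S : Scheme.{u}}

/-- Equality of maps of sheaves can be tested on representables. -/
theorem hom_ext_yon {F G : Sp S} (a b : F ⟶ G)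
    (h : ∀ (T : Over S) (x : (yon S).obj T ⟶ F), x ≫ a = x ≫ b) : a = b := by
  apply Sheaf.hom_ext
  ext Z x
  obtain ⟨Z⟩ := Z
  have := h Z ((J S).uliftYonedaEquiv.symm x)
  have h2 := congrArg (J S).uliftYonedaEquiv this
  rw [GrothendieckTopology.uliftYonedaEquiv_comp, GrothendieckTopology.uliftYonedaEquiv_comp,
    Equiv.apply_symm_apply] at h2
  exact h2

/-- Descent along an epimorphism of sheaves: a map which identifies points (with values in
schemes) identified by the epimorphism descends uniquely. -/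
theorem existsUnique_desc_of_epi {F G Q : Sp S} (f : F ⟶ G) [Epi f] (e : F ⟶ Q)
    (h : ∀ (T : Over S) (g₁ g₂ : (yon S).obj T ⟶ F), g₁ ≫ f = g₂ ≫ f → g₁ ≫ e = g₂ ≫ e) :
    ∃! σ : G ⟶ Q, f ≫ σ = e := by
  haveI : IsRegularEpi f := IsRegularEpiCategory.regularEpiOfEpi f
  haveI : EffectiveEpi f := (isRegularEpi_iff_effectiveEpi f).1 inferInstance
  have h' : ∀ {Z : Sp S} (g₁ g₂ : Z ⟶ F), g₁ ≫ f = g₂ ≫ f → g₁ ≫ e = g₂ ≫ e := by
    intro Z g₁ g₂ hg
    apply hom_ext_yon
    intro T x
    rw [← Category.assoc, ← Category.assoc]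
    apply h
    rw [Category.assoc, Category.assoc, hg]
  refine ⟨EffectiveEpi.desc f e h', EffectiveEpi.fac f e h', ?_⟩
  intro σ hσ
  exact EffectiveEpi.uniq f e h' σ hσ

end Groth.Agent.Lib.Helper5.QuotShDescend
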