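import Mathlib.AlgebraicGeometry.Sites.Fpqc
import Mathlib.AlgebraicGeometry.Morphisms.LocalFlatDescent
import Mathlib.AlgebraicGeometry.Morphisms.FlatDescent
import Mathlib.AlgebraicGeometry.Morphisms.Descent
import Mathlib.CategoryTheory.MorphismProperty.Local

/-! # fppf-local on the target from descent along fppf covers -/

set_option autoImplicit false
universe u

open CategoryTheory CategoryTheory.Limits AlgebraicGeometry

namespace Groth.Agent.Lib.Helper5

/-- A property of morphisms of schemes which is stable under base change, Zariski local on the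
target and descends along surjective flat locally finitely presented morphisms is local on the
target for the fppf precoverage. -/
theorem isLocalAtTarget_fppf (P : MorphismProperty Scheme.{u}) [P.IsStableUnderBaseChange]
    [IsZariskiLocalAtTarget P]
    [P.DescendsAlong (@Surjective ⊓ @Flat ⊓ @LocallyOfFinitePresentation)] :
    P.IsLocalAtTarget Scheme.fppfPrecoverage.{u} := by
  have : P.RespectsIso := MorphismProperty.IsStableUnderBaseChange.respectsIso
  have hsm : Precoverage.Small.{u} Scheme.fppfPrecoverage.{u} := by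
    unfold Scheme.fppfPrecoverage; infer_instance
  have hpb : Scheme.fppfPrecoverage.{u}.HasPullbacks := inferInstance
  refine MorphismProperty.IsLocalAtTarget.mk_of_small.{u} ?_ ?_
  · intro X Y f 𝒰 hf i
    exact P.pullback_snd _ _ hf
  · intro X Y f 𝒰 H
    let φ : (∐ 𝒰.X) ⟶ Y := Sigma.desc 𝒰.f
    have hprop : ∀ i, (@Flat ⊓ @LocallyOfFinitePresentation : MorphismProperty Scheme.{u}) (𝒰.f i) :=
      fun i => Scheme.Cover.map_prop (P := @Flat ⊓ @LocallyOfFinitePresentation) 𝒰 i
    have hφ : (@Surjective ⊓ @Flat ⊓ @LocallyOfFinitePresentation : MorphismProperty Scheme.{u}) φ := by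
      refine ⟨⟨⟨fun y => ?_⟩, ?_⟩, ?_⟩
      · obtain ⟨i, x, rfl⟩ := Scheme.Cover.exists_eq (K := Scheme.precoverage (@Flat ⊓ @LocallyOfFinitePresentation)) 𝒰 y
        refine ⟨Sigma.ι 𝒰.X i x, ?_⟩
        rw [← Scheme.Hom.comp_apply, Sigma.ι_desc]
      · rw [IsZariskiLocalAtSource.iff_of_openCover (P := @Flat) (sigmaOpenCover _)]
        intro i
        change Flat (Sigma.ι 𝒰.X i ≫ Sigma.desc 𝒰.f)
        rw [Sigma.ι_desc]
        exact (hprop i).1
      · rw [IsZariskiLocalAtSource.iff_of_openCover (P := @LocallyOfFinitePresentation)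
          (sigmaOpenCover _)]
        intro i
        change LocallyOfFinitePresentation (Sigma.ι 𝒰.X i ≫ Sigma.desc 𝒰.f)
        rw [Sigma.ι_desc]
        exact (hprop i).2
    apply MorphismProperty.of_pullback_snd_of_descendsAlong (P := P) (f := f) (g := φ) hφ
    rw [IsZariskiLocalAtTarget.iff_of_openCover (P := P) (sigmaOpenCover 𝒰.X)]
    intro i
    change P (pullback.snd (pullback.snd f φ) (Sigma.ι 𝒰.X i))
    have big : IsPullback (pullback.fst (pullback.snd f φ) (Sigma.ι 𝒰.X i) ≫ pullback.fst f φ)
        (pullback.snd (pullback.snd f φ) (Sigma.ι 𝒰.X i)) f (Sigma.ι 𝒰.X i ≫ φ) :=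
      (IsPullback.of_hasPullback (pullback.snd f φ) (Sigma.ι 𝒰.X i)).flip.paste_vert
        (IsPullback.of_hasPullback f φ).flip |>.flip
    have e : Sigma.ι 𝒰.X i ≫ φ = 𝒰.f i := Sigma.ι_desc _ _
    rw [e] at big
    rw [← P.cancel_left_of_respectsIso big.isoPullback.inv, big.isoPullback_inv_snd]
    exact H i

end Groth.Agent.Lib.Helper5

namespace Groth.Agent.Lib.Helper5

instance : MorphismProperty.IsLocalAtTarget (@Etale : MorphismProperty Scheme.{u})
    Scheme.fppfPrecoverage.{u} :=
  isLocalAtTarget_fppf _

instance : MorphismProperty.IsLocalAtTarget (@Surjective : MorphismProperty Scheme.{u})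
    Scheme.fppfPrecoverage.{u} :=
  isLocalAtTarget_fppf _

instance : MorphismProperty.IsLocalAtTarget (@LocallyOfFiniteType : MorphismProperty Scheme.{u})
    Scheme.fppfPrecoverage.{u} :=
  isLocalAtTarget_fppf _

instance : MorphismProperty.IsLocalAtTarget (@LocallyOfFinitePresentation : MorphismProperty Scheme.{u})
    Scheme.fppfPrecoverage.{u} :=
  isLocalAtTarget_fppf _

instance : MorphismProperty.IsLocalAtTarget (@Smooth : MorphismProperty Scheme.{u})
    Scheme.fppfPrecoverage.{u} :=
  isLocalAtTarget_fppf _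

instance : MorphismProperty.IsLocalAtTarget (@FormallyUnramified : MorphismProperty Scheme.{u})
    Scheme.fppfPrecoverage.{u} :=
  isLocalAtTarget_fppf _

instance : MorphismProperty.IsLocalAtTarget (@UniversallyClosed : MorphismProperty Scheme.{u})
    Scheme.fppfPrecoverage.{u} :=
  isLocalAtTarget_fppf _

instance : MorphismProperty.IsLocalAtTarget (@UniversallyInjective : MorphismProperty Scheme.{u})
    Scheme.fppfPrecoverage.{u} :=
  isLocalAtTarget_fppf _

instance : MorphismProperty.IsLocalAtTarget (@IsOpenImmersion : MorphismProperty Scheme.{u})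
    Scheme.fppfPrecoverage.{u} :=
  isLocalAtTarget_fppf _

instance : (MorphismProperty.isomorphisms Scheme.{u}).IsLocalAtTarget
    Scheme.fppfPrecoverage.{u} :=
  isLocalAtTarget_fppf _

end Groth.Agent.Lib.Helper5
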