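import Mathlib
import Groth.Prelude.Def_AlgSp
import Groth.Agent.Lib.Helper5.AtlasDiag
import Groth.Agent.Lib.Helper5.YonCoprod
import Groth.Agent.Lib.Helper5.LocalRep
import Groth.Agent.Lib.Helper5.FppfLocal

/-!
# Sheaf quotients by étale equivalence relations are algebraic spaces (helper5)
-/

set_option autoImplicit false
universe u
open CategoryTheory CategoryTheory.Limits AlgebraicGeometry Opposite

namespace Groth.Agent.Lib.Helper5.AtlasQuot

open AlgSp Groth.Agent.Lib.Helper5.FppfRep Groth.Agent.Lib.Helper5.SheafQuot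
  Groth.Agent.Lib.Helper5

variable {S : Scheme.{u}}

/-- A covering sieve of the fppf topology over `S` contains an fppf covering family. -/
theorem exists_fppf_family_of_mem_J {V : Over S} (R₀ : Sieve V) (hR₀ : R₀ ∈ J S V) :
    ∃ (ι : Type u) (Vi : ι → Over S) (c : ∀ i, Vi i ⟶ V), (∀ i, R₀ (c i)) ∧
      (∀ i, Flat (c i).left) ∧ (∀ i, LocallyOfFinitePresentation (c i).left) ∧
        ∀ v : ↥V.left, ∃ i, v ∈ Set.range (c i).left := by
  rw [AlgSp.J_eq, GrothendieckTopology.mem_over_iff] at hR₀
  haveI : MorphismProperty.ContainsIdentities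
      (@LocallyOfFinitePresentation : MorphismProperty Scheme.{u}) := ⟨fun X => inferInstance⟩
  haveI : MorphismProperty.IsMultiplicative
      (@LocallyOfFinitePresentation : MorphismProperty Scheme.{u}) := {}
  obtain ⟨𝒰, h𝒰⟩ := (Scheme.mem_grothendieckTopology_iff
    (P := @Flat ⊓ @LocallyOfFinitePresentation)).1 hR₀
  refine ⟨𝒰.I₀, fun i => Over.mk (𝒰.f i ≫ V.hom), fun i => Over.homMk (𝒰.f i) rfl, fun i => ?_,
    fun i => (𝒰.map_prop i).1, fun i => (𝒰.map_prop i).2, fun v => ?_⟩
  · have h1 : Sieve.overEquiv V R₀ (𝒰.f i) := h𝒰 _ _ (Presieve.ofArrows.mk i)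
    rw [Sieve.overEquiv_iff] at h1
    exact h1
  · obtain ⟨i, y, hy⟩ := 𝒰.exists_eq v
    exact ⟨i, y, hy⟩

/-- Lifting along an epimorphism from a representable sheaf over a single fppf cover. -/
theorem exists_single_fppf_lift {F : Sp S} {U : Over S} (q : (yon S).obj U ⟶ F) [Epi q]
    (T : Over S) (a : (yon S).obj T ⟶ F) :
    ∃ (T' : Over S) (p : T' ⟶ T), Flat p.left ∧ Surjective p.left ∧
      LocallyOfFinitePresentation p.left ∧
        ∃ a' : T' ⟶ U, (yon S).map a' ≫ q = (yon S).map p ≫ a := by
  obtain ⟨R₀, hR₀, hl⟩ := exists_local_lift_of_epi q a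
  obtain ⟨ι, Ti, c, hc, hfl, hlfp, hsurj⟩ := exists_fppf_family_of_mem_J R₀ hR₀
  choose x hx using fun i => hl (c i) (hc i)
  let x' : ∀ i, Ti i ⟶ U := fun i => (yon S).preimage (x i)
  have hx' : ∀ i, (yon S).map (x' i) = x i := fun i => (yon S).map_preimage _
  let T' : Over S := sigmaOver Ti
  let p : T' ⟶ T := Over.homMk (Sigma.desc fun i => (c i).left) (by
    apply Sigma.hom_ext
    intro i
    simp [T', sigmaOver])
  let a' : T' ⟶ U := Over.homMk (Sigma.desc fun i => (x' i).left) (by
    apply Sigma.hom_ext
    intro i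
    simp [T', sigmaOver])
  have hp : ∀ i, sigmaOverι Ti i ≫ p = c i := fun i => by
    ext1
    exact Sigma.ι_desc _ _
  have ha' : ∀ i, sigmaOverι Ti i ≫ a' = x' i := fun i => by
    ext1
    exact Sigma.ι_desc _ _
  refine ⟨T', p, ?_, ⟨fun v => ?_⟩, ?_, a', ?_⟩
  · change Flat (Sigma.desc fun i => (c i).left)
    rw [IsZariskiLocalAtSource.iff_of_openCover (P := @Flat) (sigmaOpenCover _)]
    intro i
    change Flat (Sigma.ι _ i ≫ Sigma.desc fun i => (c i).left)
    rw [Sigma.ι_desc]
    exact hfl i
  · obtain ⟨i, y, hy⟩ := hsurj v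
    refine ⟨(Sigma.ι (fun i => (Ti i).left) i).base y, ?_⟩
    change (Sigma.ι (fun i => (Ti i).left) i ≫ Sigma.desc fun i => (c i).left).base y = v
    rw [Sigma.ι_desc]
    exact hy
  · change LocallyOfFinitePresentation (Sigma.desc fun i => (c i).left)
    rw [IsZariskiLocalAtSource.iff_of_openCover (P := @LocallyOfFinitePresentation)
      (sigmaOpenCover _)]
    intro i
    change LocallyOfFinitePresentation (Sigma.ι _ i ≫ Sigma.desc fun i => (c i).left)
    rw [Sigma.ι_desc]
    exact hlfp i
  · apply LocalRep.hom_ext_of_cover Ti (sigmaOverι Ti)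
      (fun i => by change IsOpenImmersion (Sigma.ι _ i); infer_instance)
      (fun z => by
        obtain ⟨i, y, hy⟩ := (sigmaOpenCover fun i => (Ti i).left).exists_eq z
        exact ⟨i, y, hy⟩)
    intro i
    rw [← Category.assoc, ← Category.assoc, ← Functor.map_comp, ← Functor.map_comp, hp, ha', hx',
      hx]

/-- A representable morphism which has `P` after base change to an fppf cover has `P`. -/
theorem repWith_of_fppf_local (P : MorphismProperty Scheme.{u}) [P.IsStableUnderBaseChange]
    [P.IsLocalAtTarget Scheme.fppfPrecoverage] {F G : Sp S} (f : F ⟶ G) (hrep : Representable f)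
    (hloc : ∀ (T : Over S) (c : (yon S).obj T ⟶ G), ∃ (T' : Over S) (p : T' ⟶ T),
      Flat p.left ∧ Surjective p.left ∧ LocallyOfFinitePresentation p.left ∧
        ∃ (V' : Over S) (v' : V' ⟶ T') (fst' : (yon S).obj V' ⟶ F),
          IsPullback fst' ((yon S).map v') f ((yon S).map p ≫ c) ∧ P v'.left) : RepWith P f := by
  have hPiso : P.RespectsIso := MorphismProperty.IsStableUnderBaseChange.respectsIso
  apply MorphismProperty.relative.of_exists
  intro T c
  obtain ⟨V, v, fst, sq⟩ := hrep c
  refine ⟨V, fst, v, sq, ?_⟩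
  change P v.left
  obtain ⟨T', p, h1, h2, h3, V', v', fst', sq', hP'⟩ := hloc T c
  apply MorphismProperty.IsLocalAtTarget.of_forall_pullbackSnd (K := Scheme.fppfPrecoverage)
    (p.left.singleton_mem_fppfPrecoverage)
  rintro U' g' _ ⟨⟩
  -- the pullback in `Over S`
  have sqO : IsPullback ((yon S).map (pullback.fst v p)) ((yon S).map (pullback.snd v p))
      ((yon S).map v) ((yon S).map p) := (IsPullback.of_hasPullback v p).map (yon S)
  have sqB : IsPullback ((yon S).map (pullback.fst v p) ≫ fst) ((yon S).map (pullback.snd v p)) f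
      ((yon S).map p ≫ c) := sqO.paste_horiz sq
  -- compare the two pullbacks
  let e : (yon S).obj V' ≅ (yon S).obj (pullback v p) :=
    sq'.isoIsPullback _ _ sqB
  have he : e.hom ≫ (yon S).map (pullback.snd v p) = (yon S).map v' :=
    sq'.isoIsPullback_hom_snd _ _ sqB
  let ε : V' ≅ pullback v p := (yon S).preimageIso e
  have hε : ε.hom ≫ pullback.snd v p = v' := by
    apply (yon S).map_injective
    rw [Functor.map_comp, Functor.preimageIso_hom, Functor.map_preimage, he]
  have hP1 : P (pullback.snd v p).left := by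
    have : v'.left = ε.hom.left ≫ (pullback.snd v p).left := by
      rw [← Over.comp_left, hε]
    rw [this] at hP'
    haveI : IsIso ε.hom.left := inferInstanceAs (IsIso ((Over.forget S).map ε.hom))
    exact (P.cancel_left_of_respectsIso ε.hom.left _).1 hP'
  have sqF : IsPullback (pullback.fst v p).left (pullback.snd v p).left v.left p.left :=
    (IsPullback.of_hasPullback v p).map (Over.forget S)
  rw [← P.cancel_left_of_respectsIso sqF.isoPullback.hom, sqF.isoPullback_hom_snd]
  exact hP1

/-- A sheaf covered by a scheme through an epimorphism whose kernel pair is an étale equivalence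
relation of schemes is an algebraic space. -/
theorem isAlgSpace_of_kernelPair {F : Sp S} {U R : Over S} (q : (yon S).obj U ⟶ F) [Epi q]
    (s t : R ⟶ U) (hk : IsPullback ((yon S).map t) ((yon S).map s) q q) [Etale s.left]
    [Etale t.left] [Surjective s.left] : IsAlgSpace F := by
  have hloc := exists_single_fppf_lift q
  have hdiag : Representable (Limits.diag F) :=
    AtlasDiag.representable_diag q s t hk hloc
  have hrep : Representable q := Functor.relativelyRepresentable.of_diag hdiag q
  have key : ∀ (P : MorphismProperty Scheme.{u}) [P.IsStableUnderBaseChange]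
      [P.IsLocalAtTarget Scheme.fppfPrecoverage], P s.left → RepWith P q := by
    intro P _ _ hPs
    apply repWith_of_fppf_local P q hrep
    intro T c
    obtain ⟨T', p, h1, h2, h3, a', ha'⟩ := hloc T c
    refine ⟨T', p, h1, h2, h3, pullback s a', pullback.snd s a',
      (yon S).map (pullback.fst s a') ≫ (yon S).map t, ?_, ?_⟩
    · have sqL : IsPullback ((yon S).map (pullback.fst s a')) ((yon S).map (pullback.snd s a'))
          ((yon S).map s) ((yon S).map a') := (IsPullback.of_hasPullback s a').map (yon S)
      have := sqL.paste_horiz hk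
      rwa [ha'] at this
    · exact MorphismProperty.pullback_snd (P := P.inverseImage (Over.forget S)) s a' hPs
  exact ⟨hdiag, U, q, key @Etale inferInstance, key @Surjective inferInstance⟩

end Groth.Agent.Lib.Helper5.AtlasQuot
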