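import Groth.Prelude.Def_Red
import Mathlib.AlgebraicGeometry.Morphisms.Flat
import Mathlib.AlgebraicGeometry.Morphisms.FinitePresentation
import Mathlib.RingTheory.FinitePresentation
import Mathlib.RingTheory.FiniteType

/-! # `G_m` is flat and locally of finite presentation over any base (helper5) -/

set_option autoImplicit false
universe u
open CategoryTheory CategoryTheory.Limits AlgebraicGeometry

namespace Groth.Agent.Lib.Helper5.GmFlat

instance isNoetherianRing_uliftInt : IsNoetherianRing (ULift.{u} ℤ) :=
  isNoetherianRing_of_ringEquiv ℤ ULift.ringEquiv.symm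

instance finitePresentation_coord :
    Algebra.FinitePresentation (ULift.{u} ℤ) (MonoidAlgebra (ULift.{u} ℤ) (Multiplicative ℤ)) :=
  Algebra.FinitePresentation.of_finiteType.mp inferInstance

theorem flat_GmZ_hom : Flat (Red.diag (ULift.{u} ℤ) ℤ).hom := by
  change Flat (Spec.map (CommRingCat.ofHom
    (algebraMap (ULift.{u} ℤ) (MonoidAlgebra (ULift.{u} ℤ) (Multiplicative ℤ)))))
  rw [HasRingHomProperty.Spec_iff (P := @Flat)]
  rw [CommRingCat.hom_ofHom, RingHom.flat_algebraMap_iff]
  infer_instance

theorem lfp_GmZ_hom : LocallyOfFinitePresentation (Red.diag (ULift.{u} ℤ) ℤ).hom := by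
  change LocallyOfFinitePresentation (Spec.map (CommRingCat.ofHom
    (algebraMap (ULift.{u} ℤ) (MonoidAlgebra (ULift.{u} ℤ) (Multiplicative ℤ)))))
  rw [HasRingHomProperty.Spec_iff (P := @LocallyOfFinitePresentation)]
  rw [CommRingCat.hom_ofHom, RingHom.finitePresentation_algebraMap]
  infer_instance

instance flat_Gm_hom (S : Scheme.{u}) : Flat (Red.Gm S).hom := by
  have := flat_GmZ_hom.{u}
  change Flat (pullback.snd _ _)
  infer_instance

instance lfp_Gm_hom (S : Scheme.{u}) : LocallyOfFinitePresentation (Red.Gm S).hom := by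
  have := lfp_GmZ_hom.{u}
  change LocallyOfFinitePresentation (pullback.snd _ _)
  infer_instance

end Groth.Agent.Lib.Helper5.GmFlat
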