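import Mathlib
import Groth.Agent.Lib.Helper5.SheafQuot
import Groth.Agent.Lib.Helper5.SheafPullback
import Groth.Agent.Lib.Helper5.QuotFlat

/-!
# Representability of a monomorphism of fppf sheaves by open immersions is fppf local (helper5)

* `ofArrows_mem_J_fppf`: an fppf family generates a covering sieve.
* `exists_lift_of_locally_lift_mono`: a map to the target of a monomorphism of sheaves which factors locally
  factors.
* `exists_isPullback_open_of_local`: if `φ : F' ⟶ F` is a monomorphism of sheaves, `ξ : h_T ⟶ F`, and over the members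
  of an fppf covering family of `T` the pullback of `φ` is an open subscheme, then the pullback of `φ` along `ξ` is an
  open subscheme of `T` (no algebraicity of `F`, `F'` needed).
-/

set_option autoImplicit false
universe u
open CategoryTheory CategoryTheory.Limits AlgebraicGeometry Opposite

namespace Groth.Agent.Lib.Helper5.OpenLocal

open AlgSp Groth.Agent.Lib.Helper5.SheafQuot

variable {S : Scheme.{u}}

/-- An fppf covering family generates a covering sieve. -/
theorem ofArrows_mem_J_fppf {Z : Over S} {ι : Type u} (Y : ι → Over S) (f : ∀ i, Y i ⟶ Z)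
    (hfl : ∀ i, Flat (f i).left) (hfp : ∀ i, LocallyOfFinitePresentation (f i).left)
    (hc : ∀ z : ↥Z.left, ∃ i, z ∈ Set.range (f i).left) :
    Sieve.ofArrows Y f ∈ J S Z := by
  rw [AlgSp.J_eq, GrothendieckTopology.mem_over_iff, Sieve.overEquiv_ofArrows]
  have : MorphismProperty.IsMultiplicative
      (@LocallyOfFinitePresentation : MorphismProperty Scheme.{u}) :=
    { id_mem := fun _ => inferInstance
      comp_mem := fun f g hf hg => by
        have : LocallyOfFinitePresentation f := hf
        have : LocallyOfFinitePresentation g := hg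
        exact (inferInstance : LocallyOfFinitePresentation (f ≫ g)) }
  let 𝒰 : Z.left.Cover (Scheme.precoverage (@Flat ⊓ @LocallyOfFinitePresentation)) :=
    Scheme.Cover.mkOfCovers ι (fun i => (Y i).left) (fun i => (f i).left)
      (fun x => by obtain ⟨i, y, hy⟩ := hc x; exact ⟨i, y, hy⟩) (fun i => ⟨hfl i, hfp i⟩)
  exact 𝒰.mem_grothendieckTopology

/-- A map to the target of a monomorphism of sheaves which factors through it locally factors
through it. -/
theorem exists_lift_of_locally_lift_mono {F' F : Sp S} (φ : F' ⟶ F) [Mono φ] {T : Over S}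
    (x : (yon S).obj T ⟶ F) (R₀ : Sieve T) (hR₀ : R₀ ∈ J S T)
    (h : ∀ ⦃T' : Over S⦄ (f : T' ⟶ T), R₀ f → ∃ y : (yon S).obj T' ⟶ F', y ≫ φ = (yon S).map f ≫ x) :
    ∃ y : (yon S).obj T ⟶ F', y ≫ φ = x := by
  have hF' : Presieve.IsSheaf (J S) F'.obj := (isSheaf_iff_isSheaf_of_type _ _).1 F'.property
  have h1 : Presieve.IsSheafFor F'.obj R₀.arrows := hF' R₀ hR₀
  choose y hy using h
  let fam : Presieve.FamilyOfElements F'.obj R₀.arrows :=
    fun T' f hf => (J S).uliftYonedaEquiv (y f hf)
  have hcompat : fam.Compatible := by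
    intro Y₁ Y₂ Z g₁ g₂ f₁ f₂ h₁ h₂ hcomm
    change F'.obj.map g₁.op ((J S).uliftYonedaEquiv (y f₁ h₁)) =
      F'.obj.map g₂.op ((J S).uliftYonedaEquiv (y f₂ h₂))
    rw [GrothendieckTopology.uliftYonedaEquiv_naturality,
      GrothendieckTopology.uliftYonedaEquiv_naturality]
    congr 1
    rw [← cancel_mono φ, Category.assoc, Category.assoc, hy, hy, ← Category.assoc, ← Category.assoc,
      ← Functor.map_comp, ← Functor.map_comp, hcomm]
  obtain ⟨t, ht, -⟩ := h1 fam hcompat
  refine ⟨(J S).uliftYonedaEquiv.symm t, ?_⟩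
  refine eq_of_locally_eq _ _ R₀ hR₀ ?_
  intro T' f hf
  rw [← hy f hf, ← Category.assoc]
  congr 1
  apply (J S).uliftYonedaEquiv.injective
  rw [← GrothendieckTopology.uliftYonedaEquiv_naturality, Equiv.apply_symm_apply]
  exact ht f hf

/-- **Open subfunctors descend along fppf coverings of the target scheme.**  Let `φ : F' ⟶ F` be a monomorphism
of fppf sheaves and `ξ : h_T ⟶ F`.  If for the members `f i : T_i ⟶ T` of an fppf covering family the pullback of `φ`
along `h_{f i} ≫ ξ` is (represented by) an open subscheme `V_i ⊆ T_i`, then the pullback of `φ` along `ξ` is an open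
subscheme of `T`. -/
theorem exists_isPullback_open_of_local {F' F : Sp S} (φ : F' ⟶ F) [Mono φ] {T : Over S}
    (ξ : (yon S).obj T ⟶ F) {ι : Type u} (Ti : ι → Over S) (f : ∀ i, Ti i ⟶ T)
    (hfl : ∀ i, Flat (f i).left) (hfp : ∀ i, LocallyOfFinitePresentation (f i).left)
    (hc : ∀ z : ↥T.left, ∃ i, z ∈ Set.range (f i).left)
    (V : ι → Over S) (j : ∀ i, V i ⟶ Ti i) (hj : ∀ i, IsOpenImmersion (j i).left)
    (p : ∀ i, (yon S).obj (V i) ⟶ F')
    (hsq : ∀ i, IsPullback (p i) ((yon S).map (j i)) φ ((yon S).map (f i) ≫ ξ)) :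
    ∃ (T₀ : Over S) (j₀ : T₀ ⟶ T) (p₀ : (yon S).obj T₀ ⟶ F'), IsOpenImmersion j₀.left ∧
      IsPullback p₀ ((yon S).map j₀) φ ξ := by
  haveI := hj
  haveI := hfl
  haveI := hfp
  -- the open subscheme
  have hopen : ∀ i, IsOpen (Set.range ((j i).left ≫ (f i).left)) := fun i =>
    ((j i).left ≫ (f i).left).isOpenMap.isOpen_range
  let W₀ : T.left.Opens := ⟨⋃ i, Set.range ((j i).left ≫ (f i).left), isOpen_iUnion hopen⟩
  let T₀ : Over S := Over.mk (W₀.ι ≫ T.hom)
  let j₀ : T₀ ⟶ T := Over.homMk W₀.ι rfl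
  have hj₀ : IsOpenImmersion j₀.left := by change IsOpenImmersion W₀.ι; infer_instance
  have hrange : ∀ i, Set.range ((j i).left ≫ (f i).left) ⊆ Set.range W₀.ι := by
    intro i
    rw [Scheme.Opens.range_ι]
    exact Set.subset_iUnion (fun i => Set.range ((j i).left ≫ (f i).left)) i
  let c₀ : ∀ i, (V i).left ⟶ (W₀ : Scheme.{u}) := fun i =>
    IsOpenImmersion.lift W₀.ι ((j i).left ≫ (f i).left) (hrange i)
  have hc₀ : ∀ i, c₀ i ≫ W₀.ι = (j i).left ≫ (f i).left := fun i =>
    IsOpenImmersion.lift_fac _ _ _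
  let c : ∀ i, V i ⟶ T₀ := fun i => Over.homMk (c₀ i) (by
    change c₀ i ≫ W₀.ι ≫ T.hom = (V i).hom
    rw [← Category.assoc, hc₀, Category.assoc, Over.w, Over.w])
  have hcj : ∀ i, c i ≫ j₀ = j i ≫ f i := fun i => by
    apply Over.OverMorphism.ext
    exact hc₀ i
  have hcfl : ∀ i, Flat (c i).left := fun i => by
    refine MorphismProperty.of_postcomp (W := @Flat) (W' := MorphismProperty.monomorphisms _)
      (c₀ i) W₀.ι (inferInstance : Mono W₀.ι) ?_
    rw [hc₀]
    infer_instance
  have hcfp : ∀ i, LocallyOfFinitePresentation (c i).left := fun i => by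
    refine MorphismProperty.of_postcomp (W := @LocallyOfFinitePresentation)
      (W' := MorphismProperty.monomorphisms _) (c₀ i) W₀.ι (inferInstance : Mono W₀.ι) ?_
    rw [hc₀]
    infer_instance
  have hcsurj : ∀ z : ↥T₀.left, ∃ i, z ∈ Set.range (c i).left := by
    intro z
    have hz : W₀.ι z ∈ (W₀ : Set ↥T.left) := by
      rw [← Scheme.Opens.range_ι]
      exact ⟨z, rfl⟩
    obtain ⟨i, v, hv⟩ := Set.mem_iUnion.1 hz
    refine ⟨i, v, ?_⟩
    apply W₀.ι.isOpenEmbedding.injective
    rw [← hv, ← hc₀ i]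
    rfl
  -- the map to `F'`
  obtain ⟨p₀, hp₀⟩ := exists_lift_of_locally_lift_mono φ ((yon S).map j₀ ≫ ξ) (Sieve.ofArrows V c)
    (ofArrows_mem_J_fppf V c hcfl hcfp hcsurj) (by
      rintro T' _ ⟨_, g, _, ⟨i⟩, rfl⟩
      refine ⟨(yon S).map g ≫ p i, ?_⟩
      rw [Category.assoc, (hsq i).w, ← Category.assoc, ← Category.assoc, ← Category.assoc,
        ← Functor.map_comp, ← Functor.map_comp, ← Functor.map_comp, Category.assoc g (c i) j₀, hcj,
        Category.assoc])
  refine ⟨T₀, j₀, p₀, hj₀, ?_⟩
  refine sheaf_isPullback_of_yon.{u, u + 1, u + 1} (J S) _ _ _ _ hp₀ ?_ ?_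
  · intro T'' z z' _ h2
    obtain ⟨z₀, rfl⟩ := (yon S).map_surjective z
    obtain ⟨z₀', rfl⟩ := (yon S).map_surjective z'
    rw [← Functor.map_comp, ← Functor.map_comp] at h2
    have h3 := (yon S).map_injective h2
    congr 1
    apply Over.OverMorphism.ext
    have h4 := congrArg (fun k => k.left) h3
    simp only [Over.comp_left] at h4
    haveI : Mono j₀.left := by change Mono W₀.ι; infer_instance
    exact (cancel_mono j₀.left).1 h4
  · intro T'' y x hxy'
    have hxy := hxy'.symm
    obtain ⟨b, rfl⟩ := (yon S).map_surjective x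
    have hb : Set.range b.left ⊆ Set.range W₀.ι := by
      rintro _ ⟨x'', rfl⟩
      obtain ⟨i, ti, hti⟩ := hc (b.left x'')
      obtain ⟨q, hq1, hq2⟩ := Scheme.Pullback.exists_preimage_pullback (f := b.left)
        (g := (f i).left) x'' ti hti.symm
      let Q : Over S := Over.mk (pullback.fst b.left (f i).left ≫ T''.hom)
      let pr₁ : Q ⟶ T'' := Over.homMk (pullback.fst b.left (f i).left) rfl
      let pr₂ : Q ⟶ Ti i := Over.homMk (pullback.snd b.left (f i).left) (by
        change pullback.snd b.left (f i).left ≫ (Ti i).hom = pullback.fst b.left (f i).left ≫ T''.hom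
        rw [← Over.w (f i), ← Over.w b, pullback.condition_assoc])
      have hpr : pr₁ ≫ b = pr₂ ≫ f i := by
        apply Over.OverMorphism.ext
        exact pullback.condition
      have hw : ((yon S).map pr₁ ≫ y) ≫ φ = (yon S).map pr₂ ≫ (yon S).map (f i) ≫ ξ := by
        rw [Category.assoc, ← hxy, ← Category.assoc, ← Category.assoc, ← Functor.map_comp,
          ← Functor.map_comp, hpr]
      obtain ⟨z₀, hz₀⟩ := (yon S).map_surjective ((hsq i).lift _ _ hw)
      have h5 : (yon S).map (z₀ ≫ j i) = (yon S).map pr₂ := by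
        rw [Functor.map_comp, hz₀]
        exact (hsq i).lift_snd _ _ hw
      have h6 : z₀ ≫ j i = pr₂ := (yon S).map_injective h5
      have h7 : (j i).left (z₀.left q) = ti := by
        rw [← hq2]
        have := congrArg (fun k => k.left) h6
        simp only [Over.comp_left] at this
        change (z₀.left ≫ (j i).left) q = _
        rw [this]
        rfl
      rw [Scheme.Opens.range_ι]
      refine Set.mem_iUnion.2 ⟨i, z₀.left q, ?_⟩
      change (f i).left ((j i).left (z₀.left q)) = b.left x''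
      rw [h7, hti]
    let b₀ : T'' ⟶ T₀ := Over.homMk (IsOpenImmersion.lift W₀.ι b.left hb) (by
      change IsOpenImmersion.lift W₀.ι b.left hb ≫ W₀.ι ≫ T.hom = T''.hom
      rw [← Category.assoc, IsOpenImmersion.lift_fac, Over.w])
    have hb₀ : b₀ ≫ j₀ = b := by
      apply Over.OverMorphism.ext
      exact IsOpenImmersion.lift_fac _ _ _
    refine ⟨(yon S).map b₀, ?_, ?_⟩
    · rw [← cancel_mono φ, Category.assoc, hp₀, ← Category.assoc, ← Functor.map_comp, hb₀, hxy]
    · rw [← Functor.map_comp, hb₀]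

end Groth.Agent.Lib.Helper5.OpenLocal
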