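import Groth.Agent.Lib.Helper5.ProjBasic
import Mathlib.AlgebraicGeometry.Morphisms.ClosedImmersion

set_option autoImplicit false
universe u
open CategoryTheory CategoryTheory.Limits AlgebraicGeometry

namespace Groth.Agent.Lib.Helper5

section

variable {σ τ : Type u} {A B : Type u} [CommRing A] [SetLike σ A] [AddSubgroupClass σ A]
  [CommRing B] [SetLike τ B] [AddSubgroupClass τ B]
variable {𝒜 : ℕ → σ} {ℬ : ℕ → τ} [GradedRing 𝒜] [GradedRing ℬ]

theorem exists_mem_graded_map_eq (φ : 𝒜 →+*ᵍ ℬ) (hsurj : Function.Surjective φ) {i : ℕ} {b : B}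
    (hb : b ∈ ℬ i) : ∃ a ∈ 𝒜 i, φ a = b := by
  obtain ⟨a, rfl⟩ := hsurj b
  refine ⟨DirectSum.decompose 𝒜 a i, SetLike.coe_mem _, ?_⟩
  rw [GradedRingHom.map_directSumDecompose 𝒜 ℬ φ, DirectSum.decompose_of_mem_same ℬ hb]

theorem away_map_surjective (φ : 𝒜 →+*ᵍ ℬ) (hsurj : Function.Surjective φ) {d : ℕ} {s : A}
    (hs : s ∈ 𝒜 d) : Function.Surjective (HomogeneousLocalization.Away.map φ s) := by
  intro x
  obtain ⟨n, b, hb, rfl⟩ := HomogeneousLocalization.Away.mk_surjective ℬ (φ.2 hs) x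
  obtain ⟨a, ha, rfl⟩ := exists_mem_graded_map_eq φ hsurj hb
  exact ⟨HomogeneousLocalization.Away.mk 𝒜 hs n a ha, HomogeneousLocalization.Away.map_mk ..⟩

theorem isPullback_awayι_map (φ : 𝒜 →+*ᵍ ℬ)
    (hφ : HomogeneousIdeal.irrelevant ℬ ≤ (HomogeneousIdeal.irrelevant 𝒜).map φ)
    {d : ℕ} (hd : 0 < d) {s : A} (hs : s ∈ 𝒜 d) :
    IsPullback (Spec.map (CommRingCat.ofHom (HomogeneousLocalization.Away.map φ s)))
      (Proj.awayι ℬ (φ s) (φ.2 hs) hd) (Proj.awayι 𝒜 s hs hd) (Proj.map φ hφ) := by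
  apply IsOpenImmersion.isPullback
  · exact Proj.awayι_comp_map φ hφ hd s hs
  · rw [Proj.opensRange_awayι, Proj.opensRange_awayι, Proj.map_preimage_basicOpen]

theorem isClosedImmersion_pullback_snd_awayι (φ : 𝒜 →+*ᵍ ℬ) (hsurj : Function.Surjective φ)
    (hφ : HomogeneousIdeal.irrelevant ℬ ≤ (HomogeneousIdeal.irrelevant 𝒜).map φ)
    {d : ℕ} (hd : 0 < d) {s : A} (hs : s ∈ 𝒜 d) :
    IsClosedImmersion (pullback.snd (Proj.map φ hφ) (Proj.awayι 𝒜 s hs hd)) := by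
  have hpb := (isPullback_awayι_map φ hφ hd hs).flip
  have hcl : IsClosedImmersion
      (Spec.map (CommRingCat.ofHom (HomogeneousLocalization.Away.map φ s))) :=
    IsClosedImmersion.spec_of_surjective _ (away_map_surjective φ hsurj hs)
  have key : pullback.snd (Proj.map φ hφ) (Proj.awayι 𝒜 s hs hd) =
      hpb.isoPullback.inv ≫
        Spec.map (CommRingCat.ofHom (HomogeneousLocalization.Away.map φ s)) := by
    rw [Iso.eq_inv_comp]
    exact hpb.isoPullback_hom_snd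
  rw [key]
  infer_instance

theorem isClosedImmersion_map (φ : 𝒜 →+*ᵍ ℬ) (hsurj : Function.Surjective φ)
    (hφ : HomogeneousIdeal.irrelevant ℬ ≤ (HomogeneousIdeal.irrelevant 𝒜).map φ) :
    IsClosedImmersion (Proj.map φ hφ) := by
  refine IsZariskiLocalAtTarget.of_openCover (P := @IsClosedImmersion)
    (Proj.affineOpenCover 𝒜).openCover ?_
  intro (i : Σ i : PNat, 𝒜 i)
  exact isClosedImmersion_pullback_snd_awayι φ hsurj hφ i.1.2 i.2.2

end

end Groth.Agent.Lib.Helper5
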