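import Mathlib
import Groth.Prelude.Def_Desc

/-!
# Descent of properties of the descended scheme along fpqc covers (helper5)

`QuasiCompact` and `IsSeparated` descend along flat surjective quasi-compact morphisms, and a
property which descends holds for the structure morphism of a scheme whose canonical descent
datum is isomorphic to a datum with that property.
-/

set_option autoImplicit false
universe u
open CategoryTheory CategoryTheory.Limits AlgebraicGeometry Desc Opposite MorphismProperty

namespace Groth.Agent.Lib.Helper5.DescProps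

/-- the class of fpqc covers -/
abbrev fpqc : MorphismProperty Scheme.{u} := @Surjective ⊓ @Flat ⊓ @QuasiCompact

instance quasiCompact_descendsAlong : DescendsAlong @QuasiCompact fpqc.{u} where
  of_isPullback {A X Y Z fst snd f g} h hf hfst := by
    haveI : QuasiCompact f := hf.2
    haveI : Surjective f := hf.1.1
    haveI : QuasiCompact fst := hfst
    haveI : Surjective snd := MorphismProperty.of_isPullback (P := @Surjective) h hf.1.1
    refine ⟨fun U hU hUc => ?_⟩
    have h1 : IsCompact (f.base ⁻¹' U) := QuasiCompact.isCompact_preimage U hU hUc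
    have h2 : IsCompact (fst.base ⁻¹' (f.base ⁻¹' U)) :=
      QuasiCompact.isCompact_preimage _ (hU.preimage f.continuous) h1
    have h3 : fst.base ⁻¹' (f.base ⁻¹' U) = snd.base ⁻¹' (g.base ⁻¹' U) := by
      rw [← Set.preimage_comp, ← Set.preimage_comp, ← TopCat.coe_comp, ← TopCat.coe_comp,
        ← Scheme.Hom.comp_base, ← Scheme.Hom.comp_base, h.w]
    rw [h3] at h2
    have h4 : g.base ⁻¹' U = snd.base '' (snd.base ⁻¹' (g.base ⁻¹' U)) :=
      (Set.image_preimage_eq _ snd.surjective).symm
    rw [h4]
    exact h2.image snd.continuous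

lemma isSeparated_iff_diagonal_universallyClosed {X Y : Scheme.{u}} (g : X ⟶ Y) :
    IsSeparated g ↔ UniversallyClosed (pullback.diagonal g) := by
  constructor
  · intro h
    infer_instance
  · intro h
    have hc : IsClosed (Set.range (pullback.diagonal g).base) :=
      (pullback.diagonal g).isClosedMap.isClosed_range
    exact ⟨IsClosedImmersion.of_isPreimmersion _ hc⟩

lemma isSeparated_eq_diagonal_universallyClosed :
    @IsSeparated = MorphismProperty.diagonal.{u} @UniversallyClosed := by
  ext X Y g
  exact isSeparated_iff_diagonal_universallyClosed g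

instance isSeparated_descendsAlong : DescendsAlong @IsSeparated fpqc.{u} := by
  rw [isSeparated_eq_diagonal_universallyClosed]
  infer_instance

section desc

variable {X S : Scheme.{u}} {p : X ⟶ S}

lemma hom_inv_left {D D' : SchDD p} (θ : D ≅ D') : θ.hom.hom.left ≫ θ.inv.hom.left = 𝟙 _ :=
  congrArg (fun f => f.hom.left) θ.hom_inv_id

lemma inv_hom_left {D D' : SchDD p} (θ : D ≅ D') : θ.inv.hom.left ≫ θ.hom.hom.left = 𝟙 _ :=
  congrArg (fun f => f.hom.left) θ.inv_hom_id

lemma isIso_hom_left {D D' : SchDD p} (θ : D ≅ D') : IsIso θ.hom.hom.left :=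
  ⟨⟨θ.inv.hom.left, hom_inv_left θ, inv_hom_left θ⟩⟩

/-- A property which descends along fpqc covers passes from the underlying scheme of an effective
descent datum to the descended scheme. -/
theorem of_iso_toDD (P : MorphismProperty Scheme.{u}) [P.RespectsIso] [P.DescendsAlong fpqc.{u}]
    [Surjective p] [Flat p] [QuasiCompact p] {D : SchDD p} {U : Over S}
    (θ : (toDD p).obj U ≅ D) (hD : P D.obj.hom) : P U.hom := by
  have hpb : IsPullback (pullback.fst p U.hom) (pullback.snd p U.hom) p U.hom :=
    IsPullback.of_hasPullback _ _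
  refine of_isPullback_of_descendsAlong (P := P) (Q := fpqc.{u}) hpb ⟨⟨‹_›, ‹_›⟩, ‹_›⟩ ?_
  have hw : θ.hom.hom.left ≫ D.obj.hom = pullback.fst p U.hom := Over.w θ.hom.hom
  rw [← hw]
  haveI : IsIso (θ.hom.hom.left : pullback p U.hom ⟶ D.obj.left) := isIso_hom_left θ
  exact (P.cancel_left_of_respectsIso (θ.hom.hom.left : pullback p U.hom ⟶ D.obj.left)
    D.obj.hom).2 hD

end desc

end Groth.Agent.Lib.Helper5.DescProps
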