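import Groth.Agent.Lib.Helper5.A1Formal
import Groth.Agent.Lib.Helper5.GmFlat
import Mathlib.AlgebraicGeometry.Sites.Fpqc
import Mathlib.AlgebraicGeometry.Gluing

set_option autoImplicit false

universe u

open CategoryTheory CategoryTheory.Limits MonoidalCategory CartesianMonoidalCategory MonObj AlgebraicGeometry Opposite
open Magnet

noncomputable section

namespace Groth.Agent.Lib.Helper5.A1Attr

open Groth.Agent.Lib.Helper5.A1Pts Groth.Agent.Lib.Helper5.A1Coord Groth.Agent.Lib.Helper5.A1Formal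

/-- The largest open on which two morphisms agree. -/
def eqOpen {Z X : Scheme.{u}} (f g : Z ⟶ X) : Z.Opens := sSup {U | U.ι ≫ f = U.ι ≫ g}

theorem le_eqOpen {Z X : Scheme.{u}} {f g : Z ⟶ X} {U : Z.Opens} (h : U.ι ≫ f = U.ι ≫ g) :
    U ≤ eqOpen f g := le_sSup h

theorem eqOpen_ι {Z X : Scheme.{u}} (f g : Z ⟶ X) : (eqOpen f g).ι ≫ f = (eqOpen f g).ι ≫ g := by
  apply Scheme.hom_ext_of_forall
  intro x
  have hx : x.1 ∈ eqOpen f g := x.2
  obtain ⟨U₀, hU, hxU⟩ := TopologicalSpace.Opens.mem_sSup.mp hx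
  let U : Z.Opens := U₀
  have hU : U.ι ≫ f = U.ι ≫ g := hU
  refine ⟨(eqOpen f g).ι ⁻¹ᵁ U, hxU, ?_⟩
  have hr : Set.range (((eqOpen f g).ι ⁻¹ᵁ U).ι ≫ (eqOpen f g).ι).base ⊆ Set.range U.ι.base := by
    rintro _ ⟨y, rfl⟩
    rw [Scheme.Opens.range_ι]
    exact y.2
  have hfac := IsOpenImmersion.lift_fac U.ι (((eqOpen f g).ι ⁻¹ᵁ U).ι ≫ (eqOpen f g).ι) hr
  rw [← Category.assoc, ← hfac, Category.assoc, hU, ← Category.assoc, hfac, Category.assoc]

variable {S : Scheme.{u}}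

/-- Group actions are cancellable. -/
theorem act_cancel {G X : Over S} [GrpObj G] (a : AlgGrp.Action G X) {T : Over S} (g : T ⟶ G) (x x' : T ⟶ X)
    (h : lift g x ≫ a.act = lift g x' ≫ a.act) : x = x' := by
  have key : ∀ y : T ⟶ X, lift g⁻¹ (lift g y ≫ a.act) ≫ a.act = y := by
    intro y
    have h1 := (MonAct.ofAction a).lift_mul_act g⁻¹ g y
    rw [inv_mul_cancel, (MonAct.ofAction a).lift_one_act] at h1
    exact h1.symm
  rw [← key x, h, key x']

/-- abbreviation: the action of `G_m` on `𝔸¹ × Y`. -/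
abbrev actGm (Y : Over S) : MonAct (AMonS S ℤ) ((A : Over S) ⊗ Y) :=
  (subAct S ℤ NN).prod (MonAct.trivial (AMonS S ℤ) Y)

theorem lift_actGm {Y T : Over S} (g : T ⟶ AMonS S ℤ) (m : T ⟶ (A : Over S)) (y : T ⟶ Y) :
    lift g (lift m y) ≫ (actGm Y).act = lift ((g ≫ AMonS.map S NN.subtype) * m) y := by
  rw [MonAct.lift_prod_act, MonAct.lift_trivial_act, subAct, MonAct.lift_restrict_act,
    MonAct.lift_regular_act]

/-- Propagation: the two maps agree after pulling back along `ψ : P → 𝔸¹ × Y`. -/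
theorem comp_eq_of_eqOpen {X Y : Over S} (a : AlgGrp.Action (Red.Gm S) X)
    (φ₁ φ₂ : (A : Over S) ⊗ Y ⟶ X)
    (hφ₁ : MonAct.IsEquivariant (actGm Y) (MonAct.ofAction a) φ₁)
    (hφ₂ : MonAct.IsEquivariant (actGm Y) (MonAct.ofAction a) φ₂) :
    ((actGm Y).act.left ⁻¹ᵁ eqOpen φ₁.left φ₂.left).ι ≫ (snd (AMonS S ℤ) ((A : Over S) ⊗ Y)).left ≫ φ₁.left =
      ((actGm Y).act.left ⁻¹ᵁ eqOpen φ₁.left φ₂.left).ι ≫ (snd (AMonS S ℤ) ((A : Over S) ⊗ Y)).left ≫ φ₂.left := by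
  set W := eqOpen φ₁.left φ₂.left with hW
  set P := (actGm Y).act.left ⁻¹ᵁ W with hP
  let Pₒ : Over S := Over.mk (P.ι ≫ (AMonS S ℤ ⊗ ((A : Over S) ⊗ Y)).hom)
  let ιP : Pₒ ⟶ AMonS S ℤ ⊗ ((A : Over S) ⊗ Y) := Over.homMk P.ι rfl
  have h1 : (ιP ≫ (actGm Y).act).left ≫ φ₁.left = (ιP ≫ (actGm Y).act).left ≫ φ₂.left := by
    have h0 : (ιP ≫ (actGm Y).act).left = ((actGm Y).act.left ∣_ W) ≫ W.ι := by
      rw [morphismRestrict_ι]; rfl
    rw [h0, Category.assoc, Category.assoc, eqOpen_ι]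
  have h2 : ιP ≫ (actGm Y).act ≫ φ₁ = ιP ≫ (actGm Y).act ≫ φ₂ := by
    ext1
    simpa using h1
  rw [hφ₁, hφ₂] at h2
  let g := ιP ≫ fst _ _
  let zP := ιP ≫ snd _ _
  have hι : ιP = lift g zP := (lift_comp_fst_snd ιP).symm
  rw [hι, lift_whiskerLeft_assoc, lift_whiskerLeft_assoc] at h2
  have h3 : zP ≫ φ₁ = zP ≫ φ₂ := act_cancel a g _ _ h2
  have h4 := congrArg (fun f => f.left) h3
  simpa [zP, ιP] using h4

/-- A `G_m`-stable open neighbourhood of the zero section of `𝔸¹ × Y` is everything (in the form: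
the map `P → 𝔸¹ × Y`, `(g, z) ↦ z` on `P = {(g, z) | g • z ∈ W}`, is surjective). -/
theorem surjective_of_zeroLocus_le {Y : Over S} (W : ((A : Over S) ⊗ Y).left.Opens)
    (hW : ∀ z, z ∉ ((A : Over S) ⊗ Y).left.basicOpen (aFn (fst (A : Over S) Y)) → z ∈ W) :
    Surjective (((actGm Y).act.left ⁻¹ᵁ W).ι ≫ (snd (AMonS S ℤ) ((A : Over S) ⊗ Y)).left) := by
  refine ⟨fun z₀ => ?_⟩
  let Z : Over S := (A : Over S) ⊗ Y
  let κ : CommRingCat.{u} := Z.left.residueField z₀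
  let ι₀ : Spec κ ⟶ Z.left := Z.left.fromSpecResidueField z₀
  let Pκ : CommRingCat.{u} := CommRingCat.of (Polynomial κ)
  let cκ : Spec Pκ ⟶ Spec κ := Spec.map (CommRingCat.ofHom (Polynomial.C : (κ : Type u) →+* Polynomial κ))
  let Lₒ : Over S := Over.mk (cκ ≫ ι₀ ≫ Z.hom)
  let zL : Lₒ ⟶ Z := Over.homMk (cκ ≫ ι₀) (by simp [Lₒ])
  let xL : Γ(Lₒ.left, ⊤) := (Scheme.ΓSpecIso Pκ).inv (Polynomial.X : Polynomial κ)
  let mL : Lₒ ⟶ (A : Over S) := ptOfFn xL
  let actA : MonAct (A : Over S) Z := (MonAct.regular (A : Over S)).prod (MonAct.trivial (A : Over S) Y)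
  let lam : Lₒ ⟶ Z := lift mL zL ≫ actA.act
  have hlam : lam = lift (mL * (zL ≫ fst _ _)) (zL ≫ snd _ _) := by
    have hz : zL = lift (zL ≫ fst _ _) (zL ≫ snd _ _) := (lift_comp_fst_snd zL).symm
    change lift mL zL ≫ actA.act = _
    rw [hz, MonAct.lift_prod_act, MonAct.lift_trivial_act, MonAct.lift_regular_act]
    simp
  -- the origin of the line
  let o : Spec Pκ := ⟨Ideal.span {(Polynomial.X : Polynomial κ)}, by
    rw [Ideal.span_singleton_prime Polynomial.X_ne_zero]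
    exact Polynomial.prime_X⟩
  have ho : lam.left.base o ∈ W := by
    apply hW
    intro hcon
    have h1 : o ∈ lam.left ⁻¹ᵁ (Z.left.basicOpen (aFn (fst (A : Over S) Y))) := hcon
    rw [Scheme.preimage_basicOpen_top, ← aFn_comp, hlam, lift_fst, aFn_mul, aFn_ptOfFn,
      Scheme.basicOpen_mul] at h1
    have h2 : o ∈ (Spec Pκ).basicOpen xL := h1.1
    rw [basicOpen_eq_of_affine] at h2
    exact h2 (Ideal.subset_span rfl)
  -- the generic point
  let η₀ : Spec Pκ := ⟨⊥, Ideal.isPrime_bot⟩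
  have hη₀ : lam.left.base η₀ ∈ W := by
    have hsp : η₀ ⤳ o := (PrimeSpectrum.le_iff_specializes η₀ o).mp bot_le
    exact hsp.mem_open (lam.left ⁻¹ᵁ W).2 ho
  -- the function field
  let K := FractionRing (Polynomial κ)
  let KK : CommRingCat.{u} := CommRingCat.of K
  let ηK : Spec KK ⟶ Spec Pκ := Spec.map (CommRingCat.ofHom (algebraMap (Polynomial κ) K))
  let pt : Spec KK := ⟨⊥, Ideal.isPrime_bot⟩
  have hηpt : ηK.base pt = η₀ := by
    apply PrimeSpectrum.ext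
    change Ideal.comap (algebraMap (Polynomial κ) K) ⊥ = ⊥
    exact Ideal.comap_bot_of_injective _ (IsFractionRing.injective _ _)
  let T : Over S := Over.mk (ηK ≫ Lₒ.hom)
  let ηO : T ⟶ Lₒ := Over.homMk ηK rfl
  have hunit : IsUnit (ηO.left.appTop (aFn mL)) := by
    rw [aFn_ptOfFn]
    change IsUnit ((Spec.map (CommRingCat.ofHom (algebraMap (Polynomial κ) K))).appTop
      ((Scheme.ΓSpecIso Pκ).inv Polynomial.X))
    have h2 := congrArg (fun ψ => (ConcreteCategory.hom ψ) (Polynomial.X : Polynomial κ))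
      (Scheme.ΓSpecIso_inv_naturality (CommRingCat.ofHom (algebraMap (Polynomial κ) K)))
    change (Scheme.ΓSpecIso KK).inv (algebraMap (Polynomial κ) K Polynomial.X) =
      (Spec.map (CommRingCat.ofHom (algebraMap (Polynomial κ) K))).appTop
        ((Scheme.ΓSpecIso Pκ).inv Polynomial.X) at h2
    rw [← h2]
    apply IsUnit.map
    rw [isUnit_iff_ne_zero]
    intro h0
    exact Polynomial.X_ne_zero ((IsFractionRing.injective (Polynomial κ) K) (h0.trans (map_zero _).symm))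
  let gK : T ⟶ Red.Gm S := GmPts.ptOfUnit hunit.unit
  let zK : T ⟶ Z := ηO ≫ zL
  let p : T ⟶ AMonS S ℤ ⊗ Z := lift gK zK
  have hgK : gK ≫ AMonS.map S NN.subtype = ηO ≫ mL := by
    apply aFn_injective
    rw [aFn_map_subtype, GmPts.gmFn_ptOfUnit, aFn_comp]
    rfl
  have hA : p ≫ (actGm Y).act = ηO ≫ lam := by
    have hz : zK = lift (zK ≫ fst _ _) (zK ≫ snd _ _) := (lift_comp_fst_snd zK).symm
    change lift gK zK ≫ (actGm Y).act = _
    rw [hz, lift_actGm, hlam, comp_lift, hgK]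
    congr 1
    rw [MonObj.comp_mul]
    simp [zK]
  have hB : p.left.base pt ∈ (actGm Y).act.left ⁻¹ᵁ W := by
    change (actGm Y).act.left.base (p.left.base pt) ∈ W
    have h1 : (actGm Y).act.left.base (p.left.base pt) = lam.left.base (ηK.base pt) := by
      have := congrArg (fun f => f.left.base pt) hA
      exact this
    rw [h1, hηpt]
    exact hη₀
  refine ⟨⟨p.left.base pt, hB⟩, ?_⟩
  change (snd (AMonS S ℤ) Z).left.base (p.left.base pt) = z₀
  have h2 : (snd (AMonS S ℤ) Z).left.base (p.left.base pt) = ι₀.base (cκ.base (ηK.base pt)) := by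
    have h3 : p ≫ snd _ _ = zK := lift_snd _ _
    have := congrArg (fun f => f.left.base pt) h3
    simpa [zK, zL, ηO] using this
  rw [h2]
  exact Scheme.fromSpecResidueField_apply _ _

open Groth.Agent.Lib.Helper5.GmFlat in
/-- Two `G_m`-equivariant maps `𝔸¹ × Y → X` agreeing on all nilpotent points are equal. -/
theorem attr_ext {X Y : Over S} (a : AlgGrp.Action (Red.Gm S) X)
    (φ₁ φ₂ : (A : Over S) ⊗ Y ⟶ X)
    (hφ₁ : MonAct.IsEquivariant (actGm Y) (MonAct.ofAction a) φ₁)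
    (hφ₂ : MonAct.IsEquivariant (actGm Y) (MonAct.ofAction a) φ₂)
    (h : ∀ (T : Over S) (m : T ⟶ (A : Over S)) (y : T ⟶ Y) (n : ℕ), aFn m ^ (n + 1) = 0 →
      lift m y ≫ φ₁ = lift m y ≫ φ₂) :
    φ₁ = φ₂ := by
  let W := eqOpen φ₁.left φ₂.left
  have hW : ∀ z, z ∉ ((A : Over S) ⊗ Y).left.basicOpen (aFn (fst (A : Over S) Y)) → z ∈ W := by
    intro z hz
    obtain ⟨U, hzU, hU⟩ := exists_opens_of_nilpotent_agree φ₁ φ₂ h z hz
    exact le_eqOpen hU hzU
  let ψ := ((actGm Y).act.left ⁻¹ᵁ W).ι ≫ (snd (AMonS S ℤ) ((A : Over S) ⊗ Y)).left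
  have hsurj : Surjective ψ := surjective_of_zeroLocus_le W hW
  have hflat0 : Flat (snd (AMonS S ℤ) ((A : Over S) ⊗ Y)).left := by
    change Flat (pullback.snd (Red.Gm S).hom ((A : Over S) ⊗ Y).hom)
    infer_instance
  have hlfp0 : LocallyOfFinitePresentation (snd (AMonS S ℤ) ((A : Over S) ⊗ Y)).left := by
    change LocallyOfFinitePresentation (pullback.snd (Red.Gm S).hom ((A : Over S) ⊗ Y).hom)
    infer_instance
  have hflat : Flat ψ := inferInstance
  have hlfp : LocallyOfFinitePresentation ψ := inferInstance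
  have hepi : Epi ψ := inferInstance
  have hψ : ψ ≫ φ₁.left = ψ ≫ φ₂.left := by
    simpa [ψ] using comp_eq_of_eqOpen a φ₁ φ₂ hφ₁ hφ₂
  ext1
  exact (cancel_epi ψ).mp hψ

end Groth.Agent.Lib.Helper5.A1Attr
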