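import Mathlib.AlgebraicGeometry.AffineScheme
import Mathlib.AlgebraicGeometry.Restrict
import Mathlib.RingTheory.PowerSeries.Inverse
import Mathlib.RingTheory.Localization.Away.Basic
import Mathlib.RingTheory.Spectrum.Prime.RingHom
import Mathlib.RingTheory.Polynomial.Basic

set_option autoImplicit false
universe u
open Polynomial

namespace Groth.Agent.Lib.Helper5.A1Local

/-- Key algebra: in `B[X]` localized at `f' = C (f 0) * f`, the intersection of the `(X^n)` is zero. -/
theorem eq_zero_of_forall_X_pow_dvd {B : Type u} [CommRing B] (f : B[X])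
    {C' : Type u} [CommRing C'] [Algebra B[X] C'] [IsLocalization.Away (C (f.coeff 0) * f) C']
    (x : C') (hx : ∀ n : ℕ, algebraMap B[X] C' (X ^ n) ∣ x) : x = 0 := by
  set f₀ := f.coeff 0 with hf₀
  set f' := C f₀ * f with hf'
  let B' := Localization.Away f₀
  let φ : B[X] →+* PowerSeries B' :=
    (Polynomial.coeToPowerSeries.ringHom).comp (Polynomial.mapRingHom (algebraMap B B'))
  have hφu : IsUnit (φ f') := by
    rw [PowerSeries.isUnit_iff_constantCoeff]
    have : PowerSeries.constantCoeff (φ f') = algebraMap B B' (f₀ * f₀) := by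
      change PowerSeries.constantCoeff ((f'.map (algebraMap B B') : B'[X]) : PowerSeries B') = _
      rw [← PowerSeries.coeff_zero_eq_constantCoeff_apply, Polynomial.coeff_coe, Polynomial.coeff_map,
        hf', Polynomial.mul_coeff_zero, Polynomial.coeff_C_zero]
    rw [this, map_mul]
    have h1 : IsUnit (algebraMap B B' f₀) := IsLocalization.Away.algebraMap_isUnit f₀
    exact h1.mul h1
  let φ' : C' →+* PowerSeries B' := IsLocalization.Away.lift f' hφu
  have hφ' : ∀ g : B[X], φ' (algebraMap B[X] C' g) = φ g := fun g => IsLocalization.Away.lift_eq f' hφu g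
  -- φ' x = 0
  have h0 : φ' x = 0 := by
    ext n
    have h1 : (PowerSeries.X : PowerSeries B') ^ (n + 1) ∣ φ' x := by
      obtain ⟨y, hy⟩ := hx (n + 1)
      refine ⟨φ' y, ?_⟩
      rw [hy, map_mul, hφ']
      congr 1
      simp [φ]
    rw [PowerSeries.X_pow_dvd_iff] at h1
    simpa using h1 n (Nat.lt_succ_self n)
  -- write x as fraction
  obtain ⟨⟨g, s⟩, hgs⟩ := IsLocalization.surj (Submonoid.powers f') x
  have hsu : IsUnit (algebraMap B[X] C' s) := IsLocalization.map_units C' s
  have hg0 : φ g = 0 := by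
    rw [← hφ', ← hgs, map_mul, h0, zero_mul]
  have hg1 : g.map (algebraMap B B') = 0 := by
    have : ((g.map (algebraMap B B') : B'[X]) : PowerSeries B') = 0 := hg0
    exact_mod_cast this
  -- each coefficient is killed by a power of f₀
  have hcoef : ∀ i, ∃ N : ℕ, f₀ ^ N * g.coeff i = 0 := by
    intro i
    have h1 : algebraMap B B' (g.coeff i) = 0 := by
      have := congrArg (fun p => p.coeff i) hg1
      simpa using this
    rw [IsLocalization.map_eq_zero_iff (Submonoid.powers f₀)] at h1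
    obtain ⟨⟨_, N, rfl⟩, hN⟩ := h1
    exact ⟨N, hN⟩
  choose Nf hNf using hcoef
  let N := g.support.sup Nf
  have hN : C (f₀ ^ N) * g = 0 := by
    ext i
    rw [coeff_C_mul, coeff_zero]
    by_cases hi : i ∈ g.support
    · have hle : Nf i ≤ N := Finset.le_sup hi
      obtain ⟨d, hd⟩ := Nat.exists_eq_add_of_le hle
      rw [hd, pow_add, mul_comm (f₀ ^ Nf i), mul_assoc, hNf, mul_zero]
    · rw [notMem_support_iff.mp hi, mul_zero]
  have hN' : f' ^ N * g = 0 := by
    rw [hf', mul_pow, ← C_pow, mul_comm (C (f₀ ^ N)), mul_assoc, hN, mul_zero]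
  have hfu : IsUnit (algebraMap B[X] C' f') := IsLocalization.Away.algebraMap_isUnit f'
  have hg2 : algebraMap B[X] C' g = 0 := by
    have := congrArg (algebraMap B[X] C') hN'
    rw [map_mul, map_zero, map_pow] at this
    exact ((hfu.pow N).mul_right_eq_zero).mp this
  rw [hg2] at hgs
  exact (hsu.mul_left_eq_zero).mp hgs

open AlgebraicGeometry CategoryTheory

/-- Two morphisms out of `𝔸¹_B = Spec B[X]` agreeing on all infinitesimal neighbourhoods of `X = 0`
agree on an open neighbourhood of every point of `V(X)`. -/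
theorem exists_opens_comp_eq {B : Type u} [CommRing B] {Y : Scheme.{u}}
    (γ₁ γ₂ : Spec (CommRingCat.of B[X]) ⟶ Y)
    (h : ∀ (R : CommRingCat.{u}) (p : CommRingCat.of B[X] ⟶ R) (n : ℕ),
      p.hom (Polynomial.X) ^ (n + 1) = 0 → Spec.map p ≫ γ₁ = Spec.map p ≫ γ₂)
    (z : Spec (CommRingCat.of B[X])) (hz : (Polynomial.X : B[X]) ∈ z.asIdeal) :
    ∃ U : (Spec (CommRingCat.of B[X])).Opens, z ∈ U ∧ U.ι ≫ γ₁ = U.ι ≫ γ₂ := by
  -- Step 1: the two maps agree at the point z
  have hpt : γ₁.base z = γ₂.base z := by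
    let p₀ : CommRingCat.of B[X] ⟶ CommRingCat.of (B[X] ⧸ Ideal.span {(X : B[X])}) :=
      CommRingCat.ofHom (Ideal.Quotient.mk _)
    have h₀ := h _ p₀ 0 (by
      change (Ideal.Quotient.mk _ X) ^ (0 + 1) = 0
      rw [zero_add, pow_one]
      exact Ideal.Quotient.eq_zero_iff_mem.mpr (Ideal.subset_span rfl))
    have hzr : z ∈ Set.range (Spec.map p₀).base := by
      have := range_comap_of_surjective (B[X] ⧸ Ideal.span {(X : B[X])})
        (Ideal.Quotient.mk (Ideal.span {(X : B[X])})) Ideal.Quotient.mk_surjective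
      change z ∈ Set.range (PrimeSpectrum.comap (Ideal.Quotient.mk (Ideal.span {(X : B[X])})))
      rw [this, Ideal.mk_ker]
      intro y hy
      obtain ⟨a, rfl⟩ := Ideal.mem_span_singleton'.mp hy
      exact z.asIdeal.mul_mem_left _ hz
    obtain ⟨z', rfl⟩ := hzr
    have := congrArg (fun f => f.base z') h₀
    simpa using this
  -- Step 2: affine open around the image
  obtain ⟨_, ⟨U₀, hU, rfl⟩, hzU, -⟩ :=
    Y.isBasis_affineOpens.exists_subset_of_mem_open (Set.mem_univ (γ₁.base z)) isOpen_univ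
  let U : Y.Opens := U₀
  -- Step 3: basic open in the preimage
  let O : (Spec (CommRingCat.of B[X])).Opens := γ₁ ⁻¹ᵁ U ⊓ γ₂ ⁻¹ᵁ U
  have hzO : z ∈ O := ⟨hzU, by change γ₂.base z ∈ U; rw [← hpt]; exact hzU⟩
  obtain ⟨_, ⟨_, ⟨f, rfl⟩, rfl⟩, hzf, hfO⟩ :=
    PrimeSpectrum.isBasis_basic_opens.exists_subset_of_mem_open hzO O.2
  set f₀ := f.coeff 0 with hf₀
  set f' := C f₀ * f with hf'
  have hfz : f ∉ z.asIdeal := hzf
  have hf'z : f' ∉ z.asIdeal := by
    intro hmem
    rcases z.isPrime.mem_or_mem hmem with h1 | h1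
    · apply hfz
      have h2 : f - C f₀ ∈ z.asIdeal := by
        have : (X : B[X]) ∣ f - C f₀ := by
          rw [Polynomial.X_dvd_iff]
          simp [hf₀]
        obtain ⟨a, ha⟩ := this
        rw [ha]
        exact z.asIdeal.mul_mem_right _ hz
      have := z.asIdeal.add_mem h2 h1
      simpa using this
    · exact hfz h1
  let C' := Localization.Away f'
  let ι' : Spec (CommRingCat.of C') ⟶ Spec (CommRingCat.of B[X]) :=
    Spec.map (CommRingCat.ofHom (algebraMap B[X] C'))
  have hι'r : ι'.opensRange = PrimeSpectrum.basicOpen f' :=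
    Scheme.Hom.opensRange_localizationAway (R := CommRingCat.of B[X]) f'
  have hle : (PrimeSpectrum.basicOpen f' : Set (PrimeSpectrum B[X])) ⊆ O.1 := by
    refine subset_trans ?_ hfO
    intro w hw
    change f ∉ w.asIdeal
    intro hfw
    exact hw (w.asIdeal.mul_mem_left _ hfw)
  have hr : ∀ w, ι'.base w ∈ O := by
    intro w
    apply hle
    have : ι'.base w ∈ ι'.opensRange := ⟨w, rfl⟩
    rw [hι'r] at this
    exact this
  have hr1 : Set.range (ι' ≫ γ₁).base ⊆ Set.range U.ι.base := by
    rintro _ ⟨w, rfl⟩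
    rw [Scheme.Opens.range_ι]
    exact (hr w).1
  have hr2 : Set.range (ι' ≫ γ₂).base ⊆ Set.range U.ι.base := by
    rintro _ ⟨w, rfl⟩
    rw [Scheme.Opens.range_ι]
    exact (hr w).2
  let δ₁ := IsOpenImmersion.lift U.ι (ι' ≫ γ₁) hr1
  let δ₂ := IsOpenImmersion.lift U.ι (ι' ≫ γ₂) hr2
  have hδ₁ : δ₁ ≫ U.ι = ι' ≫ γ₁ := IsOpenImmersion.lift_fac _ _ _
  have hδ₂ : δ₂ ≫ U.ι = ι' ≫ γ₂ := IsOpenImmersion.lift_fac _ _ _
  haveI : IsAffine U.toScheme := hU
  have hδ : δ₁ = δ₂ := by
    apply ext_of_isAffine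
    ext r
    -- the difference
    let d : Γ(Spec (CommRingCat.of C'), ⊤) := δ₁.appTop r - δ₂.appTop r
    let d' : C' := (Scheme.ΓSpecIso (CommRingCat.of C')).hom d
    have hd' : d' = 0 := by
      apply eq_zero_of_forall_X_pow_dvd f d'
      intro n
      -- it suffices for n+1
      suffices hsuff : algebraMap B[X] C' (X ^ (n + 1)) ∣ d' by
        refine dvd_trans ?_ hsuff
        rw [pow_succ, map_mul]
        exact dvd_mul_right _ _
      let I : Ideal C' := Ideal.span {algebraMap B[X] C' (X ^ (n + 1))}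
      let q : CommRingCat.of C' ⟶ CommRingCat.of (C' ⧸ I) := CommRingCat.ofHom (Ideal.Quotient.mk I)
      have hq := h _ (CommRingCat.ofHom (algebraMap B[X] C') ≫ q) n (by
        change (Ideal.Quotient.mk I (algebraMap B[X] C' X)) ^ (n + 1) = 0
        rw [← map_pow, ← map_pow]
        exact Ideal.Quotient.eq_zero_iff_mem.mpr (Ideal.subset_span rfl))
      rw [Spec.map_comp, Category.assoc, Category.assoc] at hq
      change Spec.map q ≫ ι' ≫ γ₁ = Spec.map q ≫ ι' ≫ γ₂ at hq
      rw [← hδ₁, ← hδ₂, ← Category.assoc, ← Category.assoc, cancel_mono] at hq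
      have h1 : (Spec.map q).appTop d = 0 := by
        have h2 := congrArg (fun g => g.appTop r) hq
        simp only [Scheme.Hom.comp_appTop, CommRingCat.comp_apply] at h2
        change (Spec.map q).appTop (δ₁.appTop r - δ₂.appTop r) = 0
        rw [map_sub, h2, sub_self]
      have h3 : q.hom d' = 0 := by
        have h4 := congrArg (fun g => g.hom d) (Scheme.ΓSpecIso_naturality q)
        simp only [CommRingCat.comp_apply] at h4
        change (Scheme.ΓSpecIso _).hom ((Spec.map q).appTop d) = q.hom d' at h4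
        rw [← h4, h1, map_zero]
      have h5 : d' ∈ I := Ideal.Quotient.eq_zero_iff_mem.mp h3
      exact Ideal.mem_span_singleton.mp h5
    have hd : d = 0 := by
      have : (Scheme.ΓSpecIso (CommRingCat.of C')).hom d = 0 := hd'
      have h6 := congrArg (Scheme.ΓSpecIso (CommRingCat.of C')).inv this
      simpa using h6
    exact sub_eq_zero.mp hd
  have hι' : ι' ≫ γ₁ = ι' ≫ γ₂ := by rw [← hδ₁, ← hδ₂, hδ]
  refine ⟨ι'.opensRange, ?_, ?_⟩
  · rw [hι'r]
    exact hf'z
  · rw [← cancel_epi ι'.isoOpensRange.hom, ← Category.assoc, ← Category.assoc,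
      Scheme.Hom.isoOpensRange_hom_ι]
    exact hι'

end Groth.Agent.Lib.Helper5.A1Local
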