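import Groth.Prelude.Def_Magnet2
import Mathlib.AlgebraicGeometry.PullbackCarrier
import Mathlib.AlgebraicGeometry.ResidueField

/-! # Auxiliary lemmas for monoid actions on schemes over a base -/

set_option autoImplicit false
universe u

open CategoryTheory MonoidalCategory CartesianMonoidalCategory MonObj AlgebraicGeometry Opposite
  CategoryTheory.Limits

namespace Groth.Agent.Lib.Helper5

/-- In a cartesian monoidal category, `A ◁ f` is the base change of `f` along the projection. -/
lemma isPullback_whiskerLeft_snd {C : Type*} [Category C] [CartesianMonoidalCategory C] (A : C)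
    {X Y : C} (f : X ⟶ Y) : IsPullback (A ◁ f) (snd A X) (snd A Y) f := by
  refine ⟨⟨by simp⟩, ⟨PullbackCone.IsLimit.mk _ (fun s => lift (s.fst ≫ fst A Y) s.snd) ?_ ?_ ?_⟩⟩
  · intro s
    apply CartesianMonoidalCategory.hom_ext
    · simp
    · simp only [Category.assoc, whiskerLeft_snd, lift_snd_assoc]
      exact s.condition.symm
  · intro s
    simp
  · intro s m h1 h2
    apply CartesianMonoidalCategory.hom_ext
    · rw [lift_fst, ← h1, Category.assoc, whiskerLeft_fst]
    · rw [lift_snd, h2]

/-- Range of the first projection of a pullback square of schemes. -/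
lemma range_fst_of_isPullback' {P X Y Z : Scheme.{u}} {fst : P ⟶ X} {snd : P ⟶ Y} {f : X ⟶ Z}
    {g : Y ⟶ Z} (h : IsPullback fst snd f g) : Set.range fst = f ⁻¹' Set.range g := by
  rw [← Scheme.Pullback.range_fst, ← h.isoPullback_hom_fst]
  simp only [Scheme.Hom.comp_base, TopCat.coe_comp]
  rw [Set.range_comp, Set.range_eq_univ.mpr, Set.image_univ]
  exact (h.isoPullback.hom.homeomorph).surjective

variable {S : Scheme.{u}}

/-- Points of `A ⊗ Y` lying over the image of `f : X ⟶ Y` come from `A ⊗ X`. -/
lemma exists_whiskerLeft_left_eq (A : Over S) {X Y : Over S} (f : X ⟶ Y) (p : (A ⊗ Y).left)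
    (hp : (snd A Y).left p ∈ Set.range f.left) : ∃ p' : (A ⊗ X).left, (A ◁ f).left p' = p := by
  have h := (isPullback_whiskerLeft_snd A f).map (Over.forget S)
  have hr := range_fst_of_isPullback' h
  have : p ∈ Set.range (A ◁ f).left := by
    change p ∈ Set.range ((Over.forget S).map (A ◁ f))
    rw [hr]
    exact hp
  exact this

end Groth.Agent.Lib.Helper5
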