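import Groth.Agent.Lib.Helper5.A1Coord
import Groth.Agent.Lib.Helper5.A1Local
import Groth.Agent.Lib.Helper5.MagnetAux
import Mathlib.AlgebraicGeometry.Morphisms.OpenImmersion

set_option autoImplicit false

universe u

open CategoryTheory CategoryTheory.Limits MonoidalCategory CartesianMonoidalCategory MonObj AlgebraicGeometry Opposite
open Magnet

noncomputable section

namespace Groth.Agent.Lib.Helper5.A1Formal

open Groth.Agent.Lib.Helper5.A1Pts Groth.Agent.Lib.Helper5.A1Coord Groth.Agent.Lib.Helper5.A1Local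

variable {S : Scheme.{u}}

/-- Two morphisms out of `𝔸¹ × Y` agreeing on all nilpotent points agree on an open neighbourhood of
the zero section. -/
theorem exists_opens_of_nilpotent_agree {Y X : Over S} (φ₁ φ₂ : (A : Over S) ⊗ Y ⟶ X)
    (h : ∀ (T : Over S) (m : T ⟶ (A : Over S)) (y : T ⟶ Y) (n : ℕ), aFn m ^ (n + 1) = 0 →
      lift m y ≫ φ₁ = lift m y ≫ φ₂)
    (z : ((A : Over S) ⊗ Y).left)
    (hz : z ∉ ((A : Over S) ⊗ Y).left.basicOpen (aFn (fst (A : Over S) Y))) :
    ∃ U : ((A : Over S) ⊗ Y).left.Opens, z ∈ U ∧ U.ι ≫ φ₁.left = U.ι ≫ φ₂.left := by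
  let y₀ := (snd (A : Over S) Y).left.base z
  obtain ⟨_, ⟨V₀, hV, rfl⟩, hyV, -⟩ :=
    Y.left.isBasis_affineOpens.exists_subset_of_mem_open (Set.mem_univ y₀) isOpen_univ
  let V : Y.left.Opens := V₀
  have hV' : IsAffineOpen V := hV
  let B : CommRingCat.{u} := Γ(Y.left, V)
  let τ : Spec B ⟶ S := hV'.fromSpec ≫ Y.hom
  let j : T B τ ⟶ Y := Over.homMk hV'.fromSpec rfl
  have hy₀ : (snd (A : Over S) Y).left.base z ∈ Set.range j.left.base := by
    change y₀ ∈ Set.range hV'.fromSpec.base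
    rw [hV'.range_fromSpec]
    exact hyV
  obtain ⟨z₁, hz₁⟩ := exists_whiskerLeft_left_eq (A : Over S) j z hy₀
  obtain ⟨z', hz'⟩ : ∃ z', (e₀ B τ).left.base z' = z₁ :=
    (e₀ B τ).left.homeomorph.surjective z₁
  have hoi : IsOpenImmersion ((A : Over S) ◁ j).left := by
    have hsq := ((isPullback_whiskerLeft_snd (A : Over S) j).map (Over.forget S)).flip
    have hj : IsOpenImmersion ((Over.forget S).map j) := by
      change IsOpenImmersion hV'.fromSpec
      infer_instance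
    exact MorphismProperty.of_isPullback (P := @IsOpenImmersion) hsq hj
  let ε : Spec (PB B) ⟶ ((A : Over S) ⊗ Y).left := (e₀ B τ).left ≫ ((A : Over S) ◁ j).left
  have hεz : ε.base z' = z := by
    change ((A : Over S) ◁ j).left.base ((e₀ B τ).left.base z') = z
    rw [hz', hz₁]
  -- pullback of the coordinate
  have hεt : ε.appTop (aFn (fst (A : Over S) Y)) = tE B τ := by
    change ((e₀ B τ).left ≫ ((A : Over S) ◁ j).left).appTop _ = _
    rw [← Over.comp_left, ← aFn_comp, Category.assoc, whiskerLeft_fst, e₀, lift_fst, aFn_mE]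
  have hXz : (Polynomial.X : Polynomial B) ∈ z'.asIdeal := by
    by_contra hcon
    apply hz
    rw [← hεz]
    change z' ∈ ε ⁻¹ᵁ (((A : Over S) ⊗ Y).left.basicOpen (aFn (fst (A : Over S) Y)))
    rw [Scheme.preimage_basicOpen_top, hεt, tE, basicOpen_eq_of_affine]
    exact hcon
  obtain ⟨U', hzU', hU'⟩ := exists_opens_comp_eq (B := B) (ε ≫ φ₁.left) (ε ≫ φ₂.left) (by
    intro R p n hp
    let WR : Over S := Over.mk (Spec.map p ≫ (E B τ).hom)
    let pO : WR ⟶ E B τ := Over.homMk (Spec.map p) rfl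
    let q : WR ⟶ (A : Over S) ⊗ Y := pO ≫ e₀ B τ ≫ ((A : Over S) ◁ j)
    have hq : q = lift (q ≫ fst _ _) (q ≫ snd _ _) := (lift_comp_fst_snd q).symm
    have hfn : aFn (q ≫ fst _ _) ^ (n + 1) = 0 := by
      have h1 : q ≫ fst _ _ = pO ≫ mE B τ := by
        change (pO ≫ e₀ B τ ≫ ((A : Over S) ◁ j)) ≫ fst _ _ = _
        rw [Category.assoc, Category.assoc, whiskerLeft_fst, e₀, lift_fst]
      rw [h1, aFn_comp, aFn_mE, tE]
      change ((Spec.map p).appTop ((Scheme.ΓSpecIso (PB B)).inv Polynomial.X)) ^ (n + 1) = 0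
      have h2 := congrArg (fun ψ => (ConcreteCategory.hom ψ) (Polynomial.X : Polynomial B))
        (Scheme.ΓSpecIso_inv_naturality p)
      change (Scheme.ΓSpecIso R).inv (p.hom Polynomial.X) =
        (Spec.map p).appTop ((Scheme.ΓSpecIso (PB B)).inv Polynomial.X) at h2
      rw [← h2, ← map_pow, hp, map_zero]
    have h3 := h WR (q ≫ fst _ _) (q ≫ snd _ _) n hfn
    rw [← hq] at h3
    have h4 := congrArg (fun f => f.left) h3
    simp only [Over.comp_left] at h4
    change Spec.map p ≫ (e₀ B τ).left ≫ ((A : Over S) ◁ j).left ≫ φ₁.left =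
      Spec.map p ≫ (e₀ B τ).left ≫ ((A : Over S) ◁ j).left ≫ φ₂.left at h4
    simpa [ε] using h4) z' hXz
  let g : U'.toScheme ⟶ ((A : Over S) ⊗ Y).left := U'.ι ≫ ε
  refine ⟨g.opensRange, ⟨⟨z', hzU'⟩, hεz⟩, ?_⟩
  rw [← cancel_epi g.isoOpensRange.hom, ← Category.assoc, ← Category.assoc,
    Scheme.Hom.isoOpensRange_hom_ι]
  change (U'.ι ≫ ε) ≫ φ₁.left = (U'.ι ≫ ε) ≫ φ₂.left
  rw [Category.assoc, Category.assoc]
  exact hU'

end Groth.Agent.Lib.Helper5.A1Formal
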