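import Groth.Agent.Lib.Helper5.AMonPts

/-!
# Points of the affine line `A(ℕ)_S`, spelled as `AMonS S ↥(AddSubmonoid.multiples (1 : ℤ))` (helper5)
-/

set_option autoImplicit false

universe u

open CategoryTheory CategoryTheory.Limits MonoidalCategory CartesianMonoidalCategory MonObj AlgebraicGeometry Opposite
open Magnet

noncomputable section

namespace Groth.Agent.Lib.Helper5.A1Pts

open Groth.Agent.Lib.Helper5.AMonPts

/-- the magnet `ℕ ⊆ ℤ`. -/
abbrev NN : AddSubmonoid ℤ := AddSubmonoid.multiples (1 : ℤ)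

/-- the generator `1` of `NN`. -/
def gen1 : ↥NN := ⟨1, AddSubmonoid.mem_multiples 1⟩

theorem nn_eq_nsmul (n : ↥NN) : ∃ k : ℕ, n = k • gen1 := by
  obtain ⟨n, hn⟩ := n
  obtain ⟨k, hk⟩ := (AddSubmonoid.mem_multiples_iff _ _).mp hn
  refine ⟨k, Subtype.ext ?_⟩
  rw [AddSubmonoidClass.coe_nsmul]
  exact hk.symm

/-- A monoid hom out of `Multiplicative NN` is determined by the image of the generator. -/
theorem monHom_ext_gen {R : Type*} [Monoid R] {φ ψ : Multiplicative ↥NN →* R}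
    (h : φ (Multiplicative.ofAdd gen1) = ψ (Multiplicative.ofAdd gen1)) : φ = ψ := by
  refine MonoidHom.ext fun n => ?_
  obtain ⟨k, hk⟩ := nn_eq_nsmul (Multiplicative.toAdd n)
  have : n = (Multiplicative.ofAdd gen1) ^ k := by
    rw [← ofAdd_nsmul, ← hk]; rfl
  rw [this, map_pow, map_pow, h]

/-- The additive iso `ℕ ≃ NN`. -/
def natEquiv : ℕ ≃+ ↥NN :=
  AddEquiv.ofBijective
    ({ toFun := fun k => k • gen1
       map_zero' := zero_smul _ _
       map_add' := fun a b => add_smul _ _ _ } : ℕ →+ ↥NN)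
    ⟨fun a b h => by
        have h' := congrArg (fun x : ↥NN => (x : ℤ)) h
        simp only [AddMonoidHom.coe_mk, ZeroHom.coe_mk, AddSubmonoidClass.coe_nsmul, gen1, smul_eq_mul,
          _root_.mul_one, nsmul_eq_mul] at h'
        exact_mod_cast h',
      fun n => by
        obtain ⟨k, hk⟩ := nn_eq_nsmul n
        exact ⟨k, hk.symm⟩⟩

theorem natEquiv_one : natEquiv 1 = gen1 := by
  change (1 : ℕ) • gen1 = gen1
  exact one_smul _ _

/-- The monoid hom `NN → (R,*)`, `n ↦ f^n`. -/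
def monHomOfElt {R : Type*} [Monoid R] (f : R) : Multiplicative ↥NN →* R :=
  (powersHom R f).comp (AddEquiv.toMultiplicative natEquiv.symm).toMonoidHom

theorem monHomOfElt_gen {R : Type*} [Monoid R] (f : R) : monHomOfElt f (Multiplicative.ofAdd gen1) = f := by
  have : natEquiv.symm gen1 = 1 := by
    rw [← natEquiv_one, AddEquiv.symm_apply_apply]
  simp [monHomOfElt, this]

variable {S : Scheme.{u}} {T T' : Over S}

/-- The function of a point of the affine line. -/
def aFn (m : T ⟶ AMonS S ↥NN) : Γ(T.left, ⊤) := monHomOfPt m (Multiplicative.ofAdd gen1)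

theorem aFn_mul (m m' : T ⟶ AMonS S ↥NN) : aFn (m * m') = aFn m * aFn m' := by
  rw [aFn, monHomOfPt_mul]; rfl

theorem aFn_one : aFn (1 : T ⟶ AMonS S ↥NN) = 1 := by
  rw [aFn, monHomOfPt_one]; rfl

theorem aFn_pow (m : T ⟶ AMonS S ↥NN) (n : ℕ) : aFn (m ^ n) = aFn m ^ n := by
  rw [aFn, monHomOfPt_pow]; rfl

theorem aFn_comp (g : T' ⟶ T) (m : T ⟶ AMonS S ↥NN) : aFn (g ≫ m) = g.left.appTop (aFn m) := by
  rw [aFn, monHomOfPt_comp]; rfl

theorem aFn_injective : Function.Injective (aFn : (T ⟶ AMonS S ↥NN) → _) := by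
  intro m m' h
  apply monHomOfPt_injective
  exact monHom_ext_gen h

/-- The point of the affine line with a given function. -/
def ptOfFn (f : Γ(T.left, ⊤)) : T ⟶ AMonS S ↥NN := ptOfMonHom (monHomOfElt f)

@[simp] theorem aFn_ptOfFn (f : Γ(T.left, ⊤)) : aFn (ptOfFn f : T ⟶ AMonS S ↥NN) = f := by
  rw [aFn, ptOfFn, monHomOfPt_ptOfMonHom, monHomOfElt_gen]

theorem ptOfFn_aFn (m : T ⟶ AMonS S ↥NN) : ptOfFn (aFn m) = m :=
  aFn_injective (aFn_ptOfFn _)

theorem comp_ptOfFn (g : T' ⟶ T) (f : Γ(T.left, ⊤)) :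
    g ≫ (ptOfFn f : T ⟶ AMonS S ↥NN) = ptOfFn (g.left.appTop f) :=
  aFn_injective (by rw [aFn_comp, aFn_ptOfFn, aFn_ptOfFn])

/-- The function of the image of a point of `G_m` in the affine line is its unit. -/
theorem aFn_map_subtype (g : T ⟶ Red.Gm S) :
    aFn (g ≫ AMonS.map S NN.subtype) = Red.gmFn g := by
  rw [aFn, monHomOfPt_map]
  rfl

/-- nilpotent points are absorbing after a power. -/
theorem pow_mul_eq_of_aFn_pow_eq_zero (m : T ⟶ AMonS S ↥NN) (n : ℕ) (h : aFn m ^ (n + 1) = 0)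
    (m' : T ⟶ AMonS S ↥NN) : m ^ (n + 1) * m' = m ^ (n + 1) := by
  apply aFn_injective
  rw [aFn_mul, aFn_pow, h, zero_mul]

end Groth.Agent.Lib.Helper5.A1Pts
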