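import Groth.Agent.Lib.Helper5.AMonCoord
import Groth.Agent.Lib.Helper5.MagnetAux
import Mathlib.AlgebraicGeometry.Morphisms.SchemeTheoreticallyDominant
import Mathlib.AlgebraicGeometry.Morphisms.Separated
import Mathlib.AlgebraicGeometry.IdealSheaf.Functorial

/-!
# Schematic dominance of `A(M)_S × T ⟶ A(N)_S × T` for injective `N → M` (helper5)

* `specMap_dominant_of_injective`
* `dominant_of_affine_cover`: scheme-theoretic dominance is local on the target.
* `ext_of_dominant_of_separated`: maps to a separated `S`-scheme agreeing on a schematically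
  dominant morphism agree.
* `exists_lift_of_dominant`: lifting through a closed immersion can be checked on a schematically
  dominant morphism.
* `dominant_map_whiskerRight`: for `f : N →+ M` injective, `(AMonS.map S f ▷ T).left` is
  quasi-compact and scheme-theoretically dominant.
-/

set_option autoImplicit false

universe u

open CategoryTheory CategoryTheory.Limits MonoidalCategory CartesianMonoidalCategory MonObj AlgebraicGeometry Opposite
open Magnet

noncomputable section

namespace Groth.Agent.Lib.Helper5.AMonDom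

theorem specMap_dominant_of_injective {R R' : CommRingCat.{u}} (g : R ⟶ R')
    (hg : Function.Injective g.hom) : IsSchemeTheoreticallyDominant (Spec.map g) := by
  refine ⟨Scheme.IdealSheafData.ext_of_isAffine ?_⟩
  rw [(Spec.map g).ker_apply ⟨⊤, isAffineOpen_top (Spec R)⟩]
  simp only [Scheme.IdealSheafData.ideal_bot, Pi.bot_apply]
  rw [← RingHom.injective_iff_ker_eq_bot]
  have h1 : (Spec.map g).appTop = (Scheme.ΓSpecIso R).hom ≫ g ≫ (Scheme.ΓSpecIso R').inv := by
    rw [Scheme.ΓSpecIso_inv_naturality, Iso.hom_inv_id_assoc]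
  change Function.Injective (Spec.map g).appTop.hom
  rw [h1]
  simp only [CommRingCat.hom_comp, RingHom.coe_comp]
  exact ((ConcreteCategory.bijective_of_isIso (Scheme.ΓSpecIso R').inv).1.comp hg).comp
    (ConcreteCategory.bijective_of_isIso (Scheme.ΓSpecIso R).hom).1

/-- Scheme-theoretic dominance (for quasi-compact maps) is local on the target. -/
theorem dominant_of_affine_cover {X Y : Scheme.{u}} (f : X ⟶ Y) {J : Type u} (V U : J → Scheme.{u})
    [∀ i, IsAffine (V i)] (iV : ∀ i, V i ⟶ Y) [∀ i, IsOpenImmersion (iV i)]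
    (hcov : ∀ y : Y, ∃ i, y ∈ Set.range (iV i))
    (f' : ∀ i, U i ⟶ V i) (iU : ∀ i, U i ⟶ X) (H : ∀ i, IsPullback (f' i) (iU i) (iV i) f)
    (hqc : ∀ i, QuasiCompact (f' i))
    (hd : ∀ i, IsSchemeTheoreticallyDominant (f' i)) :
    QuasiCompact f ∧ IsSchemeTheoreticallyDominant f := by
  have hq : QuasiCompact f := by
    let 𝒰 : Y.OpenCover := Scheme.Cover.mkOfCovers J V iV (fun y => by
      obtain ⟨i, x, hx⟩ := hcov y
      exact ⟨i, x, hx⟩)
    rw [IsZariskiLocalAtTarget.iff_of_openCover (P := @QuasiCompact) 𝒰]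
    intro i'
    let i : J := i'
    change QuasiCompact (pullback.snd f (iV i))
    have h2 : pullback.snd f (iV i) = (H i).flip.isoPullback.inv ≫ f' i := by
      rw [Iso.eq_inv_comp]
      exact (H i).flip.isoPullback_hom_snd
    rw [h2]
    have := hqc i
    infer_instance
  refine ⟨hq, ⟨?_⟩⟩
  refine Scheme.IdealSheafData.ext_of_iSup_eq_top
    (fun i => (⟨(iV i) ''ᵁ ⊤, (isAffineOpen_top (V i)).image_of_isOpenImmersion _⟩ : Y.affineOpens)) ?_ ?_
  · rw [eq_top_iff]
    intro y _
    obtain ⟨i, x, hx⟩ := hcov y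
    refine TopologicalSpace.Opens.mem_iSup.mpr ⟨i, ?_⟩
    exact ⟨x, trivial, hx⟩
  · intro i
    have h1 := Scheme.ker_ideal_of_isPullback_of_isOpenImmersion f (f' i) (iU i) (iV i) (H i)
      ⟨⊤, isAffineOpen_top (V i)⟩
    rw [(hd i).ker_eq_bot] at h1
    simp only [Scheme.IdealSheafData.ideal_bot, Pi.bot_apply] at h1 ⊢
    rw [eq_bot_iff]
    intro x hx
    have hbij := ConcreteCategory.bijective_of_isIso ((iV i).appIso ⊤).inv
    obtain ⟨x', rfl⟩ := hbij.2 x
    have : x' ∈ (⊥ : Ideal Γ(V i, ⊤)) := by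
      rw [h1]
      exact hx
    rw [Ideal.mem_bot] at this
    rw [this, map_zero]
    exact Ideal.zero_mem _

section ext
variable {S : Scheme.{u}}

/-- Two `S`-morphisms to a separated `S`-scheme which agree after precomposition with a
scheme-theoretically dominant morphism agree. -/
theorem ext_of_dominant_of_separated {W X : Over S} [IsSeparated X.hom] {W' : Scheme.{u}}
    (d : W' ⟶ W.left) [IsSchemeTheoreticallyDominant d] (f g : W ⟶ X)
    (h : d ≫ f.left = d ≫ g.left) : f = g := by
  let W'' : Over S := Over.mk (d ≫ W.hom)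
  let d' : W'' ⟶ W := Over.homMk d rfl
  have hd' : d' ≫ f = d' ≫ g := by
    ext1
    exact h
  let l := equalizer.lift d' hd'
  have hl : l ≫ equalizer.ι f g = d' := equalizer.lift_ι _ _
  have hl' : l.left ≫ (equalizer.ι f g).left = d := congrArg (fun k => k.left) hl
  have hker : (equalizer.ι f g).left.ker = ⊥ := by
    rw [eq_bot_iff]
    have h1 := Scheme.Hom.le_ker_comp l.left (equalizer.ι f g).left
    rw [hl', IsSchemeTheoreticallyDominant.ker_eq_bot d] at h1
    exact h1
  have hiso : IsIso (equalizer.ι f g).left := IsClosedImmersion.isIso_iff_ker_eq_bot.mpr hker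
  have hiso' : IsIso (equalizer.ι f g) := by
    have : IsIso ((Over.forget S).map (equalizer.ι f g)) := hiso
    exact isIso_of_reflects_iso _ (Over.forget S)
  exact (cancel_epi (equalizer.ι f g)).mp (equalizer.condition f g)

/-- A morphism `φ : W ⟶ Y` factors through a closed immersion `g : Z ⟶ Y` as soon as it does after
precomposition with a scheme-theoretically dominant morphism. -/
theorem exists_lift_of_dominant {W Y Z : Over S} (g : Z ⟶ Y) [IsClosedImmersion g.left]
    {W' : Scheme.{u}} (d : W' ⟶ W.left) [IsSchemeTheoreticallyDominant d] (φ : W ⟶ Y)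
    (ψ₀ : W' ⟶ Z.left) (h : ψ₀ ≫ g.left = d ≫ φ.left) : ∃ ψ : W ⟶ Z, ψ ≫ g = φ := by
  have hker : g.left.ker ≤ φ.left.ker := by
    have h1 := Scheme.Hom.le_ker_comp ψ₀ g.left
    rw [h, Scheme.Hom.ker_comp, IsSchemeTheoreticallyDominant.ker_eq_bot d,
      Scheme.IdealSheafData.map_bot] at h1
    exact h1
  let ψl := IsClosedImmersion.lift g.left φ.left hker
  have hψl : ψl ≫ g.left = φ.left := IsClosedImmersion.lift_fac _ _ _
  refine ⟨Over.homMk ψl ?_, ?_⟩
  · rw [← Over.w g, ← Category.assoc, hψl, Over.w φ]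
  · ext1
    exact hψl

end ext

/-- In a cartesian monoidal category the square of whiskerings is cartesian. -/
theorem isPullback_whisker {C : Type*} [Category C] [CartesianMonoidalCategory C] {A' A T' T : C}
    (g : A' ⟶ A) (t : T' ⟶ T) : IsPullback (g ▷ T') (A' ◁ t) (A ◁ t) (g ▷ T) := by
  have hr := (Groth.Agent.Lib.Helper5.isPullback_whiskerLeft_snd A t).flip
  have ho := (Groth.Agent.Lib.Helper5.isPullback_whiskerLeft_snd A' t).flip
  refine IsPullback.of_right ?_ (whisker_exchange g t).symm hr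
  rw [whiskerRight_snd, whiskerRight_snd]
  exact ho

section dom
open Groth.Agent.Lib.Helper5.AMonCoord

variable {S : Scheme.{u}} {M N : Type} [AddCommMonoid M] [AddCommMonoid N]

theorem dominant_map_whiskerRight (f : N →+ M) (hf : Function.Injective f) (T : Over S) :
    QuasiCompact (AMonS.map S f ▷ T).left ∧ IsSchemeTheoreticallyDominant (AMonS.map S f ▷ T).left := by
  let 𝒜 := T.left.affineOpenCover
  let Bi : 𝒜.I₀ → CommRingCat.{u} := fun i => 𝒜.X i
  let τi : ∀ i, Spec (Bi i) ⟶ S := fun i => 𝒜.f i ≫ T.hom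
  let ιi : ∀ i, (Over.mk (τi i) : Over S) ⟶ T := fun i => Over.homMk (𝒜.f i) rfl
  have hoi : ∀ (P : Type) [AddCommMonoid P] (i : 𝒜.I₀), IsOpenImmersion (AMonS S P ◁ ιi i).left := by
    intro P _ i
    have h1 : IsPullback (AMonS S P ◁ ιi i).left (snd (AMonS S P) (Over.mk (τi i))).left
        (snd (AMonS S P) T).left (ιi i).left :=
      (Groth.Agent.Lib.Helper5.isPullback_whiskerLeft_snd (AMonS S P) (ιi i)).map (Over.forget S)
    have h2 : IsOpenImmersion (ιi i).left := by
      change IsOpenImmersion (𝒜.f i)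
      infer_instance
    exact MorphismProperty.of_isPullback (P := @IsOpenImmersion) h1.flip h2
  have hV : ∀ i, IsOpenImmersion ((e₀ N (Bi i) (τi i)).left ≫ (AMonS S N ◁ ιi i).left) := by
    intro i
    have := hoi N i
    infer_instance
  have hsq : ∀ i, IsPullback (Spec.map (gHom (Bi i) f))
      ((e₀ M (Bi i) (τi i)).left ≫ (AMonS S M ◁ ιi i).left)
      ((e₀ N (Bi i) (τi i)).left ≫ (AMonS S N ◁ ιi i).left) (AMonS.map S f ▷ T).left := by
    intro i
    have top : IsPullback (sE (Bi i) (τi i) f) (e₀ M (Bi i) (τi i)) (e₀ N (Bi i) (τi i))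
        (AMonS.map S f ▷ (Over.mk (τi i) : Over S)) :=
      IsPullback.of_vert_isIso ⟨(e₀_naturality (Bi i) (τi i) f).symm⟩
    have bot := isPullback_whisker (AMonS.map S f) (ιi i)
    exact (top.paste_vert bot).map (Over.forget S)
  refine dominant_of_affine_cover (AMonS.map S f ▷ T).left
    (fun i => Spec (BM N (Bi i))) (fun i => Spec (BM M (Bi i)))
    (fun i => (e₀ N (Bi i) (τi i)).left ≫ (AMonS S N ◁ ιi i).left) ?_
    (fun i => Spec.map (gHom (Bi i) f))
    (fun i => (e₀ M (Bi i) (τi i)).left ≫ (AMonS S M ◁ ιi i).left) hsq ?_ ?_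
  · intro y
    obtain ⟨x, hx⟩ := 𝒜.covers ((snd (AMonS S N) T).left y)
    let i := 𝒜.idx ((snd (AMonS S N) T).left y)
    obtain ⟨p', hp'⟩ := Groth.Agent.Lib.Helper5.exists_whiskerLeft_left_eq (AMonS S N) (ιi i) y ⟨x, hx⟩
    refine ⟨i, (inv (e₀ N (Bi i) (τi i)).left) p', ?_⟩
    rw [← Scheme.Hom.comp_apply, IsIso.inv_hom_id_assoc]
    exact hp'
  · intro i
    infer_instance
  · intro i
    exact specMap_dominant_of_injective _ (gHom_injective (Bi i) f hf)

end dom

end Groth.Agent.Lib.Helper5.AMonDom
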