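import Groth.Agent.Lib.Helper5.AlgSpTransfer
import Mathlib.CategoryTheory.Sites.CoverLifting
import Mathlib.CategoryTheory.Sites.Pullback

/-! # Change of base scheme for algebraic spaces: the restriction functor `j⁻¹` (helper5) -/

set_option autoImplicit false
universe u

open CategoryTheory CategoryTheory.Limits AlgebraicGeometry Opposite

namespace Groth.Agent.Lib.Helper5.AlgSpBC

open AlgSp

variable {S S' : Scheme.{u}} (g : S ⟶ S')

/-- The restriction functor `j⁻¹` from sheaves over `S'` to sheaves over `S`. -/
noncomputable abbrev jInv : Sp S' ⥤ Sp S := Scheme.fppfTopology.overMapPullback (Type (u + 1)) g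

/-- `j⁻¹` is a left adjoint. -/
noncomputable def jInvAdj : jInv g ⊣
    (Over.map g).sheafPushforwardCocontinuous (Type (u + 1)) (AlgSp.J S) (AlgSp.J S') :=
  (Over.map g).sheafAdjunctionCocontinuous (Type (u + 1)) (AlgSp.J S) (AlgSp.J S')

noncomputable instance : PreservesColimitsOfSize.{0, 0} (jInv g) :=
  (jInvAdj g).leftAdjoint_preservesColimits

/-- `j⁻¹ h_{X'}` is represented by `X' ×_{S'} S`. -/
noncomputable def repPull (X' : Over S') :
    ((jInv g).obj ((yon S').obj X')).obj.RepresentableBy ((Over.pullback g).obj X') where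
  homEquiv {T} := (((Over.mapPullbackAdj g).homEquiv T X').symm).trans Equiv.ulift.symm
  homEquiv_comp {T T'} f a := by
    apply ULift.ext
    exact (Over.mapPullbackAdj g).homEquiv_naturality_left_symm f a

lemma repPull_homEquiv (X' : Over S') {T : Over S} (a : T ⟶ (Over.pullback g).obj X') :
    (repPull g X').homEquiv a = ⟨((Over.mapPullbackAdj g).homEquiv T X').symm a⟩ := rfl

/-- The natural isomorphism `j⁻¹ h_{X'} ≅ h_{X' ×_{S'} S}`. -/
noncomputable def pullIso : yon S' ⋙ jInv g ≅ Over.pullback g ⋙ yon S :=
  NatIso.ofComponents (fun X' => (isoOfRepresentableBy (repPull g X')).symm) (by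
    intro X' Y' a
    rw [Iso.symm_hom, Iso.symm_hom, Iso.comp_inv_eq, Category.assoc, Iso.eq_inv_comp]
    symm
    ext T ⟨b⟩
    induction T using Opposite.rec with | _ T => ?_
    change (isoOfRepresentableBy (repPull g Y')).hom.hom.app (op T)
        (((yon S).map ((Over.pullback g).map a)).hom.app (op T) ⟨b⟩) =
      ((jInv g).map ((yon S').map a)).hom.app (op T)
        ((isoOfRepresentableBy (repPull g X')).hom.hom.app (op T) ⟨b⟩)
    rw [isoOfRepresentableBy_hom_app]
    change (repPull g Y').homEquiv (b ≫ (Over.pullback g).map a) = _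
    rw [repPull_homEquiv, repPull_homEquiv]
    apply ULift.ext
    exact (Over.mapPullbackAdj g).homEquiv_naturality_right_symm b a)

/-- Base change preserves étale equivalence relations. -/
theorem pullback_isEtaleEqvRel {R U : Over S'} (s t : R ⟶ U) (h : IsEtaleEqvRel s t) :
    IsEtaleEqvRel ((Over.pullback g).map s) ((Over.pullback g).map t) := by
  let adj := Over.mapPullbackAdj g
  have key : ∀ (T : Over S) (a b : T ⟶ (Over.pullback g).obj U),
      (∃ r : T ⟶ (Over.pullback g).obj R,
        r ≫ (Over.pullback g).map t = a ∧ r ≫ (Over.pullback g).map s = b) ↔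
      (∃ r : (Over.map g).obj T ⟶ R,
        r ≫ t = (adj.homEquiv T U).symm a ∧ r ≫ s = (adj.homEquiv T U).symm b) := by
    intro T a b
    constructor
    · rintro ⟨r, rfl, rfl⟩
      exact ⟨(adj.homEquiv T R).symm r, (adj.homEquiv_naturality_right_symm r t).symm,
        (adj.homEquiv_naturality_right_symm r s).symm⟩
    · rintro ⟨r, h1, h2⟩
      refine ⟨adj.homEquiv T R r, ?_, ?_⟩
      · apply (adj.homEquiv T U).symm.injective
        rw [adj.homEquiv_naturality_right_symm, Equiv.symm_apply_apply, h1]
      · apply (adj.homEquiv T U).symm.injective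
        rw [adj.homEquiv_naturality_right_symm, Equiv.symm_apply_apply, h2]
  refine ⟨⟨?_, ?_⟩, ?_, ?_⟩
  · intro T r r' h1 h2
    apply (adj.homEquiv T R).symm.injective
    apply h.injective
    · rw [← adj.homEquiv_naturality_right_symm, ← adj.homEquiv_naturality_right_symm, h1]
    · rw [← adj.homEquiv_naturality_right_symm, ← adj.homEquiv_naturality_right_symm, h2]
  · intro T
    have hE := h.equivalence ((Over.map g).obj T)
    constructor
    · intro a
      exact (key T a a).mpr (hE.refl _)
    · intro a b hab
      exact (key T b a).mpr (hE.symm ((key T a b).mp hab))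
    · intro a b c hab hbc
      exact (key T a c).mpr (hE.trans ((key T a b).mp hab) ((key T b c).mp hbc))
  · exact MorphismProperty.overPullbackMap (P := @Etale) g s h.etale_left
  · exact MorphismProperty.overPullbackMap (P := @Etale) g t h.etale_right

/-- `j⁻¹` maps algebraic spaces over `S'` to algebraic spaces over `S`. -/
theorem isAlgSpace_jInv (F' : Sp S') (hF' : IsAlgSpace F') : IsAlgSpace ((jInv g).obj F') :=
  AlgSpTransfer.isAlgSpace_transfer (jInv g) (Over.pullback g) (pullIso g)
    (fun s t h => pullback_isEtaleEqvRel g s t h) F' hF'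

end Groth.Agent.Lib.Helper5.AlgSpBC
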