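import Groth.Agent.Lib.Helper5.AlgSpShriek
import Groth.Agent.Lib.Helper5.AtlasQuot
import Groth.Agent.Lib.Helper5.QuotShK
import Groth.Agent.Lib.Helper23.AlgSpMor4
import Groth.Agent.S9885

/-! # `j⁻¹ F'` is an algebraic space iff `h_S × F'` is (helper5) -/

set_option autoImplicit false
universe u

open CategoryTheory CategoryTheory.Limits AlgebraicGeometry Opposite

namespace Groth.Agent.Lib.Helper5.AlgSpBC

open AlgSp

variable {S S' : Scheme.{u}} (g : S ⟶ S')

/-- The structure map of `X/S` viewed over `S'`, as a morphism to `S/S'`. -/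
noncomputable def strΨ (X : Over S) : (Over.map g).obj X ⟶ Over.mk g := Over.homMk X.hom rfl

lemma map_strΨ {X Y : Over S} (a : X ⟶ Y) : (Over.map g).map a ≫ strΨ g Y = strΨ g X := by
  ext
  simp [strΨ]

/-- An `S'`-scheme with a map to `S` over `S'`, viewed over `S`. -/
def lift {T' : Over S'} (φ : T' ⟶ Over.mk g) : Over S := Over.mk φ.left

/-- `lift φ` viewed over `S'` is `T'`. -/
noncomputable def liftIso {T' : Over S'} (φ : T' ⟶ Over.mk g) :
    (Over.map g).obj (lift g φ) ≅ T' :=
  Over.isoMk (Iso.refl _) (by simpa [lift] using (Over.w φ).symm)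

lemma liftIso_hom_comp {T' : Over S'} (φ : T' ⟶ Over.mk g) :
    (liftIso g φ).hom ≫ φ = strΨ g (lift g φ) := by
  ext
  simp [liftIso, strΨ, lift]

variable {g}

/-- Transposition of a section of `j⁻¹ F'` over `T` into a section of `F'` over `T/S'`. -/
noncomputable def tr {F' : Sp S'} {T : Over S} (x : (yon S).obj T ⟶ (jInv g).obj F') :
    (yon S').obj ((Over.map g).obj T) ⟶ F' :=
  (shriekIso g).inv.app T ≫ ((jShAdj g).homEquiv _ _).symm x

lemma tr_injective {F' : Sp S'} {T : Over S} :
    Function.Injective (tr (g := g) (F' := F') (T := T)) := by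
  intro x y h
  have h' := (cancel_epi ((shriekIso g).inv.app T)).mp h
  exact ((jShAdj g).homEquiv _ _).symm.injective h'

lemma tr_surjective {F' : Sp S'} {T : Over S} :
    Function.Surjective (tr (g := g) (F' := F') (T := T)) := by
  intro y
  refine ⟨(jShAdj g).homEquiv _ _ ((shriekIso g).hom.app T ≫ y), ?_⟩
  simp [tr]

lemma tr_map {F' : Sp S'} {T₁ T : Over S} (a : T₁ ⟶ T) (x : (yon S).obj T ⟶ (jInv g).obj F') :
    tr ((yon S).map a ≫ x) = (yon S').map ((Over.map g).map a) ≫ tr x := by
  have h := (shriekIso g).inv.naturality a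
  simp only [Functor.comp_obj, Functor.comp_map] at h
  rw [tr, tr, Adjunction.homEquiv_naturality_left_symm, ← Category.assoc, ← h, Category.assoc]

variable (g)

/-- If `j⁻¹ F'` is an algebraic space over `S` then `h_S × F'` is an algebraic space over `S'`. -/
theorem isAlgSpace_prod_of_jInv (F' : Sp S') (hF : IsAlgSpace ((jInv g).obj F')) :
    IsAlgSpace ((yon S').obj (Over.mk g) ⨯ F') := by
  obtain ⟨U, p, he, hs⟩ := hF.atlas
  have hrep : Representable p := hF.representable_from_yon p
  obtain ⟨R, s, fst, sq⟩ := hrep p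
  obtain ⟨t, rfl⟩ := (yon S).map_surjective fst
  have hEs : Etale s.left := he.property p ((yon S).map t) s sq
  have hEt : Etale t.left := he.property p ((yon S).map s) t sq.flip
  have hSs : Surjective s.left := hs.property p ((yon S).map t) s sq
  have hrel : IsEtaleEqvRel s t := (Groth.Agent.S9872.result S _ hF p he hs s t sq).1
  have hrel' := map_isEtaleEqvRel g s t hrel
  have hpepi : Epi p := by
    have hfl : AlgSp.RepWith @Flat p :=
      MorphismProperty.relative_monotone
        (fun (A B : Over S) (f : A ⟶ B) (hf : Etale f.left) => (inferInstance : Flat f.left)) _ he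
    have hlfp : AlgSp.RepWith @LocallyOfFinitePresentation p :=
      MorphismProperty.relative_monotone
        (fun (A B : Over S) (f : A ⟶ B) (hf : Etale f.left) =>
          (inferInstance : LocallyOfFinitePresentation f.left)) _ he
    have : Sheaf.IsLocallySurjective p := Groth.Agent.S9885.result S _ _ p hfl hlfp hs
    infer_instance
  obtain ⟨p', hp'⟩ : ∃ p' : (yon S').obj ((Over.map g).obj U) ⟶ F', p' = tr p := ⟨_, rfl⟩
  obtain ⟨q, hq1, hq2⟩ : ∃ q : (yon S').obj ((Over.map g).obj U) ⟶ (yon S').obj (Over.mk g) ⨯ F',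
      q ≫ prod.fst = (yon S').map (strΨ g U) ∧ q ≫ prod.snd = p' :=
    ⟨prod.lift ((yon S').map (strΨ g U)) p', prod.lift_fst _ _, prod.lift_snd _ _⟩
  -- kernel pair
  have hk : IsPullback ((yon S').map ((Over.map g).map t)) ((yon S').map ((Over.map g).map s)) q q := by
    refine sheaf_isPullback_of_yon.{u, u + 1, u + 1} (J S') _ _ _ _ ?_ ?_ ?_
    · apply Limits.prod.hom_ext
      · rw [Category.assoc, Category.assoc, hq1, ← Functor.map_comp, ← Functor.map_comp, map_strΨ,
          map_strΨ]
      · rw [Category.assoc, Category.assoc, hq2, hp', ← tr_map, ← tr_map, sq.w]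
    · intro T' z z' h1 h2
      obtain ⟨r, rfl⟩ := (yon S').map_surjective z
      obtain ⟨r', rfl⟩ := (yon S').map_surjective z'
      rw [← Functor.map_comp, ← Functor.map_comp] at h1 h2
      rw [hrel'.injective T' r r' ((yon S').map_injective h1) ((yon S').map_injective h2)]
    · intro T' x y hxy
      obtain ⟨a, rfl⟩ := (yon S').map_surjective x
      obtain ⟨b, rfl⟩ := (yon S').map_surjective y
      have h1 : a ≫ strΨ g U = b ≫ strΨ g U := by
        apply (yon S').map_injective
        rw [Functor.map_comp, Functor.map_comp, ← hq1, ← Category.assoc, ← Category.assoc, hxy]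
      have h2 : (yon S').map a ≫ p' = (yon S').map b ≫ p' := by
        rw [← hq2, ← Category.assoc, ← Category.assoc, hxy]
      have hab : a.left ≫ U.hom = b.left ≫ U.hom := congrArg (fun f => CommaMorphism.left f) h1
      obtain ⟨a₀, ha₀⟩ : ∃ a₀ : Over.mk (a.left ≫ U.hom) ⟶ U, a₀.left = a.left :=
        ⟨Over.homMk a.left rfl, rfl⟩
      obtain ⟨b₀, hb₀⟩ : ∃ b₀ : Over.mk (a.left ≫ U.hom) ⟶ U, b₀.left = b.left :=
        ⟨Over.homMk b.left hab.symm, rfl⟩
      obtain ⟨ι, hι⟩ : ∃ ι : (Over.map g).obj (Over.mk (a.left ≫ U.hom)) ≅ T', ι.hom.left = 𝟙 _ := by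
        refine ⟨Over.isoMk (Iso.refl _) ?_, rfl⟩
        have := (Over.w a).symm
        simpa using this
      have hΨa : (Over.map g).map a₀ = ι.hom ≫ a := by
        ext
        simp [ha₀, hι]
      have hΨb : (Over.map g).map b₀ = ι.hom ≫ b := by
        ext
        simp [hb₀, hι]
      have hp0 : (yon S).map a₀ ≫ p = (yon S).map b₀ ≫ p := by
        apply tr_injective
        rw [tr_map, tr_map, hΨa, hΨb, Functor.map_comp, Functor.map_comp, Category.assoc,
          Category.assoc, ← hp', h2]
      obtain ⟨r₀, hr₀⟩ := (yon S).map_surjective (sq.lift _ _ hp0)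
      have hr1 : r₀ ≫ t = a₀ := by
        apply (yon S).map_injective
        rw [Functor.map_comp, hr₀, sq.lift_fst]
      have hr2 : r₀ ≫ s = b₀ := by
        apply (yon S).map_injective
        rw [Functor.map_comp, hr₀, sq.lift_snd]
      refine ⟨(yon S').map (ι.inv ≫ (Over.map g).map r₀), ?_, ?_⟩
      · rw [← Functor.map_comp, Category.assoc, ← Functor.map_comp, hr1, hΨa, Iso.inv_hom_id_assoc]
      · rw [← Functor.map_comp, Category.assoc, ← Functor.map_comp, hr2, hΨb, Iso.inv_hom_id_assoc]
  -- epi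
  haveI : Epi q := by
    apply QuotShK.epi_of_local_lift (K := Scheme.fppfPrecoverage) q
    intro T' y
    obtain ⟨φ, hφ⟩ := (yon S').map_surjective (y ≫ prod.fst)
    obtain ⟨xt, hxt⟩ := tr_surjective (g := g) (T := lift g φ)
      ((yon S').map (liftIso g φ).hom ≫ y ≫ prod.snd)
    obtain ⟨R₀, hR₀, hl⟩ := QuotShK.exists_local_lift_of_epi (K := Scheme.fppfPrecoverage) p xt
    have hcov : Sieve.functorPushforward (Over.map g) R₀ ∈ J S' ((Over.map g).obj (lift g φ)) :=
      (GrothendieckTopology.over_map_coverPreserving Scheme.fppfTopology g).cover_preserve hR₀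
    refine ⟨(Sieve.functorPushforward (Over.map g) R₀).pullback (liftIso g φ).inv,
      (J S').pullback_stable _ hcov, ?_⟩
    rintro T'₁ ψ ⟨T₁, c, k, hc, hk⟩
    obtain ⟨u, hu⟩ := hl c hc
    obtain ⟨u₀, rfl⟩ := (yon S).map_surjective u
    refine ⟨(yon S').map (k ≫ (Over.map g).map u₀), ?_⟩
    have hψ : ψ = k ≫ (Over.map g).map c ≫ (liftIso g φ).hom := by
      rw [← Category.assoc, ← hk, Category.assoc, Iso.inv_hom_id, Category.comp_id]
    apply Limits.prod.hom_ext
    · rw [Category.assoc, Category.assoc, hq1, ← hφ, ← Functor.map_comp, ← Functor.map_comp,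
        Category.assoc, map_strΨ, hψ, Category.assoc, Category.assoc, liftIso_hom_comp, map_strΨ]
    · rw [Category.assoc, Category.assoc, hq2, hp', Functor.map_comp, Category.assoc, ← tr_map, hu,
        tr_map, hxt, hψ, Functor.map_comp, Functor.map_comp, Category.assoc, Category.assoc]
  have hEs' : Etale ((Over.map g).map s).left := hEs
  have hEt' : Etale ((Over.map g).map t).left := hEt
  have hSs' : Surjective ((Over.map g).map s).left := hSs
  exact AtlasQuot.isAlgSpace_of_kernelPair q ((Over.map g).map s) ((Over.map g).map t) hk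

/-- In a category with binary products, `X` is the fibre of `Z ⨯ X ⟶ Z` over a point of `Z`. -/
theorem isPullback_prod_of_isTerminal {C : Type*} [Category C] [HasBinaryProducts C] (X Z A : C)
    (hA : IsTerminal A) (z : A ⟶ Z) :
    IsPullback (prod.lift (hA.from X ≫ z) (𝟙 X)) (hA.from X) (prod.fst : Z ⨯ X ⟶ Z) z := by
  have hw : prod.lift (hA.from X ≫ z) (𝟙 X) ≫ (prod.fst : Z ⨯ X ⟶ Z) = hA.from X ≫ z :=
    prod.lift_fst _ _
  refine ⟨⟨hw⟩, ⟨PullbackCone.IsLimit.mk hw (fun c => c.fst ≫ prod.snd) ?_ ?_ ?_⟩⟩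
  · intro c
    apply Limits.prod.hom_ext
    · rw [Category.assoc, prod.lift_fst, c.condition, ← Category.assoc]
      congr 1
      exact hA.hom_ext _ _
    · rw [Category.assoc, prod.lift_snd, Category.comp_id]
  · intro c
    exact hA.hom_ext _ _
  · intro c m h1 _
    rw [← h1, Category.assoc, prod.lift_snd, Category.comp_id]

noncomputable instance : PreservesLimitsOfSize.{0, 0} (jInv g) :=
  (jShAdj g).rightAdjoint_preservesLimits

/-- If `h_S × F'` is an algebraic space over `S'` then `j⁻¹ F'` is an algebraic space over `S`. -/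
theorem isAlgSpace_jInv_of_prod (F' : Sp S')
    (h : IsAlgSpace ((yon S').obj (Over.mk g) ⨯ F')) : IsAlgSpace ((jInv g).obj F') := by
  have hA : IsTerminal ((yon S).obj (Over.mk (𝟙 S))) :=
    IsTerminal.isTerminalObj (yon S) _ Over.mkIdTerminal
  have hZ : IsAlgSpace ((jInv g).obj ((yon S').obj (Over.mk g))) :=
    isAlgSpace_jInv g _ (IsAlgSpace.yon_obj _)
  have hP : IsAlgSpace ((jInv g).obj ((yon S').obj (Over.mk g)) ⨯ (jInv g).obj F') :=
    (isAlgSpace_jInv g _ h).of_iso (PreservesLimitPair.iso (jInv g) _ _)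
  obtain ⟨z⟩ : Nonempty ((yon S).obj (Over.mk (𝟙 S)) ⟶ (jInv g).obj ((yon S').obj (Over.mk g))) :=
    ⟨(AlgSp.J S).uliftYonedaEquiv.symm (ULift.up (strΨ g (Over.mk (𝟙 S))))⟩
  exact Groth.Agent.Lib.Helper23.AlgSpMor.isAlgSpace_of_isPullback hP (IsAlgSpace.yon_obj _) hZ.diag
    (isPullback_prod_of_isTerminal ((jInv g).obj F') _ _ hA z)

end Groth.Agent.Lib.Helper5.AlgSpBC
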