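import Groth.Agent.Lib.Helper5.AlgSpBC

/-! # Change of base scheme for algebraic spaces: the extension functor `j_!` (helper5) -/

set_option autoImplicit false
universe u

open CategoryTheory CategoryTheory.Limits AlgebraicGeometry Opposite

namespace Groth.Agent.Lib.Helper5.AlgSpBC

open AlgSp

variable {S S' : Scheme.{u}} (g : S ⟶ S')

/-- The left adjoint `j_!` of the restriction functor `j⁻¹`. -/
noncomputable abbrev jSh : Sp S ⥤ Sp S' :=
  (Over.map g).sheafPullback (Type (u + 1)) (AlgSp.J S) (AlgSp.J S')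

/-- `j_! ⊣ j⁻¹`. -/
noncomputable def jShAdj : jSh g ⊣ jInv g :=
  (Over.map g).sheafAdjunctionContinuous (Type (u + 1)) (AlgSp.J S) (AlgSp.J S')

noncomputable instance : PreservesColimitsOfSize.{0, 0} (jSh g) :=
  (jShAdj g).leftAdjoint_preservesColimits

/-- The canonical map `h_X ⟶ j⁻¹ h_{X/S'}`. -/
noncomputable def uX (X : Over S) :
    (yon S).obj X ⟶ (jInv g).obj ((yon S').obj ((Over.map g).obj X)) :=
  (AlgSp.J S).uliftYonedaEquiv.symm
    (ULift.up (𝟙 ((Over.map g).obj X)) : ((jInv g).obj ((yon S').obj ((Over.map g).obj X))).obj.obj (op X))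

lemma uliftYonedaEquiv_uX (X : Over S) :
    (AlgSp.J S).uliftYonedaEquiv (uX g X) = ULift.up (𝟙 ((Over.map g).obj X)) :=
  Equiv.apply_symm_apply _ _

lemma uX_app (X : Over S) {T : Over S} (f : T ⟶ X) :
    (uX g X).hom.app (op T) ⟨f⟩ = ULift.up ((Over.map g).map f) := by
  apply ULift.ext
  change (Over.map g).map f ≫ 𝟙 _ = _
  simp

/-- `j_! h_X ⟶ h_{X/S'}`. -/
noncomputable def aX (X : Over S) : (jSh g).obj ((yon S).obj X) ⟶ (yon S').obj ((Over.map g).obj X) :=
  ((jShAdj g).homEquiv _ _).symm (uX g X)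

lemma homEquiv_aX (X : Over S) : (jShAdj g).homEquiv _ _ (aX g X) = uX g X :=
  Equiv.apply_symm_apply _ _

/-- The universal element of `j_! h_X` over `X/S'`. -/
noncomputable def xiX (X : Over S) : ((jSh g).obj ((yon S).obj X)).obj.obj (op ((Over.map g).obj X)) :=
  ((jShAdj g).unit.app ((yon S).obj X)).hom.app (op X) ⟨𝟙 X⟩

/-- `h_{X/S'} ⟶ j_! h_X`. -/
noncomputable def bX (X : Over S) : (yon S').obj ((Over.map g).obj X) ⟶ (jSh g).obj ((yon S).obj X) :=
  (AlgSp.J S').uliftYonedaEquiv.symm (xiX g X)

lemma bX_app_id (X : Over S) :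
    (bX g X).hom.app (op ((Over.map g).obj X)) ⟨𝟙 _⟩ = xiX g X := by
  rw [← GrothendieckTopology.uliftYonedaEquiv_apply, bX, Equiv.apply_symm_apply]

lemma aX_bX (X : Over S) : aX g X ≫ bX g X = 𝟙 _ := by
  apply ((jShAdj g).homEquiv _ _).injective
  rw [Adjunction.homEquiv_naturality_right, homEquiv_aX]
  rw [Adjunction.homEquiv_unit, CategoryTheory.Functor.map_id]
  refine Eq.trans ?_ (Category.comp_id _).symm
  apply (AlgSp.J S).uliftYonedaEquiv.injective
  rw [GrothendieckTopology.uliftYonedaEquiv_comp, uliftYonedaEquiv_uX]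
  exact bX_app_id g X

lemma bX_aX (X : Over S) : bX g X ≫ aX g X = 𝟙 _ := by
  apply (AlgSp.J S').uliftYonedaEquiv.injective
  rw [GrothendieckTopology.uliftYonedaEquiv_apply, GrothendieckTopology.uliftYonedaEquiv_apply]
  change (aX g X).hom.app (op ((Over.map g).obj X)) ((bX g X).hom.app (op ((Over.map g).obj X)) ⟨𝟙 _⟩) =
    ULift.up (𝟙 _)
  rw [bX_app_id]
  have h1 := homEquiv_aX g X
  rw [Adjunction.homEquiv_unit] at h1
  have h2 := congrArg (fun f => f.hom.app (op X) ⟨𝟙 X⟩) h1
  simp only [] at h2
  rw [uX_app, CategoryTheory.Functor.map_id] at h2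
  exact h2

/-- The natural isomorphism `j_! h_X ≅ h_{X/S'}`. -/
noncomputable def shriekIso : yon S ⋙ jSh g ≅ Over.map g ⋙ yon S' :=
  NatIso.ofComponents (fun X => ⟨aX g X, bX g X, aX_bX g X, bX_aX g X⟩) (by
    intro X Y f
    change (jSh g).map ((yon S).map f) ≫ aX g Y = aX g X ≫ (yon S').map ((Over.map g).map f)
    apply ((jShAdj g).homEquiv _ _).injective
    rw [Adjunction.homEquiv_naturality_left, Adjunction.homEquiv_naturality_right, homEquiv_aX,
      homEquiv_aX]
    ext T ⟨b⟩
    induction T using Opposite.rec with | _ T => ?_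
    change (uX g Y).hom.app (op T) (((yon S).map f).hom.app (op T) ⟨b⟩) =
      ((jInv g).map ((yon S').map ((Over.map g).map f))).hom.app (op T) ((uX g X).hom.app (op T) ⟨b⟩)
    rw [uX_app]
    change (uX g Y).hom.app (op T) ⟨b ≫ f⟩ = _
    rw [uX_app, CategoryTheory.Functor.map_comp]
    rfl)

/-- `j_! h_X` is represented by `X` viewed over `S'`. -/
noncomputable def repShriek (X : Over S) :
    ((jSh g).obj ((yon S).obj X)).obj.RepresentableBy ((Over.map g).obj X) :=
  representableByOfIso ((shriekIso g).app X).symm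

/-- Viewing schemes over `S` as schemes over `S'` preserves étale equivalence relations. -/
theorem map_isEtaleEqvRel {R U : Over S} (s t : R ⟶ U) (h : IsEtaleEqvRel s t) :
    IsEtaleEqvRel ((Over.map g).map s) ((Over.map g).map t) := by
  have hRt : R.hom = t.left ≫ U.hom := (Over.w t).symm
  have hRs : R.hom = s.left ≫ U.hom := (Over.w s).symm
  -- lifting points
  have key : ∀ (T' : Over S') (a b : T' ⟶ (Over.map g).obj U)
      (hab : a.left ≫ U.hom = b.left ≫ U.hom),
      (∃ r : T' ⟶ (Over.map g).obj R,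
        r ≫ (Over.map g).map t = a ∧ r ≫ (Over.map g).map s = b) ↔
      (∃ r : Over.mk (a.left ≫ U.hom) ⟶ R,
        r ≫ t = Over.homMk (U := Over.mk (a.left ≫ U.hom)) (V := U) a.left rfl ∧
        r ≫ s = Over.homMk (U := Over.mk (a.left ≫ U.hom)) (V := U) b.left hab.symm) := by
    intro T' a b hab
    constructor
    · rintro ⟨r, h1, h2⟩
      have e1 : r.left ≫ t.left = a.left := congrArg CommaMorphism.left h1
      have e2 : r.left ≫ s.left = b.left := congrArg CommaMorphism.left h2
      refine ⟨Over.homMk (U := Over.mk (a.left ≫ U.hom)) (V := R) r.left ?_, ?_, ?_⟩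
      · change r.left ≫ R.hom = a.left ≫ U.hom
        rw [hRt, ← Category.assoc, e1]
      · ext; exact e1
      · ext; exact e2
    · rintro ⟨r, h1, h2⟩
      have e1 : r.left ≫ t.left = a.left := congrArg CommaMorphism.left h1
      have e2 : r.left ≫ s.left = b.left := congrArg CommaMorphism.left h2
      refine ⟨Over.homMk (U := T') (V := (Over.map g).obj R) r.left ?_, ?_, ?_⟩
      · change r.left ≫ R.hom ≫ g = T'.hom
        have := Over.w r
        change r.left ≫ R.hom = a.left ≫ U.hom at this
        rw [← Category.assoc, this, Category.assoc]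
        exact Over.w a
      · ext; exact e1
      · ext; exact e2
  refine ⟨⟨?_, ?_⟩, h.etale_left, h.etale_right⟩
  · intro T' r r' h1 h2
    have e1 : r.left ≫ t.left = r'.left ≫ t.left := congrArg CommaMorphism.left h1
    have e2 : r.left ≫ s.left = r'.left ≫ s.left := congrArg CommaMorphism.left h2
    have hw : r'.left ≫ R.hom = r.left ≫ R.hom := by
      rw [hRt, ← Category.assoc, ← Category.assoc, e1]
    have := h.injective (Over.mk (r.left ≫ R.hom))
      (Over.homMk (U := Over.mk (r.left ≫ R.hom)) (V := R) r.left rfl)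
      (Over.homMk (U := Over.mk (r.left ≫ R.hom)) (V := R) r'.left hw)
      (by ext; exact e1) (by ext; exact e2)
    ext
    exact congrArg (fun f : Over.mk (r.left ≫ R.hom) ⟶ R => f.left) this
  · intro T'
    constructor
    · intro a
      exact (key T' a a rfl).mpr ((h.equivalence _).refl _)
    · rintro a b ⟨r, h1, h2⟩
      have e1 : r.left ≫ t.left = a.left := congrArg CommaMorphism.left h1
      have e2 : r.left ≫ s.left = b.left := congrArg CommaMorphism.left h2
      have hab : a.left ≫ U.hom = b.left ≫ U.hom := by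
        rw [← e1, ← e2, Category.assoc, Category.assoc, ← hRt, ← hRs]
      have h3 := (key T' a b hab).mp ⟨r, h1, h2⟩
      obtain ⟨r', h1', h2'⟩ := (h.equivalence _).symm h3
      have e1' : r'.left ≫ t.left = b.left := congrArg CommaMorphism.left h1'
      have e2' : r'.left ≫ s.left = a.left := congrArg CommaMorphism.left h2'
      refine ⟨Over.homMk (U := T') (V := (Over.map g).obj R) r'.left ?_, ?_, ?_⟩
      · change r'.left ≫ R.hom ≫ g = T'.hom
        rw [hRs, ← Category.assoc, ← Category.assoc, e2', Category.assoc]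
        exact Over.w a
      · ext; exact e1'
      · ext; exact e2'
    · rintro a b c ⟨r, h1, h2⟩ ⟨r', h1', h2'⟩
      have e1 : r.left ≫ t.left = a.left := congrArg CommaMorphism.left h1
      have e2 : r.left ≫ s.left = b.left := congrArg CommaMorphism.left h2
      have e1' : r'.left ≫ t.left = b.left := congrArg CommaMorphism.left h1'
      have e2' : r'.left ≫ s.left = c.left := congrArg CommaMorphism.left h2'
      have hab : a.left ≫ U.hom = b.left ≫ U.hom := by
        rw [← e1, ← e2, Category.assoc, Category.assoc, ← hRt, ← hRs]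
      have hbc : b.left ≫ U.hom = c.left ≫ U.hom := by
        rw [← e1', ← e2', Category.assoc, Category.assoc, ← hRt, ← hRs]
      have h3 := (key T' a b hab).mp ⟨r, h1, h2⟩
      have h4 : ∃ r'' : Over.mk (a.left ≫ U.hom) ⟶ R,
          r'' ≫ t = Over.homMk (U := Over.mk (a.left ≫ U.hom)) (V := U) b.left hab.symm ∧
          r'' ≫ s = Over.homMk (U := Over.mk (a.left ≫ U.hom)) (V := U) c.left (hab.trans hbc).symm := by
        refine ⟨Over.homMk (U := Over.mk (a.left ≫ U.hom)) (V := R) r'.left ?_, ?_, ?_⟩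
        · change r'.left ≫ R.hom = a.left ≫ U.hom
          rw [hRt, ← Category.assoc, e1', hab]
        · ext; exact e1'
        · ext; exact e2'
      exact (key T' a c (hab.trans hbc)).mpr ((h.equivalence _).trans h3 h4)

/-- `j_!` maps algebraic spaces over `S` to algebraic spaces over `S'`. -/
theorem isAlgSpace_jSh (F : Sp S) (hF : IsAlgSpace F) : IsAlgSpace ((jSh g).obj F) :=
  AlgSpTransfer.isAlgSpace_transfer (jSh g) (Over.map g) (shriekIso g)
    (fun s t h => map_isEtaleEqvRel g s t h) F hF

end Groth.Agent.Lib.Helper5.AlgSpBC
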