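import Groth.Agent.Lib.Helper5.AlgSpProd

/-! # `j_!` on maps from representables: faithfulness and preservation of fibre products (helper5) -/

set_option autoImplicit false
universe u

open CategoryTheory CategoryTheory.Limits AlgebraicGeometry Opposite

namespace Groth.Agent.Lib.Helper5.AlgSpBC

open AlgSp

variable {S S' : Scheme.{u}} (g : S ⟶ S')

/-- The map `h_{X/S'} ⟶ j_! F` attached to `x : h_X ⟶ F`. -/
noncomputable def flat {F : Sp S} {X : Over S} (x : (yon S).obj X ⟶ F) :
    (yon S').obj ((Over.map g).obj X) ⟶ (jSh g).obj F :=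
  (shriekIso g).inv.app X ≫ (jSh g).map x

lemma flat_map {F : Sp S} {X₁ X : Over S} (a : X₁ ⟶ X) (x : (yon S).obj X ⟶ F) :
    flat g ((yon S).map a ≫ x) = (yon S').map ((Over.map g).map a) ≫ flat g x := by
  have h := (shriekIso g).inv.naturality a
  simp only [Functor.comp_obj, Functor.comp_map] at h
  rw [flat, flat, Functor.map_comp, ← Category.assoc, ← h, Category.assoc]

lemma flat_comp {F G : Sp S} {X : Over S} (x : (yon S).obj X ⟶ F) (f : F ⟶ G) :
    flat g (x ≫ f) = flat g x ≫ (jSh g).map f := by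
  rw [flat, flat, Functor.map_comp, Category.assoc]

lemma shriek_map_eq {F : Sp S} {X : Over S} (x : (yon S).obj X ⟶ F) :
    (jSh g).map x = (shriekIso g).hom.app X ≫ flat g x := by
  rw [flat, ← Category.assoc, Iso.hom_inv_id_app, Category.id_comp]

/-- The structure map `j_! F ⟶ h_{S/S'}`. -/
noncomputable def tauF (F : Sp S) : (jSh g).obj F ⟶ (yon S').obj (Over.mk g) :=
  (jSh g).map ((IsTerminal.isTerminalObj (yon S) _ Over.mkIdTerminal).from F) ≫
    (shriekIso g).hom.app (Over.mk (𝟙 S)) ≫ (yon S').map (strΨ g (Over.mk (𝟙 S)))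

lemma flat_tauF {F : Sp S} {X : Over S} (x : (yon S).obj X ⟶ F) :
    flat g x ≫ tauF g F = (yon S').map (strΨ g X) := by
  have hx : x ≫ (IsTerminal.isTerminalObj (yon S) _ Over.mkIdTerminal).from F =
      (yon S).map (Over.mkIdTerminal.from X) :=
    (IsTerminal.isTerminalObj (yon S) _ Over.mkIdTerminal).hom_ext _ _
  have h := (shriekIso g).inv.naturality (Over.mkIdTerminal.from X)
  simp only [Functor.comp_obj, Functor.comp_map] at h
  rw [tauF, flat, Category.assoc, ← Category.assoc ((jSh g).map x), ← Functor.map_comp, hx,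
    ← Category.assoc, ← h, Category.assoc, Iso.inv_hom_id_app_assoc, ← Functor.map_comp, map_strΨ]

/-- A flat, locally finitely presented, surjective morphism of schemes gives an epimorphism. -/
theorem epi_yon_map_of_fppf' {S : Scheme.{u}} {T' T : Over S} (c : T' ⟶ T) (h1 : Flat c.left)
    (h2 : LocallyOfFinitePresentation c.left) (h3 : Surjective c.left) :
    Epi ((yon S).map c) := by
  have : Sheaf.IsLocallySurjective ((yon S).map c) :=
    Groth.Agent.S9885.result S _ _ ((yon S).map c)
      ((repWith_yon_map_iff @Flat c).2 h1)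
      ((repWith_yon_map_iff @LocallyOfFinitePresentation c).2 h2)
      ((repWith_yon_map_iff @Surjective c).2 h3)
  infer_instance

/-- An étale surjective atlas is an epimorphism. -/
theorem epi_of_atlas {S : Scheme.{u}} {F : Sp S} {U : Over S} (p : (yon S).obj U ⟶ F)
    (he : RepWith @Etale p) (hs : RepWith @Surjective p) : Epi p := by
  have hfl : AlgSp.RepWith @Flat p :=
    MorphismProperty.relative_monotone
      (fun (A B : Over S) (f : A ⟶ B) (hf : Etale f.left) => (inferInstance : Flat f.left)) _ he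
  have hlfp : AlgSp.RepWith @LocallyOfFinitePresentation p :=
    MorphismProperty.relative_monotone
      (fun (A B : Over S) (f : A ⟶ B) (hf : Etale f.left) =>
        (inferInstance : LocallyOfFinitePresentation f.left)) _ he
  have : Sheaf.IsLocallySurjective p := Groth.Agent.S9885.result S _ _ p hfl hlfp hs
  infer_instance

/-- `j_!` is faithful on maps from representables into an algebraic space. -/
theorem flat_injective {F : Sp S} (hF : IsAlgSpace F) {X : Over S} (x y : (yon S).obj X ⟶ F)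
    (h : flat g x = flat g y) : x = y := by
  obtain ⟨U, p, he, hs⟩ := hF.atlas
  obtain ⟨R, s, fst, sq⟩ := hF.representable_from_yon p p
  obtain ⟨t, rfl⟩ := (yon S).map_surjective fst
  have hK : IsPullback ((yon S').map ((Over.map g).map t)) ((yon S').map ((Over.map g).map s))
      (flat g p) (flat g p) :=
    AlgSpTransfer.transfer_kernelPair (jSh g) (Over.map g) (shriekIso g)
      (fun s t h => map_isEtaleEqvRel g s t h) F hF p he hs s t sq
  haveI : Epi p := epi_of_atlas p he hs
  obtain ⟨X₁, c, hfl, hsurj, hlfp, a, ha⟩ := AtlasQuot.exists_single_fppf_lift p X x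
  obtain ⟨X₂, c₂, hfl₂, hsurj₂, hlfp₂, b, hb⟩ :=
    AtlasQuot.exists_single_fppf_lift p X₁ ((yon S).map c ≫ y)
  have h1 : (yon S').map ((Over.map g).map (c₂ ≫ a)) ≫ flat g p =
      (yon S').map ((Over.map g).map b) ≫ flat g p := by
    rw [← flat_map, ← flat_map, Functor.map_comp, Category.assoc, ha, hb, ← Category.assoc,
      ← Category.assoc, ← Functor.map_comp, flat_map, flat_map, h]
  obtain ⟨r₀, hr₀⟩ := (yon S').map_surjective (hK.lift _ _ h1)
  have hr1 : r₀ ≫ (Over.map g).map t = (Over.map g).map (c₂ ≫ a) := by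
    apply (yon S').map_injective
    rw [Functor.map_comp, hr₀, hK.lift_fst]
  have hr2 : r₀ ≫ (Over.map g).map s = (Over.map g).map b := by
    apply (yon S').map_injective
    rw [Functor.map_comp, hr₀, hK.lift_snd]
  have e1 : r₀.left ≫ t.left = (c₂ ≫ a).left := congrArg (fun f => CommaMorphism.left f) hr1
  have e2 : r₀.left ≫ s.left = b.left := congrArg (fun f => CommaMorphism.left f) hr2
  obtain ⟨r, hr⟩ : ∃ r : X₂ ⟶ R, r.left = r₀.left := by
    refine ⟨Over.homMk r₀.left ?_, rfl⟩
    have h3 : R.hom = t.left ≫ U.hom := (Over.w t).symm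
    rw [h3, ← Category.assoc, e1]
    exact Over.w (c₂ ≫ a)
  have hrt : r ≫ t = c₂ ≫ a := by
    ext
    rw [Over.comp_left, hr, e1]
  have hrs : r ≫ s = b := by
    ext
    rw [Over.comp_left, hr, e2]
  have h2 : (yon S).map (c₂ ≫ c) ≫ x = (yon S).map (c₂ ≫ c) ≫ y := by
    rw [Functor.map_comp, Category.assoc, Category.assoc, ← ha, ← hb, ← Category.assoc,
      ← Functor.map_comp, ← hrt, ← hrs, Functor.map_comp, Functor.map_comp, Category.assoc,
      Category.assoc, sq.w]
  haveI : Epi ((yon S).map (c₂ ≫ c)) :=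
    epi_yon_map_of_fppf' (c₂ ≫ c) (by rw [Over.comp_left]; infer_instance)
      (by rw [Over.comp_left]; infer_instance) (by rw [Over.comp_left]; infer_instance)
  exact (cancel_epi _).mp h2

/-- `j_!` preserves fibre products of schemes over an algebraic space. -/
theorem isPullback_flat {F : Sp S} (hF : IsAlgSpace F) {W X₁ X₂ : Over S} (a₁ : W ⟶ X₁)
    (a₂ : W ⟶ X₂) (f₁ : (yon S).obj X₁ ⟶ F) (f₂ : (yon S).obj X₂ ⟶ F)
    (sq : IsPullback ((yon S).map a₁) ((yon S).map a₂) f₁ f₂) :
    IsPullback ((yon S').map ((Over.map g).map a₁)) ((yon S').map ((Over.map g).map a₂))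
      (flat g f₁) (flat g f₂) := by
  refine sheaf_isPullback_of_yon.{u, u + 1, u + 1} (J S') _ _ _ _ ?_ ?_ ?_
  · rw [← flat_map, ← flat_map, sq.w]
  · intro T' z z' h1 h2
    obtain ⟨r, rfl⟩ := (yon S').map_surjective z
    obtain ⟨r', rfl⟩ := (yon S').map_surjective z'
    rw [← Functor.map_comp, ← Functor.map_comp] at h1 h2
    have e1 : r.left ≫ a₁.left = r'.left ≫ a₁.left :=
      congrArg (fun f => CommaMorphism.left f) ((yon S').map_injective h1)
    have e2 : r.left ≫ a₂.left = r'.left ≫ a₂.left :=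
      congrArg (fun f => CommaMorphism.left f) ((yon S').map_injective h2)
    have hW : W.hom = a₁.left ≫ X₁.hom := (Over.w a₁).symm
    obtain ⟨r₀, hr₀⟩ : ∃ r₀ : Over.mk (r.left ≫ W.hom) ⟶ W, r₀.left = r.left :=
      ⟨Over.homMk r.left rfl, rfl⟩
    obtain ⟨r₀', hr₀'⟩ : ∃ r₀' : Over.mk (r.left ≫ W.hom) ⟶ W, r₀'.left = r'.left := by
      refine ⟨Over.homMk r'.left ?_, rfl⟩
      change r'.left ≫ W.hom = r.left ≫ W.hom
      rw [hW, ← Category.assoc, ← Category.assoc, e1]
    have h3 : r₀ = r₀' := by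
      apply (yon S).map_injective
      apply sq.hom_ext
      · rw [← Functor.map_comp, ← Functor.map_comp]
        congr 1
        ext
        rw [Over.comp_left, Over.comp_left, hr₀, hr₀', e1]
      · rw [← Functor.map_comp, ← Functor.map_comp]
        congr 1
        ext
        rw [Over.comp_left, Over.comp_left, hr₀, hr₀', e2]
    congr 1
    ext
    rw [← hr₀, ← hr₀', h3]
  · intro T' x y hxy
    obtain ⟨a, rfl⟩ := (yon S').map_surjective x
    obtain ⟨b, rfl⟩ := (yon S').map_surjective y
    have h1 : a ≫ strΨ g X₁ = b ≫ strΨ g X₂ := by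
      apply (yon S').map_injective
      rw [Functor.map_comp, Functor.map_comp, ← flat_tauF g f₁, ← flat_tauF g f₂, ← Category.assoc,
        ← Category.assoc, hxy]
    have hab : a.left ≫ X₁.hom = b.left ≫ X₂.hom := congrArg (fun f => CommaMorphism.left f) h1
    obtain ⟨a₀, ha₀⟩ : ∃ a₀ : Over.mk (a.left ≫ X₁.hom) ⟶ X₁, a₀.left = a.left :=
      ⟨Over.homMk a.left rfl, rfl⟩
    obtain ⟨b₀, hb₀⟩ : ∃ b₀ : Over.mk (a.left ≫ X₁.hom) ⟶ X₂, b₀.left = b.left :=
      ⟨Over.homMk b.left hab.symm, rfl⟩
    obtain ⟨ι, hι⟩ : ∃ ι : (Over.map g).obj (Over.mk (a.left ≫ X₁.hom)) ≅ T', ι.hom.left = 𝟙 _ := by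
      refine ⟨Over.isoMk (Iso.refl _) ?_, rfl⟩
      have := (Over.w a).symm
      simpa using this
    have hΨa : (Over.map g).map a₀ = ι.hom ≫ a := by
      ext
      simp [ha₀, hι]
    have hΨb : (Over.map g).map b₀ = ι.hom ≫ b := by
      ext
      simp [hb₀, hι]
    have hp0 : (yon S).map a₀ ≫ f₁ = (yon S).map b₀ ≫ f₂ := by
      apply flat_injective g hF
      rw [flat_map, flat_map, hΨa, hΨb, Functor.map_comp, Functor.map_comp, Category.assoc,
        Category.assoc, hxy]
    obtain ⟨r₀, hr₀⟩ := (yon S).map_surjective (sq.lift _ _ hp0)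
    have hr1 : r₀ ≫ a₁ = a₀ := by
      apply (yon S).map_injective
      rw [Functor.map_comp, hr₀, sq.lift_fst]
    have hr2 : r₀ ≫ a₂ = b₀ := by
      apply (yon S).map_injective
      rw [Functor.map_comp, hr₀, sq.lift_snd]
    refine ⟨(yon S').map (ι.inv ≫ (Over.map g).map r₀), ?_, ?_⟩
    · rw [← Functor.map_comp, Category.assoc, ← Functor.map_comp, hr1, hΨa, Iso.inv_hom_id_assoc]
    · rw [← Functor.map_comp, Category.assoc, ← Functor.map_comp, hr2, hΨb, Iso.inv_hom_id_assoc]

end Groth.Agent.Lib.Helper5.AlgSpBC
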