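import Groth.Agent.Lib.Helper5.AlgSpShriek2
import Groth.Agent.Lib.Helper23.AlgSpDescent

/-! # `j_!` identifies algebraic spaces over `S` with algebraic spaces over `S'` mapping to `S` (helper5) -/

set_option autoImplicit false
universe u

open CategoryTheory CategoryTheory.Limits AlgebraicGeometry Opposite

namespace Groth.Agent.Lib.Helper5.AlgSpBC

open AlgSp

variable {S S' : Scheme.{u}} (g : S ⟶ S')

instance : (jSh g).PreservesEpimorphisms :=
  (jSh g).preservesEpimorphisms_of_adjunction (jShAdj g)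

lemma epi_flat {F : Sp S} {X : Over S} (x : (yon S).obj X ⟶ F) [Epi x] : Epi (flat g x) := by
  unfold flat
  infer_instance

/-- Naturality of `tauF`. -/
lemma map_tauF {F G : Sp S} (f : F ⟶ G) : (jSh g).map f ≫ tauF g G = tauF g F := by
  rw [tauF, tauF, ← Category.assoc, ← Functor.map_comp]
  congr 2
  exact (IsTerminal.isTerminalObj (yon S) _ Over.mkIdTerminal).hom_ext _ _

/-- Sections of `j_! G` compatible with the structure map to `S` come from sections of `G`. -/
theorem exists_flat_eq {G : Sp S} (hG : IsAlgSpace G) {X : Over S}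
    (c : (yon S').obj ((Over.map g).obj X) ⟶ (jSh g).obj G)
    (hc : c ≫ tauF g G = (yon S').map (strΨ g X)) : ∃ y : (yon S).obj X ⟶ G, flat g y = c := by
  obtain ⟨U, p, he, hs⟩ := hG.atlas
  haveI : Epi p := epi_of_atlas p he hs
  haveI : Epi (flat g p) := epi_flat g p
  obtain ⟨X₁', π, h1, h2, h3, a', ha'⟩ := AtlasQuot.exists_single_fppf_lift (flat g p) _ c
  have hstr0 : a' ≫ strΨ g U = π ≫ strΨ g X := by
    apply (yon S').map_injective
    rw [Functor.map_comp, Functor.map_comp, ← flat_tauF g p, ← hc, ← Category.assoc,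
      ← Category.assoc, ha']
  have hstr : a'.left ≫ U.hom = π.left ≫ X.hom := congrArg (fun f => CommaMorphism.left f) hstr0
  obtain ⟨π₀, hπ₀⟩ : ∃ π₀ : Over.mk (π.left ≫ X.hom) ⟶ X, π₀.left = π.left :=
    ⟨Over.homMk π.left rfl, rfl⟩
  obtain ⟨a₀, ha₀⟩ : ∃ a₀ : Over.mk (π.left ≫ X.hom) ⟶ U, a₀.left = a'.left :=
    ⟨Over.homMk a'.left hstr, rfl⟩
  obtain ⟨ι, hι⟩ : ∃ ι : (Over.map g).obj (Over.mk (π.left ≫ X.hom)) ≅ X₁', ι.hom.left = 𝟙 _ := by
    refine ⟨Over.isoMk (Iso.refl _) ?_, rfl⟩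
    have := (Over.w π).symm
    simpa using this
  have hΨπ : (Over.map g).map π₀ = ι.hom ≫ π := by
    ext
    simp [hπ₀, hι]
  have hΨa : (Over.map g).map a₀ = ι.hom ≫ a' := by
    ext
    simp [ha₀, hι]
  have hy₁ : flat g ((yon S).map a₀ ≫ p) = (yon S').map ((Over.map g).map π₀) ≫ c := by
    rw [flat_map, hΨa, hΨπ, Functor.map_comp, Functor.map_comp, Category.assoc, Category.assoc, ha']
  have hfl : Flat π₀.left := by rw [hπ₀]; exact h1
  have hsurj : Surjective π₀.left := by rw [hπ₀]; exact h2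
  have hlfp : LocallyOfFinitePresentation π₀.left := by rw [hπ₀]; exact h3
  have heq : (yon S).map (pullback.fst π₀ π₀) ≫ ((yon S).map a₀ ≫ p) =
      (yon S).map (pullback.snd π₀ π₀) ≫ ((yon S).map a₀ ≫ p) := by
    apply flat_injective g hG
    rw [flat_map g (pullback.fst π₀ π₀), flat_map g (pullback.snd π₀ π₀), hy₁, ← Category.assoc,
      ← Category.assoc, ← Functor.map_comp, ← Functor.map_comp, ← Functor.map_comp,
      ← Functor.map_comp, pullback.condition]
  obtain ⟨y, hy⟩ := Groth.Agent.Lib.Helper23.AlgSpMor.exists_desc_of_fppf π₀ hfl hlfp hsurj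
    ((yon S).map a₀ ≫ p) (pullback.fst π₀ π₀) (pullback.snd π₀ π₀) (IsPullback.of_hasPullback _ _) heq
  refine ⟨y, ?_⟩
  haveI : Epi ((yon S').map ((Over.map g).map π₀)) :=
    epi_yon_map_of_fppf' _ hfl hlfp hsurj
  rw [← cancel_epi ((yon S').map ((Over.map g).map π₀)), ← flat_map, hy, hy₁]

/-- `j_!` is faithful on morphisms into algebraic spaces. -/
theorem jSh_map_injective {F G : Sp S} (hG : IsAlgSpace G) (f f' : F ⟶ G)
    (h : (jSh g).map f = (jSh g).map f') : f = f' := by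
  apply GrothendieckTopology.hom_ext_uliftYoneda.{u + 1, u, u + 1} (J S)
  intro X x
  apply flat_injective g hG
  rw [flat_comp, flat_comp, h]

/-- Every section of `j_! F` over `T'/S'` is, after giving `T'` its induced structure over `S`, of
the form `flat x`. -/
theorem exists_flat_of_section {F : Sp S} (hF : IsAlgSpace F) {T' : Over S'}
    (c : (yon S').obj T' ⟶ (jSh g).obj F) :
    ∃ (φ₀ : T' ⟶ Over.mk g) (x : (yon S).obj (lift g φ₀) ⟶ F),
      (yon S').map φ₀ = c ≫ tauF g F ∧ c = (yon S').map (liftIso g φ₀).inv ≫ flat g x := by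
  obtain ⟨φ₀, hφ₀⟩ := (yon S').map_surjective (c ≫ tauF g F)
  obtain ⟨x, hx⟩ := exists_flat_eq g hF ((yon S').map (liftIso g φ₀).hom ≫ c) (by
    rw [Category.assoc, ← hφ₀, ← Functor.map_comp, liftIso_hom_comp])
  refine ⟨φ₀, x, hφ₀, ?_⟩
  rw [hx, ← Category.assoc, ← Functor.map_comp, Iso.inv_hom_id, CategoryTheory.Functor.map_id,
    Category.id_comp]

/-- `j_!` is full on morphisms of algebraic spaces compatible with the structure maps to `S`. -/
theorem exists_map_of_over {F G : Sp S} (hF : IsAlgSpace F) (hG : IsAlgSpace G)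
    (φ : (jSh g).obj F ⟶ (jSh g).obj G) (hφ : φ ≫ tauF g G = tauF g F) :
    ∃ f : F ⟶ G, (jSh g).map f = φ := by
  have hex : ∀ (X : Over S) (x : (yon S).obj X ⟶ F),
      ∃ y : (yon S).obj X ⟶ G, flat g y = flat g x ≫ φ := fun X x =>
    exists_flat_eq g hG (flat g x ≫ φ) (by rw [Category.assoc, hφ, flat_tauF])
  choose k hk using hex
  have hknat : ∀ (X Y : Over S) (a : Y ⟶ X) (x : (yon S).obj X ⟶ F),
      k Y ((yon S).map a ≫ x) = (yon S).map a ≫ k X x := by
    intro X Y a x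
    apply flat_injective g hG
    rw [hk, flat_map, flat_map, hk, Category.assoc]
  let f : F ⟶ G := ⟨{
    app := fun X => ↾(fun s => (J S).uliftYonedaEquiv (k X.unop ((J S).uliftYonedaEquiv.symm s)))
    naturality := by
      intro X Y a
      ext s
      change (J S).uliftYonedaEquiv (k Y.unop ((J S).uliftYonedaEquiv.symm (F.obj.map a s))) =
        G.obj.map a ((J S).uliftYonedaEquiv (k X.unop ((J S).uliftYonedaEquiv.symm s)))
      rw [GrothendieckTopology.uliftYonedaEquiv_symm_map, hknat,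
        GrothendieckTopology.uliftYonedaEquiv_naturality'] }⟩
  have hf : ∀ (X : Over S) (x : (yon S).obj X ⟶ F), x ≫ f = k X x := by
    intro X x
    apply (J S).uliftYonedaEquiv.injective
    rw [GrothendieckTopology.uliftYonedaEquiv_comp]
    change (J S).uliftYonedaEquiv (k X ((J S).uliftYonedaEquiv.symm ((J S).uliftYonedaEquiv x))) = _
    rw [Equiv.symm_apply_apply]
  refine ⟨f, ?_⟩
  apply GrothendieckTopology.hom_ext_uliftYoneda.{u + 1, u, u + 1} (J S')
  intro T' c
  obtain ⟨φ₀, x, -, rfl⟩ := exists_flat_of_section g hF c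
  rw [Category.assoc, Category.assoc, ← flat_comp, hf, hk]

/-- The canonical map `j_! 1 ⟶ h_{S/S'}`. -/
noncomputable def theta : (jSh g).obj ((yon S).obj (Over.mk (𝟙 S))) ⟶ (yon S').obj (Over.mk g) :=
  (shriekIso g).hom.app (Over.mk (𝟙 S)) ≫ (yon S').map (strΨ g (Over.mk (𝟙 S)))

lemma tauF_eq (F : Sp S) : tauF g F =
    (jSh g).map ((IsTerminal.isTerminalObj (yon S) _ Over.mkIdTerminal).from F) ≫ theta g := rfl

/-- The canonical point of `j⁻¹ h_{S/S'}`. -/
noncomputable def delta : (yon S).obj (Over.mk (𝟙 S)) ⟶ (jInv g).obj ((yon S').obj (Over.mk g)) :=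
  (jShAdj g).homEquiv _ _ (theta g)

lemma tr_delta : tr (delta g) = (yon S').map (strΨ g (Over.mk (𝟙 S))) := by
  rw [tr, delta, Equiv.symm_apply_apply, theta, Iso.inv_hom_id_app_assoc]

lemma tr_comp {F' G' : Sp S'} {T : Over S} (x : (yon S).obj T ⟶ (jInv g).obj F') (a : F' ⟶ G') :
    tr (x ≫ (jInv g).map a) = tr x ≫ a := by
  rw [tr, tr, Adjunction.homEquiv_naturality_right_symm, Category.assoc]

/-- Every algebraic space over `S'` with a map to `h_{S/S'}` is `j_!` of an algebraic space over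
`S`, compatibly with the structure maps. -/
theorem exists_of_over (F' : Sp S') (hF' : IsAlgSpace F') (a : F' ⟶ (yon S').obj (Over.mk g)) :
    ∃ (F : Sp S) (_ : IsAlgSpace F) (ε : (jSh g).obj F ≅ F'), ε.hom ≫ a = tauF g F := by
  have hA : IsTerminal ((yon S).obj (Over.mk (𝟙 S))) :=
    IsTerminal.isTerminalObj (yon S) _ Over.mkIdTerminal
  obtain ⟨F, fst, snd, sq⟩ : ∃ (F : Sp S) (fst : F ⟶ (jInv g).obj F')
      (snd : F ⟶ (yon S).obj (Over.mk (𝟙 S))), IsPullback fst snd ((jInv g).map a) (delta g) :=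
    ⟨_, _, _, IsPullback.of_hasPullback _ _⟩
  have hFalg : IsAlgSpace F :=
    Groth.Agent.Lib.Helper23.AlgSpMor.isAlgSpace_of_isPullback (isAlgSpace_jInv g F' hF')
      (IsAlgSpace.yon_obj _) (isAlgSpace_jInv g _ (IsAlgSpace.yon_obj _)).diag sq
  obtain ⟨ε₀, hε₀⟩ : ∃ ε₀ : (jSh g).obj F ⟶ F', ε₀ = ((jShAdj g).homEquiv _ _).symm fst := ⟨_, rfl⟩
  have hcomp : ε₀ ≫ a = tauF g F := by
    apply ((jShAdj g).homEquiv _ _).injective
    rw [Adjunction.homEquiv_naturality_right, hε₀, Equiv.apply_symm_apply, tauF_eq,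
      Adjunction.homEquiv_naturality_left, sq.w]
    congr 1
    exact hA.hom_ext _ _
  have hflat : ∀ (X : Over S) (x : (yon S).obj X ⟶ F), flat g x ≫ ε₀ = tr (x ≫ fst) := by
    intro X x
    rw [flat, tr, hε₀, Category.assoc, Adjunction.homEquiv_naturality_left_symm]
  -- sections of F' lift
  have hlift : ∀ (T' : Over S') (c : (yon S').obj T' ⟶ F'),
      ∃ z : (yon S').obj T' ⟶ (jSh g).obj F, z ≫ ε₀ = c := by
    intro T' c
    obtain ⟨φ₀, hφ₀⟩ := (yon S').map_surjective (c ≫ a)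
    obtain ⟨ct, hct⟩ := tr_surjective (g := g) (T := lift g φ₀) ((yon S').map (liftIso g φ₀).hom ≫ c)
    have hcond : ct ≫ (jInv g).map a = (yon S).map (Over.mkIdTerminal.from (lift g φ₀)) ≫ delta g := by
      apply tr_injective
      rw [tr_comp, hct, tr_map, tr_delta, Category.assoc, ← hφ₀, ← Functor.map_comp,
        ← Functor.map_comp, liftIso_hom_comp, map_strΨ]
    refine ⟨(yon S').map (liftIso g φ₀).inv ≫ flat g (sq.lift _ _ hcond), ?_⟩
    rw [Category.assoc, hflat, sq.lift_fst, hct, ← Category.assoc, ← Functor.map_comp,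
      Iso.inv_hom_id, CategoryTheory.Functor.map_id, Category.id_comp]
  haveI : Epi ε₀ := by
    apply QuotShK.epi_of_local_lift (K := Scheme.fppfPrecoverage) ε₀
    intro T' c
    refine ⟨⊤, (J S').top_mem _, fun T'' ψ _ => ?_⟩
    exact hlift T'' ((yon S').map ψ ≫ c)
  haveI : Mono ε₀ := by
    apply QuotShK.mono_of_yon_cancel (K := Scheme.fppfPrecoverage) ε₀
    intro T' c₁ c₂ h12
    obtain ⟨φ₁, x₁, hφ₁, rfl⟩ := exists_flat_of_section g hFalg c₁
    obtain ⟨φ₂, x₂, hφ₂, h₂⟩ := exists_flat_of_section g hFalg c₂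
    have hφ : φ₂ = φ₁ := by
      apply (yon S').map_injective
      rw [hφ₁, hφ₂, ← hcomp, ← Category.assoc, ← Category.assoc, h12]
    subst hφ
    subst h₂
    rw [Category.assoc, Category.assoc, hflat, hflat] at h12
    have h3 := (cancel_epi ((yon S').map (liftIso g φ₂).inv)).mp h12
    have h4 : x₁ ≫ fst = x₂ ≫ fst := tr_injective h3
    have h5 : x₁ = x₂ := sq.hom_ext h4 (hA.hom_ext _ _)
    rw [h5]
  haveI : IsIso ε₀ := isIso_of_mono_of_epi ε₀
  exact ⟨F, hFalg, asIso ε₀, hcomp⟩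

end Groth.Agent.Lib.Helper5.AlgSpBC
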