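import Groth.Prelude.Def_AlgSp
import Groth.Agent.Lib.Helper5.SheafPullback2
import Mathlib.CategoryTheory.Sites.LocallyInjective
import Mathlib.CategoryTheory.Sites.LocallySurjective

/-! # Basic API for the quotient sheaf `QuotSh.quot` (fppf, over `S`), in terms of `AlgSp.yon` -/

set_option autoImplicit false
universe u

open CategoryTheory CategoryTheory.Limits AlgebraicGeometry Opposite

namespace Groth.Agent.Lib.Helper5

open AlgSp

variable {S : Scheme.{u}}

/-- Naturality of `QuotSh.repIsoUliftYoneda`. -/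
lemma repMap_comp_repIso_hom {V W : Over S} (g : V ⟶ W) :
    QuotSh.repMap Scheme.fppfPrecoverage g ≫ (QuotSh.repIsoUliftYoneda Scheme.fppfPrecoverage W).hom =
      (QuotSh.repIsoUliftYoneda Scheme.fppfPrecoverage V).hom ≫ (yon S).map g := by
  have h := (sheafificationNatIso (J S) (Type (u + 1))).hom.naturality ((yon S).map g)
  exact (Iso.comp_inv_eq (sheafificationIso ((yon S).obj W))).mpr
    (((Iso.eq_inv_comp (sheafificationIso ((yon S).obj V))).mpr h.symm).trans
      (Category.assoc _ _ _).symm)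

lemma repIso_inv_comp_repMap {V W : Over S} (g : V ⟶ W) :
    (QuotSh.repIsoUliftYoneda Scheme.fppfPrecoverage V).inv ≫ QuotSh.repMap Scheme.fppfPrecoverage g =
      (yon S).map g ≫ (QuotSh.repIsoUliftYoneda Scheme.fppfPrecoverage W).inv :=
  (Iso.inv_comp_eq _).mpr (((Iso.eq_comp_inv _).mpr (repMap_comp_repIso_hom g)).trans
    (Category.assoc _ _ _))

variable {R U : Over S} (s t : R ⟶ U)

/-- The quotient map written on `h_U`. -/
noncomputable def quotπ' : (yon S).obj U ⟶ QuotSh.quot Scheme.fppfPrecoverage s t :=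
  (QuotSh.repIsoUliftYoneda Scheme.fppfPrecoverage U).inv ≫ QuotSh.quotπ Scheme.fppfPrecoverage s t

lemma quotπ'_condition : (yon S).map s ≫ quotπ' s t = (yon S).map t ≫ quotπ' s t := by
  have h := QuotSh.quot_condition Scheme.fppfPrecoverage s t
  have hs := repIso_inv_comp_repMap s
  have ht := repIso_inv_comp_repMap t
  calc (yon S).map s ≫ quotπ' s t
      = ((yon S).map s ≫ (QuotSh.repIsoUliftYoneda Scheme.fppfPrecoverage U).inv) ≫
          QuotSh.quotπ Scheme.fppfPrecoverage s t := (Category.assoc _ _ _).symm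
    _ = ((QuotSh.repIsoUliftYoneda Scheme.fppfPrecoverage R).inv ≫
          QuotSh.repMap Scheme.fppfPrecoverage s) ≫ QuotSh.quotπ Scheme.fppfPrecoverage s t := by
        rw [hs]
    _ = (QuotSh.repIsoUliftYoneda Scheme.fppfPrecoverage R).inv ≫
          QuotSh.repMap Scheme.fppfPrecoverage s ≫ QuotSh.quotπ Scheme.fppfPrecoverage s t :=
        Category.assoc _ _ _
    _ = (QuotSh.repIsoUliftYoneda Scheme.fppfPrecoverage R).inv ≫
          QuotSh.repMap Scheme.fppfPrecoverage t ≫ QuotSh.quotπ Scheme.fppfPrecoverage s t := by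
        rw [h]
    _ = ((QuotSh.repIsoUliftYoneda Scheme.fppfPrecoverage R).inv ≫
          QuotSh.repMap Scheme.fppfPrecoverage t) ≫ QuotSh.quotπ Scheme.fppfPrecoverage s t :=
        (Category.assoc _ _ _).symm
    _ = ((yon S).map t ≫ (QuotSh.repIsoUliftYoneda Scheme.fppfPrecoverage U).inv) ≫
          QuotSh.quotπ Scheme.fppfPrecoverage s t := by rw [ht]
    _ = (yon S).map t ≫ quotπ' s t := Category.assoc _ _ _

end Groth.Agent.Lib.Helper5

namespace Groth.Agent.Lib.Helper5

open AlgSp

variable {S : Scheme.{u}} {R U : Over S} (s t : R ⟶ U)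

/-- `U/R` is the coequalizer of `h_s, h_t : h_R ⇉ h_U`. -/
noncomputable def quotIsColimit :
    IsColimit (Cofork.ofπ (quotπ' s t) (quotπ'_condition s t)) :=
  Cofork.isColimitOfIsos
    (Cofork.ofπ (QuotSh.quotπ Scheme.fppfPrecoverage s t)
      (QuotSh.quot_condition Scheme.fppfPrecoverage s t))
    (coequalizerIsCoequalizer _ _)
    (Cofork.ofπ (quotπ' s t) (quotπ'_condition s t))
    (QuotSh.repIsoUliftYoneda Scheme.fppfPrecoverage R)
    (QuotSh.repIsoUliftYoneda Scheme.fppfPrecoverage U) (Iso.refl _)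
    (repMap_comp_repIso_hom s).symm (repMap_comp_repIso_hom t).symm
    (by
      change _ ≫ QuotSh.quotπ Scheme.fppfPrecoverage s t ≫ 𝟙 _ = quotπ' s t
      rw [Category.comp_id]; rfl)

instance : Epi (QuotSh.quotπ Scheme.fppfPrecoverage s t) :=
  inferInstanceAs (Epi (coequalizer.π (QuotSh.repMap Scheme.fppfPrecoverage s)
    (QuotSh.repMap Scheme.fppfPrecoverage t)))

instance : Epi (quotπ' s t) :=
  epi_comp _ _

instance : Sheaf.IsLocallySurjective (quotπ' s t) :=
  (Sheaf.isLocallySurjective_iff_epi _).mpr inferInstance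

end Groth.Agent.Lib.Helper5
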