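import Groth.Prelude.Def_AlgSp
import Groth.Agent.Lib.Helper5.QuotShBasic
import Groth.Agent.Lib.Helper5.QuotShK
import Groth.Agent.S9868
import Groth.Agent.S9872

/-! # Transfer of algebraic spaces along functors preserving coequalizers (helper5)

If `Φ : Sp S₁ ⥤ Sp S₂` preserves coequalizers, is compatible with a functor `Ψ` on schemes
(`Φ h_X ≅ h_{Ψ X}` naturally) and `Ψ` preserves étale equivalence relations, then `Φ` maps algebraic
spaces to algebraic spaces. -/

set_option autoImplicit false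
universe u

open CategoryTheory CategoryTheory.Limits AlgebraicGeometry Opposite

namespace Groth.Agent.Lib.Helper5.AlgSpTransfer

open AlgSp

theorem isAlgSpace_transfer {S₁ S₂ : Scheme.{u}} (Φ : Sp S₁ ⥤ Sp S₂)
    [PreservesColimitsOfShape WalkingParallelPair Φ]
    (Ψ : Over S₁ ⥤ Over S₂) (e : yon S₁ ⋙ Φ ≅ Ψ ⋙ yon S₂)
    (hΨ : ∀ {R U : Over S₁} (s t : R ⟶ U), IsEtaleEqvRel s t → IsEtaleEqvRel (Ψ.map s) (Ψ.map t))
    (F : Sp S₁) (hF : IsAlgSpace F) : IsAlgSpace (Φ.obj F) := by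
  obtain ⟨U, p, he, hs⟩ := hF.atlas
  have hrep : Representable p := hF.representable_from_yon p
  obtain ⟨R, s, fst, sq⟩ := hrep p
  obtain ⟨t, rfl⟩ := (yon S₁).map_surjective fst
  obtain ⟨-, ⟨hc⟩⟩ := Groth.Agent.S9872.result S₁ F hF p he hs s t sq
  have hrel' : IsEtaleEqvRel t s := (Groth.Agent.S9872.result S₁ F hF p he hs t s sq.flip).1
  have h2 := Groth.Agent.S9868.result S₂ (Ψ.map t) (Ψ.map s) (hΨ t s hrel')
  have hcΦ := isColimitCoforkMapOfIsColimit Φ sq.w hc
  have w' : (yon S₂).map (Ψ.map t) ≫ ((e.app U).inv ≫ Φ.map p) =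
      (yon S₂).map (Ψ.map s) ≫ ((e.app U).inv ≫ Φ.map p) := by
    have h1 := e.inv.naturality t
    have h2 := e.inv.naturality s
    simp only [Functor.comp_obj, Functor.comp_map] at h1 h2
    rw [← Category.assoc, ← Category.assoc, Iso.app_inv, h1, h2, Category.assoc, Category.assoc,
      ← Φ.map_comp, ← Φ.map_comp, sq.w]
  have hc' : IsColimit (Cofork.ofπ ((e.app U).inv ≫ Φ.map p) w') :=
    Cofork.isColimitOfIsos _ hcΦ _ (e.app R) (e.app U) (Iso.refl _)
      (by simpa using (e.hom.naturality t).symm) (by simpa using (e.hom.naturality s).symm)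
      (by simp)
  have hq := quotIsColimit (Ψ.map t) (Ψ.map s)
  exact h2.of_iso (hq.coconePointUniqueUpToIso hc')

/-- Under the hypotheses of `isAlgSpace_transfer`, the image of an atlas with its kernel pair is
again a kernel pair. -/
theorem transfer_kernelPair {S₁ S₂ : Scheme.{u}} (Φ : Sp S₁ ⥤ Sp S₂)
    [PreservesColimitsOfShape WalkingParallelPair Φ]
    (Ψ : Over S₁ ⥤ Over S₂) (e : yon S₁ ⋙ Φ ≅ Ψ ⋙ yon S₂)
    (hΨ : ∀ {R U : Over S₁} (s t : R ⟶ U), IsEtaleEqvRel s t → IsEtaleEqvRel (Ψ.map s) (Ψ.map t))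
    (F : Sp S₁) (hF : IsAlgSpace F) {R U : Over S₁} (p : (yon S₁).obj U ⟶ F)
    (he : RepWith @Etale p) (hs : RepWith @Surjective p) (s t : R ⟶ U)
    (sq : IsPullback ((yon S₁).map t) ((yon S₁).map s) p p) :
    IsPullback ((yon S₂).map (Ψ.map t)) ((yon S₂).map (Ψ.map s)) ((e.app U).inv ≫ Φ.map p)
      ((e.app U).inv ≫ Φ.map p) := by
  obtain ⟨-, ⟨hc⟩⟩ := Groth.Agent.S9872.result S₁ F hF p he hs s t sq
  have hrel' : IsEtaleEqvRel t s := (Groth.Agent.S9872.result S₁ F hF p he hs t s sq.flip).1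
  have hcΦ := isColimitCoforkMapOfIsColimit Φ sq.w hc
  have w' : (yon S₂).map (Ψ.map t) ≫ ((e.app U).inv ≫ Φ.map p) =
      (yon S₂).map (Ψ.map s) ≫ ((e.app U).inv ≫ Φ.map p) := by
    have h1 := e.inv.naturality t
    have h2 := e.inv.naturality s
    simp only [Functor.comp_obj, Functor.comp_map] at h1 h2
    rw [← Category.assoc, ← Category.assoc, Iso.app_inv, h1, h2, Category.assoc, Category.assoc,
      ← Φ.map_comp, ← Φ.map_comp, sq.w]
  have hc' : IsColimit (Cofork.ofπ ((e.app U).inv ≫ Φ.map p) w') :=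
    Cofork.isColimitOfIsos _ hcΦ _ (e.app R) (e.app U) (Iso.refl _)
      (by simpa using (e.hom.naturality t).symm) (by simpa using (e.hom.naturality s).symm)
      (by simp)
  have hq := quotIsColimit (Ψ.map t) (Ψ.map s)
  have hπ : quotπ' (Ψ.map t) (Ψ.map s) ≫ (hq.coconePointUniqueUpToIso hc').hom =
      (e.app U).inv ≫ Φ.map p :=
    hq.comp_coconePointUniqueUpToIso_hom hc' WalkingParallelPair.one
  have hk := (QuotShK.isPullback_quotπ' Scheme.fppfPrecoverage (Ψ.map t) (Ψ.map s)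
    (hΨ t s hrel').toIsEqvRel).flip
  rw [← hπ]
  exact IsPullback.of_iso hk (Iso.refl _) (Iso.refl _) (Iso.refl _)
    (hq.coconePointUniqueUpToIso hc') (by simp) (by simp) (by simp [quotπ', QuotShK.quotπ'])
    (by simp [quotπ', QuotShK.quotπ'])

end Groth.Agent.Lib.Helper5.AlgSpTransfer
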