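import Groth.Agent.Lib.Helper5.ProjBasic
import Mathlib.AlgebraicGeometry.Properties

set_option autoImplicit false
universe u
open CategoryTheory CategoryTheory.Limits AlgebraicGeometry

namespace Groth.Agent.Lib.Helper5

variable {σ : Type*} {A : Type u} [CommRing A] [SetLike σ A] [AddSubgroupClass σ A]
variable (𝒜 : ℕ → σ) [GradedRing 𝒜]

theorem away_mk_eq_zero_iff {d : ℕ} {f : A} (hf : f ∈ 𝒜 d) (n : ℕ) (a : A) (ha : a ∈ 𝒜 (n • d)) :
    HomogeneousLocalization.Away.mk 𝒜 hf n a ha = 0 ↔ ∃ m : ℕ, f ^ m * a = 0 := by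
  rw [HomogeneousLocalization.ext_iff_val, HomogeneousLocalization.Away.val_mk,
    HomogeneousLocalization.val_zero, Localization.mk_eq_mk', IsLocalization.mk'_eq_zero_iff]
  constructor
  · rintro ⟨⟨_, m, rfl⟩, hm⟩
    exact ⟨m, hm⟩
  · rintro ⟨m, hm⟩
    exact ⟨⟨_, m, rfl⟩, hm⟩

theorem isReduced_away
    (hred : ∀ f ∈ (HomogeneousIdeal.irrelevant 𝒜).toIdeal, IsNilpotent f → f = 0)
    {d : ℕ} (hd : 0 < d) {f : A} (hf : f ∈ 𝒜 d) :
    _root_.IsReduced (HomogeneousLocalization.Away 𝒜 f) := by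
  refine ⟨fun x hx => ?_⟩
  obtain ⟨n, a, ha, rfl⟩ := HomogeneousLocalization.Away.mk_surjective 𝒜 hf x
  obtain ⟨k, hk⟩ := hx
  have hk' : HomogeneousLocalization.Away.mk 𝒜 hf (k * n) (a ^ k)
      (by rw [mul_smul]; exact SetLike.pow_mem_graded k ha) = 0 := by
    rw [← hk, HomogeneousLocalization.ext_iff_val, HomogeneousLocalization.val_pow,
      HomogeneousLocalization.Away.val_mk, HomogeneousLocalization.Away.val_mk,
      Localization.mk_pow]
    congr 1
    ext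
    simp [pow_mul, mul_comm]
  obtain ⟨m, hm⟩ := (away_mk_eq_zero_iff 𝒜 hf _ _ _).mp hk'
  have hfa : f * a ∈ (HomogeneousIdeal.irrelevant 𝒜).toIdeal :=
    Ideal.mul_mem_right _ _ (HomogeneousIdeal.mem_irrelevant_of_mem 𝒜 hd hf)
  have hnil : IsNilpotent (f * a) := by
    refine ⟨m + k, ?_⟩
    rw [mul_pow, pow_add, pow_add]
    calc f ^ m * f ^ k * (a ^ m * a ^ k) = (f ^ m * a ^ k) * (f ^ k * a ^ m) := by ring
      _ = 0 := by rw [hm, zero_mul]
  have h0 := hred _ hfa hnil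
  rw [away_mk_eq_zero_iff]
  exact ⟨1, by rwa [pow_one]⟩

theorem proj_isReduced
    (hred : ∀ f ∈ (HomogeneousIdeal.irrelevant 𝒜).toIdeal, IsNilpotent f → f = 0) :
    AlgebraicGeometry.IsReduced (Proj 𝒜) := by
  have : ∀ i, AlgebraicGeometry.IsReduced ((Proj.affineOpenCover 𝒜).openCover.X i) := by
    intro i
    have : _root_.IsReduced (HomogeneousLocalization.Away 𝒜 i.2.1) :=
      isReduced_away 𝒜 hred i.1.2 i.2.2
    change AlgebraicGeometry.IsReduced (Spec (.of (HomogeneousLocalization.Away 𝒜 i.2.1)))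
    infer_instance
  exact IsReduced.of_openCover _ (Proj.affineOpenCover 𝒜).openCover

end Groth.Agent.Lib.Helper5

namespace Groth.Agent.Lib.Helper5

variable {σ : Type*} {A : Type u} [CommRing A] [SetLike σ A] [AddSubgroupClass σ A]
variable (𝒜 : ℕ → σ) [GradedRing 𝒜]

theorem exists_basicOpen_subset_of_mem {U : Set (Proj 𝒜)} (hU : IsOpen U) {x : Proj 𝒜}
    (hxU : x ∈ U) :
    ∃ g ∈ (HomogeneousIdeal.irrelevant 𝒜).toIdeal, x ∈ Proj.basicOpen 𝒜 g ∧
      (Proj.basicOpen 𝒜 g : Set (Proj 𝒜)) ⊆ U := by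
  obtain ⟨_, ⟨_, ⟨a, rfl⟩, rfl⟩, hxa, haU⟩ :=
    (Proj.isBasis_basicOpen 𝒜).exists_subset_of_mem_open hxU hU
  obtain ⟨s, hs, hsx⟩ := Set.not_subset.mp x.not_irrelevant_le
  refine ⟨a * s, Ideal.mul_mem_left _ _ hs, ?_, ?_⟩
  · rw [Proj.mem_basicOpen]
    intro h
    rcases x.isPrime.mem_or_mem h with h | h
    · exact hxa h
    · exact hsx h
  · exact subset_trans (Proj.basicOpen_mono 𝒜 a (a * s) ⟨s, rfl⟩) haU

theorem basicOpen_nonempty_iff {f : A} (hf : f ∈ (HomogeneousIdeal.irrelevant 𝒜).toIdeal) :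
    (Proj.basicOpen 𝒜 f : Set (Proj 𝒜)).Nonempty ↔ ¬ IsNilpotent f := by
  rw [← basicOpen_eq_bot_iff 𝒜 hf, Set.nonempty_iff_ne_empty, ne_eq, not_iff_not,
    ← TopologicalSpace.Opens.coe_bot, SetLike.coe_set_eq]

theorem proj_isIntegral_iff
    (hred : ∀ f ∈ (HomogeneousIdeal.irrelevant 𝒜).toIdeal, IsNilpotent f → f = 0) :
    AlgebraicGeometry.IsIntegral (Proj 𝒜) ↔
      ((∃ f ∈ (HomogeneousIdeal.irrelevant 𝒜).toIdeal, f ≠ 0) ∧
        ∀ f ∈ (HomogeneousIdeal.irrelevant 𝒜).toIdeal,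
          ∀ g ∈ (HomogeneousIdeal.irrelevant 𝒜).toIdeal, f * g = 0 → f = 0 ∨ g = 0) := by
  have hnil : ∀ f ∈ (HomogeneousIdeal.irrelevant 𝒜).toIdeal, f ≠ 0 → ¬ IsNilpotent f :=
    fun f hf h0 hn => h0 (hred f hf hn)
  constructor
  · intro hint
    have hirr : IrreducibleSpace (Proj 𝒜) := inferInstance
    constructor
    · by_contra! H
      have : IsEmpty (Proj 𝒜) := by
        rw [isEmpty_iff_irrelevant_nilpotent]
        intro f hf
        rw [H f hf]
        exact IsNilpotent.zero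
      exact this.false hirr.toNonempty.some
    · intro f hf g hg hfg
      by_contra! H
      have h1 := (basicOpen_nonempty_iff 𝒜 hf).mpr (hnil f hf H.1)
      have h2 := (basicOpen_nonempty_iff 𝒜 hg).mpr (hnil g hg H.2)
      have h3 := nonempty_preirreducible_inter (Proj.basicOpen 𝒜 f).isOpen
        (Proj.basicOpen 𝒜 g).isOpen h1 h2
      rw [← TopologicalSpace.Opens.coe_inf, ← Proj.basicOpen_mul, hfg, Proj.basicOpen_zero] at h3
      simp at h3
  · rintro ⟨⟨f, hf, hf0⟩, hdom⟩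
    have hred' : AlgebraicGeometry.IsReduced (Proj 𝒜) := proj_isReduced 𝒜 hred
    have hne : Nonempty (Proj 𝒜) := by
      obtain ⟨x, -⟩ := (basicOpen_nonempty_iff 𝒜 hf).mpr (hnil f hf hf0)
      exact ⟨x⟩
    have hirr : IrreducibleSpace (Proj 𝒜) := by
      refine { toNonempty := hne, isPreirreducible_univ := ?_ }
      rintro u v hu hv ⟨x, -, hxu⟩ ⟨y, -, hyv⟩
      obtain ⟨a, ha, hxa, hau⟩ := exists_basicOpen_subset_of_mem 𝒜 hu hxu
      obtain ⟨b, hb, hyb, hbv⟩ := exists_basicOpen_subset_of_mem 𝒜 hv hyv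
      have ha0 : a ≠ 0 := by
        rintro rfl
        rw [Proj.basicOpen_zero] at hxa
        exact hxa
      have hb0 : b ≠ 0 := by
        rintro rfl
        rw [Proj.basicOpen_zero] at hyb
        exact hyb
      have hab : a * b ≠ 0 := fun h => (hdom a ha b hb h).elim ha0 hb0
      have habirr : a * b ∈ (HomogeneousIdeal.irrelevant 𝒜).toIdeal := Ideal.mul_mem_left _ _ hb
      obtain ⟨z, hz⟩ := (basicOpen_nonempty_iff 𝒜 habirr).mpr (hnil _ habirr hab)
      rw [Proj.basicOpen_mul] at hz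
      exact ⟨z, Set.mem_univ _, hau hz.1, hbv hz.2⟩
    exact isIntegral_of_irreducibleSpace_of_isReduced _

end Groth.Agent.Lib.Helper5
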