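import Groth.Agent.Lib.Helper5.ProjClosed
import Groth.Agent.Lib.Helper5.ProjReduced
import Mathlib.RingTheory.IsTensorProduct
import Mathlib.Algebra.Category.Ring.Constructions

set_option autoImplicit false
universe u
open DirectSum HomogeneousLocalization TensorProduct

namespace Groth.Agent.Lib.Helper5

section AwayAlgebra

variable {R A : Type*} [CommRing R] [CommRing A] [Algebra R A]
variable (𝒜 : ℕ → Submodule R A) [GradedAlgebra 𝒜] (x : Submonoid A)

/-- The `R`-algebra structure on a homogeneous localization of a graded `R`-algebra, with scalar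
action the one already provided by Mathlib. -/
@[reducible] def homLocAlgebra : Algebra R (HomogeneousLocalization 𝒜 x) where
  algebraMap := (HomogeneousLocalization.fromZeroRingHom 𝒜 x).comp (algebraMap R (𝒜 0))
  commutes' r y := mul_comm _ _
  smul_def' r y := by
    apply HomogeneousLocalization.val_injective
    rw [HomogeneousLocalization.val_smul, HomogeneousLocalization.val_mul]
    change r • y.val = Localization.mk (algebraMap R A r) 1 * y.val
    rw [Algebra.smul_def, IsScalarTower.algebraMap_apply R A (Localization x),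
      ← Localization.mk_one_eq_algebraMap]

attribute [local instance] homLocAlgebra

theorem algebraMap_homLoc_apply (r : R) :
    algebraMap R (HomogeneousLocalization 𝒜 x) r =
      HomogeneousLocalization.fromZeroRingHom 𝒜 x (algebraMap R (𝒜 0) r) := rfl

variable {f : A} {d : ℕ} (hf : f ∈ 𝒜 d)

/-- `a ↦ a_{nd} / f ^ n` as an `R`-linear map `A → (A_f)₀`. -/
noncomputable def toAway (n : ℕ) : A →ₗ[R] Away 𝒜 f where
  toFun a := Away.mk 𝒜 hf n (DirectSum.decompose 𝒜 a (n • d)) (SetLike.coe_mem _)
  map_add' a b := by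
    apply HomogeneousLocalization.val_injective
    simp only [Away.val_mk, HomogeneousLocalization.val_add, DirectSum.decompose_add,
      DirectSum.add_apply, Submodule.coe_add]
    rw [Localization.add_mk_self]
  map_smul' r a := by
    apply HomogeneousLocalization.val_injective
    simp only [Away.val_mk, HomogeneousLocalization.val_smul, DirectSum.decompose_smul,
      RingHom.id_apply, Localization.smul_mk]
    rfl

theorem toAway_apply (n : ℕ) (a : A) :
    toAway 𝒜 hf n a = Away.mk 𝒜 hf n (DirectSum.decompose 𝒜 a (n • d)) (SetLike.coe_mem _) := rfl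

theorem toAway_of_mem (n : ℕ) {a : A} (ha : a ∈ 𝒜 (n • d)) :
    toAway 𝒜 hf n a = Away.mk 𝒜 hf n a ha := by
  rw [toAway_apply]
  congr 1
  exact DirectSum.decompose_of_mem_same 𝒜 ha

theorem toAway_pow_mul_proj (n m : ℕ) (a : A) :
    toAway 𝒜 hf (n + m) (f ^ m * (DirectSum.decompose 𝒜 a (n • d) : A)) = toAway 𝒜 hf n a := by
  have hmem : f ^ m * (DirectSum.decompose 𝒜 a (n • d) : A) ∈ 𝒜 ((n + m) • d) := by
    have := SetLike.mul_mem_graded (SetLike.pow_mem_graded m hf)
      (SetLike.coe_mem (DirectSum.decompose 𝒜 a (n • d)))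
    convert this using 2
    simp only [smul_eq_mul]
    ring
  rw [toAway_of_mem 𝒜 hf _ hmem, toAway_apply]
  apply HomogeneousLocalization.val_injective
  simp only [Away.val_mk]
  rw [Localization.mk_eq_mk_iff, Localization.r_iff_exists]
  refine ⟨1, ?_⟩
  simp only [OneMemClass.coe_one, one_mul]
  ring

end AwayAlgebra

section BaseChange

variable {R' R B A : Type u} [CommRing R'] [CommRing R] [Algebra R' R]
  [CommRing B] [Algebra R' B] (ℬ : ℕ → Submodule R' B) [GradedAlgebra ℬ]
  [CommRing A] [Algebra R A] [Algebra R' A] [IsScalarTower R' R A]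
  (𝒜 : ℕ → Submodule R A) [GradedAlgebra 𝒜]
  [Algebra B A] [IsScalarTower R' B A]

attribute [local instance] homLocAlgebra

/-- The `R'`-algebra structure on `(A_f)₀` induced from `R' → R`. -/
@[reducible] noncomputable def awayAlgebraOfTower (f : A) : Algebra R' (Away 𝒜 f) :=
  ((algebraMap R (Away 𝒜 f)).comp (algebraMap R' R)).toAlgebra

attribute [local instance 5] awayAlgebraOfTower

instance (f : A) : IsScalarTower R' R (Away 𝒜 f) := by
  have : @IsScalarTower R' R (Away 𝒜 f) _ (homLocAlgebra 𝒜 _).toSMul _ :=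
    .of_algebraMap_eq' rfl
  exact this

variable {ℬ 𝒜}
variable (φ : ℬ →+*ᵍ 𝒜) (hφA : ∀ b : B, φ b = algebraMap B A b) {t : B} {d : ℕ} (ht : t ∈ ℬ d)

include hφA in
theorem awayMap_algebraMap (r : R') :
    Away.map φ t (algebraMap R' (Away ℬ t) r) = algebraMap R' (Away 𝒜 (φ t)) r := by
  apply HomogeneousLocalization.val_injective
  change (HomogeneousLocalization.map φ _ (HomogeneousLocalization.mk _)).val =
    (HomogeneousLocalization.mk _).val
  rw [HomogeneousLocalization.map_mk, HomogeneousLocalization.val_mk,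
    HomogeneousLocalization.val_mk]
  congr 1
  · change φ (algebraMap R' B r) = algebraMap R A (algebraMap R' R r)
    rw [hφA, ← IsScalarTower.algebraMap_apply, ← IsScalarTower.algebraMap_apply]
  · exact Subtype.ext (map_one φ)

/-- `Away.map φ t` as an `R'`-linear map. -/
noncomputable def awayMapLin : Away ℬ t →ₗ[R'] Away 𝒜 (φ t) where
  toFun := Away.map φ t
  map_add' := map_add _
  map_smul' r y := by
    rw [Algebra.smul_def, map_mul, RingHom.id_apply, Algebra.smul_def, awayMap_algebraMap φ hφA]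

theorem awayMapLin_apply (y : Away ℬ t) : awayMapLin φ hφA y = Away.map φ t y := rfl

variable [Algebra.IsPushout R' R B A]

theorem lift_lTensor_toAway (n : ℕ) (z : R ⊗[R'] B) :
    (awayMapLin φ hφA (t := t)).liftBaseChange R ((toAway ℬ ht n).lTensor R z) =
      toAway 𝒜 (φ.2 ht) n (Algebra.IsPushout.equiv R' R B A z) := by
  induction z using TensorProduct.induction_on with
  | zero => simp
  | add x y hx hy => simp only [map_add, hx, hy]
  | tmul r b =>
    rw [LinearMap.lTensor_tmul, LinearMap.liftBaseChange_tmul, Algebra.IsPushout.equiv_tmul,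
      ← Algebra.smul_def, map_smul]
    congr 1
    rw [awayMapLin_apply, toAway_apply, toAway_apply, Away.map_mk]
    congr 1
    rw [← hφA, GradedRingHom.map_directSumDecompose]

/-- `b ↦ t ^ m * b_{nd}`. -/
noncomputable def shift (t : B) (d n m : ℕ) : B →ₗ[R'] B :=
  (LinearMap.mulLeft R' (t ^ m)) ∘ₗ (GradedAlgebra.proj ℬ (n • d))

theorem shift_apply (t : B) (d n m : ℕ) (b : B) :
    shift (ℬ := ℬ) t d n m b = t ^ m * (DirectSum.decompose ℬ b (n • d) : B) := rfl

theorem toAway_comp_shift (n m : ℕ) :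
    toAway ℬ ht (n + m) ∘ₗ shift (ℬ := ℬ) t d n m = toAway ℬ ht n :=
  LinearMap.ext fun a => toAway_pow_mul_proj ℬ ht n m a

theorem lTensor_toAway_shift (n m : ℕ) (z : R ⊗[R'] B) :
    (toAway ℬ ht (n + m)).lTensor R ((shift (ℬ := ℬ) t d n m).lTensor R z) =
      (toAway ℬ ht n).lTensor R z := by
  rw [← LinearMap.lTensor_comp_apply, toAway_comp_shift]

theorem exists_lTensor_toAway (w : R ⊗[R'] Away ℬ t) :
    ∃ (n : ℕ) (z : R ⊗[R'] B), w = (toAway ℬ ht n).lTensor R z := by
  induction w using TensorProduct.induction_on with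
  | zero => exact ⟨0, 0, by simp⟩
  | tmul r y =>
    obtain ⟨n, b, hb, rfl⟩ := Away.mk_surjective ℬ ht y
    exact ⟨n, r ⊗ₜ b, by rw [LinearMap.lTensor_tmul, toAway_of_mem ℬ ht n hb]⟩
  | add x y hx hy =>
    obtain ⟨n₁, z₁, rfl⟩ := hx
    obtain ⟨n₂, z₂, rfl⟩ := hy
    refine ⟨n₁ + n₂, (shift (ℬ := ℬ) t d n₁ n₂).lTensor R z₁ +
      (shift (ℬ := ℬ) t d n₂ n₁).lTensor R z₂, ?_⟩
    rw [map_add, lTensor_toAway_shift]
    conv_rhs => rw [Nat.add_comm n₁ n₂, lTensor_toAway_shift]

include hφA in
theorem equiv_lTensor_shift (n m : ℕ) (z : R ⊗[R'] B) :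
    Algebra.IsPushout.equiv R' R B A ((shift (ℬ := ℬ) t d n m).lTensor R z) =
      φ t ^ m * (DirectSum.decompose 𝒜 (Algebra.IsPushout.equiv R' R B A z) (n • d) : A) := by
  induction z using TensorProduct.induction_on with
  | zero => simp
  | add x y hx hy =>
    simp only [map_add, hx, hy, DirectSum.decompose_add, DirectSum.add_apply, Submodule.coe_add,
      mul_add]
  | tmul r b =>
    rw [LinearMap.lTensor_tmul, Algebra.IsPushout.equiv_tmul, Algebra.IsPushout.equiv_tmul,
      shift_apply, ← Algebra.smul_def, ← Algebra.smul_def, DirectSum.decompose_smul,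
      ← hφA, ← hφA, map_mul, map_pow, GradedRingHom.map_directSumDecompose]
    simp only [DirectSum.smul_apply, Submodule.coe_smul]
    rw [mul_smul_comm]

include ht in
theorem lift_injective :
    Function.Injective ((awayMapLin φ hφA (t := t)).liftBaseChange R) := by
  rw [injective_iff_map_eq_zero]
  intro w hw
  obtain ⟨n, z, rfl⟩ := exists_lTensor_toAway (R := R) ht w
  rw [lift_lTensor_toAway φ hφA ht, toAway_apply, away_mk_eq_zero_iff] at hw
  obtain ⟨m, hm⟩ := hw
  have hz : (shift (ℬ := ℬ) t d n m).lTensor R z = 0 := by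
    apply (Algebra.IsPushout.equiv R' R B A).injective
    rw [equiv_lTensor_shift φ hφA, map_zero]
    exact hm
  rw [← lTensor_toAway_shift ht n m, hz, map_zero]

include ht in
theorem lift_surjective :
    Function.Surjective ((awayMapLin φ hφA (t := t)).liftBaseChange R) := by
  intro y
  obtain ⟨n, a, ha, rfl⟩ := Away.mk_surjective 𝒜 (φ.2 ht) y
  refine ⟨(toAway ℬ ht n).lTensor R ((Algebra.IsPushout.equiv R' R B A).symm a), ?_⟩
  rw [lift_lTensor_toAway φ hφA ht, AlgEquiv.apply_symm_apply, toAway_of_mem 𝒜 _ n ha]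

include hφA ht in
open CategoryTheory in
theorem isPushout_awayMap :
    IsPushout (CommRingCat.ofHom (algebraMap R' R))
      (CommRingCat.ofHom ((HomogeneousLocalization.fromZeroRingHom ℬ (.powers t)).comp
        (algebraMap R' (ℬ 0))))
      (CommRingCat.ofHom ((HomogeneousLocalization.fromZeroRingHom 𝒜 (.powers (φ t))).comp
        (algebraMap R (𝒜 0))))
      (CommRingCat.ofHom (Away.map φ t)) := by
  letI : Algebra (Away ℬ t) (Away 𝒜 (φ t)) := (Away.map φ t).toAlgebra
  haveI : IsScalarTower R' (Away ℬ t) (Away 𝒜 (φ t)) := by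
    have : @IsScalarTower R' (Away ℬ t) (Away 𝒜 (φ t)) (homLocAlgebra ℬ _).toSMul _ _ :=
      .of_algebraMap_eq' (RingHom.ext fun r => (awayMap_algebraMap φ hφA r).symm)
    exact this
  haveI : Algebra.IsPushout R' R (Away ℬ t) (Away 𝒜 (φ t)) :=
    ⟨IsBaseChange.of_equiv
      (LinearEquiv.ofBijective _ ⟨lift_injective φ hφA ht, lift_surjective φ hφA ht⟩)
      (fun x => by
        rw [LinearEquiv.ofBijective_apply, LinearMap.liftBaseChange_tmul, one_smul]
        rfl)⟩
  exact CommRingCat.isPushout_of_isPushout R' R (Away ℬ t) (Away 𝒜 (φ t))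

end BaseChange

end Groth.Agent.Lib.Helper5
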