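import Mathlib
import Groth.Prelude.Def_AlgSpRep

/-!
# A presheaf with a map representable by schemes to an fppf sheaf is an fppf sheaf (helper5)
-/

set_option autoImplicit false
universe u
open CategoryTheory CategoryTheory.Limits AlgebraicGeometry Opposite

namespace Groth.Agent.Lib.Helper5.RepSheaf

open AlgSp

variable {S : Scheme.{u}} {F G : AlgSp.PSp S}

/-- Restriction of a section viewed as a map from a representable. -/
theorem symm_map_eq {P : AlgSp.PSp S} {T T' : Over S} (f : T' ⟶ T) (x : P.obj (op T)) :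
    (uliftYonedaEquiv.{u + 1}).symm (P.map f.op x) =
      (pyon S).map f ≫ (uliftYonedaEquiv.{u + 1}).symm x :=
  uliftYonedaEquiv_symm_map f.op x

/-- Gluing morphisms into a scheme over `S` along an fppf covering sieve. -/
theorem exists_glue {T W : Over S} (R : Sieve T) (hR : R ∈ J S T)
    (s : ∀ ⦃T' : Over S⦄ (f : T' ⟶ T), R f → (T' ⟶ W))
    (hs : ∀ ⦃T' T'' : Over S⦄ (f : T' ⟶ T) (g : T'' ⟶ T') (hf : R f),
      s (g ≫ f) (R.downward_closed hf g) = g ≫ s f hf) :
    ∃ σ : T ⟶ W, ∀ ⦃T' : Over S⦄ (f : T' ⟶ T) (hf : R f), f ≫ σ = s f hf := by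
  have hW : Presieve.IsSheaf (J S) ((yon S).obj W).obj :=
    (isSheaf_iff_isSheaf_of_type _ _).1 ((yon S).obj W).property
  let fam : Presieve.FamilyOfElements ((yon S).obj W).obj R.arrows := fun T' f hf => ⟨s f hf⟩
  have hfam : fam.Compatible := by
    rw [Presieve.compatible_iff_sieveCompatible]
    intro Y Z f g hf
    change ULift.up (s (g ≫ f) _) = ULift.up (g ≫ s f hf)
    rw [hs f g hf]
  refine ⟨((hW R hR).amalgamate fam hfam).down, ?_⟩
  intro T' f hf
  have := (hW R hR).valid_glue hfam f hf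
  exact congrArg ULift.down this

/-- Morphisms into a scheme over `S` agreeing on an fppf covering sieve are equal. -/
theorem eq_of_locally_eq' {T W : Over S} (R : Sieve T) (hR : R ∈ J S T) (σ σ' : T ⟶ W)
    (h : ∀ ⦃T' : Over S⦄ (f : T' ⟶ T), R f → f ≫ σ = f ≫ σ') : σ = σ' := by
  have hW : Presieve.IsSheaf (J S) ((yon S).obj W).obj :=
    (isSheaf_iff_isSheaf_of_type _ _).1 ((yon S).obj W).property
  have := (hW R hR).isSeparatedFor.ext (t₁ := (⟨σ⟩ : ((yon S).obj W).obj.obj (op T)))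
    (t₂ := ⟨σ'⟩) (by
      intro T' f hf
      change ULift.up (f ≫ σ) = ULift.up (f ≫ σ')
      rw [h f hf])
  exact congrArg ULift.down this

/-- **A presheaf with a map representable by schemes to an fppf sheaf is an fppf sheaf.** -/
theorem isSheaf_of_relativelyRepresentable (a : F ⟶ G)
    (ha : (AlgSp.pyon S).relativelyRepresentable a) (hG : Presheaf.IsSheaf (AlgSp.J S) G) :
    Presheaf.IsSheaf (AlgSp.J S) F := by
  rw [isSheaf_iff_isSheaf_of_type] at hG ⊢
  intro T R hR x hx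
  have hsx : x.SieveCompatible := (Presieve.compatible_iff_sieveCompatible x).1 hx
  have hGs := hG R hR
  have hy : (x.map a).Compatible := hx.map a
  let ψ₀ := hGs.amalgamate (x.map a) hy
  have hψ₀ : ∀ ⦃T' : Over S⦄ (f : T' ⟶ T) (hf : R f), G.map f.op ψ₀ = a.app _ (x f hf) :=
    fun T' f hf => hGs.valid_glue hy f hf
  let ψ : (pyon S).obj T ⟶ G := (uliftYonedaEquiv.{u + 1}).symm ψ₀
  obtain ⟨W, snd, fst, sq⟩ := ha ψ
  -- the sections
  have hcond : ∀ ⦃T' : Over S⦄ (f : T' ⟶ T) (hf : R f),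
      (uliftYonedaEquiv.{u + 1}).symm (x f hf) ≫ a = (pyon S).map f ≫ ψ := by
    intro T' f hf
    rw [uliftYonedaEquiv_symm_comp, ← hψ₀ f hf, symm_map_eq]
  have hfull : ∀ ⦃T' : Over S⦄ (l : (pyon S).obj T' ⟶ (pyon S).obj W),
      ∃ s : T' ⟶ W, (pyon S).map s = l := fun T' l => (pyon S).map_surjective l
  choose s hs using fun ⦃T' : Over S⦄ (f : T' ⟶ T) (hf : R f) =>
    hfull (sq.lift _ _ (hcond f hf))
  have hs1 : ∀ ⦃T' : Over S⦄ (f : T' ⟶ T) (hf : R f),
      (pyon S).map (s f hf) ≫ fst = (uliftYonedaEquiv.{u + 1}).symm (x f hf) := by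
    intro T' f hf
    rw [hs, sq.lift_fst]
  have hs2 : ∀ ⦃T' : Over S⦄ (f : T' ⟶ T) (hf : R f), s f hf ≫ snd = f := by
    intro T' f hf
    apply (pyon S).map_injective
    rw [Functor.map_comp, hs, sq.lift_snd]
  obtain ⟨σ, hσ⟩ := exists_glue R hR s (by
    intro T' T'' f g hf
    apply (pyon S).map_injective
    apply sq.hom_ext
    · rw [hs1, Functor.map_comp, Category.assoc, hs1, hsx f g hf, symm_map_eq]
    · rw [← Functor.map_comp, ← Functor.map_comp, hs2, Category.assoc, hs2])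
  refine ⟨uliftYonedaEquiv.{u + 1} ((pyon S).map σ ≫ fst), ?_, ?_⟩
  · intro T' f hf
    have h3 := uliftYonedaEquiv_naturality.{u + 1} (F := F) ((pyon S).map σ ≫ fst) f.op
    change _ = uliftYonedaEquiv.{u + 1} ((pyon S).map f ≫ (pyon S).map σ ≫ fst) at h3
    rw [h3, ← Category.assoc, ← Functor.map_comp, hσ f hf, hs1]
    exact Equiv.apply_symm_apply _ _
  · intro x₁ hx₁
    -- `a x₁ = ψ₀`
    have h4 : a.app _ x₁ = ψ₀ := by
      refine hGs.isSeparatedFor.ext ?_
      intro T' f hf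
      rw [hψ₀ f hf, ← hx₁ f hf]
      exact (a.naturality_apply f.op x₁).symm
    have hc1 : (uliftYonedaEquiv.{u + 1}).symm x₁ ≫ a = 𝟙 _ ≫ ψ := by
      rw [uliftYonedaEquiv_symm_comp, h4, Category.id_comp]
    obtain ⟨s₁, hs₁⟩ := hfull (sq.lift _ _ hc1)
    have hs₁1 : (pyon S).map s₁ ≫ fst = (uliftYonedaEquiv.{u + 1}).symm x₁ := by
      rw [hs₁, sq.lift_fst]
    have hs₁2 : (pyon S).map s₁ ≫ (pyon S).map snd = 𝟙 _ := by
      rw [hs₁, sq.lift_snd]
    have hσs : s₁ = σ := by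
      refine eq_of_locally_eq' R hR _ _ ?_
      intro T' f hf
      rw [hσ f hf]
      apply (pyon S).map_injective
      apply sq.hom_ext
      · rw [hs1, Functor.map_comp, Category.assoc, hs₁1, ← symm_map_eq, hx₁ f hf]
      · rw [Functor.map_comp, Category.assoc, hs₁2, Category.comp_id, ← Functor.map_comp, hs2]
    rw [← hσs, hs₁1]
    exact (Equiv.apply_symm_apply _ _).symm

end Groth.Agent.Lib.Helper5.RepSheaf
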