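import Mathlib
import Groth.Prelude.Def_AlgSt5
import Groth.Agent.Lib.Helper5.RepSheaf

/-!
# Morphisms of schemes over `S` through which points lift fppf-locally (helper5)
-/

set_option autoImplicit false
universe u

open CategoryTheory CategoryTheory.Limits AlgebraicGeometry Opposite

namespace Groth.Agent.Lib.Helper5.BalLoc

variable {S : Scheme.{u}}

/-- every point of `B` lifts along `f` fppf-locally -/
def LocLift {A B : Over S} (f : A ⟶ B) : Prop :=
  ∀ (T : Over S) (y : T ⟶ B), ∃ R ∈ AlgSp.J S T, ∀ ⦃T' : Over S⦄ (c : T' ⟶ T), R c →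
    ∃ x : T' ⟶ A, x ≫ f = c ≫ y

theorem locLift_of_locTriv {A B : Over S} (f : A ⟶ B)
    (h : NonAbH1.IsLocallyTrivialFor Scheme.fppfPrecoverage (Over.mk f.left : Over B.left)) :
    LocLift f := by
  obtain ⟨R, hR, hsec⟩ := h
  intro T y
  have h1 : (Sieve.generate R).pullback y.left ∈ Scheme.fppfTopology T.left :=
    Scheme.fppfTopology.pullback_stable y.left (Precoverage.generate_mem_toGrothendieck hR)
  refine ⟨(Sieve.overEquiv T).symm ((Sieve.generate R).pullback y.left), ?_, ?_⟩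
  · rw [AlgSp.J_eq, GrothendieckTopology.mem_over_iff]
    simpa using h1
  · intro T' c hc
    rw [Sieve.overEquiv_symm_iff] at hc
    obtain ⟨W, k, r, hr, hkr⟩ := hc
    obtain ⟨s, hs⟩ := hsec r hr
    have hs' : s ≫ f.left = r := hs
    refine ⟨Over.homMk (k ≫ s) ?_, ?_⟩
    · rw [← Over.w f, Category.assoc, ← Category.assoc s, hs', ← Category.assoc, hkr,
        Category.assoc, Over.w y, Over.w c]
    · apply Over.OverMorphism.ext
      simp only [Over.comp_left, Over.homMk_left, Category.assoc]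
      rw [hs', hkr]

theorem hom_ext_of_locLift {A B W : Over S} (f : A ⟶ B) (hf : LocLift f) (a b : B ⟶ W)
    (h : f ≫ a = f ≫ b) : a = b := by
  obtain ⟨R, hR, hl⟩ := hf B (𝟙 B)
  refine Groth.Agent.Lib.Helper5.RepSheaf.eq_of_locally_eq' R hR a b ?_
  intro T' c hc
  obtain ⟨x, hx⟩ := hl c hc
  rw [Category.comp_id] at hx
  rw [← hx, Category.assoc, Category.assoc, h]

theorem exists_desc_of_locLift {A B W : Over S} (f : A ⟶ B) (hf : LocLift f) (q : A ⟶ W)
    (hq : ∀ (T : Over S) (a₁ a₂ : T ⟶ A), a₁ ≫ f = a₂ ≫ f → a₁ ≫ q = a₂ ≫ q) :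
    ∃ q' : B ⟶ W, f ≫ q' = q := by
  obtain ⟨R, hR, hl⟩ := hf B (𝟙 B)
  choose x hx using hl
  obtain ⟨σ, hσ⟩ := Groth.Agent.Lib.Helper5.RepSheaf.exists_glue (W := W) R hR
    (fun T' c hc => x c hc ≫ q) (by
      intro T' T'' c g hc
      rw [← Category.assoc]
      apply hq
      simp only [Category.assoc, hx, Category.comp_id])
  refine ⟨σ, ?_⟩
  refine Groth.Agent.Lib.Helper5.RepSheaf.eq_of_locally_eq' (R.pullback f)
    ((AlgSp.J S).pullback_stable f hR) _ _ ?_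
  intro T' c hc
  rw [← Category.assoc, hσ (c ≫ f) hc]
  apply hq
  rw [hx, Category.comp_id]

/-- local lifting is stable under base change -/
theorem locLift_of_isPullback {A B A' B' : Over S} {f : A ⟶ B} {f' : A' ⟶ B'} {g' : A' ⟶ A}
    {g : B' ⟶ B} (h : IsPullback g' f' f g) (hf : LocLift f) : LocLift f' := by
  intro T y
  obtain ⟨R, hR, hl⟩ := hf T (y ≫ g)
  refine ⟨R, hR, ?_⟩
  intro T' c hc
  obtain ⟨x, hx⟩ := hl c hc
  refine ⟨h.lift x (c ≫ y) (by rw [hx, Category.assoc]), h.lift_snd _ _ _⟩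

theorem locLift_comp {A B C : Over S} {f : A ⟶ B} {g : B ⟶ C} (hf : LocLift f) (hg : LocLift g) :
    LocLift (f ≫ g) := by
  intro T y
  obtain ⟨R, hR, hl⟩ := hg T y
  choose x hx using hl
  have hex : ∀ ⦃T' : Over S⦄ (c : T' ⟶ T) (hc : R c), ∃ R' ∈ AlgSp.J S T',
      ∀ ⦃T'' : Over S⦄ (c' : T'' ⟶ T'), R' c' → ∃ x' : T'' ⟶ A, x' ≫ f = c' ≫ x c hc :=
    fun T' c hc => hf T' (x c hc)
  choose R' hR' hl' using hex
  refine ⟨Sieve.bind R.arrows (fun T' c hc => R' c hc), (AlgSp.J S).bind_covering hR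
    (fun T' c hc => hR' c hc), ?_⟩
  rintro T'' c ⟨T', c', c₀, hc₀, hc', rfl⟩
  obtain ⟨x', hx'⟩ := hl' c₀ hc₀ c' hc'
  refine ⟨x', ?_⟩
  rw [← Category.assoc, hx', Category.assoc, hx, Category.assoc]

end Groth.Agent.Lib.Helper5.BalLoc
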