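import Mathlib
import Groth.Prelude.Def_ChGrp
import Groth.Prelude.Def_AlgSt5
import Groth.Agent.Lib.Helper93.TorsorPts

/-!
# Points-form of the balanced product `G ×^H Z` (helper5)
-/

set_option autoImplicit false
universe u

open CategoryTheory CategoryTheory.Limits MonoidalCategory CartesianMonoidalCategory MonObj GrpObj
  AlgebraicGeometry

namespace Groth.Agent.Lib.Helper5.BalPts

open Groth.Agent.Lib.Helper93.TorsorPts

variable {S : Scheme.{u}} {K : Precoverage Scheme.{u}} {G H Z Y : Over S} [GrpObj G] [GrpObj H]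
  {i : H ⟶ G} [IsMonHom i] {aZ : AlgGrp.Action H Z} {aY : AlgGrp.Action G Y} {j : G ⊗ Z ⟶ Y}

/-- `z ↦ j(1, z)` -/
noncomputable def iota (j : G ⊗ Z ⟶ Y) : Z ⟶ Y := lift (toUnit Z ≫ η[G]) (𝟙 Z) ≫ j

theorem comp_iota {T : Over S} (z : T ⟶ Z) : z ≫ iota j = lift (1 : T ⟶ G) z ≫ j := by
  unfold iota
  rw [← Category.assoc, comp_lift, Category.comp_id, ← Category.assoc,
    toUnit_unique (z ≫ toUnit Z) (toUnit T), ← Hom.one_def]

section
variable (hY : ChGrp.IsBalProd K i aZ aY j)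
include hY

/-- `j(g' g, z) = g' • j(g, z)` -/
theorem j_mul {T : Over S} (g' g : T ⟶ G) (z : T ⟶ Z) :
    lift (g' * g) z ≫ j = lift g' (lift g z ≫ j) ≫ aY.act := by
  have h := hY.1
  unfold AlgGrp.Action.IsEquivariant at h
  have h2 := lift g' (lift g z) ≫= h
  rw [AlgGrp.Action.lift_prod_act_assoc, AlgGrp.Action.lift_trivial_act, lift_whiskerLeft_assoc] at h2
  rw [← h2]
  congr 2

/-- `j(g i(h)⁻¹, h z) = j(g, z)` -/
theorem j_twist {T : Over S} (h : T ⟶ H) (g : T ⟶ G) (z : T ⟶ Z) :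
    lift (g * (h ≫ i)⁻¹) (lift h z ≫ aZ.act) ≫ j = lift g z ≫ j := by
  have h1 := hY.2.1.w
  have h2 := lift h (lift g z) ≫= h1
  rw [ChGrp.lift_twist_act_assoc, lift_snd_assoc] at h2
  exact h2

theorem j_exists {T : Over S} (g₁ g₂ : T ⟶ G) (z₁ z₂ : T ⟶ Z)
    (h : lift g₁ z₁ ≫ j = lift g₂ z₂ ≫ j) :
    ∃ k : T ⟶ H, g₁ = g₂ * (k ≫ i)⁻¹ ∧ z₁ = lift k z₂ ≫ aZ.act := by
  obtain ⟨k, hk⟩ := exists_of_isPullback (ChGrp.twist i aZ) j hY.2.1 (lift g₁ z₁) (lift g₂ z₂) h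
  rw [ChGrp.lift_twist_act] at hk
  refine ⟨k, ?_, ?_⟩
  · have := congrArg (fun m => m ≫ fst G Z) hk
    simpa using this.symm
  · have := congrArg (fun m => m ≫ snd G Z) hk
    simpa using this.symm

/-- `g • ι(z) = j(g, z)` -/
theorem act_iota {T : Over S} (g : T ⟶ G) (z : T ⟶ Z) :
    lift g (z ≫ iota j) ≫ aY.act = lift g z ≫ j := by
  rw [comp_iota, ← j_mul hY, _root_.mul_one]

/-- `ι(h z) = i(h) • ι(z)` -/
theorem iota_act {T : Over S} (h : T ⟶ H) (z : T ⟶ Z) :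
    (lift h z ≫ aZ.act) ≫ iota j = lift (h ≫ i) (z ≫ iota j) ≫ aY.act := by
  rw [act_iota hY, comp_iota, ← j_twist hY h (h ≫ i) z, mul_inv_cancel]

/-- if `g • ι(z₁) = ι(z₂)` then `g = i(h)` and `z₂ = h z₁` for some `h` -/
theorem exists_of_act_iota {T : Over S} (g : T ⟶ G) (z₁ z₂ : T ⟶ Z)
    (h : lift g (z₁ ≫ iota j) ≫ aY.act = z₂ ≫ iota j) :
    ∃ k : T ⟶ H, g = k ≫ i ∧ z₂ = lift k z₁ ≫ aZ.act := by
  rw [act_iota hY, comp_iota] at h
  obtain ⟨k, hk1, hk2⟩ := j_exists hY 1 g z₂ z₁ h.symm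
  refine ⟨k, ?_, hk2⟩
  have : (1 : T ⟶ G) * (k ≫ i) = g := by
    rw [hk1, inv_mul_cancel_right]
  rw [← this, _root_.one_mul]

end

end Groth.Agent.Lib.Helper5.BalPts
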