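import Mathlib
import Groth.Prelude.Def_AlgSt5
import Groth.Agent.Lib.Helper14.QuotStRep
import Groth.Agent.Lib.Helper17.HomLift

/-!
# The quotient category `[X/G]` is fibred in groupoids (helper5)
-/

set_option autoImplicit false
set_option linter.style.haveILetI false
universe u

open CategoryTheory CategoryTheory.Limits MonoidalCategory CartesianMonoidalCategory MonObj
  AlgebraicGeometry AlgSt

namespace Groth.Agent.Lib.Helper5.QuotStFib

/-- local triviality is stable under base change -/
theorem isLocallyTrivialFor_of_isPullback (K : Precoverage Scheme.{u}) [K.IsStableUnderBaseChange]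
    {Y' Y P' P : Scheme.{u}} (g : Y' ⟶ Y) (π : P ⟶ Y) (π' : P' ⟶ Y') (g' : P' ⟶ P)
    (h : IsPullback g' π' π g) (hloc : NonAbH1.IsLocallyTrivialFor K (Over.mk π)) :
    NonAbH1.IsLocallyTrivialFor K (Over.mk π') := by
  obtain ⟨R, hR, hs⟩ := hloc
  obtain ⟨I, W, f, rfl⟩ := R.exists_eq_ofArrows
  have hs' : ∀ i, ∃ s : W i ⟶ P, s ≫ π = f i := fun i => hs (f i) (Presieve.ofArrows.mk i)
  choose s hs using hs'
  have hcov : Presieve.ofArrows (fun i => pullback g (f i)) (fun i => pullback.fst g (f i)) ∈ K Y' :=
    Precoverage.mem_coverings_of_isPullback f hR g _ (fun i => pullback.snd g (f i))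
      (fun i => IsPullback.of_hasPullback _ _)
  refine ⟨_, hcov, ?_⟩
  rintro S' f' ⟨i⟩
  refine ⟨h.lift (pullback.snd g (f i) ≫ s i) (pullback.fst g (f i)) ?_, ?_⟩
  · rw [Category.assoc, hs, pullback.condition]
  · exact h.lift_snd _ _ _

variable {S : Scheme.{u}} {K : Precoverage Scheme.{u}} {G : Over S} [GrpObj G] {X : Over S}
  {aX : AlgGrp.Action G X}

section Pull

variable (A : QuotObj K G aX) {V : Over S} (f : V ⟶ A.base)

/-- total space of the pulled back torsor -/
noncomputable abbrev pP : Over S := Limits.pullback f A.π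

noncomputable abbrev p1 : pP A f ⟶ V := pullback.fst f A.π

noncomputable abbrev p2 : pP A f ⟶ A.P := pullback.snd f A.π

lemma act_cond : (snd G (pP A f) ≫ p1 A f) ≫ f = ((G ◁ p2 A f) ≫ A.act.act) ≫ A.π := by
  rw [Category.assoc, Category.assoc, A.cart.w, whiskerLeft_snd_assoc, pullback.condition]

noncomputable def pAct : G ⊗ pP A f ⟶ pP A f :=
  pullback.lift (snd G _ ≫ p1 A f) ((G ◁ p2 A f) ≫ A.act.act) (act_cond A f)

@[reassoc] lemma pAct_p1 : pAct A f ≫ p1 A f = snd G _ ≫ p1 A f := pullback.lift_fst _ _ _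

@[reassoc] lemma pAct_p2 : pAct A f ≫ p2 A f = (G ◁ p2 A f) ≫ A.act.act := pullback.lift_snd _ _ _

noncomputable def pAction : AlgGrp.Action G (pP A f) where
  act := pAct A f
  one_act := by
    apply pullback.hom_ext
    · rw [Category.assoc, pAct_p1, whiskerRight_snd_assoc, leftUnitor_hom]
    · rw [Category.assoc, pAct_p2, ← whisker_exchange_assoc, A.act.one_act, leftUnitor_hom,
        leftUnitor_hom, whiskerLeft_snd]
  mul_act := by
    apply pullback.hom_ext
    · simp only [Category.assoc, pAct_p1, whiskerRight_snd_assoc, whiskerLeft_snd_assoc,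
        pAct_p1_assoc, associator_hom_snd_snd_assoc]
    · simp only [Category.assoc, pAct_p2]
      rw [← whisker_exchange_assoc, A.act.mul_act, ← MonoidalCategory.whiskerLeft_comp_assoc,
        pAct_p2, MonoidalCategory.whiskerLeft_comp_assoc, associator_naturality_right_assoc]

lemma isPullback_pAct : IsPullback (pAct A f) (snd G (pP A f)) (p1 A f) (p1 A f) := by
  have sq2 : IsPullback (p1 A f) (p2 A f) f A.π := IsPullback.of_hasPullback f A.π
  have sq1 : IsPullback (snd G (pP A f)) (G ◁ p2 A f) (p2 A f) (snd G A.P) :=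
    (AlgSt.isPullback_whiskerLeft (p2 A f)).flip
  have outerH : IsPullback (pAct A f ≫ p1 A f) (G ◁ p2 A f) f (A.act.act ≫ A.π) := by
    have := sq1.paste_horiz sq2
    rwa [← pAct_p1, ← A.cart.w] at this
  have top1 : IsPullback (pAct A f) (G ◁ p2 A f) (p2 A f) A.act.act :=
    IsPullback.of_right outerH (pAct_p2 A f) sq2
  have outerV : IsPullback (pAct A f) (snd G (pP A f) ≫ p2 A f) (p1 A f ≫ f) A.π := by
    have := top1.paste_vert A.cart
    rwa [whiskerLeft_snd, ← pullback.condition] at this
  exact IsPullback.of_bot outerV (pAct_p1 A f) sq2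

variable [K.IsStableUnderBaseChange]

/-- the pulled back object of `[X/G]` -/
noncomputable def pullObj : QuotObj K G aX where
  base := V
  P := pP A f
  act := pAction A f
  π := p1 A f
  cart := isPullback_pAct A f
  loc := isLocallyTrivialFor_of_isPullback K f.left A.π.left (p1 A f).left (p2 A f).left
    ((IsPullback.of_hasPullback f A.π).flip.map (Over.forget S)) A.loc
  φ := p2 A f ≫ A.φ
  eqv := by
    change pAct A f ≫ p2 A f ≫ A.φ = _
    rw [pAct_p2_assoc, A.eqv, MonoidalCategory.whiskerLeft_comp_assoc]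

/-- the cartesian morphism from the pulled back object -/
noncomputable def pullHom : pullObj A f ⟶ A where
  base := f
  top := p2 A f
  eqv := pAct_p2 A f
  cart := (IsPullback.of_hasPullback f A.π).flip
  wφ := rfl

end Pull

variable (K G aX) in
/-- `[X/G]` is fibred in groupoids over `(Sch/S)`. -/
theorem isFibGrpd [K.IsStableUnderBaseChange] : FibCat.IsFibGrpd (QuotObj.forget K G aX) where
  exists_lift := fun {A} {V} f => ⟨pullObj A f, pullHom A f, IsHomLift.map (QuotObj.forget K G aX) (pullHom A f)⟩
  isStronglyCartesian := fun {Y A} τ =>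
    { universal_property' := fun {B} g θ hθ => by
        have hg : g ≫ τ.base = θ.base :=
          IsHomLift.eq_of_isHomLift (QuotObj.forget K G aX) (g ≫ (QuotObj.forget K G aX).map τ) θ
        refine ⟨Groth.Agent.Lib.Helper14.QuotStRep.liftHom τ θ g hg,
          ⟨Groth.Agent.Lib.Helper17.hl_of_eq (p := QuotObj.forget K G aX) (a := B) (b := Y)
              (f := g) (φ := Groth.Agent.Lib.Helper14.QuotStRep.liftHom τ θ g hg) rfl,
            Groth.Agent.Lib.Helper14.QuotStRep.liftHom_comp τ θ g hg⟩, ?_⟩
        rintro χ ⟨hχ, hχτ⟩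
        have hb : χ.base = g :=
          (IsHomLift.eq_of_isHomLift (QuotObj.forget K G aX) g χ).symm
        apply Groth.Agent.Lib.Helper14.QuotStRep.hom_ext_cart τ
        · exact hb
        · rw [hχτ, Groth.Agent.Lib.Helper14.QuotStRep.liftHom_comp] }

end Groth.Agent.Lib.Helper5.QuotStFib
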