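import Mathlib
import Groth.Prelude.Def_AlgSt5
import Groth.Agent.Lib.Helper5.QuotStFib
import Groth.Agent.Lib.Helper62.StkCone

/-!
# Strict torsor objects over a fixed base and systems of them along a sieve (helper5)

`TorsObj T` is an object of `[X/G]` whose base is *definitionally* `T`; `TorsHom B A h` is a morphism
of `[X/G]` lying over `h`.  A descent datum `D : sieveCat R ⥤ᵇ [X/G]` gives a system `sysOf D`, and
cones on `D` correspond to `ConeData (sysOf D)`.
-/

set_option autoImplicit false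
set_option linter.style.haveILetI false
universe u

open CategoryTheory CategoryTheory.Limits MonoidalCategory CartesianMonoidalCategory MonObj
  AlgebraicGeometry AlgSt

namespace Groth.Agent.Lib.Helper5.QuotStStrict

variable {S : Scheme.{u}} {K : Precoverage Scheme.{u}} {G : Over S} [GrpObj G] {X : Over S}
  {aX : AlgGrp.Action G X}

variable (K G aX) in
/-- a torsor object of `[X/G]` over the fixed base `T` -/
structure TorsObj (T : Over S) where
  P : Over S
  act : AlgGrp.Action G P
  π : P ⟶ T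
  cart : IsPullback act.act (snd G P) π π
  loc : NonAbH1.IsLocallyTrivialFor K (Over.mk π.left : Over T.left)
  φ : P ⟶ X
  eqv : act.act ≫ φ = (G ◁ φ) ≫ aX.act

/-- a morphism of torsor objects over `h` -/
structure TorsHom {T' T : Over S} (B : TorsObj K G aX T') (A : TorsObj K G aX T) (h : T' ⟶ T) where
  top : B.P ⟶ A.P
  eqv : B.act.act ≫ top = (G ◁ top) ≫ A.act.act
  cart : IsPullback top B.π A.π h
  wφ : top ≫ A.φ = B.φ

theorem TorsHom.ext' {T' T : Over S} {B : TorsObj K G aX T'} {A : TorsObj K G aX T} {h : T' ⟶ T}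
    {m m' : TorsHom B A h} (e : m.top = m'.top) : m = m' := by
  cases m; cases m'; cases e; rfl

/-- back to an object of `[X/G]` -/
def TorsObj.toQuot {T : Over S} (B : TorsObj K G aX T) : QuotObj K G aX where
  base := T
  P := B.P
  act := B.act
  π := B.π
  cart := B.cart
  loc := B.loc
  φ := B.φ
  eqv := B.eqv

/-- an object of `[X/G]` with base equal to `T` as a torsor object over `T` -/
def ofQuot (A : QuotObj K G aX) {T : Over S} (hA : A.base = T) : TorsObj K G aX T where
  P := A.P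
  act := A.act
  π := A.π ≫ eqToHom hA
  cart := by subst hA; simpa using A.cart
  loc := by subst hA; simpa using A.loc
  φ := A.φ
  eqv := A.eqv

/-- a morphism of `[X/G]` with prescribed base as a morphism of torsor objects -/
def homOfQuot {B A : QuotObj K G aX} (m : B ⟶ A) {T' T : Over S} (hB : B.base = T')
    (hA : A.base = T) (h : T' ⟶ T) (hm : m.base = eqToHom hB ≫ h ≫ eqToHom hA.symm) :
    TorsHom (ofQuot B hB) (ofQuot A hA) h where
  top := m.top
  eqv := m.eqv
  cart := by
    subst hB hA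
    simp only [eqToHom_refl, Category.id_comp, Category.comp_id] at hm
    subst hm
    simpa [ofQuot] using m.cart
  wφ := m.wφ

theorem cart_unstrict (B : QuotObj K G aX) {T' : Over S} (hB : B.base = T') {Z W : Over S}
    (top : B.P ⟶ Z) (πZ : Z ⟶ W) (h : T' ⟶ W)
    (H : IsPullback top (B.π ≫ eqToHom hB) πZ h) : IsPullback top B.π πZ (eqToHom hB ≫ h) := by
  subst hB
  simpa using H

/-- a morphism of torsor objects out of `ofQuot B hB` as a morphism of `[X/G]` -/
def homToQuot (B : QuotObj K G aX) {T' T : Over S} (hB : B.base = T') (A : TorsObj K G aX T)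
    (h : T' ⟶ T) (m : TorsHom (ofQuot B hB) A h) : B ⟶ A.toQuot where
  base := eqToHom hB ≫ h
  top := m.top
  eqv := m.eqv
  cart := cart_unstrict B hB m.top A.π h m.cart
  wφ := m.wφ

theorem homToQuot_isHomLift (B : QuotObj K G aX) {T' T : Over S} (hB : B.base = T')
    (A : TorsObj K G aX T) (h : T' ⟶ T) (m : TorsHom (ofQuot B hB) A h) :
    (QuotSt K G aX).p.IsHomLift h (homToQuot B hB A h m) := by
  refine IsHomLift.of_fac' (QuotSt K G aX).p h (homToQuot B hB A h m) hB rfl ?_
  change eqToHom hB ≫ h = eqToHom hB ≫ h ≫ eqToHom rfl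
  simp

section Sys

variable {U : Over S}

variable (K G aX) in
/-- a system of torsor objects along a sieve, with transition morphisms -/
structure Sys (R : Sieve U) where
  B : ∀ ⦃T : Over S⦄ (t : T ⟶ U), R t → TorsObj K G aX T
  ρ : ∀ ⦃T' T : Over S⦄ (h : T' ⟶ T) (t : T ⟶ U) (t' : T' ⟶ U) (ht : R t) (ht' : R t')
    (_ : h ≫ t = t'), TorsHom (B t' ht') (B t ht) h
  ρ_comp : ∀ ⦃T'' T' T : Over S⦄ (h' : T'' ⟶ T') (h : T' ⟶ T) (t : T ⟶ U) (t' : T' ⟶ U)
    (t'' : T'' ⟶ U) (ht : R t) (ht' : R t') (ht'' : R t'') (w : h ≫ t = t') (w' : h' ≫ t' = t''),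
    (ρ h' t' t'' ht' ht'' w').top ≫ (ρ h t t' ht ht' w).top =
      (ρ (h' ≫ h) t t'' ht ht'' (by rw [Category.assoc, w, w'])).top

/-- a cone on a system -/
structure ConeData {R : Sieve U} (Sg : Sys K G aX R) where
  A : TorsObj K G aX U
  m : ∀ ⦃T : Over S⦄ (t : T ⟶ U) (ht : R t), TorsHom (Sg.B t ht) A t
  nat : ∀ ⦃T' T : Over S⦄ (h : T' ⟶ T) (t : T ⟶ U) (t' : T' ⟶ U) (ht : R t) (ht' : R t')
    (w : h ≫ t = t'), (Sg.ρ h t t' ht ht' w).top ≫ (m t ht).top = (m t' ht').top

end Sys

theorem eqToHom_aux₁ {C : Type*} [Category C] {X' X Y Z W : C} (a : X' = X) (h : X ⟶ Y)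
    (b : Y = Z) (c : Z = W) (d : Y = W) :
    (eqToHom a ≫ h ≫ eqToHom b) ≫ eqToHom c = eqToHom a ≫ h ≫ eqToHom d := by
  subst a b c
  simp

theorem eqToHom_aux₂ {C : Type*} [Category C] {X Y U : C} (p : X = U) (q : Y = U) :
    eqToHom (p.trans q.symm) = eqToHom p ≫ 𝟙 U ≫ eqToHom q.symm := by
  subst p
  simp

section Translate

open Groth.Agent.Lib.Helper62.StkCone

variable {U : Over S} {R : Sieve U} (D : Stk.sieveCat R ⥤ᵇ QuotSt K G aX)

/-- the object of the sieve category attached to an arrow of the sieve -/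
def arrowObj {T : Over S} (t : T ⟶ U) (ht : R t) : (Stk.sieveCat R).obj := ⟨Over.mk t, ht⟩

/-- the morphism of the sieve category attached to a commutative triangle -/
def arrowHom {T' T : Over S} (h : T' ⟶ T) (t : T ⟶ U) (t' : T' ⟶ U) (ht : R t) (ht' : R t')
    (w : h ≫ t = t') : arrowObj t' ht' ⟶ arrowObj t ht :=
  ObjectProperty.homMk (Over.homMk h w)

theorem base_obj (a : (Stk.sieveCat R).obj) : (D.obj a).base = a.obj.left := D.w_obj a

theorem base_map {a b : (Stk.sieveCat R).obj} (k : a ⟶ b) :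
    (D.map k).base = eqToHom (base_obj D a) ≫ k.hom.left ≫ eqToHom (base_obj D b).symm := by
  have h1 : Functor.IsHomLift (QuotSt K G aX).p ((Stk.sieveCat R).p.map k) (D.map k) :=
    BasedFunctor.preserves_isHomLift D ((Stk.sieveCat R).p.map k) k
  exact IsHomLift.fac' (QuotSt K G aX).p ((Stk.sieveCat R).p.map k) (D.map k)

/-- the system attached to a descent datum -/
def sysOf : Sys K G aX R where
  B T t ht := ofQuot (D.obj (arrowObj t ht)) (base_obj D (arrowObj t ht))
  ρ T' T h t t' ht ht' w := homOfQuot (D.map (arrowHom h t t' ht ht' w)) _ _ h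
    (base_map D (arrowHom h t t' ht ht' w))
  ρ_comp T'' T' T h' h t t' t'' ht ht' ht'' w w' := by
    change (D.map (arrowHom h' t' t'' ht' ht'' w')).top ≫ (D.map (arrowHom h t t' ht ht' w)).top =
      (D.map (arrowHom (h' ≫ h) t t'' ht ht'' _)).top
    rw [← QuotObj.comp_top, ← D.map_comp]
    rfl

/-- the cone data attached to a cone -/
def coneDataOf (c : Cone D) : ConeData (sysOf D) where
  A := ofQuot c.pt c.hpt
  m T t ht := homOfQuot (c.π (arrowObj t ht)) _ _ t (by
    have hl : (QuotSt K G aX).p.IsHomLift t (c.π (arrowObj t ht)) := c.lift (arrowObj t ht)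
    exact IsHomLift.fac' (QuotSt K G aX).p t (c.π (arrowObj t ht)))
  nat T' T h t t' ht ht' w := by
    change (D.map (arrowHom h t t' ht ht' w)).top ≫ (c.π (arrowObj t ht)).top =
      (c.π (arrowObj t' ht')).top
    rw [← QuotObj.comp_top, c.nat]

theorem arrowHom_eta {a b : (Stk.sieveCat R).obj} (k : a ⟶ b) :
    arrowHom (R := R) k.hom.left b.obj.hom a.obj.hom b.property a.property (Over.w k.hom) = k := by
  apply ObjectProperty.hom_ext
  apply Over.OverMorphism.ext
  rfl

/-- a cone from cone data -/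
def coneOfData (d : ConeData (sysOf D)) : Cone D where
  pt := d.A.toQuot
  hpt := rfl
  π a := homToQuot (D.obj a) (base_obj D a) d.A a.obj.hom (d.m a.obj.hom a.property)
  lift a := homToQuot_isHomLift (D.obj a) (base_obj D a) d.A a.obj.hom (d.m a.obj.hom a.property)
  nat {a b} k := by
    apply QuotObj.hom_ext
    · change (D.map k).base ≫ eqToHom (base_obj D b) ≫ b.obj.hom = eqToHom (base_obj D a) ≫ a.obj.hom
      rw [base_map D k]
      simp only [Category.assoc, eqToHom_trans_assoc, eqToHom_refl, Category.id_comp]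
      rw [Over.w k.hom]
    · change (D.map k).top ≫ (d.m b.obj.hom b.property).top = (d.m a.obj.hom a.property).top
      have := d.nat k.hom.left b.obj.hom a.obj.hom b.property a.property (Over.w k.hom)
      change (D.map (arrowHom k.hom.left b.obj.hom a.obj.hom b.property a.property
        (Over.w k.hom))).top ≫ _ = _ at this
      rw [arrowHom_eta] at this
      exact this

theorem cart_unstrict₂ {A A' : QuotObj K G aX} {U : Over S} (hA : A.base = U) (hA' : A'.base = U)
    (top : A.P ⟶ A'.P)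
    (H : IsPullback top (A.π ≫ eqToHom hA) (A'.π ≫ eqToHom hA') (𝟙 U)) :
    IsPullback top A.π A'.π (eqToHom (hA.trans hA'.symm)) := by
  refine IsPullback.of_iso H (Iso.refl _) (Iso.refl _) (eqToIso hA).symm (eqToIso hA').symm
    ?_ ?_ ?_ ?_
  · simp
  · simp
  · simp
  · simp

/-- morphisms of cones correspond to morphisms of cone data -/
theorem existsUnique_hom_of_data (c c' : Cone D)
    (H : ∃! ψ : TorsHom (coneDataOf D c).A (coneDataOf D c').A (𝟙 U),
      ∀ ⦃T : Over S⦄ (t : T ⟶ U) (ht : R t),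
        ((coneDataOf D c).m t ht).top ≫ ψ.top = ((coneDataOf D c').m t ht).top) :
    ∃! φ : c.pt ⟶ c'.pt, (QuotSt K G aX).p.IsHomLift (𝟙 U) φ ∧ ∀ a, c.π a ≫ φ = c'.π a := by
  obtain ⟨ψ, hψ, huniq⟩ := H
  let φ : c.pt ⟶ c'.pt :=
    { base := eqToHom (c.hpt.trans c'.hpt.symm)
      top := ψ.top
      eqv := ψ.eqv
      cart := cart_unstrict₂ c.hpt c'.hpt ψ.top ψ.cart
      wφ := ψ.wφ }
  have hbase : ∀ (φ₂ : c.pt ⟶ c'.pt), (QuotSt K G aX).p.IsHomLift (𝟙 U) φ₂ →
      φ₂.base = eqToHom (c.hpt.trans c'.hpt.symm) := by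
    intro φ₂ h₂
    have := IsHomLift.fac' (QuotSt K G aX).p (𝟙 U) φ₂
    change φ₂.base = _ at this
    rw [this]
    simp
  have hπbase : ∀ a, (c.π a).base ≫ eqToHom (c.hpt.trans c'.hpt.symm) = (c'.π a).base := by
    intro a
    have h1 : (QuotSt K G aX).p.IsHomLift a.obj.hom (c.π a) := c.lift a
    have h2 : (QuotSt K G aX).p.IsHomLift a.obj.hom (c'.π a) := c'.lift a
    have e1 := IsHomLift.fac' (QuotSt K G aX).p a.obj.hom (c.π a)
    have e2 := IsHomLift.fac' (QuotSt K G aX).p a.obj.hom (c'.π a)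
    change (c.π a).base = _ at e1
    change (c'.π a).base = _ at e2
    rw [e1, e2]
    exact eqToHom_aux₁ _ _ _ _ _
  refine ⟨φ, ⟨?_, ?_⟩, ?_⟩
  · refine IsHomLift.of_fac' (QuotSt K G aX).p (𝟙 U) φ c.hpt c'.hpt ?_
    exact eqToHom_aux₂ c.hpt c'.hpt
  · intro a
    apply QuotObj.hom_ext
    · exact hπbase a
    · exact hψ a.obj.hom a.property
  · rintro φ₂ ⟨h₂, hc₂⟩
    have hb₂ := hbase φ₂ h₂
    let ψ₂ : TorsHom (coneDataOf D c).A (coneDataOf D c').A (𝟙 U) :=
      homOfQuot φ₂ c.hpt c'.hpt (𝟙 U) (hb₂.trans (eqToHom_aux₂ c.hpt c'.hpt))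
    have e : ψ₂ = ψ := huniq ψ₂ (fun T t ht => by
      have := congrArg QuotObj.Hom.top (hc₂ (arrowObj t ht))
      exact this)
    apply QuotObj.hom_ext
    · exact hb₂
    · exact congrArg TorsHom.top e

end Translate

end Groth.Agent.Lib.Helper5.QuotStStrict
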