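import Mathlib
import Groth.Prelude.Def_DescFam
import Groth.Agent.Lib.Helper64.DescFam

/-!
# Coordinates on an effective descent datum relative to an fpqc family (helper5)

Let `θ : (toDDFam c).obj W₀ ≅ D`.  A point `w` of `W₀` over a point `x` of a member `U i` of the
family has a coordinate `coord θ x w : Lifts (D.obj i) x`.  Morphisms into `W₀` are separated by
coordinates (`ext_coord`) and can be constructed from compatible coordinates (`exists_of_coord`).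
-/

set_option backward.isDefEq.respectTransparency false
set_option backward.isDefEq.respectTransparency.types false
set_option autoImplicit false
universe u
open CategoryTheory CategoryTheory.Limits AlgebraicGeometry Desc

namespace Groth.Agent.Lib.Helper5.DescCoord

open Groth.Agent.Lib.Helper64.DescFam

variable {S : Scheme.{u}} {ι : Type u} {U : ι → Scheme.{u}} {c : ∀ i, U i ⟶ S}
  {D : SchDDFam c} {W₀ : Over S} (θ : (toDDFam c).obj W₀ ≅ D)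

/-- the canonical point of `U i ×_S W₀` -/
noncomputable def canPt {T : Scheme.{u}} {i : ι} (x : T ⟶ U i) (w : T ⟶ W₀.left)
    (hw : w ≫ W₀.hom = x ≫ c i) : Lifts (((toDDFam c).obj W₀).obj i) x :=
  ⟨pullback.lift x w hw.symm, pullback.lift_fst _ _ _⟩

lemma canPt_φ {T : Scheme.{u}} {i j : ι} (x₀ : T ⟶ U i) (x₁ : T ⟶ U j) (h : x₀ ≫ c i = x₁ ≫ c j)
    (w : T ⟶ W₀.left) (hw₀ : w ≫ W₀.hom = x₀ ≫ c i) (hw₁ : w ≫ W₀.hom = x₁ ≫ c j) :
    ((toDDFam c).obj W₀).φ x₀ x₁ h (canPt x₀ w hw₀) = canPt x₁ w hw₁ := by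
  apply Subtype.ext
  apply pullback.hom_ext
  · simp [toDDFam, canonicalDDFam, canPt]
  · simp [toDDFam, canonicalDDFam, canPt]

lemma eq_canPt {T : Scheme.{u}} {i : ι} (x : T ⟶ U i) (v : Lifts (((toDDFam c).obj W₀).obj i) x)
    (hw : ((show T ⟶ pullback (c i) W₀.hom from v.1) ≫ pullback.snd (c i) W₀.hom) ≫ W₀.hom =
      x ≫ c i) :
    v = canPt x ((show T ⟶ pullback (c i) W₀.hom from v.1) ≫ pullback.snd (c i) W₀.hom) hw := by
  apply Subtype.ext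
  apply pullback.hom_ext
  · have e : (show T ⟶ pullback (c i) W₀.hom from v.1) ≫ pullback.fst (c i) W₀.hom = x := v.2
    simp [canPt, e]
  · simp [canPt]

/-- the coordinate of a point of `W₀` in the chart `x` -/
noncomputable def coord {T : Scheme.{u}} {i : ι} (x : T ⟶ U i) (w : T ⟶ W₀.left)
    (hw : w ≫ W₀.hom = x ≫ c i) : Lifts (D.obj i) x :=
  θ.hom.push (canPt x w hw)

/-- the point of `W₀` with a given coordinate -/
noncomputable def uncoord {T : Scheme.{u}} {i : ι} (x : T ⟶ U i) (d : Lifts (D.obj i) x) :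
    T ⟶ W₀.left :=
  (show T ⟶ pullback (c i) W₀.hom from (θ.inv.push d).1) ≫ pullback.snd (c i) W₀.hom

lemma uncoord_hom {T : Scheme.{u}} {i : ι} (x : T ⟶ U i) (d : Lifts (D.obj i) x) :
    uncoord θ x d ≫ W₀.hom = x ≫ c i := by
  have e : (show T ⟶ pullback (c i) W₀.hom from (θ.inv.push d).1) ≫ pullback.fst (c i) W₀.hom = x :=
    (θ.inv.push d).2
  unfold uncoord
  rw [Category.assoc, ← pullback.condition, ← Category.assoc, e]

lemma push_inv_push {T : Scheme.{u}} {i : ι} {x : T ⟶ U i}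
    (v : Lifts (((toDDFam c).obj W₀).obj i) x) : θ.inv.push (θ.hom.push v) = v := by
  apply Subtype.ext
  have h := congrArg (fun a : (toDDFam c).obj W₀ ⟶ (toDDFam c).obj W₀ => (a.hom i).left) θ.hom_inv_id
  change (v.1 ≫ (θ.hom.hom i).left) ≫ (θ.inv.hom i).left = v.1
  rw [Category.assoc]
  exact (congrArg (fun m => v.1 ≫ m) h).trans (Category.comp_id _)

lemma push_hom_push {T : Scheme.{u}} {i : ι} {x : T ⟶ U i} (d : Lifts (D.obj i) x) :
    θ.hom.push (θ.inv.push d) = d := by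
  apply Subtype.ext
  have h := congrArg (fun a : D ⟶ D => (a.hom i).left) θ.inv_hom_id
  change (d.1 ≫ (θ.inv.hom i).left) ≫ (θ.hom.hom i).left = d.1
  rw [Category.assoc]
  exact (congrArg (fun m => d.1 ≫ m) h).trans (Category.comp_id _)

lemma coord_uncoord {T : Scheme.{u}} {i : ι} (x : T ⟶ U i) (d : Lifts (D.obj i) x) :
    coord θ x (uncoord θ x d) (uncoord_hom θ x d) = d := by
  unfold coord
  have e := eq_canPt x (θ.inv.push d) (uncoord_hom θ x d)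
  change θ.hom.push (canPt x (uncoord θ x d) _) = d
  rw [show canPt x (uncoord θ x d) (uncoord_hom θ x d) = θ.inv.push d from e.symm, push_hom_push]

lemma uncoord_coord {T : Scheme.{u}} {i : ι} (x : T ⟶ U i) (w : T ⟶ W₀.left)
    (hw : w ≫ W₀.hom = x ≫ c i) : uncoord θ x (coord θ x w hw) = w := by
  unfold uncoord coord
  rw [push_inv_push]
  exact pullback.lift_snd _ _ _

lemma coord_injective {T : Scheme.{u}} {i : ι} (x : T ⟶ U i) (w w' : T ⟶ W₀.left)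
    (hw : w ≫ W₀.hom = x ≫ c i) (hw' : w' ≫ W₀.hom = x ≫ c i)
    (h : (coord θ x w hw).1 = (coord θ x w' hw').1) : w = w' := by
  rw [← uncoord_coord θ x w hw, ← uncoord_coord θ x w' hw', Subtype.ext h]

lemma coord_congr {T : Scheme.{u}} {i : ι} {x x' : T ⟶ U i} {w w' : T ⟶ W₀.left}
    (hw : w ≫ W₀.hom = x ≫ c i) (hw' : w' ≫ W₀.hom = x' ≫ c i) (ex : x = x') (ew : w = w') :
    (coord θ x w hw).1 = (coord θ x' w' hw').1 := by
  subst ex ew; rfl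

lemma coord_nat {T T' : Scheme.{u}} (g : T' ⟶ T) {i : ι} (x : T ⟶ U i) (w : T ⟶ W₀.left)
    (hw : w ≫ W₀.hom = x ≫ c i) (hw' : (g ≫ w) ≫ W₀.hom = (g ≫ x) ≫ c i) :
    (coord θ (g ≫ x) (g ≫ w) hw').1 = g ≫ (coord θ x w hw).1 := by
  change pullback.lift (g ≫ x) (g ≫ w) _ ≫ (θ.hom.hom i).left =
    g ≫ pullback.lift x w _ ≫ (θ.hom.hom i).left
  rw [← Category.assoc]
  congr 1
  apply pullback.hom_ext <;> simp

lemma coord_φ {T : Scheme.{u}} {i j : ι} (x₀ : T ⟶ U i) (x₁ : T ⟶ U j) (h : x₀ ≫ c i = x₁ ≫ c j)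
    (w : T ⟶ W₀.left) (hw₀ : w ≫ W₀.hom = x₀ ≫ c i) (hw₁ : w ≫ W₀.hom = x₁ ≫ c j) :
    D.φ x₀ x₁ h (coord θ x₀ w hw₀) = coord θ x₁ w hw₁ := by
  unfold coord
  rw [comm_push, canPt_φ x₀ x₁ h w hw₀ hw₁]

lemma uncoord_nat {T T' : Scheme.{u}} (g : T' ⟶ T) {i : ι} (x : T ⟶ U i) (d : Lifts (D.obj i) x)
    (d' : Lifts (D.obj i) (g ≫ x)) (hd : d'.1 = g ≫ d.1) :
    uncoord θ (g ≫ x) d' = g ≫ uncoord θ x d := by
  apply coord_injective θ (g ≫ x) _ _ (uncoord_hom θ _ d')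
    (by rw [Category.assoc, uncoord_hom, Category.assoc])
  rw [coord_uncoord, coord_nat θ g x (uncoord θ x d) (uncoord_hom θ x d), coord_uncoord, hd]

lemma uncoord_φ {T : Scheme.{u}} {i j : ι} (x₀ : T ⟶ U i) (x₁ : T ⟶ U j) (h : x₀ ≫ c i = x₁ ≫ c j)
    (d : Lifts (D.obj i) x₀) : uncoord θ x₁ (D.φ x₀ x₁ h d) = uncoord θ x₀ d := by
  apply coord_injective θ x₁ _ _ (uncoord_hom θ _ _) ((uncoord_hom θ _ _).trans h)
  rw [coord_uncoord, ← coord_φ θ x₀ x₁ h (uncoord θ x₀ d) (uncoord_hom θ x₀ d), coord_uncoord]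

variable (hc : Presieve.ofArrows U c ∈ Scheme.fpqcPrecoverage S)

include hc in
/-- Morphisms into `W₀` over `S` are determined by their coordinates. -/
theorem ext_coord {A : Scheme.{u}} (h₁ h₂ : A ⟶ W₀.left) (hh : h₁ ≫ W₀.hom = h₂ ≫ W₀.hom)
    (H : ∀ ⦃T : Scheme.{u}⦄ ⦃i : ι⦄ (x : T ⟶ U i) (m : T ⟶ A)
      (hm₁ : (m ≫ h₁) ≫ W₀.hom = x ≫ c i) (hm₂ : (m ≫ h₂) ≫ W₀.hom = x ≫ c i),
      (coord θ x (m ≫ h₁) hm₁).1 = (coord θ x (m ≫ h₂) hm₂).1) : h₁ = h₂ := by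
  apply ext_of_covering (factSieve c (h₁ ≫ W₀.hom)) (factSieve_mem_of_ofArrows_mem c hc _)
  rintro T t ⟨i, x, hx⟩
  have hm₁ : (t ≫ h₁) ≫ W₀.hom = x ≫ c i := by rw [Category.assoc, hx]
  have hm₂ : (t ≫ h₂) ≫ W₀.hom = x ≫ c i := by rw [Category.assoc, ← hh, hx]
  exact coord_injective θ x _ _ hm₁ hm₂ (H x t hm₁ hm₂)

include hc in
/-- Construction of a morphism into `W₀` from compatible coordinates. -/
theorem exists_of_coord {A : Scheme.{u}} (α : A ⟶ S)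
    (d : ∀ ⦃T : Scheme.{u}⦄ ⦃i : ι⦄ (x : T ⟶ U i) (m : T ⟶ A), m ≫ α = x ≫ c i → Lifts (D.obj i) x)
    (d_nat : ∀ ⦃T T' : Scheme.{u}⦄ (g : T' ⟶ T) ⦃i : ι⦄ (x : T ⟶ U i) (m : T ⟶ A)
      (hm : m ≫ α = x ≫ c i) (hm' : (g ≫ m) ≫ α = (g ≫ x) ≫ c i),
      (d (g ≫ x) (g ≫ m) hm').1 = g ≫ (d x m hm).1)
    (d_comm : ∀ ⦃T : Scheme.{u}⦄ ⦃i j : ι⦄ (x₀ : T ⟶ U i) (x₁ : T ⟶ U j) (m : T ⟶ A)
      (h₀ : m ≫ α = x₀ ≫ c i) (h₁ : m ≫ α = x₁ ≫ c j),
      D.φ x₀ x₁ (h₀.symm.trans h₁) (d x₀ m h₀) = d x₁ m h₁) :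
    ∃ h : A ⟶ W₀.left, h ≫ W₀.hom = α ∧
      ∀ ⦃T : Scheme.{u}⦄ ⦃i : ι⦄ (x : T ⟶ U i) (m : T ⟶ A) (hm : m ≫ α = x ≫ c i)
        (hm' : (m ≫ h) ≫ W₀.hom = x ≫ c i), coord θ x (m ≫ h) hm' = d x m hm := by
  have hcov := factSieve_mem_of_ofArrows_mem c hc α
  -- independence of the chart
  have indep : ∀ ⦃T : Scheme.{u}⦄ ⦃i j : ι⦄ (x₀ : T ⟶ U i) (x₁ : T ⟶ U j) (m : T ⟶ A)
      (h₀ : m ≫ α = x₀ ≫ c i) (h₁ : m ≫ α = x₁ ≫ c j),
      uncoord θ x₀ (d x₀ m h₀) = uncoord θ x₁ (d x₁ m h₁) := by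
    intro T i j x₀ x₁ m h₀ h₁
    rw [← d_comm x₀ x₁ m h₀ h₁, uncoord_φ]
  obtain ⟨b, hb⟩ := glue_of_covering (W' := W₀.left) (factSieve c α) hcov
    (fun T t ht => uncoord θ ht.choose_spec.choose (d ht.choose_spec.choose t
      ht.choose_spec.choose_spec.symm))
    (by
      intro T T' t g ht
      have hx := ht.choose_spec.choose_spec
      have hm' : (g ≫ t) ≫ α = (g ≫ ht.choose_spec.choose) ≫ c ht.choose := by
        rw [Category.assoc, Category.assoc, hx]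
      rw [indep _ (g ≫ ht.choose_spec.choose) (g ≫ t) _ hm']
      exact uncoord_nat θ g _ _ _ (d_nat g _ t hx.symm hm'))
  have hbα : b ≫ W₀.hom = α := by
    apply ext_of_covering _ hcov
    rintro T t ⟨i, x, hx⟩
    rw [← Category.assoc, hb t ⟨i, x, hx⟩, uncoord_hom]
    exact (Exists.choose_spec (Exists.choose_spec (⟨i, x, hx⟩ : factSieve c α t)))
  refine ⟨b, hbα, ?_⟩
  intro T i x m hm hm'
  have hmem : factSieve c α m := ⟨i, x, hm.symm⟩
  have e1 : m ≫ b = uncoord θ x (d x m hm) := by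
    rw [hb m hmem]
    exact indep _ x m _ hm
  apply Subtype.ext
  rw [coord_congr θ hm' (uncoord_hom θ x (d x m hm)) rfl e1, coord_uncoord]

end Groth.Agent.Lib.Helper5.DescCoord
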