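import Groth.Prelude.Def_NonAbH2
import Groth.Agent.Lib.Helper2.TorsorInv

/-! # Point calculus for torsors and descent of morphisms along a locally trivial `P` (helper5) -/

set_option autoImplicit false
universe u

open CategoryTheory CategoryTheory.Limits MonoidalCategory CartesianMonoidalCategory MonObj GrpObj
  AlgebraicGeometry

namespace Groth.Agent.Lib.Helper5.TorsorPush

variable {S : Scheme.{u}}

section act

variable {G X : Over S} [GrpObj G] (a : AlgGrp.Action G X)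

/-- The action on `T`-points. -/
noncomputable def smul {T : Over S} (g : T ⟶ G) (x : T ⟶ X) : T ⟶ X := lift g x ≫ a.act

theorem one_smul {T : Over S} (x : T ⟶ X) : smul a (1 : T ⟶ G) x = x := by
  unfold smul
  rw [Hom.one_def]
  have h1 : lift (toUnit T ≫ η[G]) x = lift (toUnit T) x ≫ (η[G] ▷ X) := by
    apply CartesianMonoidalCategory.hom_ext <;> simp
  rw [h1, Category.assoc, a.one_act]
  simp

theorem mul_smul {T : Over S} (g h : T ⟶ G) (x : T ⟶ X) :
    smul a (g * h) x = smul a g (smul a h x) := by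
  unfold smul
  rw [Hom.mul_def]
  have h1 : lift (lift g h ≫ μ[G]) x = lift (lift g h) x ≫ (μ[G] ▷ X) := by
    apply CartesianMonoidalCategory.hom_ext <;> simp
  rw [h1, Category.assoc, a.mul_act]
  have h2 : lift (lift g h) x ≫ (α_ G G X).hom ≫ (G ◁ a.act) = lift g (lift h x ≫ a.act) := by
    apply CartesianMonoidalCategory.hom_ext <;> simp
  rw [← Category.assoc, ← Category.assoc, Category.assoc _ (α_ G G X).hom, h2]

theorem comp_smul {T T' : Over S} (z : T' ⟶ T) (g : T ⟶ G) (x : T ⟶ X) :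
    z ≫ smul a g x = smul a (z ≫ g) (z ≫ x) := by
  unfold smul
  rw [← Category.assoc, comp_lift]

/-- Equivariance on points. -/
theorem smul_comp_of_equivariant {G' X' : Over S} [GrpObj G'] (a' : AlgGrp.Action G' X')
    (φ : G ⟶ G') (f : X ⟶ X') (hf : a.act ≫ f = lift (fst G X ≫ φ) (snd G X ≫ f) ≫ a'.act)
    {T : Over S} (g : T ⟶ G) (x : T ⟶ X) : smul a g x ≫ f = smul a' (g ≫ φ) (x ≫ f) := by
  unfold smul
  rw [Category.assoc, hf, ← Category.assoc, comp_lift, lift_fst_assoc, lift_snd_assoc]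

/-- Equivariance from points. -/
theorem equivariant_of_points {G' X' : Over S} [GrpObj G'] (a' : AlgGrp.Action G' X')
    (φ : G ⟶ G') (f : X ⟶ X')
    (h : smul a (fst G X) (snd G X) ≫ f = smul a' (fst G X ≫ φ) (snd G X ≫ f)) :
    a.act ≫ f = lift (fst G X ≫ φ) (snd G X ≫ f) ≫ a'.act := by
  unfold smul at h
  rwa [lift_fst_snd, Category.id_comp] at h

variable (ha : NonAbH1.IsPseudoTorsorSch a)

/-- The division map of a pseudo-torsor on points: the unique `g` with `g • y₂ = y₁`. -/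
noncomputable def dvp {T : Over S} (y₁ y₂ : T ⟶ X) : T ⟶ G :=
  haveI : IsIso (lift a.act (snd G X)) := ha
  lift y₁ y₂ ≫ inv (lift a.act (snd G X)) ≫ fst G X

include ha in
theorem dvp_smul {T : Over S} (y₁ y₂ : T ⟶ X) : smul a (dvp a ha y₁ y₂) y₂ = y₁ := by
  haveI : IsIso (lift a.act (snd G X)) := ha
  obtain ⟨w, hw⟩ : ∃ w : T ⟶ G ⊗ X, w = lift y₁ y₂ ≫ inv (lift a.act (snd G X)) := ⟨_, rfl⟩
  have hw' : w ≫ lift a.act (snd G X) = lift y₁ y₂ := by
    rw [hw, Category.assoc, IsIso.inv_hom_id, Category.comp_id]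
  have h1 : w ≫ a.act = y₁ := by
    have := congrArg (· ≫ fst X X) hw'
    simpa using this
  have h2 : w ≫ snd G X = y₂ := by
    have := congrArg (· ≫ snd X X) hw'
    simpa using this
  have h3 : lift (dvp a ha y₁ y₂) y₂ = w := by
    apply CartesianMonoidalCategory.hom_ext
    · rw [lift_fst, dvp, hw, Category.assoc]
    · rw [lift_snd, h2]
  unfold smul
  rw [h3, h1]

include ha in
theorem eq_dvp {T : Over S} (g : T ⟶ G) (y₁ y₂ : T ⟶ X) (h : smul a g y₂ = y₁) :
    g = dvp a ha y₁ y₂ := by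
  haveI : IsIso (lift a.act (snd G X)) := ha
  have h1 : lift g y₂ ≫ lift a.act (snd G X) = lift y₁ y₂ := by
    apply CartesianMonoidalCategory.hom_ext
    · rw [Category.assoc, lift_fst, lift_fst]
      exact h
    · rw [Category.assoc, lift_snd, lift_snd, lift_snd]
  have h2 : lift g y₂ = lift y₁ y₂ ≫ inv (lift a.act (snd G X)) := by
    rw [← h1, Category.assoc, IsIso.hom_inv_id, Category.comp_id]
  have h3 := congrArg (· ≫ fst G X) h2
  simp only [lift_fst, Category.assoc] at h3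
  exact h3

theorem comp_dvp {T T' : Over S} (z : T' ⟶ T) (y₁ y₂ : T ⟶ X) :
    z ≫ dvp a ha y₁ y₂ = dvp a ha (z ≫ y₁) (z ≫ y₂) := by
  unfold dvp
  rw [← Category.assoc, comp_lift]

include ha in
theorem dvp_self {T : Over S} (y : T ⟶ X) : dvp a ha y y = 1 :=
  (eq_dvp a ha 1 y y (one_smul a y)).symm

theorem inv_smul_smul {T : Over S} (g : T ⟶ G) (x : T ⟶ X) : smul a g⁻¹ (smul a g x) = x := by
  rw [← mul_smul, inv_mul_cancel, one_smul]

include ha in
theorem dvp_smul_left {T : Over S} (g : T ⟶ G) (y₁ y₂ : T ⟶ X) :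
    dvp a ha (smul a g y₁) y₂ = g * dvp a ha y₁ y₂ := by
  symm
  apply eq_dvp
  rw [mul_smul, dvp_smul]

include ha in
theorem dvp_smul_right {T : Over S} (g : T ⟶ G) (y₁ y₂ : T ⟶ X) :
    dvp a ha y₁ (smul a g y₂) = dvp a ha y₁ y₂ * g⁻¹ := by
  symm
  apply eq_dvp
  rw [mul_smul, inv_smul_smul, dvp_smul]

end act

section epi

/-- A morphism of schemes generating an fpqc-covering sieve is an effective epimorphism. -/
theorem effectiveEpi_of_generate_mem {A B : Scheme.{u}} (f : A ⟶ B)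
    (h : Sieve.generate (Presieve.singleton f) ∈ Scheme.fpqcTopology B) : EffectiveEpi f := by
  rw [← Sieve.effectiveEpimorphic_singleton,
    Presieve.EffectiveEpimorphic.iff_forall_isSheafFor_yoneda]
  intro Z
  rw [Presieve.isSheafFor_iff_generate]
  refine (GrothendieckTopology.Subcanonical.isSheaf_of_isRepresentable
    (J := Scheme.fpqcTopology) _).isSheafFor _ ?_
  rw [Sieve.generate_sieve]
  exact h

variable {P : Over S} (hP : NonAbH1.IsLocallyTrivialFor Scheme.fpqcPrecoverage P) (Y : Over S)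

include hP in
theorem effectiveEpi_snd_left : EffectiveEpi (snd P Y).left := by
  obtain ⟨R, hR, hsec⟩ := hP
  apply effectiveEpi_of_generate_mem
  have h1 : (Sieve.generate R).pullback Y.hom ∈ Scheme.fpqcTopology Y.left :=
    Scheme.fpqcTopology.pullback_stable Y.hom (Precoverage.generate_mem_toGrothendieck hR)
  refine Scheme.fpqcTopology.superset_covering ?_ h1
  intro T g hg
  obtain ⟨W, h, f, hf, hfac⟩ := hg
  obtain ⟨s, hs⟩ := hsec f hf
  let T' : Over S := Over.mk (g ≫ Y.hom)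
  let p : T' ⟶ P := Over.homMk (h ≫ s) (by
    show (h ≫ s) ≫ P.hom = g ≫ Y.hom
    rw [Category.assoc, hs, hfac])
  let y : T' ⟶ Y := Over.homMk g rfl
  refine ⟨_, (lift p y).left, (snd P Y).left, Presieve.singleton.mk, ?_⟩
  rw [← Over.comp_left, lift_snd]
  rfl

include hP in
theorem epi_snd : Epi (snd P Y) := by
  haveI := effectiveEpi_snd_left hP Y
  haveI : Epi ((Over.forget S).map (snd P Y)) := by
    show Epi (snd P Y).left
    infer_instance
  exact (Over.forget S).epi_of_epi_map this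

include hP in
/-- Descent of morphisms along `P ⊗ Y ⟶ Y`. -/
theorem exists_desc_snd {Z : Over S} (f : P ⊗ Y ⟶ Z)
    (hf : ∀ {T : Over S} (p₁ p₂ : T ⟶ P) (y : T ⟶ Y), lift p₁ y ≫ f = lift p₂ y ≫ f) :
    ∃ r : Y ⟶ Z, snd P Y ≫ r = f := by
  haveI := effectiveEpi_snd_left hP Y
  have hcompat : ∀ {W : Scheme.{u}} (g₁ g₂ : W ⟶ (P ⊗ Y).left),
      g₁ ≫ (snd P Y).left = g₂ ≫ (snd P Y).left → g₁ ≫ f.left = g₂ ≫ f.left := by
    intro W g₁ g₂ hg
    let T : Over S := Over.mk (g₁ ≫ (P ⊗ Y).hom)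
    let G₁ : T ⟶ P ⊗ Y := Over.homMk g₁ rfl
    have hw : g₂ ≫ (P ⊗ Y).hom = g₁ ≫ (P ⊗ Y).hom := by
      rw [← Over.w (snd P Y), ← Category.assoc, ← Category.assoc, hg]
    let G₂ : T ⟶ P ⊗ Y := Over.homMk g₂ hw
    have hs : G₁ ≫ snd P Y = G₂ ≫ snd P Y := by
      ext
      exact hg
    have e₁ : G₁ = lift (G₁ ≫ fst P Y) (G₁ ≫ snd P Y) := by
      apply CartesianMonoidalCategory.hom_ext <;> simp
    have e₂ : G₂ = lift (G₂ ≫ fst P Y) (G₁ ≫ snd P Y) := by
      apply CartesianMonoidalCategory.hom_ext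
      · simp
      · rw [lift_snd, hs]
    have := hf (G₁ ≫ fst P Y) (G₂ ≫ fst P Y) (G₁ ≫ snd P Y)
    rw [← e₁, ← e₂] at this
    exact congrArg (fun k : T ⟶ Z => k.left) this
  refine ⟨Over.homMk (EffectiveEpi.desc (snd P Y).left f.left hcompat) ?_, ?_⟩
  · rw [← cancel_epi (snd P Y).left, ← Category.assoc,
      EffectiveEpi.fac (snd P Y).left f.left hcompat, Over.w, Over.w]
  · ext
    exact EffectiveEpi.fac (snd P Y).left f.left hcompat

end epi


section push

variable {J J' J'' : Over S} [GrpObj J] [GrpObj J'] [GrpObj J'']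
  (u : J ⟶ J') [IsMonHom u] (v : J' ⟶ J'') [IsMonHom v] {P P' P'' : Over S}
  (a : AlgGrp.Action J P) (a' : AlgGrp.Action J' P') (a'' : AlgGrp.Action J'' P'')
  (ha : NonAbH1.IsPseudoTorsorSch a) (ha' : NonAbH1.IsPseudoTorsorSch a')
  (hP : NonAbH1.IsLocallyTrivialFor Scheme.fpqcPrecoverage P)
  (q' : P ⟶ P') (hq' : a.act ≫ q' = lift (fst J P ≫ u) (snd J P ≫ q') ≫ a'.act)
  (q'' : P ⟶ P'') (hq'' : a.act ≫ q'' = lift (fst J P ≫ u ≫ v) (snd J P ≫ q'') ≫ a''.act)

/-- The candidate on points: `(p, p') ↦ v(p' / q'(p)) • q''(p)`. -/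
noncomputable def pushPt {T : Over S} (p : T ⟶ P) (p' : T ⟶ P') : T ⟶ P'' :=
  smul a'' (dvp a' ha' p' (p ≫ q') ≫ v) (p ≫ q'')

theorem comp_pushPt {T T' : Over S} (z : T' ⟶ T) (p : T ⟶ P) (p' : T ⟶ P') :
    z ≫ pushPt v a' a'' ha' q' q'' p p' = pushPt v a' a'' ha' q' q'' (z ≫ p) (z ≫ p') := by
  unfold pushPt
  rw [comp_smul, ← Category.assoc, comp_dvp, Category.assoc, Category.assoc]

include ha hq' hq'' in
theorem pushPt_indep {T : Over S} (p₁ p₂ : T ⟶ P) (p' : T ⟶ P') :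
    pushPt v a' a'' ha' q' q'' p₁ p' = pushPt v a' a'' ha' q' q'' p₂ p' := by
  obtain ⟨j, hj⟩ : ∃ j : T ⟶ J, smul a j p₂ = p₁ := ⟨_, dvp_smul a ha p₁ p₂⟩
  have h1 : p₁ ≫ q' = smul a' (j ≫ u) (p₂ ≫ q') := by
    rw [← hj]
    exact smul_comp_of_equivariant a a' u q' hq' j p₂
  have h2 : p₁ ≫ q'' = smul a'' ((j ≫ u) ≫ v) (p₂ ≫ q'') := by
    rw [← hj, Category.assoc]
    exact smul_comp_of_equivariant a a'' (u ≫ v) q'' hq'' j p₂
  unfold pushPt
  rw [h1, h2, dvp_smul_right a' ha', MonObj.mul_comp, GrpObj.inv_comp, mul_smul, inv_smul_smul]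

include ha' in
theorem pushPt_smul {T : Over S} (g : T ⟶ J') (p : T ⟶ P) (p' : T ⟶ P') :
    pushPt v a' a'' ha' q' q'' p (smul a' g p') =
      smul a'' (g ≫ v) (pushPt v a' a'' ha' q' q'' p p') := by
  unfold pushPt
  rw [dvp_smul_left a' ha', MonObj.mul_comp, mul_smul]

include ha' in
theorem pushPt_self {T : Over S} (p : T ⟶ P) :
    pushPt v a' a'' ha' q' q'' p (p ≫ q') = p ≫ q'' := by
  unfold pushPt
  rw [dvp_self a' ha', MonObj.one_comp, one_smul]

include ha' in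
/-- Any `v`-equivariant `r` with `q' ≫ r = q''` is given by `pushPt`. -/
theorem eq_pushPt (r : P' ⟶ P'')
    (hr : a'.act ≫ r = lift (fst J' P' ≫ v) (snd J' P' ≫ r) ≫ a''.act) (hqr : q' ≫ r = q'')
    {T : Over S} (p : T ⟶ P) (p' : T ⟶ P') : p' ≫ r = pushPt v a' a'' ha' q' q'' p p' := by
  unfold pushPt
  have h1 : smul a' (dvp a' ha' p' (p ≫ q')) (p ≫ q') = p' := dvp_smul a' ha' _ _
  conv_lhs => rw [← h1]
  rw [smul_comp_of_equivariant a' a'' v r hr, Category.assoc, hqr]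

include ha ha' hP hq' hq'' in
theorem existsUnique_push :
    ∃! r : P' ⟶ P'', a'.act ≫ r = lift (fst J' P' ≫ v) (snd J' P' ≫ r) ≫ a''.act ∧
      q' ≫ r = q'' := by
  obtain ⟨r, hr⟩ := exists_desc_snd hP P' (pushPt v a' a'' ha' q' q'' (fst P P') (snd P P'))
    (by
      intro T p₁ p₂ y
      rw [comp_pushPt, comp_pushPt, lift_fst, lift_snd, lift_fst, lift_snd]
      exact pushPt_indep u v a a' a'' ha ha' q' hq' q'' hq'' p₁ p₂ y)
  have hpt : ∀ {T : Over S} (p : T ⟶ P) (p' : T ⟶ P'),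
      p' ≫ r = pushPt v a' a'' ha' q' q'' p p' := by
    intro T p p'
    have := congrArg (fun k => lift p p' ≫ k) hr
    simp only [lift_snd_assoc] at this
    rw [this, comp_pushPt, lift_fst, lift_snd]
  refine ⟨r, ⟨?_, ?_⟩, ?_⟩
  · apply equivariant_of_points
    haveI := epi_snd hP (J' ⊗ P')
    rw [← cancel_epi (snd P (J' ⊗ P'))]
    rw [← Category.assoc, comp_smul, comp_smul]
    rw [hpt (fst P (J' ⊗ P')), pushPt_smul v a' a'' ha',
      ← Category.assoc (snd P (J' ⊗ P')) (snd J' P') r,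
      hpt (fst P (J' ⊗ P')) ((snd P (J' ⊗ P') ≫ snd J' P')), Category.assoc]
  · have h1 := hpt (𝟙 P) q'
    have h2 := pushPt_self v a' a'' ha' q' q'' (𝟙 P)
    rw [Category.id_comp, Category.id_comp] at h2
    rw [h1, h2]
  · rintro r' ⟨hr', hqr'⟩
    haveI := epi_snd hP P'
    rw [← cancel_epi (snd P P')]
    rw [eq_pushPt v a' a'' ha' q' q'' r' hr' hqr' (fst P P') (snd P P'),
      hpt (fst P P') (snd P P')]

end push

end Groth.Agent.Lib.Helper5.TorsorPush
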