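import Mathlib
import Groth.Prelude.Def_DescFam
import Groth.Agent.Lib.Helper5.DescCover
import Groth.Agent.Lib.Helper5.TorsorPush
import Groth.Agent.Lib.Helper64.FpqcOpen

/-!
# The coproduct of an fpqc covering family is a descent cover (helper5)
-/

set_option autoImplicit false
universe w u
open CategoryTheory CategoryTheory.Limits AlgebraicGeometry Desc Opposite

namespace Groth.Agent.Lib.Helper5.DescFamCover

open Groth.Agent.Lib.Helper5.DescFunctor

variable {ι : Type w} [Small.{u} ι] {S : Scheme.{u}} {X : ι → Scheme.{u}} (f : ∀ i, X i ⟶ S)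

lemma flat_of_mem (hf : Presieve.ofArrows X f ∈ Scheme.fpqcPrecoverage S) (i : ι) : Flat (f i) :=
  ((Scheme.ofArrows_mem_precoverage_iff (P := @Flat)).1
    (Scheme.propQCPrecoverage_le_precoverage _ hf)).2 i

lemma exists_mem_range_of_mem (hf : Presieve.ofArrows X f ∈ Scheme.fpqcPrecoverage S) (s : S) :
    ∃ i, s ∈ Set.range (f i).base :=
  ((Scheme.ofArrows_mem_precoverage_iff (P := @Flat)).1
    (Scheme.propQCPrecoverage_le_precoverage _ hf)).1 s

lemma flat_sigmaDesc (hf : Presieve.ofArrows X f ∈ Scheme.fpqcPrecoverage S) :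
    Flat (Sigma.desc f) :=
  IsZariskiLocalAtSource.sigmaDesc (P := @Flat) (flat_of_mem f hf)

lemma surjective_sigmaDesc (hf : Presieve.ofArrows X f ∈ Scheme.fpqcPrecoverage S) :
    Surjective (Sigma.desc f) := by
  refine ⟨fun s => ?_⟩
  obtain ⟨i, x, hx⟩ := exists_mem_range_of_mem f hf s
  refine ⟨(Sigma.ι X i).base x, ?_⟩
  rw [← hx, ← Scheme.Hom.comp_apply, Sigma.ι_desc]

/-- the base change of the family along `t` -/
lemma pullback_mem (hf : Presieve.ofArrows X f ∈ Scheme.fpqcPrecoverage S) {T : Scheme.{u}}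
    (t : T ⟶ S) :
    Presieve.ofArrows (fun i => pullback (f i) t) (fun i => pullback.snd (f i) t) ∈
      Scheme.fpqcPrecoverage T :=
  Precoverage.mem_coverings_of_isPullback f hf t _ (fun i => pullback.fst (f i) t)
    (fun i => (IsPullback.of_hasPullback (f i) t).flip)

/-- the comparison from the base change of a member to the base change of the coproduct -/
noncomputable def cmp {T : Scheme.{u}} (t : T ⟶ S) (i : ι) :
    pullback (f i) t ⟶ pullback (Sigma.desc f) t :=
  pullback.map (f i) t (Sigma.desc f) t (Sigma.ι X i) (𝟙 T) (𝟙 S)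
    (by rw [Category.comp_id, Sigma.ι_desc]) (by rw [Category.comp_id, Category.id_comp])

lemma cmp_snd {T : Scheme.{u}} (t : T ⟶ S) (i : ι) :
    cmp f t i ≫ pullback.snd (Sigma.desc f) t = pullback.snd (f i) t := by
  rw [cmp, pullback.lift_snd, Category.comp_id]

theorem isDescCover_sigmaDesc (hf : Presieve.ofArrows X f ∈ Scheme.fpqcPrecoverage S) :
    IsDescCover (Sigma.desc f) where
  surj := surjective_sigmaDesc f hf
  flat := flat_sigmaDesc f hf
  quot {T} t := by
    haveI := surjective_sigmaDesc f hf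
    rw [Topology.isQuotientMap_iff]
    refine ⟨Topology.isCoinducing_iff.2 fun V => ⟨fun hV => ?_, fun hV => ?_⟩,
      (pullback.snd (Sigma.desc f) t).surjective⟩
    · apply Groth.Agent.Lib.Helper64.FpqcOpen.isOpen_of_fpqc _ (pullback_mem f hf t) V
      rintro T' g ⟨i⟩
      have e : (pullback.snd (f i) t).base ⁻¹' V =
          (cmp f t i).base ⁻¹' ((pullback.snd (Sigma.desc f) t).base ⁻¹' V) := by
        rw [← Set.preimage_comp, ← TopCat.coe_comp, ← Scheme.Hom.comp_base, cmp_snd]
      rw [e]
      exact hV.preimage (cmp f t i).continuous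
    · exact hV.preimage (pullback.snd (Sigma.desc f) t).continuous
  effEpi {T} t := by
    apply Groth.Agent.Lib.Helper5.TorsorPush.effectiveEpi_of_generate_mem
    refine Scheme.fpqcTopology.superset_covering ?_
      (Precoverage.generate_mem_toGrothendieck (pullback_mem f hf t))
    rintro T' g ⟨Z, a, b, ⟨i⟩, rfl⟩
    exact ⟨_, a ≫ cmp f t i, pullback.snd (Sigma.desc f) t, Presieve.singleton.mk,
      by rw [Category.assoc, cmp_snd]⟩

end Groth.Agent.Lib.Helper5.DescFamCover
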