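import Mathlib
import Groth.Prelude.Def_DescFam
import Groth.Agent.Lib.Helper64.DescFam

/-!
# Descent data relative to a family and relative to the coproduct of the family (helper5)

For a family `f i : X i ⟶ S` and a descent datum `D` relative to the family we build the descent
datum `sigDD D` relative to `Sigma.desc f : ∐ X ⟶ S` on `∐ (D.obj i).left`, and show that its
pullback along the coprojections is `D`.
-/

set_option autoImplicit false
universe w u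
open CategoryTheory CategoryTheory.Limits AlgebraicGeometry Desc Opposite

namespace Groth.Agent.Lib.Helper5.DescSigma

open Groth.Agent.Lib.Helper64.DescFam

section coprod

variable {ι : Type w} [Small.{u} ι]

/-- A morphism to `∐ E` lying over a point of the `i`-th summand of `∐ X` factors through the `i`-th
summand. -/
lemma exists_factor {X E : ι → Scheme.{u}} (e : ∀ i, E i ⟶ X i) {T : Scheme.{u}} (z : T ⟶ ∐ E)
    (i : ι) (y : T ⟶ X i) (h : z ≫ Limits.Sigma.map e = y ≫ Sigma.ι X i) :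
    ∃ w : T ⟶ E i, w ≫ Sigma.ι E i = z ∧ w ≫ e i = y := by
  have hr : Set.range z.base ⊆ Set.range (Sigma.ι E i).base := by
    rintro _ ⟨t, rfl⟩
    obtain ⟨j, x, hx⟩ := (sigmaOpenCover E).exists_eq (z.base t)
    change (Sigma.ι E j).base x = z.base t at hx
    have h1 : (Sigma.ι X j).base ((e j).base x) = (Sigma.ι X i).base (y.base t) := by
      have e1 : (Sigma.ι E j ≫ Limits.Sigma.map e).base x = (z ≫ Limits.Sigma.map e).base t := by
        simp only [Scheme.Hom.comp_base, TopCat.hom_comp, ContinuousMap.comp_apply]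
        rw [hx]
      rw [Sigma.ι_map, h] at e1
      simpa using e1
    obtain ⟨rfl⟩ : j = i := by
      have := (sigmaι_eq_iff X j i _ _).1 h1
      exact congrArg Sigma.fst this
    exact ⟨x, hx⟩
  refine ⟨IsOpenImmersion.lift (Sigma.ι E i) z hr, IsOpenImmersion.lift_fac _ _ _, ?_⟩
  rw [← cancel_mono (Sigma.ι X i), Category.assoc, ← Sigma.ι_map, ← Category.assoc,
    IsOpenImmersion.lift_fac, h]

/-- Two morphisms out of `T` into summands with the same composite into the coproduct either land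
in the same summand and agree, or `T` is empty. -/
lemma hom_ext_of_ne {X : ι → Scheme.{u}} {T Z : Scheme.{u}} {i i' : ι} (y : T ⟶ X i)
    (y' : T ⟶ X i') (h : y ≫ Sigma.ι X i = y' ≫ Sigma.ι X i') (hne : i ≠ i') (a b : T ⟶ Z) :
    a = b := by
  haveI : IsEmpty T := isEmpty_of_commSq_sigmaι_of_ne ⟨h⟩ hne
  exact isInitialOfIsEmpty.hom_ext a b

lemma ofArrows_sigmaι_mem (X : ι → Scheme.{u}) :
    Presieve.ofArrows X (Sigma.ι X) ∈ Scheme.fpqcPrecoverage (∐ X) :=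
  Scheme.zariskiPrecoverage_le_fpqcPrecoverage _ (sigmaOpenCover X).mem₀

end coprod


section sigma

variable {ι : Type w} [Small.{u} ι] {S : Scheme.{u}} {X : ι → Scheme.{u}} {f : ∀ i, X i ⟶ S}
  (D : SchDDFam f)

/-- the total space `∐ Eᵢ` -/
noncomputable abbrev sE : Scheme.{u} := ∐ fun i => (D.obj i).left

/-- the structure morphism `∐ Eᵢ ⟶ ∐ Xᵢ` -/
noncomputable abbrev sHom : sE D ⟶ ∐ X := Limits.Sigma.map fun i => (D.obj i).hom

/-- the object of the descent datum on the coproduct -/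
noncomputable abbrev sObj : Over (∐ X) := Over.mk (sHom D)

lemma ι_sHom (i : ι) :
    Sigma.ι (fun i => (D.obj i).left) i ≫ sHom D = (D.obj i).hom ≫ Sigma.ι X i :=
  Sigma.ι_map _ _

variable {D} in
lemma base_compat {T : Scheme.{u}} {x₀ x₁ : T ⟶ ∐ X}
    (h : x₀ ≫ Sigma.desc f = x₁ ≫ Sigma.desc f) {T' : Scheme.{u}} (g : T' ⟶ T) {i j : ι}
    (y₀ : T' ⟶ X i) (y₁ : T' ⟶ X j) (h₀ : y₀ ≫ Sigma.ι X i = g ≫ x₀)
    (h₁ : y₁ ≫ Sigma.ι X j = g ≫ x₁) : y₀ ≫ f i = y₁ ≫ f j := by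
  have e0 : y₀ ≫ f i = (g ≫ x₀) ≫ Sigma.desc f := by
    rw [← h₀, Category.assoc, Sigma.ι_desc]
  have e1 : y₁ ≫ f j = (g ≫ x₁) ≫ Sigma.desc f := by
    rw [← h₁, Category.assoc, Sigma.ι_desc]
  rw [e0, e1, Category.assoc, Category.assoc, h]

/-- independence of the local description of the chosen summands -/
lemma indep {T' : Scheme.{u}} {i j i' j' : ι} (y₀ : T' ⟶ X i) (y₁ : T' ⟶ X j)
    (h : y₀ ≫ f i = y₁ ≫ f j) (w : Lifts (D.obj i) y₀) (y₀' : T' ⟶ X i') (y₁' : T' ⟶ X j')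
    (h' : y₀' ≫ f i' = y₁' ≫ f j') (w' : Lifts (D.obj i') y₀')
    (e₀ : y₀ ≫ Sigma.ι X i = y₀' ≫ Sigma.ι X i') (e₁ : y₁ ≫ Sigma.ι X j = y₁' ≫ Sigma.ι X j')
    (ew : w.1 ≫ Sigma.ι (fun i => (D.obj i).left) i =
      w'.1 ≫ Sigma.ι (fun i => (D.obj i).left) i') :
    (D.φ y₀ y₁ h w).1 ≫ Sigma.ι (fun i => (D.obj i).left) j =
      (D.φ y₀' y₁' h' w').1 ≫ Sigma.ι (fun i => (D.obj i).left) j' := by
  by_cases hi : i = i'
  · by_cases hj : j = j'
    · subst hi hj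
      have a0 : y₀ = y₀' := (cancel_mono (Sigma.ι X i)).1 e₀
      have a1 : y₁ = y₁' := (cancel_mono (Sigma.ι X j)).1 e₁
      have aw : w.1 = w'.1 := (cancel_mono (Sigma.ι (fun i => (D.obj i).left) i)).1 ew
      rw [φ_congr D h h' a0 a1 w w' aw]
    · exact hom_ext_of_ne y₁ y₁' e₁ hj _ _
  · exact hom_ext_of_ne y₀ y₀' e₀ hi _ _

/-- the covering sieve of test morphisms over which both base points land in a summand -/
noncomputable def sSieve {T : Scheme.{u}} (x₀ x₁ : T ⟶ ∐ X) : Sieve T :=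
  factSieve (Sigma.ι X) x₀ ⊓ factSieve (Sigma.ι X) x₁

lemma sSieve_mem {T : Scheme.{u}} (x₀ x₁ : T ⟶ ∐ X) :
    sSieve x₀ x₁ ∈ Scheme.fpqcTopology T :=
  Scheme.fpqcTopology.intersection_covering
    (factSieve_mem_of_ofArrows_mem _ (ofArrows_sigmaι_mem X) x₀)
    (factSieve_mem_of_ofArrows_mem _ (ofArrows_sigmaι_mem X) x₁)

/-- Local data of a point `v` over `x₀`, on a test scheme over which `x₀` and `x₁` land in
summands. -/
structure LocalData {T : Scheme.{u}} (x₀ x₁ : T ⟶ ∐ X) (v : T ⟶ sE D) {T' : Scheme.{u}}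
    (g : T' ⟶ T) where
  i : ι
  j : ι
  y₀ : T' ⟶ X i
  y₁ : T' ⟶ X j
  w : Lifts (D.obj i) y₀
  h₀ : y₀ ≫ Sigma.ι X i = g ≫ x₀
  h₁ : y₁ ≫ Sigma.ι X j = g ≫ x₁
  hw : w.1 ≫ Sigma.ι (fun i => (D.obj i).left) i = g ≫ v

namespace LocalData

variable {D}
variable {T : Scheme.{u}} {x₀ x₁ : T ⟶ ∐ X} {v : T ⟶ sE D} {T' : Scheme.{u}} {g : T' ⟶ T}

/-- the value of the glued map on local data -/
noncomputable def val (d : LocalData D x₀ x₁ v g) (h : x₀ ≫ Sigma.desc f = x₁ ≫ Sigma.desc f) :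
    T' ⟶ sE D :=
  (D.φ d.y₀ d.y₁ (base_compat h g d.y₀ d.y₁ d.h₀ d.h₁) d.w).1 ≫
    Sigma.ι (fun i => (D.obj i).left) d.j

lemma val_eq (d d' : LocalData D x₀ x₁ v g) (h : x₀ ≫ Sigma.desc f = x₁ ≫ Sigma.desc f) :
    d.val h = d'.val h :=
  indep D _ _ _ _ _ _ _ _ (d.h₀.trans d'.h₀.symm) (d.h₁.trans d'.h₁.symm) (d.hw.trans d'.hw.symm)

/-- restriction of local data -/
def pre (d : LocalData D x₀ x₁ v g) {T'' : Scheme.{u}} (g' : T'' ⟶ T') :
    LocalData D x₀ x₁ v (g' ≫ g) where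
  i := d.i
  j := d.j
  y₀ := g' ≫ d.y₀
  y₁ := g' ≫ d.y₁
  w := Groth.Agent.Lib.Helper64.DescFam.pre g' d.w
  h₀ := by rw [Category.assoc, d.h₀, Category.assoc]
  h₁ := by rw [Category.assoc, d.h₁, Category.assoc]
  hw := by rw [pre_val, Category.assoc, d.hw, Category.assoc]

lemma val_pre (d : LocalData D x₀ x₁ v g) {T'' : Scheme.{u}} (g' : T'' ⟶ T')
    (h : x₀ ≫ Sigma.desc f = x₁ ≫ Sigma.desc f) : (d.pre g').val h = g' ≫ d.val h := by
  unfold val
  rw [← Category.assoc]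
  congr 1
  exact D.φ_natural g' d.y₀ d.y₁ _ (g' ≫ d.y₀) (g' ≫ d.y₁) rfl rfl _ d.w
    (Groth.Agent.Lib.Helper64.DescFam.pre g' d.w) rfl

lemma mem_sSieve (d : LocalData D x₀ x₁ v g) : sSieve x₀ x₁ g :=
  ⟨⟨d.i, d.y₀, d.h₀⟩, ⟨d.j, d.y₁, d.h₁⟩⟩

lemma val_sHom (d : LocalData D x₀ x₁ v g) (h : x₀ ≫ Sigma.desc f = x₁ ≫ Sigma.desc f) :
    d.val h ≫ sHom D = g ≫ x₁ := by
  unfold val
  rw [Category.assoc, ι_sHom, ← Category.assoc, (D.φ _ _ _ _).2, d.h₁]

end LocalData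

variable {D} in
/-- local data exist on members of the covering sieve -/
lemma nonempty_localData {T : Scheme.{u}} {x₀ x₁ : T ⟶ ∐ X} (v : Lifts (sObj D) x₀)
    {T' : Scheme.{u}} (g : T' ⟶ T) (hg : sSieve x₀ x₁ g) :
    Nonempty (LocalData D x₀ x₁ v.1 g) := by
  obtain ⟨⟨i, y₀, h₀⟩, ⟨j, y₁, h₁⟩⟩ := hg
  have hz : (g ≫ v.1) ≫ sHom D = y₀ ≫ Sigma.ι X i := by
    rw [Category.assoc, h₀]
    exact congrArg (fun t => g ≫ t) v.2
  obtain ⟨w, hw1, hw2⟩ := exists_factor (fun i => (D.obj i).hom) (g ≫ v.1) i y₀ hz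
  exact ⟨⟨i, j, y₀, y₁, ⟨w, hw2⟩, h₀, h₁, hw1⟩⟩

/-- The specification of the glued bijection: `b` is the image of `v` under the gluing map from
points over `x₀` to points over `x₁`. -/
def Spec {T : Scheme.{u}} {x₀ x₁ : T ⟶ ∐ X} (h : x₀ ≫ Sigma.desc f = x₁ ≫ Sigma.desc f)
    (v b : T ⟶ sE D) : Prop :=
  ∀ ⦃T' : Scheme.{u}⦄ (g : T' ⟶ T) (d : LocalData D x₀ x₁ v g), d.val h = g ≫ b

variable {D}

lemma exists_spec {T : Scheme.{u}} {x₀ x₁ : T ⟶ ∐ X}
    (h : x₀ ≫ Sigma.desc f = x₁ ≫ Sigma.desc f) (v : Lifts (sObj D) x₀) :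
    ∃ b : T ⟶ sE D, Spec D h v.1 b := by
  obtain ⟨b, hb⟩ := glue_of_covering (sSieve x₀ x₁) (sSieve_mem x₀ x₁)
    (fun T' t ht => (Classical.choice (nonempty_localData v t ht)).val h)
    (fun T' T'' t g ht => by
      rw [← LocalData.val_pre]
      exact LocalData.val_eq _ _ h)
  refine ⟨b, fun T' g d => ?_⟩
  rw [hb g d.mem_sSieve]
  exact LocalData.val_eq _ _ h

lemma Spec.unique {T : Scheme.{u}} {x₀ x₁ : T ⟶ ∐ X}
    {h : x₀ ≫ Sigma.desc f = x₁ ≫ Sigma.desc f} {v : Lifts (sObj D) x₀} {b b' : T ⟶ sE D}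
    (hb : Spec D h v.1 b) (hb' : Spec D h v.1 b') : b = b' := by
  apply ext_of_covering (sSieve x₀ x₁) (sSieve_mem x₀ x₁)
  intro T' t ht
  obtain ⟨d⟩ := nonempty_localData v t ht
  rw [← hb t d, ← hb' t d]

lemma Spec.hom {T : Scheme.{u}} {x₀ x₁ : T ⟶ ∐ X}
    {h : x₀ ≫ Sigma.desc f = x₁ ≫ Sigma.desc f} {v : Lifts (sObj D) x₀} {b : T ⟶ sE D}
    (hb : Spec D h v.1 b) : b ≫ sHom D = x₁ := by
  apply ext_of_covering (sSieve x₀ x₁) (sSieve_mem x₀ x₁)
  intro T' t ht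
  obtain ⟨d⟩ := nonempty_localData v t ht
  rw [← Category.assoc, ← hb t d, d.val_sHom]

lemma Spec.pre {T : Scheme.{u}} {x₀ x₁ : T ⟶ ∐ X}
    {h : x₀ ≫ Sigma.desc f = x₁ ≫ Sigma.desc f} {v b : T ⟶ sE D}
    (hb : Spec D h v b) {T₁ : Scheme.{u}} (k : T₁ ⟶ T) {z₀ z₁ : T₁ ⟶ ∐ X} (e₀ : k ≫ x₀ = z₀)
    (e₁ : k ≫ x₁ = z₁) (h' : z₀ ≫ Sigma.desc f = z₁ ≫ Sigma.desc f) {v' : T₁ ⟶ sE D}
    (ev : v' = k ≫ v) : Spec D h' v' (k ≫ b) := by
  subst e₀ e₁ ev
  intro T' g d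
  let d' : LocalData D x₀ x₁ v (g ≫ k) :=
    ⟨d.i, d.j, d.y₀, d.y₁, d.w, by rw [d.h₀, Category.assoc], by rw [d.h₁, Category.assoc],
      by rw [d.hw, Category.assoc]⟩
  have := hb (g ≫ k) d'
  rw [Category.assoc] at this
  exact this

lemma Spec.self {T : Scheme.{u}} {x : T ⟶ ∐ X} (v : T ⟶ sE D) :
    Spec D (rfl : x ≫ Sigma.desc f = x ≫ Sigma.desc f) v v := by
  intro T' g d
  unfold LocalData.val
  rw [indep D d.y₀ d.y₁ _ d.w d.y₀ d.y₀ rfl d.w rfl (d.h₁.trans d.h₀.symm) rfl, D.φ_self]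
  exact d.hw

lemma Spec.comp {T : Scheme.{u}} {x₀ x₁ x₂ : T ⟶ ∐ X}
    {h₀₁ : x₀ ≫ Sigma.desc f = x₁ ≫ Sigma.desc f} {h₁₂ : x₁ ≫ Sigma.desc f = x₂ ≫ Sigma.desc f}
    {v b c : T ⟶ sE D} (hb : Spec D h₀₁ v b) (hc : Spec D h₁₂ b c) :
    Spec D (h₀₁.trans h₁₂) v c := by
  intro T' g d
  apply ext_of_covering (factSieve (Sigma.ι X) (g ≫ x₁))
    (factSieve_mem_of_ofArrows_mem _ (ofArrows_sigmaι_mem X) (g ≫ x₁))
  rintro T'' t ⟨j, y₁, h₁⟩
  have h₁' : y₁ ≫ Sigma.ι X j = (t ≫ g) ≫ x₁ := by rw [h₁, Category.assoc]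
  let d₀₁ : LocalData D x₀ x₁ v (t ≫ g) :=
    ⟨d.i, j, t ≫ d.y₀, y₁, Groth.Agent.Lib.Helper64.DescFam.pre t d.w,
      by rw [Category.assoc, d.h₀, Category.assoc], h₁',
      by rw [pre_val, Category.assoc, d.hw, Category.assoc]⟩
  have e₀₁ := hb (t ≫ g) d₀₁
  let d₁₂ : LocalData D x₁ x₂ b (t ≫ g) :=
    ⟨j, d.j, y₁, t ≫ d.y₁, D.φ (t ≫ d.y₀) y₁ (base_compat h₀₁ (t ≫ g) _ _ d₀₁.h₀ d₀₁.h₁) d₀₁.w,
      h₁', by rw [Category.assoc, d.h₁, Category.assoc], e₀₁⟩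
  have e₁₂ := hc (t ≫ g) d₁₂
  rw [Category.assoc] at e₁₂
  rw [← e₁₂, ← LocalData.val_pre]
  unfold LocalData.val
  congr 1
  exact (congrArg Subtype.val (D.φ_comp (t ≫ d.y₀) y₁ (t ≫ d.y₁) _ _ _)).symm

variable (D)

/-- the glued bijection -/
noncomputable def sφ {T : Scheme.{u}} (x₀ x₁ : T ⟶ ∐ X)
    (h : x₀ ≫ Sigma.desc f = x₁ ≫ Sigma.desc f) (v : Lifts (sObj D) x₀) : Lifts (sObj D) x₁ :=
  ⟨(exists_spec h v).choose, (exists_spec h v).choose_spec.hom⟩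

lemma sφ_spec {T : Scheme.{u}} (x₀ x₁ : T ⟶ ∐ X)
    (h : x₀ ≫ Sigma.desc f = x₁ ≫ Sigma.desc f) (v : Lifts (sObj D) x₀) :
    Spec D h v.1 (sφ D x₀ x₁ h v).1 :=
  (exists_spec h v).choose_spec

lemma sφ_eq {T : Scheme.{u}} {x₀ x₁ : T ⟶ ∐ X}
    {h : x₀ ≫ Sigma.desc f = x₁ ≫ Sigma.desc f} {v : Lifts (sObj D) x₀} {b : T ⟶ sE D}
    (hb : Spec D h v.1 b) : (sφ D x₀ x₁ h v).1 = b :=
  (sφ_spec D x₀ x₁ h v).unique hb

lemma sφ_sφ {T : Scheme.{u}} (x₀ x₁ : T ⟶ ∐ X)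
    (h : x₀ ≫ Sigma.desc f = x₁ ≫ Sigma.desc f) (v : Lifts (sObj D) x₀) :
    sφ D x₁ x₀ h.symm (sφ D x₀ x₁ h v) = v :=
  Subtype.ext (Spec.unique (v := v) ((sφ_spec D x₀ x₁ h v).comp (sφ_spec D x₁ x₀ h.symm _))
    (Spec.self v.1))

/-- The descent datum relative to `Sigma.desc f` glued from a descent datum relative to the
family `f`. -/
noncomputable def sigDD : SchDD (Sigma.desc f) where
  obj := sObj D
  φ T x₀ x₁ h :=
    { toFun := sφ D x₀ x₁ h
      invFun := sφ D x₁ x₀ h.symm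
      left_inv := fun v => sφ_sφ D x₀ x₁ h v
      right_inv := fun v => sφ_sφ D x₁ x₀ h.symm v }
  φ_natural T T' g x₀ x₁ h h' v v' hv' :=
    sφ_eq D ((sφ_spec D x₀ x₁ h v).pre g rfl rfl h' hv')
  φ_self T x v := Subtype.ext (sφ_eq D (Spec.self v.1))
  φ_comp T x₀ x₁ x₂ h₀₁ h₁₂ v :=
    Subtype.ext (sφ_eq D ((sφ_spec D x₀ x₁ h₀₁ v).comp (sφ_spec D x₁ x₂ h₁₂ _))).symm

lemma sigDD_obj : (sigDD D).obj = sObj D := rfl

/-- a point of the coproduct over the `i`-th summand comes from the `i`-th member -/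
noncomputable def unLift (i : ι) {T : Scheme.{u}} (x : T ⟶ X i)
    (z : Lifts (sObj D) (x ≫ Sigma.ι X i)) : Lifts (D.obj i) x :=
  ⟨(exists_factor (fun i => (D.obj i).hom) z.1 i x z.2).choose,
    (exists_factor (fun i => (D.obj i).hom) z.1 i x z.2).choose_spec.2⟩

lemma unLift_val (i : ι) {T : Scheme.{u}} (x : T ⟶ X i)
    (z : Lifts (sObj D) (x ≫ Sigma.ι X i)) :
    (unLift D i x z).1 ≫ Sigma.ι (fun i => (D.obj i).left) i = z.1 :=
  (exists_factor (fun i => (D.obj i).hom) z.1 i x z.2).choose_spec.1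

/-- points of the `i`-th member are points of the coproduct over the `i`-th summand -/
noncomputable def sigLifts (i : ι) {T : Scheme.{u}} (x : T ⟶ X i) :
    Lifts (D.obj i) x ≃ Lifts (sObj D) (x ≫ Sigma.ι X i) where
  toFun w := ⟨w.1 ≫ Sigma.ι (fun i => (D.obj i).left) i, by
    change (w.1 ≫ Sigma.ι (fun i => (D.obj i).left) i) ≫ sHom D = _
    rw [Category.assoc, ι_sHom, ← Category.assoc, w.2]⟩
  invFun z := unLift D i x z
  left_inv w := Subtype.ext ((cancel_mono (Sigma.ι (fun i => (D.obj i).left) i)).1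
    (unLift_val D i x _))
  right_inv z := Subtype.ext (unLift_val D i x z)

lemma sigLifts_val (i : ι) {T : Scheme.{u}} (x : T ⟶ X i) (w : Lifts (D.obj i) x) :
    (sigLifts D i x w).1 = w.1 ≫ Sigma.ι (fun i => (D.obj i).left) i := rfl

lemma sigLifts_symm_val (i : ι) {T : Scheme.{u}} (x : T ⟶ X i)
    (z : Lifts (sObj D) (x ≫ Sigma.ι X i)) :
    ((sigLifts D i x).symm z).1 ≫ Sigma.ι (fun i => (D.obj i).left) i = z.1 :=
  congrArg Subtype.val ((sigLifts D i x).apply_symm_apply z)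

/-- the gluing map of `sigDD` on points over summands -/
lemma sφ_sigLifts {T : Scheme.{u}} {i j : ι} (x₀ : T ⟶ X i) (x₁ : T ⟶ X j)
    (h : x₀ ≫ f i = x₁ ≫ f j)
    (h' : (x₀ ≫ Sigma.ι X i) ≫ Sigma.desc f = (x₁ ≫ Sigma.ι X j) ≫ Sigma.desc f)
    (w : Lifts (D.obj i) x₀) :
    sφ D _ _ h' (sigLifts D i x₀ w) = sigLifts D j x₁ (D.φ x₀ x₁ h w) := by
  apply Subtype.ext
  have := sφ_spec D _ _ h' (sigLifts D i x₀ w) (𝟙 T)
    ⟨i, j, x₀, x₁, w, (Category.id_comp _).symm, (Category.id_comp _).symm,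
      (Category.id_comp _).symm⟩
  exact (Category.id_comp _).symm.trans this.symm

end sigma

section equivalence

variable {ι : Type w} [Small.{u} ι] {S : Scheme.{u}} {X : ι → Scheme.{u}} (f : ∀ i, X i ⟶ S)

/-- the compatibility of the coprojections with the structure morphisms -/
lemma wι (i : ι) : Sigma.ι X i ≫ Sigma.desc f = f i ≫ 𝟙 S :=
  (Sigma.ι_desc f i).trans (Category.comp_id (f i)).symm

/-- the canonical functor from descent data relative to `∐ X ⟶ S` to descent data relative to the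
family -/
noncomputable abbrev sigFunctor : SchDD (Sigma.desc f) ⥤ SchDDFam f :=
  SchDDFam.ofSchDD.{u} (Sigma.desc f) ⋙
    pullDDFam (f := fun _ : PUnit.{u + 1} => Sigma.desc f) (f' := f) (α := fun _ => PUnit.unit)
      (p := 𝟙 S) (p' := fun i => Sigma.ι X i) (wι f)

variable {f}

/-- points of the pullback of `sigDD D` along a coprojection -/
noncomputable def sigPe (D : SchDDFam f) (i : ι) {T : Scheme.{u}} (x : T ⟶ X i) :
    Lifts (((sigFunctor f).obj (sigDD D)).obj i) x ≃ Lifts (sObj D) (x ≫ Sigma.ι X i) :=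
  pe (f := fun _ : PUnit.{u + 1} => Sigma.desc f) (f' := f) (α := fun _ => PUnit.unit)
      (p' := fun i => Sigma.ι X i) (wι f) ((SchDDFam.ofSchDD.{u} (Sigma.desc f)).obj (sigDD D)) i x

lemma sigPe_val (D : SchDDFam f) (i : ι) {T : Scheme.{u}} (x : T ⟶ X i)
    (v : Lifts (((sigFunctor f).obj (sigDD D)).obj i) x) :
    (sigPe D i x v).1 = v.1 ≫ pullback.fst (sHom D) (Sigma.ι X i) := rfl

lemma sigFunctor_φ (D : SchDDFam f) {T : Scheme.{u}} {i j : ι} (x₀ : T ⟶ X i) (x₁ : T ⟶ X j)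
    (h : x₀ ≫ f i = x₁ ≫ f j) (v : Lifts (((sigFunctor f).obj (sigDD D)).obj i) x₀) :
    sigPe D j x₁ (((sigFunctor f).obj (sigDD D)).φ x₀ x₁ h v) =
      sφ D _ _ (pull_compat (wι f) x₀ x₁ h) (sigPe D i x₀ v) :=
  (pe (f := fun _ : PUnit.{u + 1} => Sigma.desc f) (f' := f) (α := fun _ => PUnit.unit)
      (p' := fun i => Sigma.ι X i) (wι f) ((SchDDFam.ofSchDD.{u} (Sigma.desc f)).obj (sigDD D))
      j x₁).apply_symm_apply _

/-- points of the pullback of `sigDD D` along a coprojection are points of `D` -/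
noncomputable def sigE' (D : SchDDFam f) (i : ι) {T : Scheme.{u}} (x : T ⟶ X i) :
    Lifts (((sigFunctor f).obj (sigDD D)).obj i) x ≃ Lifts (D.obj i) x :=
  (sigPe D i x).trans (sigLifts D i x).symm

lemma sigE'_val (D : SchDDFam f) (i : ι) {T : Scheme.{u}} (x : T ⟶ X i)
    (v : Lifts (((sigFunctor f).obj (sigDD D)).obj i) x) :
    (sigE' D i x v).1 ≫ Sigma.ι (fun i => (D.obj i).left) i =
      v.1 ≫ pullback.fst (sHom D) (Sigma.ι X i) :=
  sigLifts_symm_val D i x _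

lemma sigLifts_sigE' (D : SchDDFam f) (i : ι) {T : Scheme.{u}} (x : T ⟶ X i)
    (v : Lifts (((sigFunctor f).obj (sigDD D)).obj i) x) :
    sigLifts D i x (sigE' D i x v) = sigPe D i x v :=
  (sigLifts D i x).apply_symm_apply _

/-- The points of the pullback of `sigDD D` along the coprojections are the points of `D`. -/
noncomputable def sigRebase (D : SchDDFam f) : Rebase ((sigFunctor f).obj (sigDD D)) D where
  γ i := i
  c T i x := x
  c_nat T T' g i x := rfl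
  c_f T i x := rfl
  e T i x := sigE' D i x
  e_nat T T' g i x y hy v v' hv := by
    subst hy
    apply (cancel_mono (Sigma.ι (fun i => (D.obj i).left) i)).1
    rw [Category.assoc, sigE'_val, sigE'_val, hv, Category.assoc]
  e_φ T i j x₀ x₁ h v := by
    apply (sigLifts D j x₁).injective
    rw [sigLifts_sigE', sigFunctor_φ, ← sigLifts_sigE', sφ_sigLifts D x₀ x₁ h]

/-- The pullback of `sigDD D` along the coprojections is `D`. -/
noncomputable def sigIso (D : SchDDFam f) : (sigFunctor f).obj (sigDD D) ≅ D :=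
  (sigRebase D).iso

variable (f)

lemma hcov_sigma (_ : PUnit.{u + 1}) :
    factSieve f (Sigma.desc f) ∈ Scheme.fpqcTopology (∐ X) := by
  refine Scheme.fpqcTopology.superset_covering ?_
    (factSieve_mem_of_ofArrows_mem _ (ofArrows_sigmaι_mem X) (𝟙 (∐ X)))
  rintro T t ⟨j, y, hy⟩
  refine ⟨j, y, ?_⟩
  rw [Category.comp_id] at hy
  rw [← hy, Category.assoc, Sigma.ι_desc]

instance : (sigFunctor f).Faithful := by
  haveI : (SchDDFam.ofSchDD.{u} (Sigma.desc f)).Faithful :=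
    inferInstanceAs (SchDDFam.oneEquiv.{u} (Sigma.desc f)).inverse.Faithful
  haveI := pull_faithful_of_cov (f := fun _ : PUnit.{u + 1} => Sigma.desc f) (f' := f)
    (α := fun _ => PUnit.unit) (p' := fun i => Sigma.ι X i) (wι f) (hcov_sigma f)
  exact Functor.Faithful.comp _ _

instance : (sigFunctor f).Full := by
  haveI : (SchDDFam.ofSchDD.{u} (Sigma.desc f)).Full :=
    inferInstanceAs (SchDDFam.oneEquiv.{u} (Sigma.desc f)).inverse.Full
  haveI := pull_full (f := fun _ : PUnit.{u + 1} => Sigma.desc f) (f' := f)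
    (α := fun _ => PUnit.unit) (p' := fun i => Sigma.ι X i) (wι f) (hcov_sigma f)
  exact Functor.Full.comp _ _

instance : (sigFunctor f).EssSurj := ⟨fun D => ⟨sigDD D, ⟨sigIso D⟩⟩⟩

/-- Descent data relative to a family are descent data relative to the coproduct. -/
theorem sigFunctor_isEquivalence : (sigFunctor f).IsEquivalence where

end equivalence


end Groth.Agent.Lib.Helper5.DescSigma
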