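import Mathlib
import Groth.Prelude.Def_DescFam
import Groth.Agent.Lib.Helper64.DescFam
import Groth.Agent.Lib.Helper5.DescSigma

/-!
# Presentations of a descent datum by the points of another one (helper5)

`Pres A E γ`: the points of `A` (relative to a family `f₂`) are the points of `E` (relative to a
family `f₀`) over re-based base points, compatibly with the gluing bijections.  Iterated
pullbacks of `E` have such presentations, and two data with the same presentation are isomorphic.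
-/

set_option autoImplicit false
set_option backward.isDefEq.respectTransparency false
set_option backward.isDefEq.respectTransparency.types false
universe w₃ w₂ w₀ u
open CategoryTheory CategoryTheory.Limits AlgebraicGeometry Desc Opposite

namespace Groth.Agent.Lib.Helper5.DescPres

open Groth.Agent.Lib.Helper64.DescFam

/-- transport of points along an equality of base points -/
def castLifts {Y T : Scheme.{u}} {V : Over Y} {x x' : T ⟶ Y} (h : x = x') :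
    Lifts V x ≃ Lifts V x' :=
  Equiv.subtypeEquivRight (fun v => by rw [h])

@[simp] lemma castLifts_val {Y T : Scheme.{u}} {V : Over Y} {x x' : T ⟶ Y} (h : x = x')
    (v : Lifts V x) : (castLifts h v).1 = v.1 := rfl

@[simp] lemma castLifts_symm_val {Y T : Scheme.{u}} {V : Over Y} {x x' : T ⟶ Y} (h : x = x')
    (v : Lifts V x') : ((castLifts h).symm v).1 = v.1 := rfl

section

variable {S₂ S₀ : Scheme.{u}} {ι₂ : Type w₂} {ι₀ : Type w₀} {X₂ : ι₂ → Scheme.{u}}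
  {X₀ : ι₀ → Scheme.{u}} {f₂ : ∀ j, X₂ j ⟶ S₂} {f₀ : ∀ i, X₀ i ⟶ S₀}

/-- A presentation of the points of `A` as points of `E` over re-based base points. -/
structure Pres (A : SchDDFam f₂) (E : SchDDFam f₀) (γ : ι₂ → ι₀) where
  c : ∀ ⦃T : Scheme.{u}⦄ ⦃j : ι₂⦄ (_ : T ⟶ X₂ j), T ⟶ X₀ (γ j)
  c_nat : ∀ ⦃T T' : Scheme.{u}⦄ (g : T' ⟶ T) ⦃j : ι₂⦄ (y : T ⟶ X₂ j), c (g ≫ y) = g ≫ c y
  c_f : ∀ ⦃T : Scheme.{u}⦄ ⦃j₀ j₁ : ι₂⦄ (y₀ : T ⟶ X₂ j₀) (y₁ : T ⟶ X₂ j₁),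
    y₀ ≫ f₂ j₀ = y₁ ≫ f₂ j₁ → c y₀ ≫ f₀ (γ j₀) = c y₁ ≫ f₀ (γ j₁)
  e : ∀ ⦃T : Scheme.{u}⦄ ⦃j : ι₂⦄ (y : T ⟶ X₂ j), Lifts (A.obj j) y ≃ Lifts (E.obj (γ j)) (c y)
  e_nat : ∀ ⦃T T' : Scheme.{u}⦄ (g : T' ⟶ T) ⦃j : ι₂⦄ (y : T ⟶ X₂ j) (y' : T' ⟶ X₂ j)
    (_ : g ≫ y = y') (v : Lifts (A.obj j) y) (v' : Lifts (A.obj j) y'), v'.1 = g ≫ v.1 →
    (e y' v').1 = g ≫ (e y v).1
  e_φ : ∀ ⦃T : Scheme.{u}⦄ ⦃j₀ j₁ : ι₂⦄ (y₀ : T ⟶ X₂ j₀) (y₁ : T ⟶ X₂ j₁)
    (h : y₀ ≫ f₂ j₀ = y₁ ≫ f₂ j₁) (v : Lifts (A.obj j₀) y₀),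
    e y₁ (A.φ y₀ y₁ h v) = E.φ (c y₀) (c y₁) (c_f y₀ y₁ h) (e y₀ v)

namespace Pres

/-- The pullback of `E` is presented by `E`. -/
noncomputable def ofPull {α : ι₂ → ι₀} {p : S₂ ⟶ S₀} {p' : ∀ j, X₂ j ⟶ X₀ (α j)}
    (w : ∀ j, p' j ≫ f₀ (α j) = f₂ j ≫ p) (E : SchDDFam f₀) : Pres (pullDDFamObj w E) E α where
  c T j y := y ≫ p' j
  c_nat T T' g j y := Category.assoc _ _ _
  c_f T j₀ j₁ y₀ y₁ h := pull_compat w y₀ y₁ h
  e T j y := liftsPullbackEquiv (E.obj (α j)) (p' j) y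
  e_nat T T' g j y y' hy v v' hv := by
    change v'.1 ≫ pullback.fst _ _ = g ≫ v.1 ≫ pullback.fst _ _
    rw [hv, Category.assoc]
  e_φ T j₀ j₁ y₀ y₁ h v := by
    exact Equiv.apply_symm_apply (liftsPullbackEquiv (E.obj (α j₁)) (p' j₁) y₁) _

variable {A : SchDDFam f₂} {E : SchDDFam f₀} {γ : ι₂ → ι₀}

/-- A pullback of a datum presented by `E` is presented by `E`. -/
noncomputable def pull (P : Pres A E γ) {S₃ : Scheme.{u}} {ι₃ : Type w₃} {X₃ : ι₃ → Scheme.{u}}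
    {f₃ : ∀ k, X₃ k ⟶ S₃} {α : ι₃ → ι₂} {p : S₃ ⟶ S₂} {p' : ∀ k, X₃ k ⟶ X₂ (α k)}
    (w : ∀ k, p' k ≫ f₂ (α k) = f₃ k ≫ p) : Pres (pullDDFamObj w A) E (fun k => γ (α k)) where
  c T k y := P.c (y ≫ p' k)
  c_nat T T' g k y := by rw [Category.assoc, P.c_nat]
  c_f T k₀ k₁ y₀ y₁ h := P.c_f _ _ (pull_compat w y₀ y₁ h)
  e T k y := (liftsPullbackEquiv (A.obj (α k)) (p' k) y).trans (P.e (y ≫ p' k))
  e_nat T T' g k y y' hy v v' hv := by
    refine P.e_nat g (y ≫ p' k) (y' ≫ p' k) (by rw [← hy, Category.assoc]) _ _ ?_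
    change v'.1 ≫ pullback.fst _ _ = g ≫ v.1 ≫ pullback.fst _ _
    rw [hv, Category.assoc]
  e_φ T k₀ k₁ y₀ y₁ h v := by
    have h1 : liftsPullbackEquiv (A.obj (α k₁)) (p' k₁) y₁ ((pullDDFamObj w A).φ y₀ y₁ h v) =
        A.φ (y₀ ≫ p' k₀) (y₁ ≫ p' k₁) (pull_compat w y₀ y₁ h)
          (liftsPullbackEquiv (A.obj (α k₀)) (p' k₀) y₀ v) :=
      Equiv.apply_symm_apply (liftsPullbackEquiv (A.obj (α k₁)) (p' k₁) y₁) _
    exact (congrArg (P.e (y₁ ≫ p' k₁)) h1).trans (P.e_φ _ _ _ _)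

/-- Two data with the same presentation are isomorphic. -/
noncomputable def rebase {B : SchDDFam f₂} (PA : Pres A E γ) (PB : Pres B E γ)
    (hc : ∀ ⦃T : Scheme.{u}⦄ ⦃j : ι₂⦄ (y : T ⟶ X₂ j), PA.c y = PB.c y) : Rebase A B where
  γ j := j
  c T j y := y
  c_nat T T' g j y := rfl
  c_f T j y := rfl
  e T j y := (PA.e y).trans ((castLifts (hc y)).trans (PB.e y).symm)
  e_nat T T' g j y y' hy v v' hv := by
    subst hy
    simp only [Equiv.trans_apply]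
    have h1 : (castLifts (hc (g ≫ y)) (PA.e (g ≫ y) v')).1 =
        g ≫ (castLifts (hc y) (PA.e y v)).1 := by
      rw [castLifts_val, castLifts_val]
      exact PA.e_nat g y (g ≫ y) rfl v v' hv
    generalize castLifts (hc (g ≫ y)) (PA.e (g ≫ y) v') = u' at h1
    generalize castLifts (hc y) (PA.e y v) = u at h1
    have hu : (g ≫ ((PB.e y).symm u).1) ≫ (B.obj j).hom = g ≫ y := by
      rw [Category.assoc, ((PB.e y).symm u).2]
    have : PB.e (g ≫ y) ⟨g ≫ ((PB.e y).symm u).1, hu⟩ = u' := by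
      apply Subtype.ext
      rw [PB.e_nat g y (g ≫ y) rfl ((PB.e y).symm u) ⟨_, hu⟩ rfl, Equiv.apply_symm_apply, h1]
    rw [← this, Equiv.symm_apply_apply]
  e_φ T j₀ j₁ y₀ y₁ h v := by
    apply (PB.e y₁).injective
    simp only [Equiv.trans_apply, Equiv.apply_symm_apply]
    rw [PB.e_φ, Equiv.apply_symm_apply, PA.e_φ]
    apply Subtype.ext
    rw [castLifts_val]
    exact φ_congr E _ _ (hc y₀) (hc y₁) _ _ (castLifts_val _ _).symm

/-- Two data with the same presentation are isomorphic. -/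
noncomputable def iso {B : SchDDFam f₂} (PA : Pres A E γ) (PB : Pres B E γ)
    (hc : ∀ ⦃T : Scheme.{u}⦄ ⦃j : ι₂⦄ (y : T ⟶ X₂ j), PA.c y = PB.c y) : A ≅ B :=
  (rebase PA PB hc).iso

end Pres

end

section sigma

open Groth.Agent.Lib.Helper5.DescSigma

variable {ι : Type w₀} [Small.{u} ι] {S : Scheme.{u}} {X : ι → Scheme.{u}} {f : ∀ i, X i ⟶ S}

/-- A descent datum relative to a family is presented by its glued datum on the coproduct. -/
noncomputable def presSigma (D : SchDDFam f) :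
    Pres D ((SchDDFam.ofSchDD.{u} (Sigma.desc f)).obj (sigDD D)) (fun _ => PUnit.unit) where
  c T i x := x ≫ Sigma.ι X i
  c_nat T T' g i x := Category.assoc _ _ _
  c_f T i j x₀ x₁ h := pull_compat (wι f) x₀ x₁ h
  e T i x := sigLifts D i x
  e_nat T T' g i x x' hx v v' hv := by
    change v'.1 ≫ _ = g ≫ v.1 ≫ _
    rw [hv, Category.assoc]
  e_φ T i j x₀ x₁ h v := (sφ_sigLifts D x₀ x₁ h _ v).symm

end sigma

end Groth.Agent.Lib.Helper5.DescPres
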