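import Mathlib
import Groth.Prelude.Def_DescFam
import Groth.Agent.Lib.Helper5.DescSigma
import Groth.Agent.Lib.Helper5.DescPres
import Groth.Agent.Lib.Helper5.DescFamCover
import Groth.Agent.Lib.Helper5.DescAffineHom

/-!
# Reduction of effectiveness of descent data relative to an fpqc family to finite affine families
over affine bases (helper5)
-/

set_option autoImplicit false
set_option backward.isDefEq.respectTransparency false
set_option backward.isDefEq.respectTransparency.types false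
universe w u
open CategoryTheory CategoryTheory.Limits AlgebraicGeometry Desc Opposite

namespace Groth.Agent.Lib.Helper5.DescFamReduce

open Groth.Agent.Lib.Helper64.DescFam Groth.Agent.Lib.Helper5.DescSigma
  Groth.Agent.Lib.Helper5.DescPres Groth.Agent.Lib.Helper5.DescFamCover
  Groth.Agent.Lib.Helper5.DescPull Groth.Agent.Lib.Helper5.DescRefine
  Groth.Agent.Lib.Helper5.DescFunctor

section

variable {ι : Type w} [Small.{u} ι] {S : Scheme.{u}} {X : ι → Scheme.{u}} {f : ∀ i, X i ⟶ S}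

/-- If the glued datum on the coproduct is effective, so is the datum relative to the family. -/
theorem isEffective_of_sigDD (D : SchDDFam f) (U : Over S)
    (θ : (toDD (Sigma.desc f)).obj U ≅ sigDD D) : D.IsEffective := by
  let iso₁ : (sigFunctor f).obj ((toDD (Sigma.desc f)).obj U) ≅ D :=
    (sigFunctor f).mapIso θ ≪≫ sigIso D
  let iso₂ : (sigFunctor f).obj ((toDD (Sigma.desc f)).obj U) ≅ canonicalDDFam f U :=
    pullCanIso (wι f) U
  exact ⟨U, ⟨iso₂.symm ≪≫ iso₁⟩⟩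

end

section localstep

lemma ofSchDD_toSchDD {X₀ S : Scheme.{u}} (p : X₀ ⟶ S)
    (Z : SchDDFam (fun _ : PUnit.{u + 1} => p)) :
    (SchDDFam.ofSchDD.{u} p).obj ((SchDDFam.toSchDD p).obj Z) = Z := rfl

variable {Y₀ S Y S₁ : Scheme.{u}} {p : Y₀ ⟶ S} (E : SchDD p) {g : S₁ ⟶ S} {incl : Y ⟶ Y₀}
  {p₁ : Y ⟶ S₁} (w : incl ≫ p = p₁ ≫ g)
  {κ : Type w} [Small.{u} κ] {W : κ → Scheme.{u}} (b : ∀ k, W k ⟶ S₁) (q : ∀ k, W k ⟶ Y)
  (hq : ∀ k, q k ≫ p₁ = b k)

include hq in
lemma desc_q_comp : Sigma.desc q ≫ p₁ = Sigma.desc b := by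
  apply Sigma.hom_ext
  intro k
  rw [Sigma.ι_desc_assoc, hq, Sigma.ι_desc]

include hq in
/-- The local step: effectiveness of the restriction of `E` to `S₁` follows from effectiveness of
the glued datum of a family presented by `E` relative to a refinement. -/
theorem effective_pullDD_of_sigDD [Flat (Sigma.desc b)] [Surjective (Sigma.desc b)]
    [QuasiCompact (Sigma.desc b)] (A : SchDDFam b)
    (PA : Pres A ((SchDDFam.ofSchDD.{u} p).obj E) (fun _ => PUnit.unit))
    (hPA : ∀ ⦃T : Scheme.{u}⦄ ⦃k : κ⦄ (y : T ⟶ W k), PA.c y = (y ≫ q k) ≫ incl)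
    (U : Over S₁) (θ : (toDD (Sigma.desc b)).obj U ≅ sigDD A) :
    ∃ U : Over S₁, Nonempty ((toDD p₁).obj U ≅ pullDD g incl w E) := by
  have hq' := desc_q_comp b q hq
  let w₁ : ∀ _ : PUnit.{u + 1}, incl ≫ p = p₁ ≫ g := fun _ => w
  let w₂ : ∀ _ : PUnit.{u + 1}, Sigma.desc q ≫ p₁ = Sigma.desc b ≫ 𝟙 S₁ :=
    fun _ => hq'.trans (Category.comp_id _).symm
  let E₀ : SchDDFam (fun _ : PUnit.{u + 1} => p) := (SchDDFam.ofSchDD.{u} p).obj E
  let B₁ : SchDDFam (fun _ : PUnit.{u + 1} => p₁) :=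
    pullDDFamObj (f := fun _ : PUnit.{u + 1} => p) (f' := fun _ : PUnit.{u + 1} => p₁)
      (α := fun _ => PUnit.unit) (p := g) (p' := fun _ => incl) w₁ E₀
  let B₂ : SchDDFam (fun _ : PUnit.{u + 1} => Sigma.desc b) :=
    pullDDFamObj (f := fun _ : PUnit.{u + 1} => p₁)
      (f' := fun _ : PUnit.{u + 1} => Sigma.desc b)
      (α := fun _ => PUnit.unit) (p := 𝟙 S₁) (p' := fun _ => Sigma.desc q) w₂ B₁
  let B : SchDDFam b :=
    pullDDFamObj (f := fun _ : PUnit.{u + 1} => Sigma.desc b) (f' := b)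
      (α := fun _ => PUnit.unit) (p := 𝟙 S₁) (p' := fun k => Sigma.ι W k) (wι b) B₂
  let PB₁ : Pres B₁ E₀ (fun _ => PUnit.unit) := Pres.ofPull w₁ E₀
  let PB₂ : Pres B₂ E₀ (fun _ => PUnit.unit) := PB₁.pull w₂
  let PB : Pres B E₀ (fun _ => PUnit.unit) := PB₂.pull (wι b)
  have hB : (sigFunctor b).obj (pullDD (𝟙 S₁) (Sigma.desc q) (w₂ PUnit.unit)
      (pullDD g incl w E)) = B := by
    change pullDDFamObj (f := fun _ : PUnit.{u + 1} => Sigma.desc b) (f' := b)
      (α := fun _ => PUnit.unit) (p := 𝟙 S₁) (p' := fun k => Sigma.ι W k) (wι b)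
      ((SchDDFam.ofSchDD.{u} (Sigma.desc b)).obj ((SchDDFam.toSchDD (Sigma.desc b)).obj
      (pullDDFamObj (f := fun _ : PUnit.{u + 1} => p₁)
        (f' := fun _ : PUnit.{u + 1} => Sigma.desc b)
        (α := fun _ => PUnit.unit) (p := 𝟙 S₁) (p' := fun _ => Sigma.desc q) w₂
        ((SchDDFam.ofSchDD.{u} p₁).obj ((SchDDFam.toSchDD p₁).obj B₁))))) = B
    rw [ofSchDD_toSchDD, ofSchDD_toSchDD]
  have hc : ∀ ⦃T : Scheme.{u}⦄ ⦃k : κ⦄ (y : T ⟶ W k), PA.c y = PB.c y := by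
    intro T k y
    rw [hPA]
    change _ = ((y ≫ Sigma.ι W k) ≫ Sigma.desc q) ≫ incl
    simp only [Category.assoc, Sigma.ι_desc_assoc]
  let isoAB : A ≅ B := Pres.iso PA PB hc
  let i : sigDD A ≅ pullDD (𝟙 S₁) (Sigma.desc q) (w₂ PUnit.unit) (pullDD g incl w E) :=
    (sigFunctor b).preimageIso (sigIso A ≪≫ isoAB ≪≫ eqToIso hB.symm)
  exact effective_of_refine p₁ (Sigma.desc b) (Sigma.desc q) hq' (pullDD g incl w E) U (θ ≪≫ i)

end localstep

section main

open Groth.Agent.Lib.Helper5.DescAffineHom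

variable {ι : Type w} [Small.{u} ι] {S : Scheme.{u}} {X : ι → Scheme.{u}} (f : ∀ i, X i ⟶ S)

/-- Reduction to finite affine families over affine bases: a descent datum relative to an fpqc
covering family is effective as soon as, for every affine open `S₁` of `S` and every finite family
of affine opens `V k` of members of the family mapping into `S₁` and jointly flat and surjective
over `S₁`, the glued datum of the restriction to the `V k` is effective. -/
theorem isEffective_of_finite_affine (hf : Presieve.ofArrows X f ∈ Scheme.fpqcPrecoverage S)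
    (D : SchDDFam f)
    (H : ∀ (S₁ : S.Opens) (_ : IsAffineOpen S₁) (n : ℕ) (a : Fin n → ι)
      (V : ∀ k, (X (a k)).Opens) (_ : ∀ k, IsAffineOpen (V k))
      (b : ∀ k, (V k : Scheme.{u}) ⟶ (S₁ : Scheme.{u}))
      (comm : ∀ k, (V k).ι ≫ f (a k) = b k ≫ S₁.ι) (_ : Flat (Sigma.desc b))
      (_ : Surjective (Sigma.desc b)),
      ∃ U : Over (S₁ : Scheme.{u}), Nonempty ((toDD (Sigma.desc b)).obj U ≅
        sigDD (pullDDFamObj (f := f) (f' := b) (α := a) (p := S₁.ι) (p' := fun k => (V k).ι)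
          comm D))) :
    D.IsEffective := by
  haveI hp : IsDescCover (Sigma.desc f) := isDescCover_sigmaDesc f hf
  haveI : ∀ i, Flat (f i) := flat_of_mem f hf
  obtain ⟨U, ⟨θ⟩⟩ : ∃ U : Over S, Nonempty ((toDD (Sigma.desc f)).obj U ≅ sigDD D) := by
    apply effective_of_open_cover (sigDD D)
    intro v
    obtain ⟨_, ⟨(S₁ : S.Opens), hS₁, rfl⟩, hs₀, -⟩ :=
      S.isBasis_affineOpens.exists_subset_of_mem_open
      (Set.mem_univ ((Sigma.desc f).base ((sigDD D).obj.hom.base v))) isOpen_univ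
    haveI : IsAffine (S₁ : Scheme.{u}) := hS₁
    have hsq : IsPullback (Sigma.desc f ⁻¹ᵁ S₁).ι (Sigma.desc f ∣_ S₁) (Sigma.desc f) S₁.ι :=
      (isPullback_morphismRestrict (Sigma.desc f) S₁).flip
    have w : (Sigma.desc f ⁻¹ᵁ S₁).ι ≫ Sigma.desc f = (Sigma.desc f ∣_ S₁) ≫ S₁.ι := hsq.w
    -- the finite affine refinement
    let Ecov : PreZeroHypercover.{w} S := ⟨ι, X, f⟩
    haveI : QuasiCompactCover Ecov := Scheme.presieve₀_mem_qcPrecoverage_iff.1 hf.1
    obtain ⟨n, a, V, hV, hU⟩ :=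
      QuasiCompactCover.exists_isAffineOpen_of_isCompact Ecov hS₁.isCompact
    have hmem : ∀ (k : Fin n) (x : (V k : Scheme.{u})), (f (a k)).base ((V k).ι.base x) ∈ S₁ := by
      intro k x
      have : (f (a k)).base ((V k).ι.base x) ∈ ⋃ i, (Ecov.f (a i)).base '' (V i : Set _) :=
        Set.mem_iUnion.2 ⟨k, (V k).ι.base x, x.2, rfl⟩
      rw [hU] at this
      exact this
    have hrange : ∀ k, Set.range ((V k).ι ≫ f (a k)).base ⊆ Set.range S₁.ι.base := by
      intro k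
      rw [Scheme.Opens.range_ι]
      rintro _ ⟨x, rfl⟩
      exact hmem k x
    let b : ∀ k, (V k : Scheme.{u}) ⟶ (S₁ : Scheme.{u}) := fun k =>
      IsOpenImmersion.lift S₁.ι ((V k).ι ≫ f (a k)) (hrange k)
    have comm : ∀ k, (V k).ι ≫ f (a k) = b k ≫ S₁.ι := fun k =>
      (IsOpenImmersion.lift_fac _ _ _).symm
    have hrange' : ∀ k, Set.range ((V k).ι ≫ Sigma.ι X (a k)).base ⊆
        Set.range (Sigma.desc f ⁻¹ᵁ S₁).ι.base := by
      intro k
      rw [Scheme.Opens.range_ι]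
      rintro _ ⟨x, rfl⟩
      change (Sigma.desc f).base (((V k).ι ≫ Sigma.ι X (a k)).base x) ∈ S₁
      have e1 : (Sigma.desc f).base (((V k).ι ≫ Sigma.ι X (a k)).base x) =
          (((V k).ι ≫ Sigma.ι X (a k)) ≫ Sigma.desc f).base x := rfl
      rw [e1, Category.assoc, Sigma.ι_desc]
      exact hmem k x
    let q : ∀ k, (V k : Scheme.{u}) ⟶ (Sigma.desc f ⁻¹ᵁ S₁ : Scheme.{u}) := fun k =>
      IsOpenImmersion.lift (Sigma.desc f ⁻¹ᵁ S₁).ι ((V k).ι ≫ Sigma.ι X (a k)) (hrange' k)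
    have hqι : ∀ k, q k ≫ (Sigma.desc f ⁻¹ᵁ S₁).ι = (V k).ι ≫ Sigma.ι X (a k) := fun k =>
      IsOpenImmersion.lift_fac _ _ _
    have hq : ∀ k, q k ≫ (Sigma.desc f ∣_ S₁) = b k := by
      intro k
      rw [← cancel_mono S₁.ι, Category.assoc, ← w, ← Category.assoc, hqι, Category.assoc,
        Sigma.ι_desc, comm]
    haveI : ∀ k, IsAffine (V k : Scheme.{u}) := fun k => hV k
    have hflatb : ∀ k, Flat (b k) := fun k =>
      MorphismProperty.of_isPullback (P := @Flat)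
        (IsPullback.of_horiz_isIso_mono (fst := 𝟙 (V k : Scheme.{u})) (snd := b k)
          (f := (V k).ι ≫ f (a k)) (g := S₁.ι) ⟨by rw [Category.id_comp, comm]⟩)
        (inferInstance : Flat ((V k).ι ≫ f (a k)))
    have hflat : Flat (Sigma.desc b) := IsZariskiLocalAtSource.sigmaDesc (P := @Flat) hflatb
    have hsurj : Surjective (Sigma.desc b) := by
      refine ⟨fun s => ?_⟩
      have hs : S₁.ι.base s ∈ ⋃ i, (Ecov.f (a i)).base '' (V i : Set _) := by
        rw [hU]; exact s.2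
      obtain ⟨k, x, hx, hxs⟩ := Set.mem_iUnion.1 hs
      refine ⟨(Sigma.ι (fun k => (V k : Scheme.{u})) k).base ⟨x, hx⟩, ?_⟩
      apply S₁.ι.isOpenEmbedding.injective
      have e1 : S₁.ι.base ((Sigma.desc b).base ((Sigma.ι (fun k => (V k : Scheme.{u})) k).base
          ⟨x, hx⟩)) = ((Sigma.ι (fun k => (V k : Scheme.{u})) k ≫ Sigma.desc b) ≫ S₁.ι).base
          ⟨x, hx⟩ := rfl
      rw [e1, Sigma.ι_desc, ← comm]
      exact hxs
    haveI := hflat
    haveI := hsurj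
    haveI : QuasiCompact (Sigma.desc b) := inferInstance
    obtain ⟨U₁', ⟨θ'⟩⟩ := H S₁ hS₁ n a V hV b comm hflat hsurj
    let A : SchDDFam b := pullDDFamObj (f := f) (f' := b) (α := a) (p := S₁.ι)
      (p' := fun k => (V k).ι) comm D
    let PA : Pres A ((SchDDFam.ofSchDD.{u} (Sigma.desc f)).obj (sigDD D))
      (fun _ => PUnit.unit) := (presSigma D).pull comm
    have hPA : ∀ ⦃T : Scheme.{u}⦄ ⦃k : Fin n⦄ (y : T ⟶ (V k : Scheme.{u})),
        PA.c y = (y ≫ q k) ≫ (Sigma.desc f ⁻¹ᵁ S₁).ι := by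
      intro T k y
      change (y ≫ (V k).ι) ≫ Sigma.ι X (a k) = _
      rw [Category.assoc, Category.assoc, hqι]
    obtain ⟨U₁, ⟨θ₁⟩⟩ := effective_pullDD_of_sigDD (sigDD D) w b q hq A PA hPA U₁' θ'
    refine ⟨(toDD (Sigma.desc f)).obj (Over.mk (bcSec (sigDD D) hsq U₁ θ₁).t),
      (bcSec (sigDD D) hsq U₁ θ₁).a, inferInstance, ?_,
      Over.mk (bcSec (sigDD D) hsq U₁ θ₁).t, ⟨Iso.refl _⟩⟩
    apply mem_range_bcSec
    rw [Scheme.Opens.range_ι]
    exact hs₀
  exact isEffective_of_sigDD D U θ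

end main

end Groth.Agent.Lib.Helper5.DescFamReduce
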