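import Mathlib
import Groth.Prelude.Def_DescFam
import Groth.Agent.Lib.Helper5.DescFamReduce
import Groth.Agent.Lib.Helper5.DescAffine

/-!
# Effective descent of affine morphisms along fpqc covering families (helper5)
-/

set_option autoImplicit false
set_option backward.isDefEq.respectTransparency false
set_option backward.isDefEq.respectTransparency.types false
universe w u
open CategoryTheory CategoryTheory.Limits AlgebraicGeometry Desc Opposite

namespace Groth.Agent.Lib.Helper5.DescFamAffine

open Groth.Agent.Lib.Helper5.DescSigma Groth.Agent.Lib.Helper5.DescFamReduce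
  Groth.Agent.Lib.Helper5.DescAffine

variable {ι : Type w} [Small.{u} ι] {S : Scheme.{u}} {X : ι → Scheme.{u}} (f : ∀ i, X i ⟶ S)

/-- Descent data relative to an fpqc covering family all of whose members are affine over the
members of the family are effective. -/
theorem isEffective_of_isAffineHom (hf : Presieve.ofArrows X f ∈ Scheme.fpqcPrecoverage S)
    (D : SchDDFam f) (hD : ∀ i, IsAffineHom (D.obj i).hom) : D.IsEffective := by
  apply isEffective_of_finite_affine f hf D
  intro S₁ hS₁ n a V hV b comm hflat hsurj
  haveI : IsAffine (S₁ : Scheme.{u}) := hS₁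
  haveI : ∀ k, IsAffine (V k : Scheme.{u}) := fun k => hV k
  haveI := hflat
  haveI := hsurj
  haveI : ∀ k, IsAffine (pullback (D.obj (a k)).hom (V k).ι) := fun k => by
    haveI : IsAffineHom (pullback.snd (D.obj (a k)).hom (V k).ι) :=
      MorphismProperty.pullback_snd (P := @IsAffineHom) _ _ (hD (a k))
    exact isAffine_of_isAffineHom (pullback.snd (D.obj (a k)).hom (V k).ι)
  haveI : IsAffine (sigDD (pullDDFamObj (f := f) (f' := b) (α := a) (p := S₁.ι)
      (p' := fun k => (V k).ι) comm D)).obj.left :=
    inferInstanceAs (IsAffine (∐ fun k => pullback (D.obj (a k)).hom (V k).ι))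
  exact effective_of_affine (Sigma.desc b) _

end Groth.Agent.Lib.Helper5.DescFamAffine
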