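import Mathlib
import Groth.Agent.Lib.Helper5.QuotStStrict

/-!
# Transport of points along a system of torsor objects (helper5)
-/

set_option autoImplicit false
set_option linter.style.haveILetI false
universe u

open CategoryTheory CategoryTheory.Limits MonoidalCategory CartesianMonoidalCategory MonObj
  AlgebraicGeometry AlgSt

namespace Groth.Agent.Lib.Helper5.QuotStTransport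

open Groth.Agent.Lib.Helper5.QuotStStrict

variable {S : Scheme.{u}} {K : Precoverage Scheme.{u}} {G : Over S} [GrpObj G] {X : Over S}
  {aX : AlgGrp.Action G X} {U : Over S} {R : Sieve U} (Sg : Sys K G aX R)

section

variable {T₁ T₂ T₃ TS : Over S} (t₁ : T₁ ⟶ U) (t₂ : T₂ ⟶ U) (t₃ : T₃ ⟶ U)
  (ht₁ : R t₁) (ht₂ : R t₂) (ht₃ : R t₃)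

/-- the section of `B τ₀` attached to a point of `B t₁` -/
noncomputable def tsec (y₁ : TS ⟶ T₁) (τ₀ : TS ⟶ U) (hτ : R τ₀) (e₁ : y₁ ≫ t₁ = τ₀)
    (p : TS ⟶ (Sg.B t₁ ht₁).P) (hp : p ≫ (Sg.B t₁ ht₁).π = y₁) : TS ⟶ (Sg.B τ₀ hτ).P :=
  (Sg.ρ y₁ t₁ τ₀ ht₁ hτ e₁).cart.lift p (𝟙 TS) (by rw [hp, Category.id_comp])

@[reassoc] lemma tsec_top (y₁ : TS ⟶ T₁) (τ₀ : TS ⟶ U) (hτ : R τ₀) (e₁ : y₁ ≫ t₁ = τ₀)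
    (p : TS ⟶ (Sg.B t₁ ht₁).P) (hp : p ≫ (Sg.B t₁ ht₁).π = y₁) :
    tsec Sg t₁ ht₁ y₁ τ₀ hτ e₁ p hp ≫ (Sg.ρ y₁ t₁ τ₀ ht₁ hτ e₁).top = p :=
  (Sg.ρ y₁ t₁ τ₀ ht₁ hτ e₁).cart.lift_fst _ _ _

@[reassoc] lemma tsec_π (y₁ : TS ⟶ T₁) (τ₀ : TS ⟶ U) (hτ : R τ₀) (e₁ : y₁ ≫ t₁ = τ₀)
    (p : TS ⟶ (Sg.B t₁ ht₁).P) (hp : p ≫ (Sg.B t₁ ht₁).π = y₁) :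
    tsec Sg t₁ ht₁ y₁ τ₀ hτ e₁ p hp ≫ (Sg.B τ₀ hτ).π = 𝟙 TS :=
  (Sg.ρ y₁ t₁ τ₀ ht₁ hτ e₁).cart.lift_snd _ _ _

lemma tsec_unique (y₁ : TS ⟶ T₁) (τ₀ : TS ⟶ U) (hτ : R τ₀) (e₁ : y₁ ≫ t₁ = τ₀)
    (p : TS ⟶ (Sg.B t₁ ht₁).P) (hp : p ≫ (Sg.B t₁ ht₁).π = y₁) (σ : TS ⟶ (Sg.B τ₀ hτ).P)
    (h1 : σ ≫ (Sg.ρ y₁ t₁ τ₀ ht₁ hτ e₁).top = p) (h2 : σ ≫ (Sg.B τ₀ hτ).π = 𝟙 TS) :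
    σ = tsec Sg t₁ ht₁ y₁ τ₀ hτ e₁ p hp := by
  apply (Sg.ρ y₁ t₁ τ₀ ht₁ hτ e₁).cart.hom_ext
  · rw [h1, tsec_top]
  · rw [h2, tsec_π]

lemma tsec_nat {TS' : Over S} (g : TS' ⟶ TS) (y₁ : TS ⟶ T₁) (τ₀ : TS ⟶ U) (hτ : R τ₀)
    (e₁ : y₁ ≫ t₁ = τ₀) (p : TS ⟶ (Sg.B t₁ ht₁).P) (hp : p ≫ (Sg.B t₁ ht₁).π = y₁)
    (y₁' : TS' ⟶ T₁) (τ₀' : TS' ⟶ U) (hτ' : R τ₀') (e₁' : y₁' ≫ t₁ = τ₀')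
    (p' : TS' ⟶ (Sg.B t₁ ht₁).P) (hp' : p' ≫ (Sg.B t₁ ht₁).π = y₁')
    (hy : g ≫ y₁ = y₁') (hτ₀ : g ≫ τ₀ = τ₀') (hpp : g ≫ p = p') :
    tsec Sg t₁ ht₁ y₁' τ₀' hτ' e₁' p' hp' ≫ (Sg.ρ g τ₀ τ₀' hτ hτ' hτ₀).top =
      g ≫ tsec Sg t₁ ht₁ y₁ τ₀ hτ e₁ p hp := by
  subst hy hpp
  apply (Sg.ρ y₁ t₁ τ₀ ht₁ hτ e₁).cart.hom_ext
  · rw [Category.assoc, Sg.ρ_comp g y₁ t₁ τ₀ τ₀' ht₁ hτ hτ' e₁ hτ₀, tsec_top, Category.assoc,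
      tsec_top]
  · rw [Category.assoc, (Sg.ρ g τ₀ τ₀' hτ hτ' hτ₀).cart.w, tsec_π_assoc, Category.assoc, tsec_π,
      Category.comp_id]

/-- transport of a point of `B t₁` to a point of `B t₂` -/
noncomputable def trp (y₁ : TS ⟶ T₁) (y₂ : TS ⟶ T₂) (τ₀ : TS ⟶ U) (hτ : R τ₀)
    (e₁ : y₁ ≫ t₁ = τ₀) (e₂ : y₂ ≫ t₂ = τ₀)
    (p : TS ⟶ (Sg.B t₁ ht₁).P) (hp : p ≫ (Sg.B t₁ ht₁).π = y₁) : TS ⟶ (Sg.B t₂ ht₂).P :=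
  tsec Sg t₁ ht₁ y₁ τ₀ hτ e₁ p hp ≫ (Sg.ρ y₂ t₂ τ₀ ht₂ hτ e₂).top

lemma trp_π (y₁ : TS ⟶ T₁) (y₂ : TS ⟶ T₂) (τ₀ : TS ⟶ U) (hτ : R τ₀)
    (e₁ : y₁ ≫ t₁ = τ₀) (e₂ : y₂ ≫ t₂ = τ₀)
    (p : TS ⟶ (Sg.B t₁ ht₁).P) (hp : p ≫ (Sg.B t₁ ht₁).π = y₁) :
    trp Sg t₁ t₂ ht₁ ht₂ y₁ y₂ τ₀ hτ e₁ e₂ p hp ≫ (Sg.B t₂ ht₂).π = y₂ := by
  rw [trp, Category.assoc, (Sg.ρ y₂ t₂ τ₀ ht₂ hτ e₂).cart.w, tsec_π_assoc]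

lemma trp_congr (y₁ : TS ⟶ T₁) (y₂ : TS ⟶ T₂) (τ₀ τ₀' : TS ⟶ U) (hτ : R τ₀) (hτ' : R τ₀')
    (e₁ : y₁ ≫ t₁ = τ₀) (e₂ : y₂ ≫ t₂ = τ₀) (e₁' : y₁ ≫ t₁ = τ₀') (e₂' : y₂ ≫ t₂ = τ₀')
    (p p' : TS ⟶ (Sg.B t₁ ht₁).P) (hp : p ≫ (Sg.B t₁ ht₁).π = y₁)
    (hp' : p' ≫ (Sg.B t₁ ht₁).π = y₁) (hpp : p = p') :
    trp Sg t₁ t₂ ht₁ ht₂ y₁ y₂ τ₀ hτ e₁ e₂ p hp =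
      trp Sg t₁ t₂ ht₁ ht₂ y₁ y₂ τ₀' hτ' e₁' e₂' p' hp' := by
  subst e₁
  subst e₁'
  subst hpp
  rfl

lemma trp_nat {TS' : Over S} (g : TS' ⟶ TS) (y₁ : TS ⟶ T₁) (y₂ : TS ⟶ T₂) (τ₀ : TS ⟶ U)
    (hτ : R τ₀) (e₁ : y₁ ≫ t₁ = τ₀) (e₂ : y₂ ≫ t₂ = τ₀)
    (p : TS ⟶ (Sg.B t₁ ht₁).P) (hp : p ≫ (Sg.B t₁ ht₁).π = y₁)
    (y₁' : TS' ⟶ T₁) (y₂' : TS' ⟶ T₂) (τ₀' : TS' ⟶ U) (hτ' : R τ₀') (e₁' : y₁' ≫ t₁ = τ₀')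
    (e₂' : y₂' ≫ t₂ = τ₀')
    (p' : TS' ⟶ (Sg.B t₁ ht₁).P) (hp' : p' ≫ (Sg.B t₁ ht₁).π = y₁')
    (hy₁ : g ≫ y₁ = y₁') (hy₂ : g ≫ y₂ = y₂') (hpp : g ≫ p = p') :
    trp Sg t₁ t₂ ht₁ ht₂ y₁' y₂' τ₀' hτ' e₁' e₂' p' hp' =
      g ≫ trp Sg t₁ t₂ ht₁ ht₂ y₁ y₂ τ₀ hτ e₁ e₂ p hp := by
  have hτ₀ : g ≫ τ₀ = τ₀' := by rw [← e₁, ← Category.assoc, hy₁, e₁']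
  subst hy₂
  rw [trp, trp, ← Sg.ρ_comp g y₂ t₂ τ₀ τ₀' ht₂ hτ hτ' e₂ hτ₀, ← Category.assoc,
    tsec_nat Sg t₁ ht₁ g y₁ τ₀ hτ e₁ p hp y₁' τ₀' hτ' e₁' p' hp' hy₁ hτ₀ hpp, Category.assoc]

lemma trp_self (y₁ : TS ⟶ T₁) (τ₀ : TS ⟶ U) (hτ : R τ₀) (e₁ : y₁ ≫ t₁ = τ₀)
    (p : TS ⟶ (Sg.B t₁ ht₁).P) (hp : p ≫ (Sg.B t₁ ht₁).π = y₁) :
    trp Sg t₁ t₁ ht₁ ht₁ y₁ y₁ τ₀ hτ e₁ e₁ p hp = p :=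
  tsec_top Sg t₁ ht₁ y₁ τ₀ hτ e₁ p hp

lemma trp_trans (y₁ : TS ⟶ T₁) (y₂ : TS ⟶ T₂) (y₃ : TS ⟶ T₃) (τ₀ : TS ⟶ U) (hτ : R τ₀)
    (e₁ : y₁ ≫ t₁ = τ₀) (e₂ : y₂ ≫ t₂ = τ₀) (e₃ : y₃ ≫ t₃ = τ₀)
    (p : TS ⟶ (Sg.B t₁ ht₁).P) (hp : p ≫ (Sg.B t₁ ht₁).π = y₁) :
    trp Sg t₂ t₃ ht₂ ht₃ y₂ y₃ τ₀ hτ e₂ e₃ (trp Sg t₁ t₂ ht₁ ht₂ y₁ y₂ τ₀ hτ e₁ e₂ p hp)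
      (trp_π Sg t₁ t₂ ht₁ ht₂ y₁ y₂ τ₀ hτ e₁ e₂ p hp) =
      trp Sg t₁ t₃ ht₁ ht₃ y₁ y₃ τ₀ hτ e₁ e₃ p hp := by
  have : tsec Sg t₂ ht₂ y₂ τ₀ hτ e₂ (trp Sg t₁ t₂ ht₁ ht₂ y₁ y₂ τ₀ hτ e₁ e₂ p hp)
      (trp_π Sg t₁ t₂ ht₁ ht₂ y₁ y₂ τ₀ hτ e₁ e₂ p hp) = tsec Sg t₁ ht₁ y₁ τ₀ hτ e₁ p hp := by
    symm
    apply tsec_unique
    · rfl
    · exact tsec_π Sg t₁ ht₁ y₁ τ₀ hτ e₁ p hp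
  rw [trp, this]
  rfl

lemma trp_act (gg : TS ⟶ G) (y₁ : TS ⟶ T₁) (y₂ : TS ⟶ T₂) (τ₀ : TS ⟶ U) (hτ : R τ₀)
    (e₁ : y₁ ≫ t₁ = τ₀) (e₂ : y₂ ≫ t₂ = τ₀)
    (p : TS ⟶ (Sg.B t₁ ht₁).P) (hp : p ≫ (Sg.B t₁ ht₁).π = y₁)
    (hp' : (lift gg p ≫ (Sg.B t₁ ht₁).act.act) ≫ (Sg.B t₁ ht₁).π = y₁) :
    trp Sg t₁ t₂ ht₁ ht₂ y₁ y₂ τ₀ hτ e₁ e₂ (lift gg p ≫ (Sg.B t₁ ht₁).act.act) hp' =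
      lift gg (trp Sg t₁ t₂ ht₁ ht₂ y₁ y₂ τ₀ hτ e₁ e₂ p hp) ≫ (Sg.B t₂ ht₂).act.act := by
  have : tsec Sg t₁ ht₁ y₁ τ₀ hτ e₁ (lift gg p ≫ (Sg.B t₁ ht₁).act.act) hp' =
      lift gg (tsec Sg t₁ ht₁ y₁ τ₀ hτ e₁ p hp) ≫ (Sg.B τ₀ hτ).act.act := by
    symm
    apply tsec_unique
    · rw [Category.assoc, (Sg.ρ y₁ t₁ τ₀ ht₁ hτ e₁).eqv, lift_whiskerLeft_assoc, tsec_top]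
    · rw [Category.assoc, (Sg.B τ₀ hτ).cart.w, lift_snd_assoc, tsec_π]
  rw [trp, this, Category.assoc, (Sg.ρ y₂ t₂ τ₀ ht₂ hτ e₂).eqv, lift_whiskerLeft_assoc, trp]

lemma trp_φ (y₁ : TS ⟶ T₁) (y₂ : TS ⟶ T₂) (τ₀ : TS ⟶ U) (hτ : R τ₀)
    (e₁ : y₁ ≫ t₁ = τ₀) (e₂ : y₂ ≫ t₂ = τ₀)
    (p : TS ⟶ (Sg.B t₁ ht₁).P) (hp : p ≫ (Sg.B t₁ ht₁).π = y₁) :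
    trp Sg t₁ t₂ ht₁ ht₂ y₁ y₂ τ₀ hτ e₁ e₂ p hp ≫ (Sg.B t₂ ht₂).φ = p ≫ (Sg.B t₁ ht₁).φ := by
  rw [trp, Category.assoc, (Sg.ρ y₂ t₂ τ₀ ht₂ hτ e₂).wφ, ← (Sg.ρ y₁ t₁ τ₀ ht₁ hτ e₁).wφ,
    tsec_top_assoc]

lemma trp_ρ {T₀ : Over S} (τ₀ : T₀ ⟶ U) (hτ : R τ₀) (y₁ : T₀ ⟶ T₁) (y₂ : T₀ ⟶ T₂)
    (e₁ : y₁ ≫ t₁ = τ₀) (e₂ : y₂ ≫ t₂ = τ₀) (hτ' : R ((Sg.B τ₀ hτ).π ≫ τ₀))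
    (e₁' : ((Sg.B τ₀ hτ).π ≫ y₁) ≫ t₁ = (Sg.B τ₀ hτ).π ≫ τ₀)
    (e₂' : ((Sg.B τ₀ hτ).π ≫ y₂) ≫ t₂ = (Sg.B τ₀ hτ).π ≫ τ₀) :
    trp Sg t₁ t₂ ht₁ ht₂ ((Sg.B τ₀ hτ).π ≫ y₁) ((Sg.B τ₀ hτ).π ≫ y₂) ((Sg.B τ₀ hτ).π ≫ τ₀) hτ'
      e₁' e₂' (Sg.ρ y₁ t₁ τ₀ ht₁ hτ e₁).top (Sg.ρ y₁ t₁ τ₀ ht₁ hτ e₁).cart.w =
      (Sg.ρ y₂ t₂ τ₀ ht₂ hτ e₂).top := by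
  have key : tsec Sg t₁ ht₁ ((Sg.B τ₀ hτ).π ≫ y₁) ((Sg.B τ₀ hτ).π ≫ τ₀) hτ' e₁'
      (Sg.ρ y₁ t₁ τ₀ ht₁ hτ e₁).top (Sg.ρ y₁ t₁ τ₀ ht₁ hτ e₁).cart.w ≫
      (Sg.ρ (Sg.B τ₀ hτ).π τ₀ ((Sg.B τ₀ hτ).π ≫ τ₀) hτ hτ' rfl).top = 𝟙 _ := by
    apply (Sg.ρ y₁ t₁ τ₀ ht₁ hτ e₁).cart.hom_ext
    · rw [Category.assoc, Sg.ρ_comp (Sg.B τ₀ hτ).π y₁ t₁ τ₀ _ ht₁ hτ hτ' e₁ rfl, tsec_top,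
        Category.id_comp]
    · rw [Category.assoc, (Sg.ρ (Sg.B τ₀ hτ).π τ₀ ((Sg.B τ₀ hτ).π ≫ τ₀) hτ hτ' rfl).cart.w,
        tsec_π_assoc, Category.id_comp]
  rw [trp, ← Sg.ρ_comp (Sg.B τ₀ hτ).π y₂ t₂ τ₀ _ ht₂ hτ hτ' e₂ rfl, ← Category.assoc, key,
    Category.id_comp]

end

end Groth.Agent.Lib.Helper5.QuotStTransport
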