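import Mathlib
import Groth.Agent.Lib.Helper5.QuotStTransport
import Groth.Agent.Lib.Helper5.DescFamAffine
import Groth.Agent.Lib.Helper5.DescCoord
import Groth.Agent.Lib.Helper14.QuotStGeom
import Groth.Agent.S0082

/-!
# The descent datum of total spaces attached to a system of torsor objects along a family (helper5)
-/

set_option autoImplicit false
set_option linter.style.haveILetI false
universe u

open CategoryTheory CategoryTheory.Limits MonoidalCategory CartesianMonoidalCategory MonObj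
  AlgebraicGeometry AlgSt Desc

namespace Groth.Agent.Lib.Helper5.QuotStDD

open Groth.Agent.Lib.Helper5.QuotStStrict Groth.Agent.Lib.Helper5.QuotStTransport

variable {S : Scheme.{u}} {K : Precoverage Scheme.{u}} {G : Over S} [GrpObj G] {X : Over S}
  {aX : AlgGrp.Action G X} {U : Over S} {κ : Type u} {Tj : κ → Over S} (f : ∀ j, Tj j ⟶ U)
  (Sg : Sys K G aX (Sieve.ofArrows Tj f))

lemma mem (j : κ) : (Sieve.ofArrows Tj f) (f j) := Sieve.ofArrows_mk _ _ j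

/-- the member of the system over the `j`-th member of the family -/
abbrev Bj (j : κ) : TorsObj K G aX (Tj j) := Sg.B (f j) (mem f j)

section trpS

lemma hom_aux {T : Scheme.{u}} (τ : T ⟶ S) {i : κ} (x₀ : T ⟶ (Tj i).left)
    (h₀ : x₀ ≫ (Tj i).hom = τ) (v : T ⟶ (Bj f Sg i).P.left)
    (hv : v ≫ (Bj f Sg i).π.left = x₀) : v ≫ (Bj f Sg i).P.hom = τ := by
  rw [← Over.w (Bj f Sg i).π, ← Category.assoc, hv, h₀]

/-- transport on scheme-valued points -/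
noncomputable def trpS {T : Scheme.{u}} (τ : T ⟶ S) {i j : κ} (x₀ : T ⟶ (Tj i).left)
    (x₁ : T ⟶ (Tj j).left) (h₀ : x₀ ≫ (Tj i).hom = τ) (h₁ : x₁ ≫ (Tj j).hom = τ)
    (h : x₀ ≫ (f i).left = x₁ ≫ (f j).left) (v : T ⟶ (Bj f Sg i).P.left)
    (hv : v ≫ (Bj f Sg i).π.left = x₀) : T ⟶ (Bj f Sg j).P.left :=
  (trp Sg (f i) (f j) (mem f i) (mem f j) (Over.homMk x₀ h₀ : Over.mk τ ⟶ Tj i)
    (Over.homMk x₁ h₁ : Over.mk τ ⟶ Tj j) ((Over.homMk x₀ h₀ : Over.mk τ ⟶ Tj i) ≫ f i)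
    ((Sieve.ofArrows Tj f).downward_closed (mem f i) _) rfl
    (Over.OverMorphism.ext h.symm)
    (Over.homMk v (hom_aux f Sg τ x₀ h₀ v hv) : Over.mk τ ⟶ (Bj f Sg i).P)
    (Over.OverMorphism.ext hv)).left

lemma trpS_π {T : Scheme.{u}} (τ : T ⟶ S) {i j : κ} (x₀ : T ⟶ (Tj i).left)
    (x₁ : T ⟶ (Tj j).left) (h₀ : x₀ ≫ (Tj i).hom = τ) (h₁ : x₁ ≫ (Tj j).hom = τ)
    (h : x₀ ≫ (f i).left = x₁ ≫ (f j).left) (v : T ⟶ (Bj f Sg i).P.left)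
    (hv : v ≫ (Bj f Sg i).π.left = x₀) :
    trpS f Sg τ x₀ x₁ h₀ h₁ h v hv ≫ (Bj f Sg j).π.left = x₁ :=
  congrArg CommaMorphism.left (trp_π Sg (f i) (f j) (mem f i) (mem f j)
    (Over.homMk x₀ h₀ : Over.mk τ ⟶ Tj i)
    (Over.homMk x₁ h₁ : Over.mk τ ⟶ Tj j) ((Over.homMk x₀ h₀ : Over.mk τ ⟶ Tj i) ≫ f i)
    ((Sieve.ofArrows Tj f).downward_closed (mem f i) _) rfl
    (Over.OverMorphism.ext h.symm)
    (Over.homMk v (hom_aux f Sg τ x₀ h₀ v hv) : Over.mk τ ⟶ (Bj f Sg i).P)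
    (Over.OverMorphism.ext hv))

lemma trpS_congr {T : Scheme.{u}} (τ τ' : T ⟶ S) {i j : κ} (x₀ : T ⟶ (Tj i).left)
    (x₁ : T ⟶ (Tj j).left) (h₀ : x₀ ≫ (Tj i).hom = τ) (h₁ : x₁ ≫ (Tj j).hom = τ)
    (h₀' : x₀ ≫ (Tj i).hom = τ') (h₁' : x₁ ≫ (Tj j).hom = τ')
    (h : x₀ ≫ (f i).left = x₁ ≫ (f j).left) (v : T ⟶ (Bj f Sg i).P.left)
    (hv : v ≫ (Bj f Sg i).π.left = x₀) :
    trpS f Sg τ x₀ x₁ h₀ h₁ h v hv = trpS f Sg τ' x₀ x₁ h₀' h₁' h v hv := by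
  subst h₀
  subst h₀'
  rfl

lemma trpS_nat {T T' : Scheme.{u}} (g : T' ⟶ T) (τ : T ⟶ S) {i j : κ} (x₀ : T ⟶ (Tj i).left)
    (x₁ : T ⟶ (Tj j).left) (h₀ : x₀ ≫ (Tj i).hom = τ) (h₁ : x₁ ≫ (Tj j).hom = τ)
    (h : x₀ ≫ (f i).left = x₁ ≫ (f j).left) (v : T ⟶ (Bj f Sg i).P.left)
    (hv : v ≫ (Bj f Sg i).π.left = x₀)
    (τ' : T' ⟶ S) (x₀' : T' ⟶ (Tj i).left)
    (x₁' : T' ⟶ (Tj j).left) (h₀' : x₀' ≫ (Tj i).hom = τ') (h₁' : x₁' ≫ (Tj j).hom = τ')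
    (h' : x₀' ≫ (f i).left = x₁' ≫ (f j).left) (v' : T' ⟶ (Bj f Sg i).P.left)
    (hv' : v' ≫ (Bj f Sg i).π.left = x₀')
    (hx₀ : g ≫ x₀ = x₀') (hx₁ : g ≫ x₁ = x₁') (hvv : g ≫ v = v') :
    trpS f Sg τ' x₀' x₁' h₀' h₁' h' v' hv' = g ≫ trpS f Sg τ x₀ x₁ h₀ h₁ h v hv := by
  have hτ : g ≫ τ = τ' := by rw [← h₀, ← Category.assoc, hx₀, h₀']
  subst hτ
  let gO : Over.mk (g ≫ τ) ⟶ Over.mk τ := Over.homMk g rfl
  exact congrArg CommaMorphism.left (trp_nat Sg (f i) (f j) (mem f i) (mem f j) gO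
    (Over.homMk x₀ h₀ : Over.mk τ ⟶ Tj i)
    (Over.homMk x₁ h₁ : Over.mk τ ⟶ Tj j) ((Over.homMk x₀ h₀ : Over.mk τ ⟶ Tj i) ≫ f i)
    ((Sieve.ofArrows Tj f).downward_closed (mem f i) _) rfl
    (Over.OverMorphism.ext h.symm)
    (Over.homMk v (hom_aux f Sg τ x₀ h₀ v hv) : Over.mk τ ⟶ (Bj f Sg i).P)
    (Over.OverMorphism.ext hv)
    (Over.homMk x₀' h₀' : Over.mk (g ≫ τ) ⟶ Tj i)
    (Over.homMk x₁' h₁' : Over.mk (g ≫ τ) ⟶ Tj j)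
    ((Over.homMk x₀' h₀' : Over.mk (g ≫ τ) ⟶ Tj i) ≫ f i)
    ((Sieve.ofArrows Tj f).downward_closed (mem f i) _) rfl
    (Over.OverMorphism.ext h'.symm)
    (Over.homMk v' (hom_aux f Sg (g ≫ τ) x₀' h₀' v' hv') : Over.mk (g ≫ τ) ⟶ (Bj f Sg i).P)
    (Over.OverMorphism.ext hv')
    (Over.OverMorphism.ext hx₀) (Over.OverMorphism.ext hx₁) (Over.OverMorphism.ext hvv))

lemma trpS_self {T : Scheme.{u}} (τ : T ⟶ S) {i : κ} (x₀ : T ⟶ (Tj i).left)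
    (h₀ : x₀ ≫ (Tj i).hom = τ) (v : T ⟶ (Bj f Sg i).P.left)
    (hv : v ≫ (Bj f Sg i).π.left = x₀) :
    trpS f Sg τ x₀ x₀ h₀ h₀ rfl v hv = v :=
  congrArg CommaMorphism.left (trp_self Sg (f i) (mem f i)
    (Over.homMk x₀ h₀ : Over.mk τ ⟶ Tj i) ((Over.homMk x₀ h₀ : Over.mk τ ⟶ Tj i) ≫ f i)
    ((Sieve.ofArrows Tj f).downward_closed (mem f i) _) rfl
    (Over.homMk v (hom_aux f Sg τ x₀ h₀ v hv) : Over.mk τ ⟶ (Bj f Sg i).P)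
    (Over.OverMorphism.ext hv))

lemma trpS_trans {T : Scheme.{u}} (τ : T ⟶ S) {i j k : κ} (x₀ : T ⟶ (Tj i).left)
    (x₁ : T ⟶ (Tj j).left) (x₂ : T ⟶ (Tj k).left) (h₀ : x₀ ≫ (Tj i).hom = τ)
    (h₁ : x₁ ≫ (Tj j).hom = τ) (h₂ : x₂ ≫ (Tj k).hom = τ)
    (h₀₁ : x₀ ≫ (f i).left = x₁ ≫ (f j).left) (h₁₂ : x₁ ≫ (f j).left = x₂ ≫ (f k).left)
    (v : T ⟶ (Bj f Sg i).P.left) (hv : v ≫ (Bj f Sg i).π.left = x₀) :
    trpS f Sg τ x₁ x₂ h₁ h₂ h₁₂ (trpS f Sg τ x₀ x₁ h₀ h₁ h₀₁ v hv)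
      (trpS_π f Sg τ x₀ x₁ h₀ h₁ h₀₁ v hv) =
      trpS f Sg τ x₀ x₂ h₀ h₂ (h₀₁.trans h₁₂) v hv := by
  have e := trp_trans Sg (f i) (f j) (f k) (mem f i) (mem f j) (mem f k)
    (Over.homMk x₀ h₀ : Over.mk τ ⟶ Tj i)
    (Over.homMk x₁ h₁ : Over.mk τ ⟶ Tj j) (Over.homMk x₂ h₂ : Over.mk τ ⟶ Tj k)
    ((Over.homMk x₀ h₀ : Over.mk τ ⟶ Tj i) ≫ f i)
    ((Sieve.ofArrows Tj f).downward_closed (mem f i) _) rfl
    (Over.OverMorphism.ext h₀₁.symm) (Over.OverMorphism.ext (h₀₁.trans h₁₂).symm)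
    (Over.homMk v (hom_aux f Sg τ x₀ h₀ v hv) : Over.mk τ ⟶ (Bj f Sg i).P)
    (Over.OverMorphism.ext hv)
  have e' := congrArg CommaMorphism.left e
  refine Eq.trans ?_ e'
  have hτ : (Over.homMk x₁ h₁ : Over.mk τ ⟶ Tj j) ≫ f j =
      (Over.homMk x₀ h₀ : Over.mk τ ⟶ Tj i) ≫ f i := Over.OverMorphism.ext h₀₁.symm
  exact congrArg CommaMorphism.left (trp_congr Sg (f j) (f k) (mem f j) (mem f k)
    (Over.homMk x₁ h₁ : Over.mk τ ⟶ Tj j) (Over.homMk x₂ h₂ : Over.mk τ ⟶ Tj k) _ _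
    ((Sieve.ofArrows Tj f).downward_closed (mem f j) _)
    ((Sieve.ofArrows Tj f).downward_closed (mem f i) _) rfl (Over.OverMorphism.ext h₁₂.symm)
    hτ (Over.OverMorphism.ext (h₀₁.trans h₁₂).symm) _ _ _ _ (Over.OverMorphism.ext rfl))

end trpS

end Groth.Agent.Lib.Helper5.QuotStDD
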