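import Mathlib
import Groth.Agent.Lib.Helper5.QuotStDD
import Groth.Agent.Lib.Helper93.TorsorPts

/-!
# Gluing the total spaces of a system of torsor objects along an fppf family (helper5)
-/

set_option autoImplicit false
set_option linter.style.haveILetI false
universe u

open CategoryTheory CategoryTheory.Limits MonoidalCategory CartesianMonoidalCategory MonObj
  AlgebraicGeometry AlgSt Desc

namespace Groth.Agent.Lib.Helper5.QuotStDD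

open Groth.Agent.Lib.Helper5.QuotStStrict Groth.Agent.Lib.Helper5.QuotStTransport
  Groth.Agent.Lib.Helper5.DescCoord

variable {S : Scheme.{u}} {K : Precoverage Scheme.{u}} {G : Over S} [GrpObj G] {X : Over S}
  {aX : AlgGrp.Action G X} {U : Over S} {κ : Type u} {Tj : κ → Over S} (f : ∀ j, Tj j ⟶ U)
  (Sg : Sys K G aX (Sieve.ofArrows Tj f))

section dd

omit [GrpObj G] in
lemma hτ_aux {T : Scheme.{u}} {i j : κ} (x₀ : T ⟶ (Tj i).left) (x₁ : T ⟶ (Tj j).left)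
    (h : x₀ ≫ (f i).left = x₁ ≫ (f j).left) : x₁ ≫ (Tj j).hom = x₀ ≫ (Tj i).hom := by
  rw [← Over.w (f j), ← Over.w (f i), ← Category.assoc, ← Category.assoc, h]

/-- the descent datum of total spaces -/
noncomputable def dd : SchDDFam (fun j => (f j).left) where
  obj j := Over.mk (Bj f Sg j).π.left
  φ T i j x₀ x₁ h :=
    { toFun := fun v => ⟨trpS f Sg (x₀ ≫ (Tj i).hom) x₀ x₁ rfl (hτ_aux f x₀ x₁ h) h v.1 v.2,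
        trpS_π f Sg (x₀ ≫ (Tj i).hom) x₀ x₁ rfl (hτ_aux f x₀ x₁ h) h v.1 v.2⟩
      invFun := fun v => ⟨trpS f Sg (x₀ ≫ (Tj i).hom) x₁ x₀ (hτ_aux f x₀ x₁ h) rfl h.symm v.1 v.2,
        trpS_π f Sg (x₀ ≫ (Tj i).hom) x₁ x₀ (hτ_aux f x₀ x₁ h) rfl h.symm v.1 v.2⟩
      left_inv := fun v => Subtype.ext
        ((trpS_trans f Sg (x₀ ≫ (Tj i).hom) x₀ x₁ x₀ rfl (hτ_aux f x₀ x₁ h) rfl h h.symm
          v.1 v.2).trans (trpS_self f Sg _ x₀ rfl v.1 v.2))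
      right_inv := fun v => Subtype.ext
        ((trpS_trans f Sg (x₀ ≫ (Tj i).hom) x₁ x₀ x₁ (hτ_aux f x₀ x₁ h) rfl (hτ_aux f x₀ x₁ h)
          h.symm h v.1 v.2).trans (trpS_self f Sg _ x₁ (hτ_aux f x₀ x₁ h) v.1 v.2)) }
  φ_natural T T' g i j x₀ x₁ h y₀ y₁ hy₀ hy₁ h' v v' hv' :=
    trpS_nat f Sg g (x₀ ≫ (Tj i).hom) x₀ x₁ rfl (hτ_aux f x₀ x₁ h) h v.1 v.2
      (y₀ ≫ (Tj i).hom) y₀ y₁ rfl (hτ_aux f y₀ y₁ h') h' v'.1 v'.2 hy₀ hy₁ hv'.symm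
  φ_self T i x v := Subtype.ext (trpS_self f Sg _ x rfl v.1 v.2)
  φ_comp T i j k x₀ x₁ x₂ h₀₁ h₁₂ v := Subtype.ext (by
    refine Eq.trans ?_ (trpS_trans f Sg (x₀ ≫ (Tj i).hom) x₀ x₁ x₂ rfl (hτ_aux f x₀ x₁ h₀₁)
      (hτ_aux f x₀ x₂ (h₀₁.trans h₁₂)) h₀₁ h₁₂ v.1 v.2)
    exact trpS_congr f Sg (x₁ ≫ (Tj j).hom) (x₀ ≫ (Tj i).hom) x₁ x₂ rfl (hτ_aux f x₁ x₂ h₁₂)
      (hτ_aux f x₀ x₁ h₀₁) (hτ_aux f x₀ x₂ (h₀₁.trans h₁₂)) h₁₂ _ _)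

lemma trpS_eq {TS : Over S} {i j : κ} (y₀ : TS ⟶ Tj i) (y₁ : TS ⟶ Tj j) (τ₀ : TS ⟶ U)
    (hτ : (Sieve.ofArrows Tj f) τ₀) (e₀ : y₀ ≫ f i = τ₀) (e₁ : y₁ ≫ f j = τ₀)
    (p : TS ⟶ (Bj f Sg i).P) (hp : p ≫ (Bj f Sg i).π = y₀)
    (h : y₀.left ≫ (f i).left = y₁.left ≫ (f j).left)
    (hv : p.left ≫ (Bj f Sg i).π.left = y₀.left) :
    trpS f Sg TS.hom y₀.left y₁.left (Over.w y₀) (Over.w y₁) h p.left hv =
      (trp Sg (f i) (f j) (mem f i) (mem f j) y₀ y₁ τ₀ hτ e₀ e₁ p hp).left := by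
  subst e₀
  rfl

end dd

section glue

variable {W₀ : Over U.left} (θ : (toDDFam (fun j => (f j).left)).obj W₀ ≅ dd f Sg)

/-- the chart of the glued total space -/
noncomputable def μS (j : κ) : (Bj f Sg j).P.left ⟶ W₀.left :=
  uncoord θ (i := j) (Bj f Sg j).π.left ⟨𝟙 _, Category.id_comp _⟩

lemma μS_hom (j : κ) : μS f Sg θ j ≫ W₀.hom = (Bj f Sg j).π.left ≫ (f j).left :=
  uncoord_hom θ (i := j) _ _

lemma μS_nat {T : Scheme.{u}} (j : κ) (v : T ⟶ (Bj f Sg j).P.left) (x : T ⟶ (Tj j).left)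
    (hv : v ≫ (Bj f Sg j).π.left = x) :
    v ≫ μS f Sg θ j = uncoord θ (i := j) x ⟨v, hv⟩ := by
  subst hv
  exact (uncoord_nat θ v (i := j) (Bj f Sg j).π.left ⟨𝟙 _, Category.id_comp _⟩ ⟨v, rfl⟩
    (Category.comp_id _).symm).symm

lemma cartS (j : κ) : IsPullback (μS f Sg θ j) (Bj f Sg j).π.left W₀.hom (f j).left := by
  apply Groth.Agent.Lib.Helper93.TorsorPts.isPullback_of_existsUnique _ _ _ _ (μS_hom f Sg θ j)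
  intro T w x hw
  refine ⟨(coord θ (i := j) x w hw).1, ⟨?_, (coord θ (i := j) x w hw).2⟩, ?_⟩
  · rw [μS_nat f Sg θ j _ x (coord θ (i := j) x w hw).2]
    exact uncoord_coord θ (i := j) x w hw
  · rintro v' ⟨h1, h2⟩
    have e1 := μS_nat f Sg θ j v' x h2
    rw [h1] at e1
    have e2 := coord_uncoord θ (i := j) x ⟨v', h2⟩
    have e3 := coord_congr θ (i := j) (uncoord_hom θ (i := j) x ⟨v', h2⟩) hw rfl e1.symm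
    rw [e2] at e3
    exact e3

lemma compatS {T₀ : Over S} (i j : κ) (y₀ : T₀ ⟶ Tj i) (y₁ : T₀ ⟶ Tj j) (τ₀ : T₀ ⟶ U)
    (hτ : (Sieve.ofArrows Tj f) τ₀) (e₀ : y₀ ≫ f i = τ₀) (e₁ : y₁ ≫ f j = τ₀) :
    (Sg.ρ y₀ (f i) τ₀ (mem f i) hτ e₀).top.left ≫ μS f Sg θ i =
      (Sg.ρ y₁ (f j) τ₀ (mem f j) hτ e₁).top.left ≫ μS f Sg θ j := by
  have hv₀ : (Sg.ρ y₀ (f i) τ₀ (mem f i) hτ e₀).top.left ≫ (Bj f Sg i).π.left =
      ((Sg.B τ₀ hτ).π ≫ y₀).left :=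
    congrArg CommaMorphism.left (Sg.ρ y₀ (f i) τ₀ (mem f i) hτ e₀).cart.w
  have hv₁ : (Sg.ρ y₁ (f j) τ₀ (mem f j) hτ e₁).top.left ≫ (Bj f Sg j).π.left =
      ((Sg.B τ₀ hτ).π ≫ y₁).left :=
    congrArg CommaMorphism.left (Sg.ρ y₁ (f j) τ₀ (mem f j) hτ e₁).cart.w
  have h : ((Sg.B τ₀ hτ).π ≫ y₀).left ≫ (f i).left = ((Sg.B τ₀ hτ).π ≫ y₁).left ≫ (f j).left := by
    have := congrArg CommaMorphism.left (e₀.trans e₁.symm)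
    simp only [Over.comp_left, Category.assoc] at this ⊢
    rw [this]
  rw [μS_nat f Sg θ i _ _ hv₀, μS_nat f Sg θ j _ _ hv₁]
  rw [← uncoord_φ θ (i := i) (j := j) _ _ h]
  congr 1
  apply Subtype.ext
  have hτ' : (Sieve.ofArrows Tj f) ((Sg.B τ₀ hτ).π ≫ τ₀) :=
    (Sieve.ofArrows Tj f).downward_closed hτ _
  have e₀' : ((Sg.B τ₀ hτ).π ≫ y₀) ≫ f i = (Sg.B τ₀ hτ).π ≫ τ₀ := by rw [Category.assoc, e₀]
  have e₁' : ((Sg.B τ₀ hτ).π ≫ y₁) ≫ f j = (Sg.B τ₀ hτ).π ≫ τ₀ := by rw [Category.assoc, e₁]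
  have key := trpS_eq f Sg ((Sg.B τ₀ hτ).π ≫ y₀) ((Sg.B τ₀ hτ).π ≫ y₁) ((Sg.B τ₀ hτ).π ≫ τ₀) hτ'
    e₀' e₁' (Sg.ρ y₀ (f i) τ₀ (mem f i) hτ e₀).top (Sg.ρ y₀ (f i) τ₀ (mem f i) hτ e₀).cart.w h hv₀
  rw [trp_ρ Sg (f i) (f j) (mem f i) (mem f j) τ₀ hτ y₀ y₁ e₀ e₁ hτ' e₀' e₁'] at key
  refine Eq.trans ?_ key
  exact trpS_congr f Sg _ _ _ _ _ _ _ _ h _ hv₀

end glue

end Groth.Agent.Lib.Helper5.QuotStDD
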