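import Mathlib
import Groth.Agent.Lib.Helper5.QuotStBase

/-!
# The glued total space with its charts (helper5)
-/

set_option autoImplicit false
set_option linter.style.haveILetI false
universe u

open CategoryTheory CategoryTheory.Limits MonoidalCategory CartesianMonoidalCategory MonObj
  AlgebraicGeometry AlgSt Desc

namespace Groth.Agent.Lib.Helper5.QuotStDD

open Groth.Agent.Lib.Helper5.QuotStStrict Groth.Agent.Lib.Helper5.QuotStTransport
  Groth.Agent.Lib.Helper5.DescCoord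

variable {S : Scheme.{u}} {K : Precoverage Scheme.{u}} {G : Over S} [GrpObj G] {X : Over S}
  {aX : AlgGrp.Action G X} {U : Over S}

/-- a glued total space with cartesian charts from all members of the system -/
structure PreCone {R : Sieve U} (Sg : Sys K G aX R) where
  P : Over S
  π : P ⟶ U
  ch : ∀ ⦃T : Over S⦄ (t : T ⟶ U) (ht : R t), (Sg.B t ht).P ⟶ P
  cart : ∀ ⦃T : Over S⦄ (t : T ⟶ U) (ht : R t), IsPullback (ch t ht) (Sg.B t ht).π π t
  nat : ∀ ⦃T' T : Over S⦄ (h : T' ⟶ T) (t : T ⟶ U) (t' : T' ⟶ U) (ht : R t) (ht' : R t')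
    (w : h ≫ t = t'), (Sg.ρ h t t' ht ht' w).top ≫ ch t ht = ch t' ht'

variable {κ : Type u} {Tj : κ → Over S} (f : ∀ j, Tj j ⟶ U)
  (Sg : Sys K G aX (Sieve.ofArrows Tj f))

/-- a glued total space with cartesian charts from the members of the family -/
structure GlueBase where
  P : Over S
  π : P ⟶ U
  ch : ∀ j, (Bj f Sg j).P ⟶ P
  cart : ∀ j, IsPullback (ch j) (Bj f Sg j).π π (f j)
  compat : ∀ ⦃T₀ : Over S⦄ (i j : κ) (y₀ : T₀ ⟶ Tj i) (y₁ : T₀ ⟶ Tj j) (τ₀ : T₀ ⟶ U)
    (hτ : (Sieve.ofArrows Tj f) τ₀) (e₀ : y₀ ≫ f i = τ₀) (e₁ : y₁ ≫ f j = τ₀),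
    (Sg.ρ y₀ (f i) τ₀ (mem f i) hτ e₀).top ≫ ch i = (Sg.ρ y₁ (f j) τ₀ (mem f j) hτ e₁).top ≫ ch j

section ofIso

variable {W₀ : Over U.left} (θ : (toDDFam (fun j => (f j).left)).obj W₀ ≅ dd f Sg)

/-- the glued base attached to an effectivity isomorphism -/
noncomputable def glueBaseOf : GlueBase f Sg where
  P := Over.mk (W₀.hom ≫ U.hom)
  π := Over.homMk W₀.hom rfl
  ch j := Over.homMk (μS f Sg θ j) (by
    change μS f Sg θ j ≫ W₀.hom ≫ U.hom = (Bj f Sg j).P.hom
    rw [← Category.assoc, μS_hom, Category.assoc, Over.w (f j), Over.w (Bj f Sg j).π])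
  cart j := IsPullback.of_map (Over.forget S) (Over.OverMorphism.ext (μS_hom f Sg θ j))
    (cartS f Sg θ j)
  compat T₀ i j y₀ y₁ τ₀ hτ e₀ e₁ :=
    Over.OverMorphism.ext (compatS f Sg θ i j y₀ y₁ τ₀ hτ e₀ e₁)

end ofIso

section affine

variable [IsAffineHom G.hom] (Sf : Sys Scheme.fppfPrecoverage G aX (Sieve.ofArrows Tj f))

lemma isAffineHom_π (j : κ) : IsAffineHom (Bj f Sf j).π.left := by
  haveI : MorphismProperty.DescendsAlong @IsAffineHom
      (@Surjective ⊓ @Flat ⊓ @QuasiCompact : MorphismProperty Scheme.{u}) :=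
    Groth.Agent.S0082.result
  haveI : MorphismProperty.DescendsAlong @IsAffineHom
      (@Surjective ⊓ @Flat ⊓ @LocallyOfFinitePresentation : MorphismProperty Scheme.{u}) :=
    inferInstance
  exact Groth.Agent.Lib.Helper14.QuotStGeom.pi_prop @IsAffineHom inferInstance (Bj f Sf j).toQuot

theorem exists_glueBase
    (hcov : Presieve.ofArrows (fun j => (Tj j).left) (fun j => (f j).left) ∈
      Scheme.fpqcPrecoverage U.left) : Nonempty (GlueBase f Sf) := by
  have hD : ∀ j, IsAffineHom ((dd f Sf).obj j).hom := fun j => isAffineHom_π f Sf j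
  obtain ⟨W₀, ⟨θ⟩⟩ := Groth.Agent.Lib.Helper5.DescFamAffine.isEffective_of_isAffineHom
    (fun j => (f j).left) hcov (dd f Sf) hD
  exact ⟨glueBaseOf f Sf θ⟩

end affine

section toPreCone

variable {f Sg} (gb : GlueBase f Sg)

omit [GrpObj G] in
lemma exists_fac {T : Over S} (t : T ⟶ U) (ht : (Sieve.ofArrows Tj f) t) :
    ∃ (i : κ) (a : T ⟶ Tj i), a ≫ f i = t := by
  obtain ⟨i, a, e⟩ := (Sieve.mem_ofArrows_iff Tj f t).1 ht
  exact ⟨i, a, e.symm⟩

/-- chosen index -/
noncomputable def idx {T : Over S} (t : T ⟶ U) (ht : (Sieve.ofArrows Tj f) t) : κ :=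
  (exists_fac t ht).choose

/-- chosen factorization -/
noncomputable def fac {T : Over S} (t : T ⟶ U) (ht : (Sieve.ofArrows Tj f) t) :
    T ⟶ Tj (idx t ht) :=
  (exists_fac t ht).choose_spec.choose

omit [GrpObj G] in
lemma fac_spec {T : Over S} (t : T ⟶ U) (ht : (Sieve.ofArrows Tj f) t) :
    fac t ht ≫ f (idx t ht) = t :=
  (exists_fac t ht).choose_spec.choose_spec

lemma isPullback_congr {C : Type*} [Category C] {P A B Z : C} {a : P ⟶ A} {b : P ⟶ B} {c : A ⟶ Z}
    {d d' : B ⟶ Z} (h : IsPullback a b c d) (e : d = d') : IsPullback a b c d' := e ▸ h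

/-- the pre-cone attached to a glued base -/
noncomputable def GlueBase.toPreCone : PreCone Sg where
  P := gb.P
  π := gb.π
  ch T t ht := (Sg.ρ (fac t ht) (f (idx t ht)) t (mem f _) ht (fac_spec t ht)).top ≫ gb.ch (idx t ht)
  cart T t ht := isPullback_congr
    ((Sg.ρ (fac t ht) (f (idx t ht)) t (mem f _) ht (fac_spec t ht)).cart.paste_horiz
      (gb.cart (idx t ht))) (fac_spec t ht)
  nat T' T h t t' ht ht' w := by
    rw [← Category.assoc, Sg.ρ_comp h (fac t ht) (f (idx t ht)) t t' (mem f _) ht ht'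
      (fac_spec t ht) w]
    exact gb.compat (idx t ht) (idx t' ht') (h ≫ fac t ht) (fac t' ht') t' ht' _ (fac_spec t' ht')

end toPreCone

end Groth.Agent.Lib.Helper5.QuotStDD
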