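import Mathlib
import Groth.Agent.Lib.Helper5.QuotStPreCone
import Groth.Agent.Lib.Helper5.RepSheaf
import Groth.Agent.Lib.Helper93.TorsorPts

/-!
# From a glued total space to a cone: gluing the action and the equivariant map (helper5)
-/

set_option autoImplicit false
set_option linter.style.haveILetI false
universe u

open CategoryTheory CategoryTheory.Limits MonoidalCategory CartesianMonoidalCategory MonObj GrpObj
  AlgebraicGeometry AlgSt

namespace Groth.Agent.Lib.Helper5.QuotStGlueObj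

open Groth.Agent.Lib.Helper5.QuotStStrict Groth.Agent.Lib.Helper5.QuotStDD
  Groth.Agent.Lib.Helper93.TorsorPts

variable {S : Scheme.{u}} {K : Precoverage Scheme.{u}} {G : Over S} [GrpObj G] {X : Over S}
  {aX : AlgGrp.Action G X} {U : Over S} {R : Sieve U} {Sg : Sys K G aX R} (pc : PreCone Sg)

section Sec

/-- the section of `B t` attached to a point of the glued total space -/
noncomputable def psec {T' : Over S} (g : T' ⟶ pc.P) (t : T' ⟶ U) (ht : R t)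
    (hg : g ≫ pc.π = t) : T' ⟶ (Sg.B t ht).P :=
  (pc.cart t ht).lift g (𝟙 T') (by rw [hg, Category.id_comp])

@[reassoc] lemma psec_ch {T' : Over S} (g : T' ⟶ pc.P) (t : T' ⟶ U) (ht : R t)
    (hg : g ≫ pc.π = t) : psec pc g t ht hg ≫ pc.ch t ht = g :=
  (pc.cart t ht).lift_fst _ _ _

@[reassoc] lemma psec_π {T' : Over S} (g : T' ⟶ pc.P) (t : T' ⟶ U) (ht : R t)
    (hg : g ≫ pc.π = t) : psec pc g t ht hg ≫ (Sg.B t ht).π = 𝟙 T' :=
  (pc.cart t ht).lift_snd _ _ _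

lemma psec_unique {T' : Over S} (g : T' ⟶ pc.P) (t : T' ⟶ U) (ht : R t)
    (hg : g ≫ pc.π = t) (σ : T' ⟶ (Sg.B t ht).P) (h1 : σ ≫ pc.ch t ht = g)
    (h2 : σ ≫ (Sg.B t ht).π = 𝟙 T') : σ = psec pc g t ht hg := by
  apply (pc.cart t ht).hom_ext
  · rw [h1, psec_ch]
  · rw [h2, psec_π]

lemma psec_comp {T'' T' : Over S} (h : T'' ⟶ T') (g : T' ⟶ pc.P) (t : T' ⟶ U) (ht : R t)
    (hg : g ≫ pc.π = t) (ht' : R (h ≫ t)) (hg' : (h ≫ g) ≫ pc.π = h ≫ t) :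
    psec pc (h ≫ g) (h ≫ t) ht' hg' ≫ (Sg.ρ h t (h ≫ t) ht ht' rfl).top =
      h ≫ psec pc g t ht hg := by
  apply (pc.cart t ht).hom_ext
  · rw [Category.assoc, pc.nat, psec_ch, Category.assoc, psec_ch]
  · rw [Category.assoc, (Sg.ρ h t (h ≫ t) ht ht' rfl).cart.w, psec_π_assoc, Category.assoc, psec_π,
      Category.comp_id]

lemma psec_ρ {T T' : Over S} (t : T ⟶ U) (ht : R t) (g : T' ⟶ pc.P) (p : T' ⟶ (Sg.B t ht).P)
    (hgp : g = p ≫ pc.ch t ht) (y : T' ⟶ T) (hy : p ≫ (Sg.B t ht).π = y) (t₂ : T' ⟶ U)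
    (ht₂ : R t₂) (e : y ≫ t = t₂) (hg : g ≫ pc.π = t₂) :
    psec pc g t₂ ht₂ hg ≫ (Sg.ρ y t t₂ ht ht₂ e).top = p := by
  apply (pc.cart t ht).hom_ext
  · rw [Category.assoc, pc.nat, psec_ch, hgp]
  · rw [Category.assoc, (Sg.ρ y t t₂ ht ht₂ e).cart.w, psec_π_assoc, hy]

end Sec

section Glue

variable (hR : R ∈ AlgSp.J S U)

omit [GrpObj G] in
lemma memR {T T' : Over S} {x : T ⟶ U} {m : T' ⟶ T} (hm : R.pullback x m) : R (m ≫ x) := hm

include hR in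
lemma pointwise_ext {T W : Over S} (x : T ⟶ pc.P) (a b : T ⟶ W)
    (h : ∀ ⦃T' : Over S⦄ (m : T' ⟶ T) (t : T' ⟶ U) (_ : R t) (_ : (m ≫ x) ≫ pc.π = t),
      m ≫ a = m ≫ b) : a = b :=
  RepSheaf.eq_of_locally_eq' (R.pullback (x ≫ pc.π)) ((AlgSp.J S).pullback_stable _ hR) a b
    (fun T' m hm => h m ((m ≫ x) ≫ pc.π) (by
      have : R (m ≫ x ≫ pc.π) := hm
      rwa [← Category.assoc] at this) rfl)

include hR in
lemma ext_lift_local {Q W : Over S} (a b : Q ⊗ pc.P ⟶ W)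
    (h : ∀ ⦃T' : Over S⦄ (q : T' ⟶ Q) (g : T' ⟶ pc.P) (t : T' ⟶ U) (_ : R t)
      (_ : g ≫ pc.π = t), lift q g ≫ a = lift q g ≫ b) : a = b := by
  apply pointwise_ext pc hR (snd Q pc.P)
  intro T' m t ht hm
  rw [← lift_comp_fst_snd m]
  exact h _ _ t ht hm

/-! ### the equivariant map -/

/-- local value of the equivariant map -/
noncomputable def valφ {T' : Over S} (g : T' ⟶ pc.P) (t : T' ⟶ U) (ht : R t)
    (hg : g ≫ pc.π = t) : T' ⟶ X :=
  psec pc g t ht hg ≫ (Sg.B t ht).φ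

lemma valφ_congr {T' : Over S} (g : T' ⟶ pc.P) {t t₂ : T' ⟶ U} (e : t = t₂) (ht : R t)
    (ht₂ : R t₂) (hg : g ≫ pc.π = t) (hg₂ : g ≫ pc.π = t₂) :
    valφ pc g t ht hg = valφ pc g t₂ ht₂ hg₂ := by
  subst e
  rfl

lemma valφ_comp {T'' T' : Over S} (h : T'' ⟶ T') (g : T' ⟶ pc.P) (t : T' ⟶ U) (ht : R t)
    (hg : g ≫ pc.π = t) (ht' : R (h ≫ t)) (hg' : (h ≫ g) ≫ pc.π = h ≫ t) :
    valφ pc (h ≫ g) (h ≫ t) ht' hg' = h ≫ valφ pc g t ht hg := by
  rw [valφ, valφ, ← (Sg.ρ h t (h ≫ t) ht ht' rfl).wφ, ← Category.assoc,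
    psec_comp pc h g t ht hg ht' hg', Category.assoc]

include hR in
lemma exists_φ : ∃ φ : pc.P ⟶ X, ∀ ⦃T' : Over S⦄ (g : T' ⟶ pc.P) (hg : R (g ≫ pc.π)),
    g ≫ φ = valφ pc g (g ≫ pc.π) hg rfl := by
  refine RepSheaf.exists_glue (R.pullback pc.π) ((AlgSp.J S).pullback_stable pc.π hR)
    (fun T' g hg => valφ pc g (g ≫ pc.π) hg rfl) ?_
  intro T' T'' g h hg
  have hg' : ((h ≫ g) ≫ pc.π) = h ≫ (g ≫ pc.π) := Category.assoc _ _ _
  have ht' : R (h ≫ (g ≫ pc.π)) := R.downward_closed hg h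
  rw [← valφ_comp pc h g (g ≫ pc.π) hg rfl ht' hg']
  exact valφ_congr pc (h ≫ g) hg' _ ht' rfl hg'

/-- the glued equivariant map -/
noncomputable def φ₀ : pc.P ⟶ X := (exists_φ pc hR).choose

lemma φ₀_spec {T' : Over S} (g : T' ⟶ pc.P) (t : T' ⟶ U) (ht : R t) (hg : g ≫ pc.π = t) :
    g ≫ φ₀ pc hR = valφ pc g t ht hg := by
  subst hg
  exact (exists_φ pc hR).choose_spec g ht

/-! ### the action -/

/-- local value of the action -/
noncomputable def valAct {T' : Over S} (gg : T' ⟶ G) (g : T' ⟶ pc.P) (t : T' ⟶ U) (ht : R t)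
    (hg : g ≫ pc.π = t) : T' ⟶ pc.P :=
  lift gg (psec pc g t ht hg) ≫ (Sg.B t ht).act.act ≫ pc.ch t ht

lemma valAct_congr {T' : Over S} {gg gg₂ : T' ⟶ G} {g g₂ : T' ⟶ pc.P} {t t₂ : T' ⟶ U}
    (e₁ : gg = gg₂) (e₂ : g = g₂) (e : t = t₂) (ht : R t)
    (ht₂ : R t₂) (hg : g ≫ pc.π = t) (hg₂ : g₂ ≫ pc.π = t₂) :
    valAct pc gg g t ht hg = valAct pc gg₂ g₂ t₂ ht₂ hg₂ := by
  subst e₁ e₂ e
  rfl

lemma act_ch_ρ {T' T : Over S} (y : T' ⟶ T) (t : T ⟶ U) (t₂ : T' ⟶ U) (ht : R t) (ht₂ : R t₂)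
    (e : y ≫ t = t₂) : (Sg.B t₂ ht₂).act.act ≫ pc.ch t₂ ht₂ =
      (G ◁ (Sg.ρ y t t₂ ht ht₂ e).top) ≫ (Sg.B t ht).act.act ≫ pc.ch t ht := by
  rw [← pc.nat y t t₂ ht ht₂ e, ← Category.assoc, (Sg.ρ y t t₂ ht ht₂ e).eqv, Category.assoc]

lemma valAct_comp {T'' T' : Over S} (h : T'' ⟶ T') (gg : T' ⟶ G) (g : T' ⟶ pc.P) (t : T' ⟶ U)
    (ht : R t) (hg : g ≫ pc.π = t) (ht' : R (h ≫ t)) (hg' : (h ≫ g) ≫ pc.π = h ≫ t) :
    valAct pc (h ≫ gg) (h ≫ g) (h ≫ t) ht' hg' = h ≫ valAct pc gg g t ht hg := by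
  have e1 : (Sg.B (h ≫ t) ht').act.act ≫ pc.ch (h ≫ t) ht' =
      (G ◁ (Sg.ρ h t (h ≫ t) ht ht' rfl).top) ≫ (Sg.B t ht).act.act ≫ pc.ch t ht := by
    rw [← pc.nat h t (h ≫ t) ht ht' rfl, ← Category.assoc, (Sg.ρ h t (h ≫ t) ht ht' rfl).eqv,
      Category.assoc]
  rw [valAct, valAct, e1, lift_whiskerLeft_assoc, psec_comp pc h g t ht hg ht' hg',
    ← comp_lift_assoc]

include hR in
lemma exists_act : ∃ a : G ⊗ pc.P ⟶ pc.P, ∀ ⦃T' : Over S⦄ (g' : T' ⟶ G ⊗ pc.P)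
    (hg' : R ((g' ≫ snd G pc.P) ≫ pc.π)),
    g' ≫ a = valAct pc (g' ≫ fst G pc.P) (g' ≫ snd G pc.P) _ hg' rfl := by
  have key : ∀ ⦃T' : Over S⦄ (g' : T' ⟶ G ⊗ pc.P), R.pullback (snd G pc.P ≫ pc.π) g' →
      R ((g' ≫ snd G pc.P) ≫ pc.π) := by
    intro T' g' hg'
    have : R (g' ≫ snd G pc.P ≫ pc.π) := hg'
    rwa [← Category.assoc] at this
  obtain ⟨a, ha⟩ := RepSheaf.exists_glue (R.pullback (snd G pc.P ≫ pc.π))
    ((AlgSp.J S).pullback_stable _ hR)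
    (fun T' g' hg' => valAct pc (g' ≫ fst G pc.P) (g' ≫ snd G pc.P) _ (key g' hg') rfl) (by
      intro T' T'' g' h hg'
      have ht' : R (h ≫ ((g' ≫ snd G pc.P) ≫ pc.π)) := R.downward_closed (key g' hg') h
      have hgg : (h ≫ g' ≫ snd G pc.P) ≫ pc.π = h ≫ ((g' ≫ snd G pc.P) ≫ pc.π) := by
        simp only [Category.assoc]
      rw [← valAct_comp pc h (g' ≫ fst G pc.P) (g' ≫ snd G pc.P) _ (key g' hg') rfl ht' hgg]
      exact valAct_congr pc (Category.assoc _ _ _) (Category.assoc _ _ _)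
        (by simp only [Category.assoc]) _ _ _ _)
  refine ⟨a, fun T' g' hg' => ?_⟩
  have hmem : R.pullback (snd G pc.P ≫ pc.π) g' := by
    change R (g' ≫ snd G pc.P ≫ pc.π)
    rwa [← Category.assoc]
  exact ha g' hmem

/-- the glued action morphism -/
noncomputable def act₀ : G ⊗ pc.P ⟶ pc.P := (exists_act pc hR).choose

lemma act₀_spec {T' : Over S} (gg : T' ⟶ G) (g : T' ⟶ pc.P) (t : T' ⟶ U) (ht : R t)
    (hg : g ≫ pc.π = t) : lift gg g ≫ act₀ pc hR = valAct pc gg g t ht hg := by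
  have hm : R ((lift gg g ≫ snd G pc.P) ≫ pc.π) := by
    rw [lift_snd, hg]
    exact ht
  rw [act₀, (exists_act pc hR).choose_spec (lift gg g) hm]
  exact valAct_congr pc (lift_fst _ _) (lift_snd _ _) (by rw [lift_snd, hg]) _ _ _ _

lemma act₀_π_loc {T' : Over S} (gg : T' ⟶ G) (g : T' ⟶ pc.P) (t : T' ⟶ U) (ht : R t)
    (hg : g ≫ pc.π = t) : (lift gg g ≫ act₀ pc hR) ≫ pc.π = t := by
  rw [act₀_spec pc hR gg g t ht hg, valAct, Category.assoc, Category.assoc, (pc.cart t ht).w,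
    ← Category.assoc (Sg.B t ht).act.act, (Sg.B t ht).cart.w, Category.assoc, lift_snd_assoc,
    psec_π_assoc]

lemma act₀_π : act₀ pc hR ≫ pc.π = snd G pc.P ≫ pc.π := by
  apply ext_lift_local pc hR
  intro T' gg g t ht hg
  rw [← Category.assoc, act₀_π_loc pc hR gg g t ht hg, lift_snd_assoc, hg]

lemma psec_act₀ {T' : Over S} (gg : T' ⟶ G) (g : T' ⟶ pc.P) (t : T' ⟶ U) (ht : R t)
    (hg : g ≫ pc.π = t) (hg' : (lift gg g ≫ act₀ pc hR) ≫ pc.π = t) :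
    psec pc (lift gg g ≫ act₀ pc hR) t ht hg' =
      lift gg (psec pc g t ht hg) ≫ (Sg.B t ht).act.act := by
  symm
  apply psec_unique
  · rw [Category.assoc, act₀_spec pc hR gg g t ht hg, valAct]
  · rw [Category.assoc, (Sg.B t ht).cart.w, lift_snd_assoc, psec_π]

lemma one_loc {T' : Over S} (g : T' ⟶ pc.P) (t : T' ⟶ U) (ht : R t)
    (hg : g ≫ pc.π = t) : lift (1 : T' ⟶ G) g ≫ act₀ pc hR = g := by
  rw [act₀_spec pc hR 1 g t ht hg, valAct, AlgGrp.Action.lift_one_act_assoc, psec_ch]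

lemma mul_loc {T' : Over S} (g₁ g₂ : T' ⟶ G) (g : T' ⟶ pc.P) (t : T' ⟶ U) (ht : R t)
    (hg : g ≫ pc.π = t) :
    lift (g₁ * g₂) g ≫ act₀ pc hR = lift g₁ (lift g₂ g ≫ act₀ pc hR) ≫ act₀ pc hR := by
  have hg' := act₀_π_loc pc hR g₂ g t ht hg
  rw [act₀_spec pc hR (g₁ * g₂) g t ht hg, act₀_spec pc hR g₁ _ t ht hg', valAct, valAct,
    psec_act₀ pc hR g₂ g t ht hg hg', AlgGrp.Action.lift_mul_act_assoc]

/-- the glued action -/
noncomputable def actA : AlgGrp.Action G pc.P where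
  act := act₀ pc hR
  one_act := by
    apply ext_lift_local pc hR
    intro T' u g t ht hg
    have hu : u ≫ η[G] = 1 := by rw [Hom.one_def, toUnit_unique (toUnit T') u]
    rw [lift_whiskerRight_assoc, hu, one_loc pc hR g t ht hg, leftUnitor_hom, lift_snd]
  mul_act := by
    apply ext_lift_local pc hR
    intro T' q g t ht hg
    obtain ⟨g₁, g₂, rfl⟩ : ∃ g₁ g₂, q = lift g₁ g₂ := ⟨_, _, (lift_comp_fst_snd q).symm⟩
    rw [lift_whiskerRight_assoc, ← Hom.mul_def, mul_loc pc hR g₁ g₂ g t ht hg,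
      lift_lift_associator_hom_assoc, lift_whiskerLeft_assoc]

lemma eqvA : act₀ pc hR ≫ φ₀ pc hR = (G ◁ φ₀ pc hR) ≫ aX.act := by
  apply ext_lift_local pc hR
  intro T' gg g t ht hg
  have hg' := act₀_π_loc pc hR gg g t ht hg
  rw [← Category.assoc, φ₀_spec pc hR _ t ht hg', valφ, psec_act₀ pc hR gg g t ht hg hg',
    Category.assoc, (Sg.B t ht).eqv, lift_whiskerLeft_assoc, lift_whiskerLeft_assoc,
    φ₀_spec pc hR g t ht hg, valφ]

lemma uniq_loc {T' : Over S} (g g' : T' ⟶ G) (x : T' ⟶ pc.P) (t : T' ⟶ U) (ht : R t)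
    (hx : x ≫ pc.π = t) (h : lift g x ≫ act₀ pc hR = lift g' x ≫ act₀ pc hR) : g = g' := by
  rw [act₀_spec pc hR _ _ t ht hx, act₀_spec pc hR _ _ t ht hx, valAct, valAct,
    ← Category.assoc, ← Category.assoc] at h
  have h'' : lift g (psec pc x t ht hx) ≫ (Sg.B t ht).act.act =
      lift g' (psec pc x t ht hx) ≫ (Sg.B t ht).act.act := by
    apply (pc.cart t ht).hom_ext h
    rw [Category.assoc, Category.assoc, (Sg.B t ht).cart.w, lift_snd_assoc, lift_snd_assoc]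
  exact eq_of_isPullback (Sg.B t ht).act (Sg.B t ht).π (Sg.B t ht).cart _ _ _ h''

lemma uniqA {T : Over S} (g g' : T ⟶ G) (x : T ⟶ pc.P)
    (h : lift g x ≫ act₀ pc hR = lift g' x ≫ act₀ pc hR) : g = g' := by
  apply RepSheaf.eq_of_locally_eq' (R.pullback (x ≫ pc.π)) ((AlgSp.J S).pullback_stable _ hR)
  intro T' m hm
  have ht : R ((m ≫ x) ≫ pc.π) := by
    have : R (m ≫ x ≫ pc.π) := hm
    rwa [← Category.assoc] at this
  have h' : lift (m ≫ g) (m ≫ x) ≫ act₀ pc hR = lift (m ≫ g') (m ≫ x) ≫ act₀ pc hR := by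
    rw [← comp_lift_assoc, ← comp_lift_assoc, h]
  exact uniq_loc pc hR (m ≫ g) (m ≫ g') (m ≫ x) _ ht rfl h'

lemma exists_div_loc {T' : Over S} (x' x : T' ⟶ pc.P) (t : T' ⟶ U) (ht : R t)
    (hx' : x' ≫ pc.π = t) (hx : x ≫ pc.π = t) : ∃ g : T' ⟶ G, lift g x ≫ act₀ pc hR = x' := by
  obtain ⟨g, hg⟩ := exists_of_isPullback (Sg.B t ht).act (Sg.B t ht).π (Sg.B t ht).cart
    (psec pc x' t ht hx') (psec pc x t ht hx) (by rw [psec_π, psec_π])
  refine ⟨g, ?_⟩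
  rw [act₀_spec pc hR g x t ht hx, valAct, ← Category.assoc, hg, psec_ch]

lemma exists_div {T : Over S} (x' x : T ⟶ pc.P) (hx : x' ≫ pc.π = x ≫ pc.π) :
    ∃ g : T ⟶ G, lift g x ≫ act₀ pc hR = x' := by
  have key : ∀ ⦃T' : Over S⦄ (m : T' ⟶ T), R.pullback (x ≫ pc.π) m →
      ∃ g : T' ⟶ G, lift g (m ≫ x) ≫ act₀ pc hR = m ≫ x' := by
    intro T' m hm
    have ht : R ((m ≫ x) ≫ pc.π) := by
      have : R (m ≫ x ≫ pc.π) := hm
      rwa [← Category.assoc] at this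
    exact exists_div_loc pc hR (m ≫ x') (m ≫ x) _ ht (by rw [Category.assoc, hx, Category.assoc])
      rfl
  obtain ⟨g, hg⟩ := RepSheaf.exists_glue (R.pullback (x ≫ pc.π))
    ((AlgSp.J S).pullback_stable _ hR) (fun T' m hm => (key m hm).choose) (by
      intro T' T'' m h hm
      apply uniqA pc hR _ _ ((h ≫ m) ≫ x)
      rw [(key (h ≫ m) ((R.pullback (x ≫ pc.π)).downward_closed hm h)).choose_spec]
      have e : lift (h ≫ (key m hm).choose) ((h ≫ m) ≫ x) =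
          h ≫ lift (key m hm).choose (m ≫ x) := by
        rw [comp_lift, Category.assoc]
      rw [e]
      simp only [Category.assoc]
      rw [(key m hm).choose_spec])
  refine ⟨g, ?_⟩
  apply RepSheaf.eq_of_locally_eq' (R.pullback (x ≫ pc.π)) ((AlgSp.J S).pullback_stable _ hR)
  intro T' m hm
  rw [← Category.assoc, comp_lift, hg m hm, (key m hm).choose_spec]

lemma cartA : IsPullback (act₀ pc hR) (snd G pc.P) pc.π pc.π := by
  refine isPullback_of_points (actA pc hR) pc.π ?_ ?_ ?_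
  · intro T g x
    change (lift g x ≫ act₀ pc hR) ≫ pc.π = _
    rw [Category.assoc, act₀_π, lift_snd_assoc]
  · intro T x' x hx
    exact exists_div pc hR x' x hx
  · intro T g g' x h
    exact uniqA pc hR g g' x h

lemma ch_eqv {T : Over S} (t : T ⟶ U) (ht : R t) :
    (Sg.B t ht).act.act ≫ pc.ch t ht = (G ◁ pc.ch t ht) ≫ act₀ pc hR := by
  apply AlgGrp.Action.hom_ext_lift₂
  intro T' gg p
  have ht₂ : R ((p ≫ (Sg.B t ht).π) ≫ t) := R.downward_closed ht _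
  have hg : (p ≫ pc.ch t ht) ≫ pc.π = (p ≫ (Sg.B t ht).π) ≫ t := by
    rw [Category.assoc, (pc.cart t ht).w, ← Category.assoc]
  have e1 := act_ch_ρ pc (p ≫ (Sg.B t ht).π) t _ ht ht₂ rfl
  rw [lift_whiskerLeft_assoc, act₀_spec pc hR gg (p ≫ pc.ch t ht) _ ht₂ hg, valAct, e1,
    lift_whiskerLeft_assoc, psec_ρ pc t ht (p ≫ pc.ch t ht) p rfl (p ≫ (Sg.B t ht).π) rfl _ ht₂ rfl
      hg]

lemma ch_φ {T : Over S} (t : T ⟶ U) (ht : R t) : pc.ch t ht ≫ φ₀ pc hR = (Sg.B t ht).φ := by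
  have ht₂ : R ((Sg.B t ht).π ≫ t) := R.downward_closed ht _
  have hg : pc.ch t ht ≫ pc.π = (Sg.B t ht).π ≫ t := (pc.cart t ht).w
  rw [φ₀_spec pc hR _ _ ht₂ hg, valφ, ← (Sg.ρ (Sg.B t ht).π t _ ht ht₂ rfl).wφ, ← Category.assoc,
    psec_ρ pc t ht (pc.ch t ht) (𝟙 _) (Category.id_comp _).symm (Sg.B t ht).π (Category.id_comp _)
      _ ht₂ rfl hg, Category.id_comp]

/-- the cone vertex -/
noncomputable def coneObj (hloc : NonAbH1.IsLocallyTrivialFor K (Over.mk pc.π.left : Over U.left)) :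
    TorsObj K G aX U where
  P := pc.P
  act := actA pc hR
  π := pc.π
  cart := cartA pc hR
  loc := hloc
  φ := φ₀ pc hR
  eqv := eqvA pc hR

/-- the cone -/
noncomputable def coneData
    (hloc : NonAbH1.IsLocallyTrivialFor K (Over.mk pc.π.left : Over U.left)) : ConeData Sg where
  A := coneObj pc hR hloc
  m T t ht :=
    { top := pc.ch t ht
      eqv := ch_eqv pc hR t ht
      cart := pc.cart t ht
      wφ := ch_φ pc hR t ht }
  nat T' T h t t' ht ht' w := pc.nat h t t' ht ht' w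

end Glue

end Groth.Agent.Lib.Helper5.QuotStGlueObj
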