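import Mathlib
import Groth.Agent.Lib.Helper5.QuotStGlueObj
import Groth.Agent.Lib.Helper5.QuotStGlueHom
import Groth.Agent.Lib.Helper5.QuotFlat
import Groth.Agent.Lib.Helper5.OpenLocal
import Groth.Agent.Lib.Helper62.StkRefine

/-!
# `[X/G]` is an fppf stack for affine `G` (helper5)
-/

set_option autoImplicit false
set_option linter.style.haveILetI false
universe u

open CategoryTheory CategoryTheory.Limits MonoidalCategory CartesianMonoidalCategory MonObj
  AlgebraicGeometry AlgSt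

namespace Groth.Agent.Lib.Helper5.QuotStStack

open Groth.Agent.Lib.Helper5.QuotStStrict Groth.Agent.Lib.Helper5.QuotStDD
  Groth.Agent.Lib.Helper5.QuotStGlueObj Groth.Agent.Lib.Helper5.QuotStGlueHom
  Groth.Agent.Lib.Helper62.StkCone

/-- local triviality can be checked on a covering family -/
lemma isLocallyTrivialFor_of_cover (K : Precoverage Scheme.{u}) [K.IsStableUnderComposition]
    {Y : Scheme.{u}} (V : Over Y) {κ : Type u} {T : κ → Scheme.{u}} (c : ∀ j, T j ⟶ Y)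
    (hc : Presieve.ofArrows T c ∈ K Y) (P : κ → Scheme.{u}) (π : ∀ j, P j ⟶ T j)
    (ch : ∀ j, P j ⟶ V.left) (w : ∀ j, ch j ≫ V.hom = π j ≫ c j)
    (hloc : ∀ j, NonAbH1.IsLocallyTrivialFor K (Over.mk (π j))) :
    NonAbH1.IsLocallyTrivialFor K V := by
  choose Rj hRj hsj using hloc
  have hex := fun j => (Rj j).exists_eq_ofArrows
  choose I W g hg using hex
  have hcov : ∀ j, Presieve.ofArrows (W j) (g j) ∈ K (T j) := fun j => by
    rw [← hg j]
    exact hRj j
  refine ⟨_, Precoverage.comp_mem_coverings c hc g hcov, ?_⟩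
  rintro S' f' ⟨p⟩
  obtain ⟨s, hs⟩ := hsj p.1 (g p.1 p.2) (by rw [hg p.1]; exact Presieve.ofArrows.mk p.2)
  refine ⟨s ≫ ch p.1, ?_⟩
  have hs' : s ≫ π p.1 = g p.1 p.2 := hs
  rw [Category.assoc, w, ← Category.assoc, hs']

variable {S : Scheme.{u}} {G : Over S} [GrpObj G] {X : Over S} {aX : AlgGrp.Action G X}
  {U : Over S}

section family

variable {κ : Type u} {Tj : κ → Over S} (f : ∀ j, Tj j ⟶ U)
  (hfl : ∀ i, Flat (f i).left) (hfp : ∀ i, LocallyOfFinitePresentation (f i).left)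
  (hsurj : ∀ z : ↥U.left, ∃ i, z ∈ Set.range (f i).left)

include hfl hfp hsurj in
lemma mem_fppf : Presieve.ofArrows (fun j => (Tj j).left) (fun j => (f j).left) ∈
    Scheme.fppfPrecoverage U.left :=
  (Scheme.ofArrows_mem_precoverage_iff (P := @Flat ⊓ @LocallyOfFinitePresentation)).2
    ⟨hsurj, fun i => ⟨hfl i, hfp i⟩⟩

include hfl hfp hsurj in
theorem nonempty_coneData [IsAffineHom G.hom]
    (Sf : Sys Scheme.fppfPrecoverage G aX (Sieve.ofArrows Tj f)) : Nonempty (ConeData Sf) := by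
  have hK := mem_fppf f hfl hfp hsurj
  have hRJ : Sieve.ofArrows Tj f ∈ AlgSp.J S U :=
    Groth.Agent.Lib.Helper5.OpenLocal.ofArrows_mem_J_fppf Tj f hfl hfp hsurj
  obtain ⟨gb⟩ := exists_glueBase f Sf (Scheme.fppfPrecoverage_le_fpqcPrecoverage _ hK)
  have hloc : NonAbH1.IsLocallyTrivialFor Scheme.fppfPrecoverage
      (Over.mk gb.toPreCone.π.left : Over U.left) :=
    isLocallyTrivialFor_of_cover Scheme.fppfPrecoverage (Over.mk gb.π.left : Over U.left)
      (fun j => (f j).left) hK (fun j => (Bj f Sf j).P.left) (fun j => (Bj f Sf j).π.left)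
      (fun j => (gb.ch j).left) (fun j => congrArg CommaMorphism.left (gb.cart j).w)
      (fun j => (Bj f Sf j).loc)
  exact ⟨coneData gb.toPreCone hRJ hloc⟩

include hfl hfp hsurj in
theorem isStackFor_family [IsAffineHom G.hom] :
    Stk.IsStackFor (Sieve.ofArrows Tj f) (QuotSt Scheme.fppfPrecoverage G aX) := by
  have h𝒳 := Groth.Agent.Lib.Helper5.QuotStFib.isFibGrpd Scheme.fppfPrecoverage G aX
  have hRJ : Sieve.ofArrows Tj f ∈ AlgSp.J S U :=
    Groth.Agent.Lib.Helper5.OpenLocal.ofArrows_mem_J_fppf Tj f hfl hfp hsurj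
  rw [isStackFor_iff_cones h𝒳]
  refine ⟨fun D => ?_, fun D c c' => ?_⟩
  · obtain ⟨d⟩ := nonempty_coneData f hfl hfp hsurj (sysOf D)
    exact ⟨coneOfData D d⟩
  · exact existsUnique_hom_of_data D c c'
      (existsUnique_glueHom hRJ (coneDataOf D c) (coneDataOf D c'))

end family

theorem isPrestackFor_of_mem (K : Precoverage Scheme.{u}) [K.IsStableUnderBaseChange]
    (R' : Sieve U) (hR' : R' ∈ AlgSp.J S U) : Stk.IsPrestackFor R' (QuotSt K G aX) := by
  have h𝒳 := Groth.Agent.Lib.Helper5.QuotStFib.isFibGrpd K G aX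
  have H : ∀ (D : Stk.sieveCat R' ⥤ᵇ QuotSt K G aX) (c c' : Cone D),
      ∃! φ : c.pt ⟶ c'.pt, (QuotSt K G aX).p.IsHomLift (𝟙 U) φ ∧ ∀ a, c.π a ≫ φ = c'.π a :=
    fun D c c' => existsUnique_hom_of_data D c c'
      (existsUnique_glueHom hR' (coneDataOf D c) (coneDataOf D c'))
  refine ⟨full_of_cones h𝒳 (fun D c c' => (H D c c').exists),
    faithful_of_cones h𝒳 (fun D c c' φ₁ φ₂ h₁ h₂ e₁ e₂ => (H D c c').unique ⟨h₁, e₁⟩ ⟨h₂, e₂⟩)⟩

theorem isStackFor_of_mem [IsAffineHom G.hom] (R : Sieve U) (hR : R ∈ AlgSp.J S U) :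
    Stk.IsStackFor R (QuotSt Scheme.fppfPrecoverage G aX) := by
  have h𝒳 := Groth.Agent.Lib.Helper5.QuotStFib.isFibGrpd Scheme.fppfPrecoverage G aX
  obtain ⟨κ, Tj, f, hfR, hfl, hfp, hsurj⟩ :=
    Groth.Agent.Lib.Helper5.QuotFlat.exists_fppf_family_of_mem_J R hR
  have hle : Sieve.ofArrows Tj f ≤ R := by
    rw [Sieve.ofArrows, Sieve.generate_le_iff]
    rintro _ _ ⟨j⟩
    exact hfR j
  have hRJ : Sieve.ofArrows Tj f ∈ AlgSp.J S U :=
    Groth.Agent.Lib.Helper5.OpenLocal.ofArrows_mem_J_fppf Tj f hfl hfp hsurj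
  exact Groth.Agent.Lib.Helper62.StkRefine.isStackFor_of_le h𝒳 hle
    (isStackFor_family f hfl hfp hsurj)
    (fun V g _ => isPrestackFor_of_mem Scheme.fppfPrecoverage _
      ((AlgSp.J S).pullback_stable g hRJ))

/-- **`[X/G]` is a stack in groupoids for the fppf topology** when `G ⟶ S` is affine. -/
theorem isStack [IsAffineHom G.hom] :
    Stk.IsStack (QuotSh.J Scheme.fppfPrecoverage S) (QuotSt Scheme.fppfPrecoverage G aX) :=
  ⟨Groth.Agent.Lib.Helper5.QuotStFib.isFibGrpd Scheme.fppfPrecoverage G aX,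
    fun _ R hR => isStackFor_of_mem R hR⟩

end Groth.Agent.Lib.Helper5.QuotStStack
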