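import Mathlib
import Groth.Agent.Lib.Helper5.BalLoc
import Groth.Agent.Lib.Helper5.BalPts
import Groth.Agent.Lib.Helper5.QuotFlat
import Groth.Agent.Lib.Helper5.QuotStStack

/-!
# The restriction functor `[Y/G] ⟶ [Z/H]` for a balanced product `Y = G ×^H Z` (helper5)
-/

set_option autoImplicit false
set_option linter.style.haveILetI false
universe u

open CategoryTheory CategoryTheory.Limits MonoidalCategory CartesianMonoidalCategory MonObj GrpObj
  AlgebraicGeometry AlgSt

namespace Groth.Agent.Lib.Helper5.BalFun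

open Groth.Agent.Lib.Helper93.TorsorPts Groth.Agent.Lib.Helper5.BalPts Groth.Agent.Lib.Helper5.BalLoc

variable {S : Scheme.{u}}

theorem locTriv_of_locLift {A B : Over S} (f : A ⟶ B) (hf : LocLift f) :
    NonAbH1.IsLocallyTrivialFor Scheme.fppfPrecoverage (Over.mk f.left : Over B.left) := by
  obtain ⟨R, hR, hl⟩ := hf B (𝟙 B)
  obtain ⟨κ, Tj, c, hcR, hfl, hfp, hsurj⟩ :=
    Groth.Agent.Lib.Helper5.QuotFlat.exists_fppf_family_of_mem_J R hR
  refine ⟨_, Groth.Agent.Lib.Helper5.QuotStStack.mem_fppf c hfl hfp hsurj, ?_⟩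
  rintro S' f' ⟨k⟩
  obtain ⟨x, hx⟩ := hl (c k) (hcR k)
  refine ⟨x.left, ?_⟩
  have := congrArg (fun m => m.left) hx
  simpa using this

theorem locLift_of_comp {A B C : Over S} (f : A ⟶ B) (g : B ⟶ C) (h : LocLift (f ≫ g)) :
    LocLift g := by
  intro T y
  obtain ⟨R, hR, hl⟩ := h T y
  refine ⟨R, hR, ?_⟩
  intro T' c hc
  obtain ⟨x, hx⟩ := hl c hc
  exact ⟨x ≫ f, by rw [Category.assoc, hx]⟩

variable {G H Z Y : Over S} [GrpObj G] [GrpObj H]
  {i : H ⟶ G} [IsMonHom i] {aZ : AlgGrp.Action H Z} {aY : AlgGrp.Action G Y} (j : G ⊗ Z ⟶ Y)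
  (hY : ChGrp.IsBalProd Scheme.fppfPrecoverage i aZ aY j)

section Obj

variable (E : QuotObj Scheme.fppfPrecoverage G aY)

/-- the total space of the restricted torsor: `P ×_Y Z` -/
noncomputable abbrev rP : Over S := Limits.pullback E.φ (iota j)

noncomputable abbrev r1 : rP j E ⟶ E.P := pullback.fst E.φ (iota j)

noncomputable abbrev r2 : rP j E ⟶ Z := pullback.snd E.φ (iota j)

include hY in
lemma rAct_cond : ((H ◁ r1 j E) ≫ (E.act.restrict i).act) ≫ E.φ =
    ((H ◁ r2 j E) ≫ aZ.act) ≫ iota j := by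
  apply AlgGrp.Action.hom_ext_lift₂
  intro T h p'
  simp only [Category.assoc]
  rw [lift_whiskerLeft_assoc, AlgGrp.Action.lift_restrict_act_assoc, E.eqv,
    lift_whiskerLeft_assoc, lift_whiskerLeft_assoc, ← Category.assoc _ aZ.act,
    iota_act hY, Category.assoc, Category.assoc, pullback.condition]

noncomputable def rAct : H ⊗ rP j E ⟶ rP j E :=
  pullback.lift ((H ◁ r1 j E) ≫ (E.act.restrict i).act) ((H ◁ r2 j E) ≫ aZ.act) (rAct_cond j hY E)

@[reassoc] lemma rAct_r1 : rAct j hY E ≫ r1 j E = (H ◁ r1 j E) ≫ (E.act.restrict i).act :=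
  pullback.lift_fst _ _ _

@[reassoc] lemma rAct_r2 : rAct j hY E ≫ r2 j E = (H ◁ r2 j E) ≫ aZ.act :=
  pullback.lift_snd _ _ _

noncomputable def rAction : AlgGrp.Action H (rP j E) where
  act := rAct j hY E
  one_act := by
    apply pullback.hom_ext
    · rw [Category.assoc, rAct_r1, ← whisker_exchange_assoc, (E.act.restrict i).one_act,
        leftUnitor_hom, leftUnitor_hom, whiskerLeft_snd]
    · rw [Category.assoc, rAct_r2, ← whisker_exchange_assoc, aZ.one_act, leftUnitor_hom,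
        leftUnitor_hom, whiskerLeft_snd]
  mul_act := by
    apply pullback.hom_ext
    · simp only [Category.assoc, rAct_r1]
      rw [← whisker_exchange_assoc, (E.act.restrict i).mul_act,
        ← MonoidalCategory.whiskerLeft_comp_assoc, rAct_r1,
        MonoidalCategory.whiskerLeft_comp_assoc, associator_naturality_right_assoc]
    · simp only [Category.assoc, rAct_r2]
      rw [← whisker_exchange_assoc, aZ.mul_act, ← MonoidalCategory.whiskerLeft_comp_assoc, rAct_r2,
        MonoidalCategory.whiskerLeft_comp_assoc, associator_naturality_right_assoc]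

@[reassoc] lemma lift_rAct_r1 {T : Over S} (h : T ⟶ H) (p' : T ⟶ rP j E) :
    lift h p' ≫ rAct j hY E ≫ r1 j E = lift (h ≫ i) (p' ≫ r1 j E) ≫ E.act.act := by
  rw [rAct_r1, lift_whiskerLeft_assoc, AlgGrp.Action.lift_restrict_act]

@[reassoc] lemma lift_rAct_r2 {T : Over S} (h : T ⟶ H) (p' : T ⟶ rP j E) :
    lift h p' ≫ rAct j hY E ≫ r2 j E = lift h (p' ≫ r2 j E) ≫ aZ.act := by
  rw [rAct_r2, lift_whiskerLeft_assoc]

lemma isPullback_rAct [Mono i] :
    IsPullback (rAct j hY E) (snd H (rP j E)) (r1 j E ≫ E.π) (r1 j E ≫ E.π) := by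
  refine isPullback_of_points (rAction j hY E) (r1 j E ≫ E.π) ?_ ?_ ?_
  · intro T h x
    change (lift h x ≫ rAct j hY E) ≫ _ = _
    rw [Category.assoc, lift_rAct_r1_assoc, E.cart.w, lift_snd_assoc, Category.assoc]
  · intro T x' x hx
    obtain ⟨g, hg⟩ := exists_of_isPullback E.act E.π E.cart (x' ≫ r1 j E) (x ≫ r1 j E)
      (by rw [Category.assoc, Category.assoc, hx])
    have e1 : (x ≫ r2 j E) ≫ iota j = (x ≫ r1 j E) ≫ E.φ := by
      rw [Category.assoc, Category.assoc, pullback.condition]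
    have e2 : (x' ≫ r2 j E) ≫ iota j = (x' ≫ r1 j E) ≫ E.φ := by
      rw [Category.assoc, Category.assoc, pullback.condition]
    have h1 : lift g ((x ≫ r2 j E) ≫ iota j) ≫ aY.act = (x' ≫ r2 j E) ≫ iota j := by
      rw [e1, e2, ← hg, Category.assoc _ E.act.act, E.eqv, lift_whiskerLeft_assoc]
    obtain ⟨k, hk1, hk2⟩ := exists_of_act_iota hY g _ _ h1
    refine ⟨k, ?_⟩
    change lift k x ≫ rAct j hY E = x'
    apply pullback.hom_ext
    · rw [Category.assoc, lift_rAct_r1, ← hk1, hg]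
    · rw [Category.assoc, lift_rAct_r2, ← hk2]
  · intro T h h' x hh
    change lift h x ≫ rAct j hY E = lift h' x ≫ rAct j hY E at hh
    have h1 := congrArg (fun m => m ≫ r1 j E) hh
    simp only [Category.assoc, lift_rAct_r1] at h1
    have h2 := eq_of_isPullback E.act E.π E.cart _ _ _ h1
    exact (cancel_mono i).1 h2

/-- `(g, p') ↦ g • r1(p')` -/
noncomputable def mE : G ⊗ rP j E ⟶ E.P := (G ◁ r1 j E) ≫ E.act.act

@[reassoc] lemma lift_mE {T : Over S} (g : T ⟶ G) (p' : T ⟶ rP j E) :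
    lift g p' ≫ mE j E = lift g (p' ≫ r1 j E) ≫ E.act.act := by
  unfold mE
  rw [lift_whiskerLeft_assoc]

lemma mE_π : mE j E ≫ E.π = snd G (rP j E) ≫ r1 j E ≫ E.π := by
  unfold mE
  rw [Category.assoc, E.cart.w, whiskerLeft_snd_assoc]

include hY in
lemma pt_cond {T : Over S} (p : T ⟶ E.P) (g : T ⟶ G) (z : T ⟶ Z) (h : lift g z ≫ j = p ≫ E.φ) :
    (lift g⁻¹ p ≫ E.act.act) ≫ E.φ = z ≫ iota j := by
  rw [Category.assoc, E.eqv, lift_whiskerLeft_assoc, ← h, ← j_mul hY, inv_mul_cancel, comp_iota]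

include hY in
lemma locLift_mE : LocLift (mE j E) := by
  have hj : LocLift j := locLift_of_locTriv j hY.2.2
  intro T p
  obtain ⟨R, hR, hl⟩ := hj T (p ≫ E.φ)
  refine ⟨R, hR, ?_⟩
  intro T' c hc
  obtain ⟨w, hw⟩ := hl c hc
  have hw' : lift (w ≫ fst G Z) (w ≫ snd G Z) ≫ j = (c ≫ p) ≫ E.φ := by
    rw [← comp_lift, lift_fst_snd, Category.comp_id, hw, Category.assoc]
  refine ⟨lift (w ≫ fst G Z) (pullback.lift _ _ (pt_cond j hY E (c ≫ p) _ _ hw')), ?_⟩
  rw [lift_mE, pullback.lift_fst, ← AlgGrp.Action.lift_mul_act, mul_inv_cancel,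
    AlgGrp.Action.lift_one_act]

include hY in
lemma locLift_rπ : LocLift (r1 j E ≫ E.π) := by
  have h1 : LocLift (mE j E ≫ E.π) :=
    locLift_comp (locLift_mE j hY E) (locLift_of_locTriv E.π E.loc)
  rw [mE_π] at h1
  exact locLift_of_comp _ _ h1

/-- the restricted object of `[Z/H]` -/
@[reducible] noncomputable def rObj [Mono i] : QuotObj Scheme.fppfPrecoverage H aZ where
  base := E.base
  P := rP j E
  act := rAction j hY E
  π := r1 j E ≫ E.π
  cart := isPullback_rAct j hY E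
  loc := locTriv_of_locLift _ (locLift_rπ j hY E)
  φ := r2 j E
  eqv := rAct_r2 j hY E

end Obj

section Map

variable [Mono i] {E₁ E₂ : QuotObj Scheme.fppfPrecoverage G aY} (m : E₁ ⟶ E₂)

noncomputable def rTop : rP j E₁ ⟶ rP j E₂ :=
  pullback.lift (r1 j E₁ ≫ m.top) (r2 j E₁) (by rw [Category.assoc, m.wφ, pullback.condition])

@[reassoc] lemma rTop_r1 : rTop j m ≫ r1 j E₂ = r1 j E₁ ≫ m.top := pullback.lift_fst _ _ _

@[reassoc] lemma rTop_r2 : rTop j m ≫ r2 j E₂ = r2 j E₁ := pullback.lift_snd _ _ _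

lemma isPullback_rTop : IsPullback (rTop j m) (r1 j E₁) (r1 j E₂) m.top := by
  have h1 : IsPullback (r2 j E₁) (r1 j E₁) (iota j) E₁.φ :=
    (IsPullback.of_hasPullback E₁.φ (iota j)).flip
  have h2 : IsPullback (r2 j E₂) (r1 j E₂) (iota j) E₂.φ :=
    (IsPullback.of_hasPullback E₂.φ (iota j)).flip
  refine IsPullback.of_right ?_ (rTop_r1 j m) h2
  rw [rTop_r2, m.wφ]
  exact h1

noncomputable def rMap : rObj j hY E₁ ⟶ rObj j hY E₂ where
  base := m.base
  top := rTop j m
  eqv := by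
    change rAct j hY E₁ ≫ rTop j m = (H ◁ rTop j m) ≫ rAct j hY E₂
    apply AlgGrp.Action.hom_ext_lift₂
    intro T h p'
    apply pullback.hom_ext
    · simp only [Category.assoc]
      rw [rTop_r1, lift_rAct_r1_assoc, lift_whiskerLeft_assoc, lift_rAct_r1, m.eqv,
        lift_whiskerLeft_assoc]
      simp only [Category.assoc, rTop_r1]
    · simp only [Category.assoc]
      rw [rTop_r2, lift_rAct_r2, lift_whiskerLeft_assoc, lift_rAct_r2]
      simp only [Category.assoc, rTop_r2]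
  cart := (isPullback_rTop j m).paste_vert m.cart
  wφ := rTop_r2 j m

end Map

/-- the restriction functor `[Y/G] ⟶ [Z/H]` -/
noncomputable def rFun [Mono i] :
    QuotSt Scheme.fppfPrecoverage G aY ⥤ᵇ QuotSt Scheme.fppfPrecoverage H aZ where
  toFunctor :=
    { obj := fun E => rObj j hY E
      map := fun m => rMap j hY m
      map_id := fun E => by
        refine QuotObj.hom_ext ?_ ?_
        · rfl
        change rTop j (𝟙 E) = 𝟙 _
        apply pullback.hom_ext
        · rw [rTop_r1, Category.id_comp]; exact Category.comp_id _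
        · rw [rTop_r2, Category.id_comp]
      map_comp := fun m n => by
        refine QuotObj.hom_ext ?_ ?_
        · rfl
        change rTop j (m ≫ n) = rTop j m ≫ rTop j n
        apply pullback.hom_ext
        · rw [rTop_r1, Category.assoc, rTop_r1, rTop_r1_assoc]; rfl
        · rw [rTop_r2, Category.assoc, rTop_r2, rTop_r2] }
  w := rfl

end Groth.Agent.Lib.Helper5.BalFun
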