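import Mathlib
import Groth.Agent.Lib.Helper5.BalFun
import Groth.Prelude.Def_W4bk4git07Quot

/-!
# Categorical quotients of a balanced product (helper5)
-/

set_option autoImplicit false
set_option linter.style.haveILetI false
universe u

open CategoryTheory CategoryTheory.Limits MonoidalCategory CartesianMonoidalCategory MonObj GrpObj
  AlgebraicGeometry AlgSt

namespace Groth.Agent.Lib.Helper5.BalCat

open Groth.Agent.Lib.Helper93.TorsorPts Groth.Agent.Lib.Helper5.BalPts Groth.Agent.Lib.Helper5.BalLoc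
  Groth.Agent.Lib.Helper5.BalFun

variable {S : Scheme.{u}} {G H Z Y P Q : Over S} [GrpObj G] [GrpObj H]
  {i : H ⟶ G} [IsMonHom i] {aZ : AlgGrp.Action H Z} {aY : AlgGrp.Action G Y} {j : G ⊗ Z ⟶ Y}
  (hY : ChGrp.IsBalProd Scheme.fppfPrecoverage i aZ aY j)

include hY in
theorem catQuot_iso (πZ : Z ⟶ P) (hP : GIT.IsCatQuot aZ πZ) (πY : Y ⟶ Q)
    (hQ : GIT.IsCatQuot aY πY) :
    ∃ (φ : P ⟶ Q) (χ : Q ⟶ P), φ ≫ χ = 𝟙 P ∧ χ ≫ φ = 𝟙 Q ∧
      πZ ≫ φ = lift (toUnit Z ≫ η[G]) (𝟙 Z) ≫ j ≫ πY ∧ j ≫ πY ≫ χ = snd G Z ≫ πZ := by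
  have hjl : LocLift j := locLift_of_locTriv j hY.2.2
  have hinvY : ∀ {T : Over S} (g : T ⟶ G) (y : T ⟶ Y), (lift g y ≫ aY.act) ≫ πY = y ≫ πY := by
    intro T g y
    have := hQ.1
    unfold GIT.IsInvariant at this
    rw [Category.assoc, this, lift_snd_assoc]
  have hinvZ : ∀ {T : Over S} (h : T ⟶ H) (z : T ⟶ Z), (lift h z ≫ aZ.act) ≫ πZ = z ≫ πZ := by
    intro T h z
    have := hP.1
    unfold GIT.IsInvariant at this
    rw [Category.assoc, this, lift_snd_assoc]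
  -- (a)
  have ha : GIT.IsInvariant aZ (iota j ≫ πY) := by
    unfold GIT.IsInvariant
    apply AlgGrp.Action.hom_ext_lift₂
    intro T h z
    rw [← Category.assoc, ← Category.assoc, iota_act hY, hinvY, lift_snd_assoc, Category.assoc]
  obtain ⟨φ, hφ, -⟩ := hP.2 Q (iota j ≫ πY) ha
  -- (b)
  obtain ⟨ybar, hyb⟩ := exists_desc_of_locLift j hjl (snd G Z ≫ πZ) (by
    intro T a₁ a₂ h
    have e₁ : a₁ = lift (a₁ ≫ fst _ _) (a₁ ≫ snd _ _) := by
      rw [← comp_lift, lift_fst_snd, Category.comp_id]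
    have e₂ : a₂ = lift (a₂ ≫ fst _ _) (a₂ ≫ snd _ _) := by
      rw [← comp_lift, lift_fst_snd, Category.comp_id]
    generalize a₁ ≫ fst _ _ = g₁ at e₁
    generalize a₁ ≫ snd _ _ = z₁ at e₁
    generalize a₂ ≫ fst _ _ = g₂ at e₂
    generalize a₂ ≫ snd _ _ = z₂ at e₂
    subst e₁ e₂
    obtain ⟨k, -, hk⟩ := j_exists hY g₁ g₂ z₁ z₂ h
    rw [lift_snd_assoc, lift_snd_assoc, hk, hinvZ])
  -- (c)
  have hc : GIT.IsInvariant aY ybar := by
    unfold GIT.IsInvariant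
    have hl : LocLift (G ◁ j) :=
      locLift_of_isPullback (AlgSt.isPullback_whiskerLeft j).flip hjl
    apply hom_ext_of_locLift _ hl
    have h1 := hY.1
    unfold AlgGrp.Action.IsEquivariant at h1
    rw [← Category.assoc, ← h1, Category.assoc, hyb, whiskerLeft_snd_assoc, hyb]
    apply AlgGrp.Action.hom_ext_lift₂
    intro T g' w
    have e : w = lift (w ≫ fst _ _) (w ≫ snd _ _) := by
      rw [← comp_lift, lift_fst_snd, Category.comp_id]
    generalize w ≫ fst _ _ = g at e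
    generalize w ≫ snd _ _ = z at e
    subst e
    rw [AlgGrp.Action.lift_prod_act_assoc, AlgGrp.Action.lift_trivial_act, lift_snd_assoc,
      lift_snd_assoc, lift_snd_assoc]
  obtain ⟨χ, hχ, -⟩ := hQ.2 P ybar hc
  have hiy : iota j ≫ ybar = πZ := by
    unfold iota
    rw [Category.assoc, hyb, lift_snd_assoc, Category.id_comp]
  have hjπ : j ≫ πY = snd G Z ≫ iota j ≫ πY := by
    apply AlgGrp.Action.hom_ext_lift₂
    intro T g z
    rw [← Category.assoc, ← act_iota hY, hinvY, lift_snd_assoc, Category.assoc]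
  refine ⟨φ, χ, ?_, ?_, ?_, ?_⟩
  · -- (d)
    obtain ⟨u, -, hu⟩ := hP.2 P πZ hP.1
    rw [hu (φ ≫ χ) (by
      show πZ ≫ φ ≫ χ = πZ
      rw [← Category.assoc, hφ, Category.assoc, hχ, hiy]),
      hu (𝟙 P) (Category.comp_id _)]
  · -- (e)
    obtain ⟨u, -, hu⟩ := hQ.2 Q πY hQ.1
    rw [hu (χ ≫ φ) (by
      show πY ≫ χ ≫ φ = πY
      rw [← Category.assoc, hχ]
      apply hom_ext_of_locLift j hjl
      rw [← Category.assoc, hyb, Category.assoc, hφ, hjπ]),
      hu (𝟙 Q) (Category.comp_id _)]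
  · rw [hφ]
    unfold iota
    rw [Category.assoc]
  · rw [hχ, hyb]

end Groth.Agent.Lib.Helper5.BalCat
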