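import Mathlib
import Groth.Agent.Lib.Helper5.BalFun

/-!
# The restriction functor `[Y/G] ⟶ [Z/H]` is fully faithful (helper5)
-/

set_option autoImplicit false
set_option linter.style.haveILetI false
universe u

open CategoryTheory CategoryTheory.Limits MonoidalCategory CartesianMonoidalCategory MonObj GrpObj
  AlgebraicGeometry AlgSt

namespace Groth.Agent.Lib.Helper5.BalFF

open Groth.Agent.Lib.Helper93.TorsorPts Groth.Agent.Lib.Helper5.BalPts Groth.Agent.Lib.Helper5.BalLoc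
  Groth.Agent.Lib.Helper5.BalFun Groth.Agent.Lib.Helper5.RepSheaf

variable {S : Scheme.{u}}

/-- an equivariant map of torsors over a map of bases is cartesian -/
theorem isPullback_of_equivariant' {G P₁ P₂ T₁ T₂ : Over S} [GrpObj G] (a₁ : AlgGrp.Action G P₁)
    (a₂ : AlgGrp.Action G P₂) (π₁ : P₁ ⟶ T₁) (π₂ : P₂ ⟶ T₂)
    (c₁ : IsPullback a₁.act (snd G P₁) π₁ π₁) (c₂ : IsPullback a₂.act (snd G P₂) π₂ π₂)
    (hl : LocLift π₁) (τ : P₁ ⟶ P₂) (b : T₁ ⟶ T₂) (hτ : a₁.act ≫ τ = (G ◁ τ) ≫ a₂.act)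
    (hb : τ ≫ π₂ = π₁ ≫ b) : IsPullback τ π₁ π₂ b := by
  apply isPullback_of_existsUnique _ _ _ _ hb
  intro T y x hyx
  have huniq : ∀ (T' : Over S) (y' : T' ⟶ P₂) (t t' : T' ⟶ P₁), t ≫ τ = y' → t' ≫ τ = y' →
      t ≫ π₁ = t' ≫ π₁ → t = t' := by
    intro T' y' t t' h1 h2 h3
    obtain ⟨g, hg⟩ := exists_of_isPullback a₁ π₁ c₁ t' t h3.symm
    have : lift g y' ≫ a₂.act = lift 1 y' ≫ a₂.act := by
      rw [AlgGrp.Action.lift_one_act]
      conv_rhs => rw [← h2, ← hg]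
      rw [Category.assoc, hτ, lift_whiskerLeft_assoc, h1]
    have hg1 := eq_of_isPullback a₂ π₂ c₂ g 1 y' this
    rw [← hg, hg1, AlgGrp.Action.lift_one_act]
  obtain ⟨R, hR, hl'⟩ := hl T x
  choose p hp using hl'
  have hex : ∀ ⦃T' : Over S⦄ (c : T' ⟶ T) (hc : R c),
      ∃ t : T' ⟶ P₁, t ≫ τ = c ≫ y ∧ t ≫ π₁ = c ≫ x := by
    intro T' c hc
    obtain ⟨g, hg⟩ := exists_of_isPullback a₂ π₂ c₂ (c ≫ y) (p c hc ≫ τ)
      (by rw [Category.assoc, Category.assoc, hyx, hb, ← Category.assoc (p c hc), hp,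
        Category.assoc])
    refine ⟨lift g (p c hc) ≫ a₁.act, ?_, ?_⟩
    · rw [Category.assoc, hτ, lift_whiskerLeft_assoc, hg]
    · rw [Category.assoc, c₁.w, lift_snd_assoc, hp]
  choose t ht1 ht2 using hex
  obtain ⟨σ, hσ⟩ := exists_glue (W := P₁) R hR t (by
    intro T' T'' c g hc
    exact huniq _ (g ≫ c ≫ y) _ _ (by rw [ht1, Category.assoc]) (by rw [Category.assoc, ht1])
      (by simp only [Category.assoc, ht2]))
  have h1 : σ ≫ τ = y := eq_of_locally_eq' R hR _ _ (fun T' c hc => by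
    rw [← Category.assoc, hσ c hc, ht1])
  have h2 : σ ≫ π₁ = x := eq_of_locally_eq' R hR _ _ (fun T' c hc => by
    rw [← Category.assoc, hσ c hc, ht2])
  refine ⟨σ, ⟨h1, h2⟩, ?_⟩
  rintro σ' ⟨h1', h2'⟩
  exact huniq T y σ' σ h1' h1 (h2'.trans h2.symm)

variable {G H Z Y : Over S} [GrpObj G] [GrpObj H]
  {i : H ⟶ G} [IsMonHom i] [Mono i] {aZ : AlgGrp.Action H Z} {aY : AlgGrp.Action G Y}
  (j : G ⊗ Z ⟶ Y) (hY : ChGrp.IsBalProd Scheme.fppfPrecoverage i aZ aY j)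

section

variable {E₁ E₂ : QuotObj Scheme.fppfPrecoverage G aY}

lemma mE_top (m : E₁ ⟶ E₂) : mE j E₁ ≫ m.top = (G ◁ rTop j m) ≫ mE j E₂ := by
  unfold mE
  rw [Category.assoc, m.eqv, ← MonoidalCategory.whiskerLeft_comp_assoc,
    ← MonoidalCategory.whiskerLeft_comp_assoc, rTop_r1]

include hY in
theorem faithful (m n : E₁ ⟶ E₂) (h : rMap j hY m = rMap j hY n) : m = n := by
  have hb' : (rMap j hY m).base = (rMap j hY n).base := congrArg QuotObj.Hom.base h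
  have ht' : (rMap j hY m).top = (rMap j hY n).top := congrArg QuotObj.Hom.top h
  have hb : m.base = n.base := hb'
  have ht : rTop j m = rTop j n := ht'
  refine QuotObj.hom_ext hb ?_
  apply hom_ext_of_locLift (mE j E₁) (locLift_mE j hY E₁)
  rw [mE_top, mE_top, ht]

lemma mE_φ (E : QuotObj Scheme.fppfPrecoverage G aY) :
    mE j E ≫ E.φ = (G ◁ (r2 j E ≫ iota j)) ≫ aY.act := by
  unfold mE
  rw [Category.assoc, E.eqv, ← MonoidalCategory.whiskerLeft_comp_assoc, pullback.condition]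

/-- `mE` is equivariant for left multiplication on the first factor -/
lemma lift_lift_mE (E : QuotObj Scheme.fppfPrecoverage G aY) {T : Over S} (g₀ g : T ⟶ G)
    (p' : T ⟶ rP j E) :
    lift g₀ (lift g p' ≫ mE j E) ≫ E.act.act = lift (g₀ * g) p' ≫ mE j E := by
  rw [lift_mE, lift_mE, AlgGrp.Action.lift_mul_act]

variable (n' : rObj j hY E₁ ⟶ rObj j hY E₂)

/-- the top map with its type unfolded -/
noncomputable def nTop : rP j E₁ ⟶ rP j E₂ := n'.top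

lemma nTop_eqv : rAct j hY E₁ ≫ nTop j hY n' = (H ◁ nTop j hY n') ≫ rAct j hY E₂ := n'.eqv

lemma nTop_r2 : nTop j hY n' ≫ r2 j E₂ = r2 j E₁ := n'.wφ

/-- the base map with its type unfolded -/
noncomputable def nBase : E₁.base ⟶ E₂.base := n'.base

lemma nTop_π : nTop j hY n' ≫ r1 j E₂ ≫ E₂.π = (r1 j E₁ ≫ E₁.π) ≫ nBase j hY n' := n'.cart.w

/-- the map to descend -/
noncomputable def qMap : G ⊗ rP j E₁ ⟶ E₂.P := (G ◁ nTop j hY n') ≫ mE j E₂

lemma lift_qMap {T : Over S} (g : T ⟶ G) (p' : T ⟶ rP j E₁) :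
    lift g p' ≫ qMap j hY n' = lift g ((p' ≫ nTop j hY n') ≫ r1 j E₂) ≫ E₂.act.act := by
  unfold qMap
  rw [lift_whiskerLeft_assoc, lift_mE]

lemma top_act {T : Over S} (k : T ⟶ H) (p' : T ⟶ rP j E₁) :
    (lift k p' ≫ rAct j hY E₁) ≫ nTop j hY n' =
      lift k (p' ≫ nTop j hY n') ≫ rAct j hY E₂ := by
  rw [Category.assoc, nTop_eqv, lift_whiskerLeft_assoc]

lemma qMap_compat (T : Over S) (a₁ a₂ : T ⟶ G ⊗ rP j E₁) (h : a₁ ≫ mE j E₁ = a₂ ≫ mE j E₁) :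
    a₁ ≫ qMap j hY n' = a₂ ≫ qMap j hY n' := by
  have e₁ : a₁ = lift (a₁ ≫ fst _ _) (a₁ ≫ snd _ _) := by
    rw [← comp_lift, lift_fst_snd, Category.comp_id]
  have e₂ : a₂ = lift (a₂ ≫ fst _ _) (a₂ ≫ snd _ _) := by
    rw [← comp_lift, lift_fst_snd, Category.comp_id]
  generalize a₁ ≫ fst _ _ = g₁ at e₁
  generalize a₁ ≫ snd _ _ = p₁ at e₁
  generalize a₂ ≫ fst _ _ = g₂ at e₂
  generalize a₂ ≫ snd _ _ = p₂ at e₂
  subst e₁ e₂
  rw [lift_mE, lift_mE] at h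
  -- `r1 p₁ = (g₁⁻¹ g₂) • r1 p₂`
  have h1 : p₁ ≫ r1 j E₁ = lift (g₁⁻¹ * g₂) (p₂ ≫ r1 j E₁) ≫ E₁.act.act := by
    rw [AlgGrp.Action.lift_mul_act, ← h, ← AlgGrp.Action.lift_mul_act, inv_mul_cancel,
      AlgGrp.Action.lift_one_act]
  have h2 : p₁ ≫ r1 j E₁ ≫ E₁.π = p₂ ≫ r1 j E₁ ≫ E₁.π := by
    rw [← Category.assoc, h1, Category.assoc, E₁.cart.w, lift_snd_assoc, Category.assoc]
  obtain ⟨k, hk⟩ := exists_of_isPullback (rAction j hY E₁) (r1 j E₁ ≫ E₁.π)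
    (isPullback_rAct j hY E₁) p₁ p₂ h2
  change lift k p₂ ≫ rAct j hY E₁ = p₁ at hk
  have h3 : lift (k ≫ i) (p₂ ≫ r1 j E₁) ≫ E₁.act.act =
      lift (g₁⁻¹ * g₂) (p₂ ≫ r1 j E₁) ≫ E₁.act.act := by
    rw [← h1, ← hk, Category.assoc, lift_rAct_r1]
  have h4 : k ≫ i = g₁⁻¹ * g₂ := eq_of_isPullback E₁.act E₁.π E₁.cart _ _ _ h3
  have h5 : g₂ = g₁ * (k ≫ i) := by rw [h4, mul_inv_cancel_left]
  rw [lift_qMap, lift_qMap, ← hk, top_act, Category.assoc, lift_rAct_r1,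
    ← AlgGrp.Action.lift_mul_act, ← h5]

include hY in
lemma exists_top : ∃ τ : E₁.P ⟶ E₂.P, mE j E₁ ≫ τ = qMap j hY n' :=
  exists_desc_of_locLift (mE j E₁) (locLift_mE j hY E₁) (qMap j hY n') (qMap_compat j hY n')

/-- the descended map of total spaces -/
noncomputable def fTop : E₁.P ⟶ E₂.P := (exists_top j hY n').choose

lemma mE_fTop : mE j E₁ ≫ fTop j hY n' = (G ◁ nTop j hY n') ≫ mE j E₂ :=
  (exists_top j hY n').choose_spec

lemma fTop_π : fTop j hY n' ≫ E₂.π = E₁.π ≫ nBase j hY n' := by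
  apply hom_ext_of_locLift (mE j E₁) (locLift_mE j hY E₁)
  have hc := nTop_π j hY n'
  rw [← Category.assoc, mE_fTop, Category.assoc, mE_π, whiskerLeft_snd_assoc, hc,
    ← Category.assoc (mE j E₁), mE_π]
  simp only [Category.assoc]

lemma fTop_φ : fTop j hY n' ≫ E₂.φ = E₁.φ := by
  apply hom_ext_of_locLift (mE j E₁) (locLift_mE j hY E₁)
  have hw := nTop_r2 j hY n'
  rw [← Category.assoc, mE_fTop, Category.assoc, mE_φ, mE_φ,
    ← MonoidalCategory.whiskerLeft_comp_assoc, ← Category.assoc, hw]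

lemma fTop_eqv : E₁.act.act ≫ fTop j hY n' = (G ◁ fTop j hY n') ≫ E₂.act.act := by
  have hl : LocLift (G ◁ mE j E₁) :=
    locLift_of_isPullback (AlgSt.isPullback_whiskerLeft (mE j E₁)).flip (locLift_mE j hY E₁)
  apply hom_ext_of_locLift _ hl
  apply AlgGrp.Action.hom_ext_lift₂
  intro T g₀ w
  have e : w = lift (w ≫ fst _ _) (w ≫ snd _ _) := by
    rw [← comp_lift, lift_fst_snd, Category.comp_id]
  generalize w ≫ fst _ _ = g at e
  generalize w ≫ snd _ _ = p' at e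
  subst e
  have hL : lift g₀ (lift g p') ≫ (G ◁ mE j E₁) ≫ E₁.act.act ≫ fTop j hY n' =
      lift (g₀ * g) (p' ≫ nTop j hY n') ≫ mE j E₂ := by
    rw [lift_whiskerLeft_assoc, ← Category.assoc, lift_lift_mE, Category.assoc, mE_fTop,
      lift_whiskerLeft_assoc]
  have hR : lift g₀ (lift g p') ≫ (G ◁ mE j E₁) ≫ (G ◁ fTop j hY n') ≫ E₂.act.act =
      lift (g₀ * g) (p' ≫ nTop j hY n') ≫ mE j E₂ := by
    rw [lift_whiskerLeft_assoc, lift_whiskerLeft_assoc, Category.assoc, mE_fTop,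
      lift_whiskerLeft_assoc, lift_lift_mE]
  rw [hL, hR]

/-- the preimage morphism -/
noncomputable def preimage : E₁ ⟶ E₂ where
  base := nBase j hY n'
  top := fTop j hY n'
  eqv := fTop_eqv j hY n'
  cart := isPullback_of_equivariant' E₁.act E₂.act E₁.π E₂.π E₁.cart E₂.cart
    (locLift_of_locTriv E₁.π E₁.loc) _ _ (fTop_eqv j hY n') (fTop_π j hY n')
  wφ := fTop_φ j hY n'

theorem rMap_preimage : rMap j hY (preimage j hY n') = n' := by
  refine QuotObj.hom_ext ?_ ?_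
  · rfl
  change rTop j (preimage j hY n') = nTop j hY n'
  have hw := nTop_r2 j hY n'
  apply pullback.hom_ext
  · rw [rTop_r1]
    change r1 j E₁ ≫ fTop j hY n' = _
    -- `r1 = unit section ≫ mE`
    have hu : ∀ (E : QuotObj Scheme.fppfPrecoverage G aY),
        lift (1 : rP j E ⟶ G) (𝟙 _) ≫ mE j E = r1 j E := fun E => by
      rw [lift_mE, Category.id_comp, AlgGrp.Action.lift_one_act]
    rw [← hu E₁, Category.assoc, mE_fTop, lift_whiskerLeft_assoc, Category.id_comp]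
    have : lift (1 : rP j E₁ ⟶ G) (nTop j hY n') =
        nTop j hY n' ≫ lift (1 : rP j E₂ ⟶ G) (𝟙 _) := by
      rw [comp_lift, Category.comp_id, MonObj.comp_one]
    rw [this, Category.assoc, hu E₂]
  · rw [rTop_r2, hw]

end

end Groth.Agent.Lib.Helper5.BalFF
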