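import Mathlib
import Groth.Agent.Lib.Helper5.BalFF
import Groth.Agent.Lib.Helper14.QuotStCalc2
import Groth.Agent.S12794

/-!
# `[Z/H] ≃ [Y/G]` for a balanced product `Y = G ×^H Z` (helper5)
-/

set_option autoImplicit false
set_option linter.style.haveILetI false
universe u

open CategoryTheory CategoryTheory.Limits MonoidalCategory CartesianMonoidalCategory MonObj GrpObj
  AlgebraicGeometry AlgSt

namespace Groth.Agent.Lib.Helper5.BalEss

open Groth.Agent.Lib.Helper93.TorsorPts Groth.Agent.Lib.Helper5.BalPts Groth.Agent.Lib.Helper5.BalLoc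
  Groth.Agent.Lib.Helper5.BalFun Groth.Agent.Lib.Helper5.BalFF Groth.Agent.Lib.Helper14.QuotStRep
  Groth.Agent.Lib.Helper14.QuotStCalc

variable {S : Scheme.{u}} {G H Z Y : Over S} [GrpObj G] [GrpObj H]
  {i : H ⟶ G} [IsMonHom i] [Mono i] {aZ : AlgGrp.Action H Z} {aY : AlgGrp.Action G Y}
  (j : G ⊗ Z ⟶ Y) (hY : ChGrp.IsBalProd Scheme.fppfPrecoverage i aZ aY j)

/-- the trivial `G`-torsor over `V` with the map to `Y` induced by `ι ∘ z` -/
noncomputable abbrev xOf (V : Over S) (z : V ⟶ Z) : QuotObj Scheme.fppfPrecoverage G aY where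
  base := V
  P := G ⊗ V
  act := AlgSt.leftMul G V
  π := snd G V
  cart := ((AlgSt.quotMap Scheme.fppfPrecoverage G aY).obj
    (⟨V, ⟨z ≫ iota j⟩⟩ : (AlgSt.ofSch Y).obj)).cart
  loc := ((AlgSt.quotMap Scheme.fppfPrecoverage G aY).obj
    (⟨V, ⟨z ≫ iota j⟩⟩ : (AlgSt.ofSch Y).obj)).loc
  φ := (G ◁ (z ≫ iota j)) ≫ aY.act
  eqv := ((AlgSt.quotMap Scheme.fppfPrecoverage G aY).obj
    (⟨V, ⟨z ≫ iota j⟩⟩ : (AlgSt.ofSch Y).obj)).eqv

lemma xOf_φ (V : Over S) (z : V ⟶ Z) :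
    (xOf (aY := aY) j V z).φ = (G ◁ (z ≫ iota j)) ≫ aY.act := rfl

/-- the canonical section of the restricted torsor -/
noncomputable def tSec (V : Over S) (z : V ⟶ Z) : V ⟶ rP j (xOf (aY := aY) j V z) :=
  pullback.lift (unitSec V) z (unitSec_act aY (z ≫ iota j))

lemma tSec_r2 (V : Over S) (z : V ⟶ Z) : tSec (aY := aY) j V z ≫ r2 j (xOf j V z) = z :=
  pullback.lift_snd _ _ _

lemma tSec_r1 (V : Over S) (z : V ⟶ Z) : tSec (aY := aY) j V z ≫ r1 j (xOf j V z) = unitSec V :=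
  pullback.lift_fst _ _ _

theorem exists_hom_of_section (E' : QuotObj Scheme.fppfPrecoverage H aZ) {V : Over S}
    (σ : V ⟶ E'.P) :
    ∃ ψ : rObj j hY (xOf j V (σ ≫ E'.φ)) ⟶ E', ψ.base = σ ≫ E'.π := by
  set z := σ ≫ E'.φ with hz
  let A := rObj j hY (xOf j V z)
  let t : V ⟶ A.P := tSec j V z
  let θ₁ := canon A t
  have hb0 : tSec (aY := aY) j V z ≫ r1 j (xOf j V z) ≫ snd G V = 𝟙 V := by
    rw [← Category.assoc, tSec_r1, unitSec_snd]
  have hb : θ₁.base = 𝟙 V := hb0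
  haveI : IsIso θ₁.base := by rw [hb]; exact IsIso.id V
  have htφ : σ ≫ E'.φ = t ≫ A.φ := (tSec_r2 j V z).symm
  let θ₂ : (AlgSt.quotMap Scheme.fppfPrecoverage H aZ).obj
      (⟨V, ⟨t ≫ A.φ⟩⟩ : (AlgSt.ofSch Z).obj) ⟶ E' :=
    (AlgSt.quotMap Scheme.fppfPrecoverage H aZ).map
      (⟨σ, congrArg ULift.up htφ⟩ :
        (⟨V, ⟨t ≫ A.φ⟩⟩ : (AlgSt.ofSch Z).obj) ⟶ ⟨E'.P, ⟨E'.φ⟩⟩) ≫ chiK E'
  refine ⟨invHom θ₁ ≫ θ₂, ?_⟩
  change inv θ₁.base ≫ σ ≫ E'.π = σ ≫ E'.π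
  rw [IsIso.inv_comp_eq, hb]
  exact (Category.id_comp _).symm

include hY in
theorem locally_essSurj (y : QuotObj Scheme.fppfPrecoverage H aZ) :
    ∃ R ∈ QuotSh.J Scheme.fppfPrecoverage S y.base, ∀ ⦃V : Over S⦄ (f : V ⟶ y.base), R f →
      ∃ (x : QuotObj Scheme.fppfPrecoverage G aY) (φ : rObj j hY x ⟶ y),
        (QuotObj.forget Scheme.fppfPrecoverage H aZ).IsHomLift f φ := by
  obtain ⟨R, hR, hl⟩ := locLift_of_locTriv y.π y.loc y.base (𝟙 _)
  refine ⟨R, hR, ?_⟩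
  intro V c hc
  obtain ⟨σ, hσ⟩ := hl c hc
  rw [Category.comp_id] at hσ
  obtain ⟨ψ, hψ⟩ := exists_hom_of_section j hY y σ
  refine ⟨xOf j V (σ ≫ y.φ), ψ, ?_⟩
  exact Groth.Agent.Lib.Helper17.hl_of_eq (p := QuotObj.forget Scheme.fppfPrecoverage H aZ)
    (a := rObj j hY (xOf j V (σ ≫ y.φ))) (b := y) (f := c) (φ := ψ) (by rw [← hσ]; exact hψ.symm)

instance : (rFun j hY).toFunctor.Faithful where
  map_injective {E₁ E₂} m n h := faithful j hY m n h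

instance : (rFun j hY).toFunctor.Full where
  map_surjective {E₁ E₂} n' := ⟨preimage j hY n', rMap_preimage j hY n'⟩

include hY in
theorem isEquivOver_rFun [IsAffineHom G.hom] [IsAffineHom H.hom] :
    FibCat.IsEquivOver (rFun j hY) := by
  refine (Groth.Agent.S12794.result (QuotSh.J Scheme.fppfPrecoverage S)
    (Groth.Agent.Lib.Helper5.QuotStStack.isStack (G := G) (aX := aY))
    (Groth.Agent.Lib.Helper5.QuotStStack.isStack (G := H) (aX := aZ)) (rFun j hY)).2 ?_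
  intro y
  exact locally_essSurj j hY y

include hY in
/-- **`[Y/G]` is a quotient stack of `Z` by `H`.** -/
theorem isQuotientOf [IsAffineHom G.hom] [IsAffineHom H.hom] :
    AlgSt.IsQuotientOf Scheme.fppfPrecoverage H aZ (AlgSt.QuotSt Scheme.fppfPrecoverage G aY) := by
  obtain ⟨e, h1, h2⟩ := isEquivOver_rFun j hY
  exact ⟨e, rFun j hY, h2, h1⟩

end Groth.Agent.Lib.Helper5.BalEss
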