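import Mathlib
import Groth.Agent.Lib.Helper5.BalEss

/-!
# `(G/H) × X` is the balanced product `G ×^H X` (helper5)
-/

set_option autoImplicit false
set_option linter.style.haveILetI false
universe u

open CategoryTheory CategoryTheory.Limits MonoidalCategory CartesianMonoidalCategory MonObj GrpObj
  AlgebraicGeometry AlgSt

namespace Groth.Agent.Lib.Helper5.BalHomog

open Groth.Agent.Lib.Helper93.TorsorPts Groth.Agent.Lib.Helper5.BalPts Groth.Agent.Lib.Helper5.BalLoc
  Groth.Agent.Lib.Helper5.BalFun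

variable {S : Scheme.{u}} {G H X Q : Over S} [GrpObj G] [GrpObj H]
  {i : H ⟶ G} [IsMonHom i] [Mono i] (aX : AlgGrp.Action G X) {aQ : AlgGrp.Action G Q}
  {q₀ : 𝟙_ (Over S) ⟶ Q}

/-- `(g, x) ↦ (g q₀, g x)` -/
noncomputable def jMap (aQ : AlgGrp.Action G Q) (q₀ : 𝟙_ (Over S) ⟶ Q) : G ⊗ X ⟶ Q ⊗ X :=
  lift (fst G X ≫ aQ.orbitMap q₀) aX.act

lemma lift_jMap {T : Over S} (g : T ⟶ G) (x : T ⟶ X) :
    lift g x ≫ jMap aX aQ q₀ = lift (g ≫ aQ.orbitMap q₀) (lift g x ≫ aX.act) := by
  unfold jMap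
  rw [comp_lift, lift_fst_assoc]

section
variable (hQ : ChGrp.IsHomog Scheme.fppfPrecoverage i aQ q₀)
include hQ

/-- `(g i(h)) q₀ = g q₀` -/
lemma orbit_mul {T : Over S} (g : T ⟶ G) (h : T ⟶ H) :
    (g * (h ≫ i)) ≫ aQ.orbitMap q₀ = g ≫ aQ.orbitMap q₀ := by
  have h1 := hQ.2.1.w
  have h2 := lift g h ≫= h1
  rw [lift_fst_assoc, Category.assoc, lift_whiskerLeft_assoc, ← Category.assoc, ← Hom.mul_def] at h2
  exact h2.symm

lemma exists_of_orbit {T : Over S} (a b : T ⟶ G)
    (h : a ≫ aQ.orbitMap q₀ = b ≫ aQ.orbitMap q₀) : ∃ k : T ⟶ H, b = a * (k ≫ i) := by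
  have hp : IsPullback (fst G H) ((G ◁ i) ≫ μ[G]) (aQ.orbitMap q₀) (aQ.orbitMap q₀) := hQ.2.1
  refine ⟨hp.lift a b h ≫ snd G H, ?_⟩
  have h1 := hp.lift_snd a b h
  have h0 := hp.lift_fst a b h
  have e : hp.lift a b h = lift a (hp.lift a b h ≫ snd G H) := by
    apply CartesianMonoidalCategory.hom_ext
    · rw [lift_fst, h0]
    · rw [lift_snd]
  generalize hp.lift a b h = w at h1 h0 e ⊢
  rw [e, lift_whiskerLeft_assoc, ← Hom.mul_def] at h1
  exact h1.symm

theorem isBalProd :
    ChGrp.IsBalProd Scheme.fppfPrecoverage i (aX.restrict i) (aQ.prod aX) (jMap aX aQ q₀) := by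
  refine ⟨?_, ?_, ?_⟩
  · -- equivariance
    unfold AlgGrp.Action.IsEquivariant
    apply AlgGrp.Action.hom_ext_lift₂
    intro T g' w
    have e : w = lift (w ≫ fst _ _) (w ≫ snd _ _) := by
      rw [← comp_lift, lift_fst_snd, Category.comp_id]
    generalize w ≫ fst _ _ = g at e
    generalize w ≫ snd _ _ = x at e
    subst e
    rw [AlgGrp.Action.lift_prod_act_assoc, AlgGrp.Action.lift_trivial_act, lift_whiskerLeft_assoc,
      lift_jMap, lift_jMap, AlgGrp.Action.lift_prod_act]
    have hμ : lift g' g ≫ (NonAbH1.trivialAction G).act = g' * g := by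
      change lift g' g ≫ μ[G] = _
      rw [Hom.mul_def]
    rw [hμ, AlgGrp.Action.lift_mul_act, AlgGrp.Action.comp_orbitMap, AlgGrp.Action.comp_orbitMap,
      AlgGrp.Action.lift_mul_act]
  · -- the cartesian square
    refine isPullback_of_points (ChGrp.twist i (aX.restrict i)) (jMap aX aQ q₀) ?_ ?_ ?_
    · intro T h w
      have e : w = lift (w ≫ fst _ _) (w ≫ snd _ _) := by
        rw [← comp_lift, lift_fst_snd, Category.comp_id]
      generalize w ≫ fst _ _ = g at e
      generalize w ≫ snd _ _ = x at e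
      subst e
      rw [ChGrp.lift_twist_act, lift_jMap, lift_jMap, AlgGrp.Action.lift_restrict_act,
        ← AlgGrp.Action.lift_mul_act, inv_mul_cancel_right]
      congr 1
      have := orbit_mul hQ (g * (h ≫ i)⁻¹) h
      rw [inv_mul_cancel_right] at this
      exact this.symm
    · intro T w' w hw
      have e : w = lift (w ≫ fst _ _) (w ≫ snd _ _) := by
        rw [← comp_lift, lift_fst_snd, Category.comp_id]
      have e' : w' = lift (w' ≫ fst _ _) (w' ≫ snd _ _) := by
        rw [← comp_lift, lift_fst_snd, Category.comp_id]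
      generalize w ≫ fst _ _ = g₂ at e
      generalize w ≫ snd _ _ = x₂ at e
      generalize w' ≫ fst _ _ = g₁ at e'
      generalize w' ≫ snd _ _ = x₁ at e'
      subst e e'
      rw [lift_jMap, lift_jMap] at hw
      have hw1 := congrArg (fun m => m ≫ fst Q X) hw
      have hw2 := congrArg (fun m => m ≫ snd Q X) hw
      simp only [lift_fst, lift_snd] at hw1 hw2
      obtain ⟨k, hk⟩ := exists_of_orbit hQ g₂ g₁ hw1.symm
      refine ⟨k⁻¹, ?_⟩
      rw [ChGrp.lift_twist_act, AlgGrp.Action.lift_restrict_act]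
      have hi : (k⁻¹ ≫ i)⁻¹ = k ≫ i := by
        rw [GrpObj.inv_comp, _root_.inv_inv]
      rw [hi, ← hk]
      congr 1
      -- `x₁ = i(k)⁻¹ x₂`
      have : lift (g₁⁻¹ * g₂) x₂ ≫ aX.act = x₁ := by
        rw [AlgGrp.Action.lift_mul_act, ← hw2, ← AlgGrp.Action.lift_mul_act, inv_mul_cancel,
          AlgGrp.Action.lift_one_act]
      rw [← this, hk]
      congr 2
      rw [GrpObj.inv_comp, _root_.mul_inv_rev, inv_mul_cancel_right]
    · intro T h h' w hh
      have e : w = lift (w ≫ fst _ _) (w ≫ snd _ _) := by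
        rw [← comp_lift, lift_fst_snd, Category.comp_id]
      generalize w ≫ fst _ _ = g at e
      generalize w ≫ snd _ _ = x at e
      subst e
      rw [ChGrp.lift_twist_act, ChGrp.lift_twist_act] at hh
      have h1 := congrArg (fun m => m ≫ fst G X) hh
      simp only [lift_fst] at h1
      have h2 : h ≫ i = h' ≫ i := by
        have := mul_left_cancel h1
        exact inv_injective this
      exact (cancel_mono i).1 h2
  · -- local sections
    apply locTriv_of_locLift
    have ho : LocLift (aQ.orbitMap q₀) := locLift_of_locTriv _ hQ.2.2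
    intro T y
    obtain ⟨R, hR, hl⟩ := ho T (y ≫ fst Q X)
    refine ⟨R, hR, ?_⟩
    intro T' c hc
    obtain ⟨g, hg⟩ := hl c hc
    refine ⟨lift g (lift g⁻¹ (c ≫ y ≫ snd Q X) ≫ aX.act), ?_⟩
    rw [lift_jMap, ← AlgGrp.Action.lift_mul_act, mul_inv_cancel, AlgGrp.Action.lift_one_act, hg]
    apply CartesianMonoidalCategory.hom_ext
    · rw [lift_fst, Category.assoc]
    · rw [lift_snd, Category.assoc]

end

end Groth.Agent.Lib.Helper5.BalHomog
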