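import Mathlib
import Groth.Agent.Lib.Helper5.BalFun

/-!
# Invariant subschemes of a balanced product are balanced products (helper5)
-/

set_option autoImplicit false
set_option linter.style.haveILetI false
universe u

open CategoryTheory CategoryTheory.Limits MonoidalCategory CartesianMonoidalCategory MonObj GrpObj
  AlgebraicGeometry AlgSt

namespace Groth.Agent.Lib.Helper5.BalSub

open Groth.Agent.Lib.Helper93.TorsorPts Groth.Agent.Lib.Helper5.BalPts Groth.Agent.Lib.Helper5.BalLoc
  Groth.Agent.Lib.Helper5.BalFun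

variable {S : Scheme.{u}} {G H Z Y Y' : Over S} [GrpObj G] [GrpObj H]
  {i : H ⟶ G} [IsMonHom i] {aZ : AlgGrp.Action H Z} {aY : AlgGrp.Action G Y} (j : G ⊗ Z ⟶ Y)
  (hY : ChGrp.IsBalProd Scheme.fppfPrecoverage i aZ aY j)
  (c : Y' ⟶ Y) (aY' : AlgGrp.Action G Y') (hc : AlgGrp.Action.IsEquivariant aY' aY c)

/-- `Z' = Y' ×_Y Z` -/
noncomputable abbrev sZ : Over S := Limits.pullback c (iota j)

noncomputable abbrev s1 : sZ j c ⟶ Y' := pullback.fst c (iota j)

noncomputable abbrev s2 : sZ j c ⟶ Z := pullback.snd c (iota j)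

include hY hc in
lemma sAct_cond : ((H ◁ s1 j c) ≫ (aY'.restrict i).act) ≫ c =
    ((H ◁ s2 j c) ≫ aZ.act) ≫ iota j := by
  unfold AlgGrp.Action.IsEquivariant at hc
  apply AlgGrp.Action.hom_ext_lift₂
  intro T h p'
  simp only [Category.assoc]
  rw [lift_whiskerLeft_assoc, AlgGrp.Action.lift_restrict_act_assoc, hc,
    lift_whiskerLeft_assoc, lift_whiskerLeft_assoc, ← Category.assoc _ aZ.act,
    iota_act hY, Category.assoc, Category.assoc, pullback.condition]

noncomputable def sAct : H ⊗ sZ j c ⟶ sZ j c :=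
  pullback.lift ((H ◁ s1 j c) ≫ (aY'.restrict i).act) ((H ◁ s2 j c) ≫ aZ.act)
    (sAct_cond j hY c aY' hc)

@[reassoc] lemma sAct_s1 : sAct j hY c aY' hc ≫ s1 j c = (H ◁ s1 j c) ≫ (aY'.restrict i).act :=
  pullback.lift_fst _ _ _

@[reassoc] lemma sAct_s2 : sAct j hY c aY' hc ≫ s2 j c = (H ◁ s2 j c) ≫ aZ.act :=
  pullback.lift_snd _ _ _

noncomputable def sAction : AlgGrp.Action H (sZ j c) where
  act := sAct j hY c aY' hc
  one_act := by
    apply pullback.hom_ext
    · rw [Category.assoc, sAct_s1, ← whisker_exchange_assoc, (aY'.restrict i).one_act,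
        leftUnitor_hom, leftUnitor_hom, whiskerLeft_snd]
    · rw [Category.assoc, sAct_s2, ← whisker_exchange_assoc, aZ.one_act, leftUnitor_hom,
        leftUnitor_hom, whiskerLeft_snd]
  mul_act := by
    apply pullback.hom_ext
    · simp only [Category.assoc, sAct_s1]
      rw [← whisker_exchange_assoc, (aY'.restrict i).mul_act,
        ← MonoidalCategory.whiskerLeft_comp_assoc, sAct_s1,
        MonoidalCategory.whiskerLeft_comp_assoc, associator_naturality_right_assoc]
    · simp only [Category.assoc, sAct_s2]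
      rw [← whisker_exchange_assoc, aZ.mul_act, ← MonoidalCategory.whiskerLeft_comp_assoc, sAct_s2,
        MonoidalCategory.whiskerLeft_comp_assoc, associator_naturality_right_assoc]

@[reassoc] lemma lift_sAct_s1 {T : Over S} (h : T ⟶ H) (p' : T ⟶ sZ j c) :
    lift h p' ≫ sAct j hY c aY' hc ≫ s1 j c = lift (h ≫ i) (p' ≫ s1 j c) ≫ aY'.act := by
  rw [sAct_s1, lift_whiskerLeft_assoc, AlgGrp.Action.lift_restrict_act]

@[reassoc] lemma lift_sAct_s2 {T : Over S} (h : T ⟶ H) (p' : T ⟶ sZ j c) :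
    lift h p' ≫ sAct j hY c aY' hc ≫ s2 j c = lift h (p' ≫ s2 j c) ≫ aZ.act := by
  rw [sAct_s2, lift_whiskerLeft_assoc]

/-- `(g, z') ↦ g • s1(z')` -/
noncomputable def sJ : G ⊗ sZ j c ⟶ Y' := (G ◁ s1 j c) ≫ aY'.act

@[reassoc] lemma lift_sJ {T : Over S} (g : T ⟶ G) (p' : T ⟶ sZ j c) :
    lift g p' ≫ sJ j c aY' = lift g (p' ≫ s1 j c) ≫ aY'.act := by
  unfold sJ
  rw [lift_whiskerLeft_assoc]

include hY hc in
lemma sJ_c : sJ j c aY' ≫ c = (G ◁ s2 j c) ≫ j := by
  unfold AlgGrp.Action.IsEquivariant at hc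
  apply AlgGrp.Action.hom_ext_lift₂
  intro T g p'
  rw [lift_sJ_assoc, hc, lift_whiskerLeft_assoc, lift_whiskerLeft_assoc, Category.assoc,
    pullback.condition, ← Category.assoc, act_iota hY]

include hY hc in
theorem isBalProd [Mono i] [Mono c] :
    ChGrp.IsBalProd Scheme.fppfPrecoverage i (sAction j hY c aY' hc) aY' (sJ j c aY') := by
  have hc' := hc
  unfold AlgGrp.Action.IsEquivariant at hc'
  haveI : Mono (s2 j c) := inferInstance
  refine ⟨?_, ?_, ?_⟩
  · unfold AlgGrp.Action.IsEquivariant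
    apply AlgGrp.Action.hom_ext_lift₂
    intro T g' w
    have e : w = lift (w ≫ fst _ _) (w ≫ snd _ _) := by
      rw [← comp_lift, lift_fst_snd, Category.comp_id]
    generalize w ≫ fst _ _ = g at e
    generalize w ≫ snd _ _ = z at e
    subst e
    have hμ : lift g' g ≫ (NonAbH1.trivialAction G).act = g' * g := by
      change lift g' g ≫ μ[G] = _
      rw [Hom.mul_def]
    rw [AlgGrp.Action.lift_prod_act_assoc, AlgGrp.Action.lift_trivial_act, lift_whiskerLeft_assoc,
      lift_sJ, lift_sJ, hμ, AlgGrp.Action.lift_mul_act]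
  · refine isPullback_of_points (ChGrp.twist i (sAction j hY c aY' hc)) (sJ j c aY') ?_ ?_ ?_
    · intro T h w
      have e : w = lift (w ≫ fst _ _) (w ≫ snd _ _) := by
        rw [← comp_lift, lift_fst_snd, Category.comp_id]
      generalize w ≫ fst _ _ = g at e
      generalize w ≫ snd _ _ = z at e
      subst e
      rw [← cancel_mono c]
      simp only [Category.assoc]
      rw [sJ_c j hY c aY' hc, ChGrp.lift_twist_act_assoc, lift_whiskerLeft_assoc,
        lift_whiskerLeft_assoc]
      change lift _ ((lift h z ≫ sAct j hY c aY' hc) ≫ s2 j c) ≫ j = _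
      rw [Category.assoc, lift_sAct_s2, j_twist hY]
    · intro T w' w hw
      have e : w = lift (w ≫ fst _ _) (w ≫ snd _ _) := by
        rw [← comp_lift, lift_fst_snd, Category.comp_id]
      have e' : w' = lift (w' ≫ fst _ _) (w' ≫ snd _ _) := by
        rw [← comp_lift, lift_fst_snd, Category.comp_id]
      generalize w ≫ fst _ _ = g₂ at e
      generalize w ≫ snd _ _ = z₂ at e
      generalize w' ≫ fst _ _ = g₁ at e'
      generalize w' ≫ snd _ _ = z₁ at e'
      subst e e'
      have hw' := congrArg (fun m => m ≫ c) hw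
      simp only [Category.assoc] at hw'
      rw [sJ_c j hY c aY' hc, lift_whiskerLeft_assoc, lift_whiskerLeft_assoc] at hw'
      obtain ⟨k, hk1, hk2⟩ := j_exists hY _ _ _ _ hw'
      refine ⟨k, ?_⟩
      rw [ChGrp.lift_twist_act, ← hk1]
      congr 1
      rw [← cancel_mono (s2 j c), hk2]
      change (lift k z₂ ≫ sAct j hY c aY' hc) ≫ s2 j c = _
      rw [Category.assoc, lift_sAct_s2]
    · intro T h h' w hh
      have e : w = lift (w ≫ fst _ _) (w ≫ snd _ _) := by
        rw [← comp_lift, lift_fst_snd, Category.comp_id]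
      generalize w ≫ fst _ _ = g at e
      generalize w ≫ snd _ _ = x at e
      subst e
      rw [ChGrp.lift_twist_act, ChGrp.lift_twist_act] at hh
      have h1 := congrArg (fun m => m ≫ fst G (sZ j c)) hh
      simp only [lift_fst] at h1
      have h2 : h ≫ i = h' ≫ i := by
        have := mul_left_cancel h1
        exact inv_injective this
      exact (cancel_mono i).1 h2
  · apply locTriv_of_locLift
    have hj : LocLift j := locLift_of_locTriv j hY.2.2
    intro T y'
    obtain ⟨R, hR, hl⟩ := hj T (y' ≫ c)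
    refine ⟨R, hR, ?_⟩
    intro T' c₀ hc₀
    obtain ⟨w, hw⟩ := hl c₀ hc₀
    have hw' : lift (w ≫ fst G Z) (w ≫ snd G Z) ≫ j = (c₀ ≫ y') ≫ c := by
      rw [← comp_lift, lift_fst_snd, Category.comp_id, hw, Category.assoc]
    have hcond : (lift (w ≫ fst G Z)⁻¹ (c₀ ≫ y') ≫ aY'.act) ≫ c = (w ≫ snd G Z) ≫ iota j := by
      rw [Category.assoc, hc', lift_whiskerLeft_assoc, ← hw', ← j_mul hY, inv_mul_cancel,
        comp_iota]
    refine ⟨lift (w ≫ fst G Z) (pullback.lift _ _ hcond), ?_⟩
    rw [lift_sJ, pullback.lift_fst, ← AlgGrp.Action.lift_mul_act, mul_inv_cancel,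
      AlgGrp.Action.lift_one_act]

end Groth.Agent.Lib.Helper5.BalSub
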