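import Mathlib
import Groth.Prelude.Def_DescFam
import Groth.Agent.Lib.Helper5.DescAffineHom
import Groth.Agent.Lib.Helper5.DescSepLQF

/-!
# Effective fppf descent for affine morphisms (helper5)
-/

set_option autoImplicit false
universe u
open CategoryTheory CategoryTheory.Limits AlgebraicGeometry Desc Opposite

namespace Groth.Agent.Lib.Helper5.DescAffineFppf

open Groth.Agent.Lib.Helper5.DescPull Groth.Agent.Lib.Helper5.DescRefine
  Groth.Agent.Lib.Helper5.DescFunctor Groth.Agent.Lib.Helper5.AffCore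
  Groth.Agent.Lib.Helper5.DescSepLQF

/-- affine base -/
theorem effective_of_isAffine_base {X S : Scheme.{u}} [IsAffine S] (p : X ⟶ S) [Flat p]
    [Surjective p] [LocallyOfFinitePresentation p] (D : SchDD p) [IsAffineHom D.obj.hom] :
    ∃ U : Over S, Nonempty ((toDD p).obj U ≅ D) := by
  obtain ⟨X', hX'c, hX's⟩ := exists_compact_open_surj p
  haveI : CompactSpace (X' : Scheme.{u}) := isCompact_iff_compactSpace.mp hX'c
  obtain ⟨X₂, q₀, hq₀s, hq₀, hX₂⟩ :=
    Scheme.exists_hom_isAffine_of_isZariskiLocalAtSource @IsLocalIso (X' : Scheme.{u})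
  let q : X₂ ⟶ X := q₀ ≫ X'.ι
  have hι : IsLocalIso X'.ι := ⟨fun x => ⟨⊤, trivial, inferInstance⟩⟩
  have hq : IsLocalIso q := MorphismProperty.comp_mem _ _ _ hq₀ hι
  haveI : Flat q := IsLocalIso.le_of_isZariskiLocalAtSource @Flat _ _ _ hq
  haveI : MorphismProperty.ContainsIdentities @LocallyOfFinitePresentation :=
    ⟨fun X => inferInstance⟩
  haveI : LocallyOfFinitePresentation q :=
    IsLocalIso.le_of_isZariskiLocalAtSource @LocallyOfFinitePresentation _ _ _ hq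
  let p₂ : X₂ ⟶ S := q ≫ p
  haveI : Flat p₂ := inferInstanceAs (Flat (q ≫ p))
  haveI : LocallyOfFinitePresentation p₂ :=
    inferInstanceAs (LocallyOfFinitePresentation (q ≫ p))
  haveI : Surjective p₂ := ⟨fun s => by
    obtain ⟨x, hx, rfl⟩ := hX's s
    obtain ⟨y, hy⟩ := hq₀s.surj ⟨x, hx⟩
    refine ⟨y, ?_⟩
    change p.base (X'.ι.base (q₀.base y)) = _
    rw [hy]
    rfl⟩
  let D₂ : SchDD p₂ := pullDD (𝟙 S) q ((rfl : q ≫ p = p₂).trans (Category.comp_id _).symm) D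
  haveI : IsAffineHom D₂.obj.hom :=
    MorphismProperty.pullback_snd (P := @IsAffineHom) D.obj.hom q inferInstance
  obtain ⟨U₂, ⟨θ₂⟩⟩ := DescAffineHom.effective_of_isAffine_base p₂ D₂
  exact effective_of_refine p p₂ q rfl D U₂ θ₂

/-- Effective fppf descent for affine morphisms. -/
theorem effective_of_isAffineHom {X S : Scheme.{u}} (p : X ⟶ S) [Flat p] [Surjective p]
    [LocallyOfFinitePresentation p] (D : SchDD p) [IsAffineHom D.obj.hom] :
    ∃ U : Over S, Nonempty ((toDD p).obj U ≅ D) := by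
  haveI : IsDescCover p := isDescCover_of_fppf p
  apply effective_of_open_cover D
  intro v
  obtain ⟨_, ⟨(S₁ : S.Opens), hS₁, rfl⟩, hs₀, -⟩ := S.isBasis_affineOpens.exists_subset_of_mem_open
    (Set.mem_univ (p.base (D.obj.hom.base v))) isOpen_univ
  haveI : IsAffine (S₁ : Scheme.{u}) := hS₁
  have hsq : IsPullback (p ⁻¹ᵁ S₁).ι (p ∣_ S₁) p S₁.ι := (isPullback_morphismRestrict p S₁).flip
  have w : (p ⁻¹ᵁ S₁).ι ≫ p = (p ∣_ S₁) ≫ S₁.ι := hsq.w
  haveI : Flat (p ∣_ S₁) := MorphismProperty.of_isPullback hsq ‹Flat p›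
  haveI : Surjective (p ∣_ S₁) := MorphismProperty.of_isPullback hsq ‹Surjective p›
  haveI : LocallyOfFinitePresentation (p ∣_ S₁) :=
    MorphismProperty.of_isPullback hsq ‹LocallyOfFinitePresentation p›
  let D₁ : SchDD (p ∣_ S₁) := pullDD S₁.ι (p ⁻¹ᵁ S₁).ι w D
  haveI : IsAffineHom D₁.obj.hom :=
    MorphismProperty.pullback_snd (P := @IsAffineHom) D.obj.hom (p ⁻¹ᵁ S₁).ι inferInstance
  obtain ⟨U₁, ⟨θ₁⟩⟩ := effective_of_isAffine_base (p ∣_ S₁) D₁
  refine ⟨(toDD p).obj (Over.mk (bcSec D hsq U₁ θ₁).t), (bcSec D hsq U₁ θ₁).a, inferInstance, ?_,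
    Over.mk (bcSec D hsq U₁ θ₁).t, ⟨Iso.refl _⟩⟩
  apply mem_range_bcSec
  rw [Scheme.Opens.range_ι]
  exact hs₀

end Groth.Agent.Lib.Helper5.DescAffineFppf
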