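import Mathlib.AlgebraicGeometry.Sites.Fpqc
import Mathlib.AlgebraicGeometry.Morphisms.LocalFlatDescent
import Mathlib.AlgebraicGeometry.Morphisms.FlatDescent
import Mathlib.AlgebraicGeometry.Morphisms.Descent
import Mathlib.AlgebraicGeometry.Limits

/-! # fpqc-local on the target from descent along single fpqc morphisms (helper5) -/

set_option autoImplicit false
universe w u

open CategoryTheory CategoryTheory.Limits AlgebraicGeometry

namespace Groth.Agent.Lib.Helper5

/-- Core: a property which is stable under base change, Zariski-local on the target and descends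
along surjective flat quasi-compact morphisms can be checked on a quasi-compact flat cover. -/
theorem of_quasiCompactCover (P : MorphismProperty Scheme.{u}) [P.IsStableUnderBaseChange]
    [IsZariskiLocalAtTarget P]
    [P.DescendsAlong (@Surjective ⊓ @Flat ⊓ @QuasiCompact)]
    {X Y : Scheme.{u}} (f : X ⟶ Y) (𝒰 : PreZeroHypercover.{w} Y) [QuasiCompactCover 𝒰]
    (hflat : ∀ i, Flat (𝒰.f i))
    (H : ∀ i, P (pullback.snd f (𝒰.f i))) : P f := by
  have : P.RespectsIso := MorphismProperty.IsStableUnderBaseChange.respectsIso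
  rw [IsZariskiLocalAtTarget.iff_of_openCover (P := P) Y.affineCover]
  intro j
  let W := Y.affineCover.X j
  let jι : W ⟶ Y := Y.affineCover.f j
  have hU : IsAffineOpen jι.opensRange := isAffineOpen_opensRange jι
  obtain ⟨n, idx, V, hV, hcov⟩ :=
    QuasiCompactCover.exists_isAffineOpen_of_isCompact 𝒰 hU.isCompact
  have hrange : ∀ i, Set.range ((V i).ι ≫ 𝒰.f (idx i)).base ⊆ Set.range jι.base := by
    intro i
    rintro _ ⟨v, rfl⟩
    have : (𝒰.f (idx i)).base v.1 ∈ (jι.opensRange : Set Y) := by
      rw [← hcov]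
      exact Set.mem_iUnion.mpr ⟨i, v.1, v.2, rfl⟩
    exact this
  let r : ∀ i, (V i).toScheme ⟶ W := fun i =>
    IsOpenImmersion.lift jι ((V i).ι ≫ 𝒰.f (idx i)) (hrange i)
  have hr : ∀ i, r i ≫ jι = (V i).ι ≫ 𝒰.f (idx i) := fun i => IsOpenImmersion.lift_fac _ _ _
  let q : (∐ fun i : Fin n => (V i).toScheme) ⟶ W := Sigma.desc r
  have hq : (@Surjective ⊓ @Flat ⊓ @QuasiCompact : MorphismProperty Scheme.{u}) q := by
    refine ⟨⟨⟨fun w => ?_⟩, ?_⟩, ?_⟩
    · have hw : jι.base w ∈ (jι.opensRange : Set Y) := ⟨w, rfl⟩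
      rw [← hcov] at hw
      obtain ⟨i, v, hv, hvw⟩ := Set.mem_iUnion.mp hw
      refine ⟨(Sigma.ι (fun i : Fin n => (V i).toScheme) i).base ⟨v, hv⟩, ?_⟩
      rw [← Scheme.Hom.comp_apply, Sigma.ι_desc]
      apply jι.isOpenEmbedding.injective
      rw [← Scheme.Hom.comp_apply, hr]
      exact hvw
    · rw [IsZariskiLocalAtSource.iff_of_openCover (P := @Flat) (sigmaOpenCover _)]
      intro i
      change Flat (Sigma.ι (fun i : Fin n => (V i).toScheme) i ≫ Sigma.desc r)
      rw [Sigma.ι_desc]
      have hsq := (IsOpenImmersion.isPullback_lift_id ((V i).ι ≫ 𝒰.f (idx i)) jι (hrange i)).flip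
      have hfl : Flat ((V i).ι ≫ 𝒰.f (idx i)) := by
        have := hflat (idx i)
        infer_instance
      exact MorphismProperty.of_isPullback (P := @Flat) hsq hfl
    · have : ∀ i, IsAffine (V i).toScheme := hV
      have : IsAffine W := by
        change IsAffine (Y.affineCover.X j)
        infer_instance
      exact (quasiCompact_iff_compactSpace q).mpr inferInstance
  apply MorphismProperty.of_pullback_snd_of_descendsAlong (P := P) (f := pullback.snd f jι) (g := q) hq
  rw [IsZariskiLocalAtTarget.iff_of_openCover (P := P) (sigmaOpenCover _)]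
  intro i
  change P (pullback.snd (pullback.snd (pullback.snd f jι) q) (Sigma.ι (fun i : Fin n => (V i).toScheme) i))
  -- big pasted square over `f`
  have big : IsPullback
      ((pullback.fst (pullback.snd (pullback.snd f jι) q) (Sigma.ι (fun i : Fin n => (V i).toScheme) i) ≫
        pullback.fst (pullback.snd f jι) q) ≫ pullback.fst f jι)
      (pullback.snd (pullback.snd (pullback.snd f jι) q) (Sigma.ι (fun i : Fin n => (V i).toScheme) i)) f
      ((Sigma.ι (fun i : Fin n => (V i).toScheme) i ≫ q) ≫ jι) :=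
    ((IsPullback.of_hasPullback (pullback.snd (pullback.snd f jι) q) (Sigma.ι (fun i : Fin n => (V i).toScheme) i)).flip.paste_vert
      (IsPullback.of_hasPullback (pullback.snd f jι) q).flip |>.paste_vert
      (IsPullback.of_hasPullback f jι).flip).flip
  have e : (Sigma.ι (fun i : Fin n => (V i).toScheme) i ≫ q) ≫ jι = (V i).ι ≫ 𝒰.f (idx i) := by
    rw [Sigma.ι_desc, hr]
  rw [e] at big
  have C := IsPullback.of_hasPullback f (𝒰.f (idx i))
  have hw : (((pullback.fst (pullback.snd (pullback.snd f jι) q) (Sigma.ι (fun i : Fin n => (V i).toScheme) i) ≫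
        pullback.fst (pullback.snd f jι) q) ≫ pullback.fst f jι)) ≫ f =
      (pullback.snd (pullback.snd (pullback.snd f jι) q) (Sigma.ι (fun i : Fin n => (V i).toScheme) i) ≫ (V i).ι) ≫ 𝒰.f (idx i) := by
    rw [big.w, Category.assoc]
  have left : IsPullback (C.lift _ _ hw)
      (pullback.snd (pullback.snd (pullback.snd f jι) q) (Sigma.ι (fun i : Fin n => (V i).toScheme) i))
      (pullback.snd f (𝒰.f (idx i))) (V i).ι := by
    refine IsPullback.of_right ?_ (C.lift_snd _ _ hw) C
    rw [C.lift_fst]
    exact big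
  exact MorphismProperty.of_isPullback (P := P) left (H (idx i))

/-- A property which is stable under base change, Zariski-local on the target and descends along
surjective flat quasi-compact morphisms can be checked on an fpqc covering family. -/
theorem of_mem_fpqcPrecoverage (P : MorphismProperty Scheme.{u}) [P.IsStableUnderBaseChange]
    [IsZariskiLocalAtTarget P]
    [P.DescendsAlong (@Surjective ⊓ @Flat ⊓ @QuasiCompact)]
    {X Y : Scheme.{u}} (f : X ⟶ Y) (R : Presieve Y) (hR : R ∈ Scheme.fpqcPrecoverage Y)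
    (H : ∀ ⦃Y' : Scheme.{u}⦄ (g : Y' ⟶ Y), R g → P (pullback.snd f g)) : P f := by
  obtain ⟨𝒰, rfl⟩ := Precoverage.mem_iff_exists_zeroHypercover.mp hR
  have hqc : QuasiCompactCover 𝒰.toPreZeroHypercover := by
    rw [← Scheme.presieve₀_mem_qcPrecoverage_iff]
    exact 𝒰.mem₀.1
  have hfl : ∀ i, Flat (𝒰.f i) := by
    intro i
    have h2 := 𝒰.mem₀.2
    rw [Scheme.presieve₀_mem_precoverage_iff] at h2
    exact h2.2 i
  exact of_quasiCompactCover P f 𝒰.toPreZeroHypercover hfl (fun i => H _ (Presieve.ofArrows.mk i))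

end Groth.Agent.Lib.Helper5
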