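import Groth.Agent.S6044
import Groth.Agent.S11719
import Groth.Agent.S0083
import Groth.Agent.Lib.Helper5.FpqcLocal
import Mathlib.AlgebraicGeometry.IdealSheaf.Functorial

/-!
# fpqc descent of closed subschemes, in ideal-sheaf form

For an fpqc covering family `g i : Q i ⟶ P` and ideal sheaves `I i` on the `Q i` whose pullbacks to
the double fibre products agree, there is exactly one ideal sheaf on `P` pulling back to the `I i`.
-/

set_option autoImplicit false
universe u
open CategoryTheory CategoryTheory.Limits AlgebraicGeometry Desc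

namespace Groth.Agent.Lib.Helper5.DescClosed

/-- A point of `X` factors through the pulled-back closed subscheme iff its image factors through
the closed subscheme. -/
lemma lifts_comap_iff {X Y T : Scheme.{u}} (I : Y.IdealSheafData) (f : X ⟶ Y) (x : T ⟶ X) :
    (∃ v : T ⟶ (I.comap f).subscheme, v ≫ (I.comap f).subschemeι = x) ↔
      ∃ w : T ⟶ I.subscheme, w ≫ I.subschemeι = x ≫ f := by
  constructor
  · rintro ⟨v, rfl⟩
    refine ⟨v ≫ (I.comapIso f).hom ≫ pullback.snd _ _, ?_⟩
    rw [Category.assoc, Category.assoc, ← pullback.condition,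
      Scheme.IdealSheafData.comapIso_hom_fst_assoc, Category.assoc]
  · rintro ⟨w, hw⟩
    refine ⟨pullback.lift x w hw.symm ≫ (I.comapIso f).inv, ?_⟩
    rw [Category.assoc, Scheme.IdealSheafData.comapIso_inv_subschemeι, pullback.lift_fst]

section

variable {P : Scheme.{u}} {ι : Type u} {Q : ι → Scheme.{u}} (g : ∀ i, Q i ⟶ P)
  (I : ∀ i, (Q i).IdealSheafData)
  (h : ∀ i j, (I i).comap (pullback.fst (g i) (g j)) = (I j).comap (pullback.snd (g i) (g j)))

include h in
lemma transfer ⦃T : Scheme.{u}⦄ ⦃i j : ι⦄ (x₀ : T ⟶ Q i) (x₁ : T ⟶ Q j)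
    (e : x₀ ≫ g i = x₁ ≫ g j)
    (H : ∃ w : T ⟶ (I i).subscheme, w ≫ (I i).subschemeι = x₀) :
    ∃ w : T ⟶ (I j).subscheme, w ≫ (I j).subschemeι = x₁ := by
  have h1 : ∃ w : T ⟶ (I i).subscheme, w ≫ (I i).subschemeι =
      pullback.lift x₀ x₁ e ≫ pullback.fst (g i) (g j) := by
    rw [pullback.lift_fst]; exact H
  rw [← lifts_comap_iff, h i j, lifts_comap_iff, pullback.lift_snd] at h1
  exact h1

instance subsingleton_lifts {Y T : Scheme.{u}} (K : Y.IdealSheafData) (x : T ⟶ Y) :
    Subsingleton (Lifts (Over.mk K.subschemeι) x) :=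
  ⟨fun a b => Subtype.ext ((cancel_mono K.subschemeι).1 (a.2.trans b.2.symm))⟩

/-- The descent datum of a compatible family of closed subschemes. -/
noncomputable def closedDD : SchDDFam g where
  obj i := Over.mk (I i).subschemeι
  φ T i j x₀ x₁ e :=
    { toFun := fun v => ⟨(transfer g I h x₀ x₁ e ⟨v.1, v.2⟩).choose,
        (transfer g I h x₀ x₁ e ⟨v.1, v.2⟩).choose_spec⟩
      invFun := fun v => ⟨(transfer g I h x₁ x₀ e.symm ⟨v.1, v.2⟩).choose,
        (transfer g I h x₁ x₀ e.symm ⟨v.1, v.2⟩).choose_spec⟩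
      left_inv := fun v => Subsingleton.elim _ _
      right_inv := fun v => Subsingleton.elim _ _ }
  φ_natural T T' k i j x₀ x₁ e y₀ y₁ hy₀ hy₁ e' v v' hv' := by
    rw [← cancel_mono (I j).subschemeι]
    have e1 := (transfer g I h y₀ y₁ e' ⟨v'.1, v'.2⟩).choose_spec
    have e2 := (transfer g I h x₀ x₁ e ⟨v.1, v.2⟩).choose_spec
    change (transfer g I h y₀ y₁ e' ⟨v'.1, v'.2⟩).choose ≫ _ =
      (k ≫ (transfer g I h x₀ x₁ e ⟨v.1, v.2⟩).choose) ≫ _
    rw [e1, Category.assoc, e2, hy₁]
  φ_self T i x v := Subsingleton.elim _ _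
  φ_comp T i j k x₀ x₁ x₂ h₀₁ h₁₂ v := Subsingleton.elim _ _

/-- Descent data with monomorphic members: any family of isomorphisms of the members is an
isomorphism of descent data. -/
noncomputable def isoOfMono {D D' : SchDDFam g} (hD : ∀ i, Mono (D.obj i).hom)
    (hD' : ∀ i, Mono (D'.obj i).hom) (e : ∀ i, D.obj i ≅ D'.obj i) : D ≅ D' where
  hom := ⟨fun i => (e i).hom, fun T i j x₀ x₁ hh v w hw => by
    haveI := hD' j
    rw [← cancel_mono (D'.obj j).hom, (D'.φ x₀ x₁ hh w).2, Category.assoc, Over.w (e j).hom,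
      (D.φ x₀ x₁ hh v).2]⟩
  inv := ⟨fun i => (e i).inv, fun T i j x₀ x₁ hh v w hw => by
    haveI := hD j
    rw [← cancel_mono (D.obj j).hom, (D.φ x₀ x₁ hh w).2, Category.assoc, Over.w (e j).inv,
      (D'.φ x₀ x₁ hh v).2]⟩
  hom_inv_id := by ext i; simp
  inv_hom_id := by ext i; simp

lemma overIso_of_eq {Y : Scheme.{u}} {K K' : Y.IdealSheafData} (hK : K = K') :
    Nonempty (Over.mk K.subschemeι ≅ Over.mk K'.subschemeι) := by
  subst hK; exact ⟨Iso.refl _⟩

/-- A closed subscheme of `P` pulling back to the given ones has canonical descent datum `closedDD`. -/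
lemma nonempty_iso_closedDD (J : P.IdealSheafData) (hJ : ∀ i, J.comap (g i) = I i) :
    Nonempty ((toDDFam g).obj (Over.mk J.subschemeι) ≅ closedDD g I h) := by
  have key : ∀ i, Nonempty (((toDDFam g).obj (Over.mk J.subschemeι)).obj i ≅ (closedDD g I h).obj i) := by
    intro i
    obtain ⟨e⟩ := overIso_of_eq (hJ i)
    refine ⟨?_ ≪≫ e⟩
    exact Over.isoMk (J.comapIso (g i)).symm (by
      change (J.comapIso (g i)).inv ≫ (J.comap (g i)).subschemeι = pullback.fst (g i) J.subschemeι
      exact Scheme.IdealSheafData.comapIso_inv_subschemeι J (g i))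
  refine ⟨isoOfMono g ?_ ?_ (fun i => (key i).some)⟩
  · intro i
    change Mono (pullback.fst (g i) J.subschemeι)
    infer_instance
  · intro i
    change Mono (I i).subschemeι
    infer_instance

include h in
theorem existsUnique_comap_eq (hg : Presieve.ofArrows Q g ∈ Scheme.fpqcPrecoverage P) :
    ∃! J : P.IdealSheafData, ∀ i, J.comap (g i) = I i := by
  have hff := Groth.Agent.S11719.result g hg
  haveI := hff.1
  haveI := hff.2
  have hd := Groth.Agent.S0083.result.{u}
  have heff : (closedDD g I h).IsEffective := by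
    apply Groth.Agent.S6044.result g hg
    intro i
    change IsClosedImmersion (I i).subschemeι
    infer_instance
  obtain ⟨U, ⟨e⟩⟩ := heff
  -- components of the iso
  have hcomp : ∀ i, ∃ (t : pullback (g i) U.hom ⟶ (I i).subscheme), IsIso t ∧
      pullback.fst (g i) U.hom = t ≫ (I i).subschemeι := by
    intro i
    refine ⟨(e.hom.hom i).left, ⟨(e.inv.hom i).left, ?_, ?_⟩, (Over.w (e.hom.hom i)).symm⟩
    · exact congrArg (fun a : (toDDFam g).obj U ⟶ (toDDFam g).obj U => (a.hom i).left) e.hom_inv_id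
    · exact congrArg (fun a : closedDD g I h ⟶ closedDD g I h => (a.hom i).left) e.inv_hom_id
  have hci : IsClosedImmersion U.hom := by
    apply Groth.Agent.Lib.Helper5.of_mem_fpqcPrecoverage @IsClosedImmersion U.hom _ hg
    rintro _ _ ⟨i⟩
    obtain ⟨t, ht, hc⟩ := hcomp i
    have e1 : pullback.snd U.hom (g i) = (pullbackSymmetry _ _).hom ≫ pullback.fst (g i) U.hom := by
      simp
    rw [e1, hc]
    infer_instance
  have hJ : ∀ i, U.hom.ker.comap (g i) = I i := by
    intro i
    obtain ⟨t, ht, hc⟩ := hcomp i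
    rw [← Scheme.IdealSheafData.ker_fst_of_isClosedImmersion, hc,
      Scheme.Hom.ker_comp_of_isIso, Scheme.IdealSheafData.ker_subschemeι]
  refine ⟨U.hom.ker, hJ, fun J' hJ' => ?_⟩
  obtain ⟨e'⟩ := nonempty_iso_closedDD g I h J' hJ'
  let θ : Over.mk J'.subschemeι ≅ U := (toDDFam g).preimageIso (e' ≪≫ e.symm)
  have hθ : J'.subschemeι = θ.hom.left ≫ U.hom := (Over.w θ.hom).symm
  haveI : IsIso θ.hom.left := inferInstance
  rw [← Scheme.IdealSheafData.ker_subschemeι J', hθ, Scheme.Hom.ker_comp_of_isIso]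

end

end Groth.Agent.Lib.Helper5.DescClosed
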