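import Mathlib
import Groth.Prelude.Def_DescFam
import Groth.Prelude.Def_Mor2
import Groth.Agent.Lib.Helper5.DescRestrict
import Groth.Agent.Lib.Helper5.DescQAffHom

/-!
# Effective descent along finite locally free covers when orbits lie in affine opens (helper5)

SGA1 VIII 7.6: for `p : X ⟶ S` finite, flat, of finite presentation and surjective, a descent datum
`D` on `V/X` is effective as soon as every orbit of the induced equivalence relation on `V` is
contained in an affine open of `V`.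
-/

set_option autoImplicit false
universe u
open CategoryTheory CategoryTheory.Limits AlgebraicGeometry Desc Opposite

namespace Groth.Agent.Lib.Helper5.DescFinOrbit

open Groth.Agent.Lib.Helper5.DescPull Groth.Agent.Lib.Helper5.DescRefine
  Groth.Agent.Lib.Helper5.DescFunctor Groth.Agent.Lib.Helper5.AffCore
  Groth.Agent.Lib.Helper5.DescQAffHom Groth.Agent.Lib.Helper7.QA

/-- Any morphism from a quasi-affine scheme to an affine scheme is quasi-affine. -/
lemma QAffHom_of_isQuasiAffine {X Y : Scheme.{u}} [X.IsQuasiAffine] [IsAffine Y] (f : X ⟶ Y) :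
    Mor2.IsQuasiAffine f := by
  refine ⟨inferInstance, fun V hV => ?_⟩
  haveI : CompactSpace ↥(f ⁻¹ᵁ V : Scheme.{u}) :=
    isCompact_iff_compactSpace.mp (f.isCompact_preimage hV.isCompact)
  exact Scheme.IsQuasiAffine.of_isImmersion (f ⁻¹ᵁ V).ι

/-- If a descent datum lives over an open `S₁` of the base and its restriction to `S₁` is
effective, then it is effective. -/
theorem effective_of_pull_open {X S : Scheme.{u}} (p : X ⟶ S) [hp : IsDescCover p] (D : SchDD p)
    (S₁ : S.Opens) (hS : ∀ v : D.obj.left, p.base (D.obj.hom.base v) ∈ S₁)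
    (U₁ : Over (S₁ : Scheme.{u}))
    (θ₁ : (toDD (p ∣_ S₁)).obj U₁ ≅
      pullDD S₁.ι (p ⁻¹ᵁ S₁).ι (isPullback_morphismRestrict p S₁).flip.w D) :
    ∃ U : Over S, Nonempty ((toDD p).obj U ≅ D) := by
  have hsq : IsPullback (p ⁻¹ᵁ S₁).ι (p ∣_ S₁) p S₁.ι := (isPullback_morphismRestrict p S₁).flip
  apply effective_of_open_cover D
  intro v
  refine ⟨(toDD p).obj (Over.mk (bcSec D hsq U₁ θ₁).t), (bcSec D hsq U₁ θ₁).a, inferInstance, ?_,
    Over.mk (bcSec D hsq U₁ θ₁).t, ⟨Iso.refl _⟩⟩
  apply mem_range_bcSec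
  rw [Scheme.Opens.range_ι]
  exact hS v

variable {X S : Scheme.{u}} {p : X ⟶ S} (D : SchDD p)

/-- the orbit of a point under the equivalence relation defined by the descent datum -/
def orbit (v : D.obj.left) : Set D.obj.left :=
  (act D).base '' ((pullback.snd p (D.obj.hom ≫ p)).base ⁻¹' {v})

/-- the unit section of the groupoid -/
noncomputable def unitR : D.obj.left ⟶ pullback p (D.obj.hom ≫ p) :=
  pullback.lift D.obj.hom (𝟙 _) (by simp)

lemma unitR_snd : unitR D ≫ pullback.snd p (D.obj.hom ≫ p) = 𝟙 _ := pullback.lift_snd _ _ _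

lemma unitR_act : unitR D ≫ act D = 𝟙 _ := by
  unfold unitR
  rw [lift_act]
  exact φ_self' D _ _ (by rw [Category.id_comp])

lemma mem_orbit_self (v : D.obj.left) : v ∈ orbit D v := by
  refine ⟨(unitR D).base v, ?_, ?_⟩
  · have := congrArg (fun f => f.base v) (unitR_snd D)
    exact this
  · have := congrArg (fun f => f.base v) (unitR_act D)
    exact this

/-- all points of an orbit lie over the same point of the base -/
lemma orbit_base (v w : D.obj.left) (hw : w ∈ orbit D v) :
    p.base (D.obj.hom.base w) = p.base (D.obj.hom.base v) := by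
  obtain ⟨z, hz, rfl⟩ := hw
  have hz' : (pullback.snd p (D.obj.hom ≫ p)).base z = v := hz
  have e : act D ≫ D.obj.hom ≫ p = pullback.snd p (D.obj.hom ≫ p) ≫ D.obj.hom ≫ p := by
    rw [← Category.assoc, act_hom, pullback.condition]
  have := congrArg (fun f => f.base z) e
  rw [← hz']
  exact this

/-- the set of points whose orbit lies in a given open is open, when `p` is universally closed -/
lemma isOpen_orbit_subset [UniversallyClosed p] (U : D.obj.left.Opens) :
    IsOpen {w : D.obj.left | orbit D w ⊆ (U : Set D.obj.left)} := by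
  have hcl : IsClosedMap (pullback.snd p (D.obj.hom ≫ p)).base :=
    (pullback.snd p (D.obj.hom ≫ p)).isClosedMap
  have hc : IsClosed ((pullback.snd p (D.obj.hom ≫ p)).base ''
      ((act D).base ⁻¹' ((U : Set D.obj.left)ᶜ))) :=
    hcl _ ((U.isOpen.isClosed_compl).preimage (act D).continuous)
  convert hc.isOpen_compl using 1
  ext w
  simp only [Set.mem_ofPred_eq, Set.mem_compl_iff, Set.mem_image, Set.mem_preimage, not_exists,
    not_and]
  constructor
  · intro h z hz hzw
    exact hz (h ⟨z, hzw, rfl⟩)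
  · rintro h _ ⟨z, hz, rfl⟩
    by_contra hn
    exact h z hn hz

/-- the saturation of an open all of whose orbits lie in `U` lies in `U` -/
lemma sat_le [UniversallyOpen p] (K U : D.obj.left.Opens)
    (h : ∀ w ∈ K, orbit D w ⊆ (U : Set D.obj.left)) : sat D K ≤ U := by
  rintro _ ⟨z, rfl⟩
  have e : actW D K = mW D K ≫ act D := rfl
  have e2 : mW D K ≫ pullback.snd p (D.obj.hom ≫ p) =
      pullback.snd p (K.ι ≫ D.obj.hom ≫ p) ≫ K.ι := pullback.lift_snd _ _ _
  refine h (K.ι.base ((pullback.snd p (K.ι ≫ D.obj.hom ≫ p)).base z)) 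
    ((pullback.snd p (K.ι ≫ D.obj.hom ≫ p)).base z).2 ⟨(mW D K).base z, ?_, ?_⟩
  · have := congrArg (fun f => f.base z) e2
    exact this
  · have := congrArg (fun f => f.base z) e
    exact this.symm

/-- the saturation of an open lying over `S₁` lies over `S₁` -/
lemma sat_base [UniversallyOpen p] (K : D.obj.left.Opens) (S₁ : S.Opens)
    (h : ∀ w ∈ K, p.base (D.obj.hom.base w) ∈ S₁) :
    ∀ w ∈ sat D K, p.base (D.obj.hom.base w) ∈ S₁ := by
  rintro _ ⟨z, rfl⟩
  have e : actW D K = mW D K ≫ act D := rfl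
  have e2 : mW D K ≫ pullback.snd p (D.obj.hom ≫ p) =
      pullback.snd p (K.ι ≫ D.obj.hom ≫ p) ≫ K.ι := pullback.lift_snd _ _ _
  have hb := orbit_base D (K.ι.base ((pullback.snd p (K.ι ≫ D.obj.hom ≫ p)).base z))
    ((actW D K).base z) ⟨(mW D K).base z, ?_, ?_⟩
  · rw [hb]
    exact h _ ((pullback.snd p (K.ι ≫ D.obj.hom ≫ p)).base z).2
  · have := congrArg (fun f => f.base z) e2
    exact this
  · have := congrArg (fun f => f.base z) e
    exact this.symm

/-- a stable quasi-compact open inside an affine open, lying over an affine open of the base, gives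
an effective sub-datum -/
theorem effective_restrict [IsFinite p] [Flat p] [Surjective p]
    (W U : D.obj.left.Opens) (hW : IsStable D W) (hWU : W ≤ U) (hU : IsAffineOpen U)
    (hWc : IsCompact (W : Set D.obj.left)) (S₁ : S.Opens) (hS₁ : IsAffineOpen S₁)
    (hWS : ∀ w ∈ W, p.base (D.obj.hom.base w) ∈ S₁) :
    ∃ U' : Over S, Nonempty ((toDD p).obj U' ≅ restrictDD D W hW) := by
  haveI : IsAffine (S₁ : Scheme.{u}) := hS₁
  have hsq : IsPullback (p ⁻¹ᵁ S₁).ι (p ∣_ S₁) p S₁.ι := (isPullback_morphismRestrict p S₁).flip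
  have w : (p ⁻¹ᵁ S₁).ι ≫ p = (p ∣_ S₁) ≫ S₁.ι := hsq.w
  haveI : Flat (p ∣_ S₁) := MorphismProperty.of_isPullback hsq ‹Flat p›
  haveI : Surjective (p ∣_ S₁) := MorphismProperty.of_isPullback hsq ‹Surjective p›
  haveI : IsFinite (p ∣_ S₁) := MorphismProperty.of_isPullback hsq ‹IsFinite p›
  haveI : IsAffine (p ⁻¹ᵁ S₁ : Scheme.{u}) := isAffine_of_isAffineHom (p ∣_ S₁)
  let D' := restrictDD D W hW
  let D₁ : SchDD (p ∣_ S₁) := pullDD S₁.ι (p ⁻¹ᵁ S₁).ι w D'
  -- the underlying scheme of `D₁` is isomorphic to `W`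
  have hfac : Set.range (W.ι ≫ D.obj.hom).base ⊆ Set.range (p ⁻¹ᵁ S₁).ι.base := by
    rintro _ ⟨w, rfl⟩
    rw [Scheme.Opens.range_ι]
    exact hWS _ w.2
  haveI : IsIso (pullback.fst (W.ι ≫ D.obj.hom) (p ⁻¹ᵁ S₁).ι) := by
    have : Surjective (pullback.fst (W.ι ≫ D.obj.hom) (p ⁻¹ᵁ S₁).ι) := ⟨by
      intro x
      obtain ⟨y, hy⟩ := hfac ⟨x, rfl⟩
      obtain ⟨z, hz, -⟩ := Scheme.Pullback.exists_preimage_pullback
        (f := W.ι ≫ D.obj.hom) (g := (p ⁻¹ᵁ S₁).ι) x y hy.symm
      exact ⟨z, hz⟩⟩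
    exact (isIso_iff_isOpenImmersion_and_epi_base _).mpr ⟨inferInstance,
      (TopCat.epi_iff_surjective _).mpr this.surj⟩
  haveI : CompactSpace (W : Scheme.{u}) := isCompact_iff_compactSpace.mp hWc
  haveI : IsAffine (U : Scheme.{u}) := hU
  haveI : (W : Scheme.{u}).IsQuasiAffine :=
    Scheme.IsQuasiAffine.of_isImmersion (D.obj.left.homOfLE hWU)
  haveI : (pullback (W.ι ≫ D.obj.hom) (p ⁻¹ᵁ S₁).ι).IsQuasiAffine :=
    isQuasiAffine_of_iso (asIso (pullback.fst (W.ι ≫ D.obj.hom) (p ⁻¹ᵁ S₁).ι))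
  have hqa : Mor2.IsQuasiAffine D₁.obj.hom :=
    QAffHom_of_isQuasiAffine (pullback.snd (W.ι ≫ D.obj.hom) (p ⁻¹ᵁ S₁).ι)
  obtain ⟨U₁, ⟨θ₁⟩⟩ := DescQAffHom.effective_of_isAffine_base (p ∣_ S₁) D₁ hqa
  exact effective_of_pull_open p D' S₁ (fun v => hWS _ v.2) U₁ θ₁

/-- SGA1 VIII 7.6: descent data along a finite locally free cover all of whose orbits lie in affine
opens are effective. -/
theorem effective_of_orbit_affine [IsFinite p] [Flat p] [Surjective p]
    [LocallyOfFinitePresentation p]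
    (h : ∀ v : D.obj.left, ∃ U : D.obj.left.Opens, IsAffineOpen U ∧
      orbit D v ⊆ (U : Set D.obj.left)) :
    ∃ U : Over S, Nonempty ((toDD p).obj U ≅ D) := by
  apply effective_of_open_cover D
  intro v
  obtain ⟨U, hU, hUo⟩ := h v
  obtain ⟨_, ⟨(S₁ : S.Opens), hS₁, rfl⟩, hs₀, -⟩ := S.isBasis_affineOpens.exists_subset_of_mem_open
    (Set.mem_univ (p.base (D.obj.hom.base v))) isOpen_univ
  -- the open set of points whose orbit lies in `U` and which lie over `S₁`
  let K₀ : D.obj.left.Opens := ⟨{w | orbit D w ⊆ (U : Set D.obj.left)}, isOpen_orbit_subset D U⟩ ⊓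
    (D.obj.hom ≫ p) ⁻¹ᵁ S₁
  have hvK₀ : v ∈ K₀ := ⟨hUo, hs₀⟩
  obtain ⟨_, ⟨(K : D.obj.left.Opens), hK, rfl⟩, hvK, hKK₀⟩ :=
    D.obj.left.isBasis_affineOpens.exists_subset_of_mem_open hvK₀ K₀.isOpen
  haveI : IsAffine (K : Scheme.{u}) := hK
  have hst := sat_stable D K
  have hle : sat D K ≤ U := sat_le D K U (fun w hw => (hKK₀ hw).1)
  have hbase : ∀ w ∈ sat D K, p.base (D.obj.hom.base w) ∈ S₁ :=
    sat_base D K S₁ (fun w hw => (hKK₀ hw).2)
  haveI : IsAffine (QW D K) := isAffine_of_isAffineHom (pullback.snd p (K.ι ≫ D.obj.hom ≫ p))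
  have hc : IsCompact (sat D K : Set D.obj.left) := isCompact_sat D K
  refine ⟨restrictDD D (sat D K) hst, restrictHom D (sat D K) hst, inferInstance, ?_, ?_⟩
  · rw [range_restrictHom]
    exact le_sat D K hvK
  · exact effective_restrict D (sat D K) U hst hle hU hc S₁ hS₁ hbase

/-- a geometric point of `R` over a point `z`, lying over a given geometric point of `V` -/
lemma exists_geom_point [IsFinite p] {k : Type u} [Field k] [IsAlgClosed k]
    (vb : Spec (CommRingCat.of k) ⟶ D.obj.left)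
    (z : ↥(pullback p (D.obj.hom ≫ p)))
    (hz : (pullback.snd p (D.obj.hom ≫ p)).base z = vb.base (IsLocalRing.closedPoint k)) :
    ∃ g : Spec (CommRingCat.of k) ⟶ pullback p (D.obj.hom ≫ p),
      g ≫ pullback.snd p (D.obj.hom ≫ p) = vb ∧ g.base (IsLocalRing.closedPoint k) = z := by
  obtain ⟨q, hq1, -⟩ := Scheme.Pullback.exists_preimage_pullback
    (f := pullback.snd p (D.obj.hom ≫ p)) (g := vb) z (IsLocalRing.closedPoint k) hz
  let f := pullback.snd (pullback.snd p (D.obj.hom ≫ p)) vb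
  haveI : IsLocallyArtinian (Spec (CommRingCat.of k)) :=
    Scheme.isLocallyArtinianScheme_Spec.mpr inferInstance
  haveI : IsLocallyArtinian (pullback (pullback.snd p (D.obj.hom ≫ p)) vb) :=
    IsLocallyArtinian.of_locallyQuasiFinite f
  have hcl : IsClosed {q} := isClosed_discrete _
  let σ := pointOfClosedPoint f q hcl
  have hσ : σ ≫ f = 𝟙 _ := pointOfClosedPoint_comp f q hcl
  have hσq : σ.base (IsLocalRing.closedPoint k) = q := pointOfClosedPoint_apply f q hcl _
  refine ⟨σ ≫ pullback.fst (pullback.snd p (D.obj.hom ≫ p)) vb, ?_, ?_⟩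
  · rw [Category.assoc, pullback.condition, ← Category.assoc, hσ, Category.id_comp]
  · change (pullback.fst (pullback.snd p (D.obj.hom ≫ p)) vb).base (σ.base _) = _
    rw [hσq, hq1]

/-- the orbit is bounded by the number of geometric points of the fibre of `p` -/
lemma encard_orbit_le_aux [IsFinite p] {k : Type u} [Field k] [IsAlgClosed k]
    (vb : Spec (CommRingCat.of k) ⟶ D.obj.left) (v : D.obj.left)
    (hvb : vb.base (IsLocalRing.closedPoint k) = v) :
    (orbit D v).encard ≤
      Set.encard {x : Spec (CommRingCat.of k) ⟶ X | x ≫ p = vb ≫ D.obj.hom ≫ p} := by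
  -- the map from geometric points of the fibre to the orbit
  let Ψ : {x : Spec (CommRingCat.of k) ⟶ X | x ≫ p = vb ≫ D.obj.hom ≫ p} → D.obj.left := fun x =>
    (act D).base ((pullback.lift x.1 vb x.2 : Spec (CommRingCat.of k) ⟶
      pullback p (D.obj.hom ≫ p)).base (IsLocalRing.closedPoint k))
  have hsub : orbit D v ⊆ Set.range Ψ := by
    rintro _ ⟨z, hz, rfl⟩
    obtain ⟨g, hg1, hg2⟩ := exists_geom_point D vb z (hz.trans hvb.symm)
    have hx : (g ≫ pullback.fst p (D.obj.hom ≫ p)) ≫ p = vb ≫ D.obj.hom ≫ p := by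
      rw [Category.assoc, pullback.condition, ← Category.assoc, hg1]
    refine ⟨⟨g ≫ pullback.fst p (D.obj.hom ≫ p), hx⟩, ?_⟩
    have e : (pullback.lift (g ≫ pullback.fst p (D.obj.hom ≫ p)) vb hx :
        Spec (CommRingCat.of k) ⟶ pullback p (D.obj.hom ≫ p)) = g := by
      apply pullback.hom_ext
      · rw [pullback.lift_fst]
      · rw [pullback.lift_snd, hg1]
    change (act D).base ((pullback.lift (g ≫ pullback.fst p (D.obj.hom ≫ p)) vb hx :
      Spec (CommRingCat.of k) ⟶ pullback p (D.obj.hom ≫ p)).base _) = _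
    rw [e, hg2]
  calc (orbit D v).encard ≤ (Set.range Ψ).encard := Set.encard_le_encard hsub
    _ = (Ψ '' Set.univ).encard := by rw [Set.image_univ]
    _ ≤ (Set.univ : Set {x : Spec (CommRingCat.of k) ⟶ X | x ≫ p = vb ≫ D.obj.hom ≫ p}).encard :=
      Set.encard_image_le _ _
    _ = Set.encard {x : Spec (CommRingCat.of k) ⟶ X | x ≫ p = vb ≫ D.obj.hom ≫ p} := by
      rw [Set.encard_univ]; rfl

lemma encard_orbit_le [IsFinite p] (d : ℕ)
    (hfib : ∀ (k : Type u) [Field k] [IsAlgClosed k] (y : Spec (CommRingCat.of k) ⟶ S),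
      Set.encard {x : Spec (CommRingCat.of k) ⟶ X | x ≫ p = y} ≤ d) (v : D.obj.left) :
    (orbit D v).encard ≤ d := by
  obtain ⟨k, _, _, vb, hvb⟩ : ∃ (k : Type u) (_ : Field k) (_ : IsAlgClosed k)
      (vb : Spec (CommRingCat.of k) ⟶ D.obj.left), vb.base (IsLocalRing.closedPoint k) = v := by
    refine ⟨AlgebraicClosure (D.obj.left.residueField v), inferInstance, inferInstance,
      Spec.map (CommRingCat.ofHom (algebraMap (D.obj.left.residueField v)
      (AlgebraicClosure (D.obj.left.residueField v)))) ≫ D.obj.left.fromSpecResidueField v, ?_⟩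
    exact Scheme.fromSpecResidueField_apply v _
  exact le_trans (encard_orbit_le_aux D vb v hvb) (hfib k _)

end Groth.Agent.Lib.Helper5.DescFinOrbit
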