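import Mathlib
import Groth.Prelude.Def_DescFam
import Groth.Agent.Lib.Helper5.DescAffineHom
import Groth.Agent.Lib.Helper5.DescRestrict

/-!
# Descent along flat, surjective, quasi-compact, universally injective morphisms (helper5)

For a universally injective `p`, the gluing bijections of a descent datum do not move points of the
underlying topological space (the diagonal of `p` is surjective and the bijection is the identity on
the diagonal).  Hence every open of the underlying scheme is stable, and every descent datum is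
covered by affine stable opens, for which descent is effective.
-/

set_option autoImplicit false
universe u
open CategoryTheory CategoryTheory.Limits AlgebraicGeometry Desc Opposite

namespace Groth.Agent.Lib.Helper5.DescRadicial

open Groth.Agent.Lib.Helper5.DescPull Groth.Agent.Lib.Helper5.DescRefine
  Groth.Agent.Lib.Helper5.DescAffine Groth.Agent.Lib.Helper5.DescFunctor
  Groth.Agent.Lib.Helper5.DescAffineHom

variable {X S : Scheme.{u}} {p : X ⟶ S}

lemma φ_eq_self (D : SchDD p) {T : Scheme.{u}} (x₀ x₁ : T ⟶ X) (e : x₀ = x₁)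
    (h : x₀ ≫ p = x₁ ≫ p) (v : Lifts D.obj x₀) : (D.φ x₀ x₁ h v).1 = v.1 := by
  subst e
  rw [D.φ_self]

/-- For universally injective `p` the gluing bijections fix the underlying points. -/
lemma φ_base_eq [UniversallyInjective p] (D : SchDD p) {T : Scheme.{u}} (x₀ x₁ : T ⟶ X)
    (h : x₀ ≫ p = x₁ ≫ p) (v : Lifts D.obj x₀) (t : T) :
    (D.φ x₀ x₁ h v).1.base t = v.1.base t := by
  haveI : Surjective (pullback.diagonal p) := (UniversallyInjective.iff_diagonal p).1 inferInstance
  let m : T ⟶ pullback p p := pullback.lift x₀ x₁ h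
  let j : pullback m (pullback.diagonal p) ⟶ T := pullback.fst m (pullback.diagonal p)
  let k : pullback m (pullback.diagonal p) ⟶ X := pullback.snd m (pullback.diagonal p)
  haveI : Surjective j := MorphismProperty.pullback_fst (P := @Surjective) _ _ inferInstance
  have e0 : j ≫ x₀ = k := by
    have : j ≫ m ≫ pullback.fst p p = k ≫ pullback.diagonal p ≫ pullback.fst p p := by
      rw [← Category.assoc, ← Category.assoc, pullback.condition]
    rw [pullback.lift_fst, pullback.diagonal_fst, Category.comp_id] at this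
    exact this
  have e1 : j ≫ x₁ = k := by
    have : j ≫ m ≫ pullback.snd p p = k ≫ pullback.diagonal p ≫ pullback.snd p p := by
      rw [← Category.assoc, ← Category.assoc, pullback.condition]
    rw [pullback.lift_snd, pullback.diagonal_snd, Category.comp_id] at this
    exact this
  have h' : (j ≫ x₀) ≫ p = (j ≫ x₁) ≫ p := by rw [e0, e1]
  have hv' : (j ≫ v.1) ≫ D.obj.hom = j ≫ x₀ := by rw [Category.assoc, v.2]
  have hn := D.φ_natural j x₀ x₁ h h' v ⟨j ≫ v.1, hv'⟩ rfl
  rw [φ_eq_self D (j ≫ x₀) (j ≫ x₁) (e0.trans e1.symm) h'] at hn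
  obtain ⟨t₀, rfl⟩ := j.surjective t
  have := congrArg (fun q => q.base t₀) hn
  simpa using this.symm

/-- For universally injective `p` every open is stable. -/
lemma isStable_of_universallyInjective [UniversallyInjective p] (D : SchDD p)
    (W : D.obj.left.Opens) : IsStable D W := by
  rintro T x₀ x₁ h v hv _ ⟨t, rfl⟩
  rw [φ_base_eq D x₀ x₁ h v t]
  exact hv ⟨t, rfl⟩

/-- The case of an affine base. -/
theorem effective_of_isAffine_base [IsAffine S] [Flat p] [Surjective p] [QuasiCompact p]
    [UniversallyInjective p] (D : SchDD p) : ∃ U : Over S, Nonempty ((toDD p).obj U ≅ D) := by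
  haveI : IsSeparated p := isSeparated_of_injective p p.injective
  apply effective_of_open_cover D
  intro v
  obtain ⟨_, ⟨(W : D.obj.left.Opens), hW, rfl⟩, hvW, -⟩ :=
    D.obj.left.isBasis_affineOpens.exists_subset_of_mem_open (Set.mem_univ v) isOpen_univ
  haveI : IsAffine (W : Scheme.{u}) := hW
  have hst := isStable_of_universallyInjective D W
  refine ⟨restrictDD D W hst, restrictHom D W hst, inferInstance, ?_, ?_⟩
  · rw [range_restrictHom]; exact hvW
  · haveI : IsAffineHom ((W.ι ≫ D.obj.hom) ≫ p) := inferInstance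
    haveI : IsAffineHom (restrictDD D W hst).obj.hom :=
      IsAffineHom.of_comp (f := W.ι ≫ D.obj.hom) (g := p)
    exact effective_of_isAffineHom p (restrictDD D W hst)

/-- Every descent datum relative to a flat, surjective, quasi-compact, universally injective
morphism is effective. -/
theorem effective_of_universallyInjective [Flat p] [Surjective p] [QuasiCompact p]
    [UniversallyInjective p] (D : SchDD p) : ∃ U : Over S, Nonempty ((toDD p).obj U ≅ D) := by
  apply effective_of_open_cover D
  intro v
  obtain ⟨_, ⟨(S₁ : S.Opens), hS₁, rfl⟩, hs₀, -⟩ := S.isBasis_affineOpens.exists_subset_of_mem_open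
    (Set.mem_univ (p.base (D.obj.hom.base v))) isOpen_univ
  haveI : IsAffine (S₁ : Scheme.{u}) := hS₁
  have hsq : IsPullback (p ⁻¹ᵁ S₁).ι (p ∣_ S₁) p S₁.ι := (isPullback_morphismRestrict p S₁).flip
  have w : (p ⁻¹ᵁ S₁).ι ≫ p = (p ∣_ S₁) ≫ S₁.ι := hsq.w
  haveI : Flat (p ∣_ S₁) := MorphismProperty.of_isPullback hsq ‹Flat p›
  haveI : Surjective (p ∣_ S₁) := MorphismProperty.of_isPullback hsq ‹Surjective p›
  haveI : QuasiCompact (p ∣_ S₁) := MorphismProperty.of_isPullback hsq ‹QuasiCompact p›
  haveI : UniversallyInjective (p ∣_ S₁) :=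
    MorphismProperty.of_isPullback hsq ‹UniversallyInjective p›
  let D₁ : SchDD (p ∣_ S₁) := pullDD S₁.ι (p ⁻¹ᵁ S₁).ι w D
  obtain ⟨U₁, ⟨θ₁⟩⟩ := effective_of_isAffine_base D₁
  refine ⟨(toDD p).obj (Over.mk (bcSec D hsq U₁ θ₁).t), (bcSec D hsq U₁ θ₁).a, inferInstance, ?_,
    Over.mk (bcSec D hsq U₁ θ₁).t, ⟨Iso.refl _⟩⟩
  apply mem_range_bcSec
  rw [Scheme.Opens.range_ι]
  exact hs₀

end Groth.Agent.Lib.Helper5.DescRadicial
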