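import Mathlib
import Groth.Prelude.Def_DescFam
import Groth.Agent.Lib.Helper5.DescAffineHom
import Groth.Agent.Lib.Helper5.DescRadicial

/-!
# Descent along covers with Zariski-local sections (helper5)

If `p : X ⟶ S` is a descent cover admitting sections Zariski-locally on `S`, then every descent
datum relative to `p` is effective: over an open where `p` has a section, the datum is the
canonical datum of its pullback along the section.
-/

set_option autoImplicit false
universe u
open CategoryTheory CategoryTheory.Limits AlgebraicGeometry Desc Opposite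

namespace Groth.Agent.Lib.Helper5.DescLocSec

open Groth.Agent.Lib.Helper5.DescPull Groth.Agent.Lib.Helper5.DescRefine
  Groth.Agent.Lib.Helper5.DescAffine Groth.Agent.Lib.Helper5.DescFunctor
  Groth.Agent.Lib.Helper5.DescAffineHom Groth.Agent.Lib.Helper5.DescRadicial

variable {X S : Scheme.{u}} {p : X ⟶ S}

/-- Descent data relative to an identity morphism are effective. -/
theorem effective_id (E : SchDD (𝟙 S)) : ∃ U : Over S, Nonempty ((toDD (𝟙 S)).obj U ≅ E) :=
  effective_of_universallyInjective E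

/-- Every descent datum relative to a descent cover with Zariski-local sections is effective. -/
theorem effective_of_local_sections [hp : IsDescCover p] (D : SchDD p)
    (hsec : ∀ s : S, ∃ (W : S.Opens) (σ : (W : Scheme.{u}) ⟶ X), s ∈ W ∧ σ ≫ p = W.ι) :
    ∃ U : Over S, Nonempty ((toDD p).obj U ≅ D) := by
  apply effective_of_open_cover D
  intro v
  obtain ⟨W, σ, hsW, hσ⟩ := hsec (p.base (D.obj.hom.base v))
  have hsq : IsPullback (p ⁻¹ᵁ W).ι (p ∣_ W) p W.ι := (isPullback_morphismRestrict p W).flip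
  have w : (p ⁻¹ᵁ W).ι ≫ p = (p ∣_ W) ≫ W.ι := hsq.w
  let D₁ : SchDD (p ∣_ W) := pullDD W.ι (p ⁻¹ᵁ W).ι w D
  let σ' : (W : Scheme.{u}) ⟶ (p ⁻¹ᵁ W : Scheme.{u}) :=
    hsq.lift σ (𝟙 _) (by rw [hσ, Category.id_comp])
  have hσ' : σ' ≫ (p ∣_ W) = 𝟙 _ := hsq.lift_snd _ _ _
  obtain ⟨U₀, ⟨θ₀⟩⟩ := effective_id
    (pullDD (𝟙 (W : Scheme.{u})) σ' (hσ'.trans (Category.comp_id _).symm) D₁)
  obtain ⟨U₁, ⟨θ₁⟩⟩ := effective_of_refine (p ∣_ W) (𝟙 (W : Scheme.{u})) σ' hσ' D₁ U₀ θ₀
  refine ⟨(toDD p).obj (Over.mk (bcSec D hsq U₁ θ₁).t), (bcSec D hsq U₁ θ₁).a, inferInstance, ?_,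
    Over.mk (bcSec D hsq U₁ θ₁).t, ⟨Iso.refl _⟩⟩
  apply mem_range_bcSec
  rw [Scheme.Opens.range_ι]
  exact hsW

end Groth.Agent.Lib.Helper5.DescLocSec
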