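import Mathlib
import Groth.Prelude.Def_DescFam
import Groth.Agent.Lib.Helper64.DescFam
import Groth.Agent.Lib.Helper5.DescCoord
import Groth.Agent.Lib.Helper5.DescLocSec
import Groth.Agent.Lib.Helper5.DescFamReduce
import Groth.Agent.Lib.Helper5.DescFamCover

/-!
# Descent data relative to a Zariski refinement of a cover (helper5)

* `effective_of_zariski`: descent data relative to a Zariski covering family are effective.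
* For `p : X ⟶ S` and a Zariski covering family `h i : U i ⟶ X`, every descent datum relative to
  the family `h i ≫ p` comes from a descent datum relative to `p` (`extDD`, `extDD_spec`).
-/

set_option backward.isDefEq.respectTransparency false
set_option backward.isDefEq.respectTransparency.types false
set_option autoImplicit false
universe u
open CategoryTheory CategoryTheory.Limits AlgebraicGeometry Desc

namespace Groth.Agent.Lib.Helper5.DescZar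

open Groth.Agent.Lib.Helper64.DescFam Groth.Agent.Lib.Helper5.DescCoord
  Groth.Agent.Lib.Helper5.DescFunctor

section zar

variable {X : Scheme.{u}} {ι : Type u} {U : ι → Scheme.{u}} (h : ∀ i, U i ⟶ X)

/-- Descent data relative to a Zariski covering family are effective. -/
theorem effective_of_zariski (hh : Presieve.ofArrows U h ∈ Scheme.zariskiPrecoverage X)
    (D : SchDDFam h) : D.IsEffective := by
  have hh' : Presieve.ofArrows U h ∈ Scheme.fpqcPrecoverage X :=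
    Scheme.zariskiPrecoverage_le_fpqcPrecoverage X hh
  have hz : Presieve.ofArrows U h ∈ Scheme.precoverage @IsOpenImmersion X := hh
  rw [Scheme.ofArrows_mem_precoverage_iff] at hz
  haveI := Groth.Agent.Lib.Helper5.DescFamCover.isDescCover_sigmaDesc h hh'
  obtain ⟨V, ⟨θ⟩⟩ := Groth.Agent.Lib.Helper5.DescLocSec.effective_of_local_sections
    (p := Sigma.desc h) (Groth.Agent.Lib.Helper5.DescSigma.sigDD D) (by
      intro x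
      obtain ⟨i, hx⟩ := hz.1 x
      haveI : IsOpenImmersion (h i) := hz.2 i
      refine ⟨(h i).opensRange, (h i).isoOpensRange.inv ≫ Sigma.ι U i, hx, ?_⟩
      rw [Category.assoc, Sigma.ι_desc, Scheme.Hom.isoOpensRange_inv_comp])
  exact Groth.Agent.Lib.Helper5.DescFamReduce.isEffective_of_sigDD D V θ

end zar

section ext

variable {S X : Scheme.{u}} (p : X ⟶ S) {ι : Type u} {U : ι → Scheme.{u}} (h : ∀ i, U i ⟶ X)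
  (u : ∀ i, U i ⟶ S) (hu : ∀ i, h i ≫ p = u i) (E : SchDDFam u)

include hu in
lemma u_eq_of_h_eq {T : Scheme.{u}} {i j : ι} (x₀ : T ⟶ U i) (x₁ : T ⟶ U j)
    (e : x₀ ≫ h i = x₁ ≫ h j) : x₀ ≫ u i = x₁ ≫ u j := by
  rw [← hu, ← hu, ← Category.assoc, e, Category.assoc]

/-- the restriction of a descent datum relative to `h i ≫ p` to one relative to `h i` -/
def resDD : SchDDFam h where
  obj := E.obj
  φ T i j x₀ x₁ e := E.φ x₀ x₁ (u_eq_of_h_eq p h u hu x₀ x₁ e)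
  φ_natural T T' g i j x₀ x₁ e y₀ y₁ hy₀ hy₁ e' v v' hv' :=
    E.φ_natural g x₀ x₁ _ y₀ y₁ hy₀ hy₁ _ v v' hv'
  φ_self T i x v := E.φ_self x v
  φ_comp T i j k x₀ x₁ x₂ e₀₁ e₁₂ v := E.φ_comp x₀ x₁ x₂ _ _ v

variable {p h u hu E} {E₀ : Over X} (θ : (toDDFam h).obj E₀ ≅ resDD p h u hu E)

section loc

variable {T : Scheme.{u}} (y₀ y₁ : T ⟶ X) (hy : y₀ ≫ p = y₁ ≫ p) (d : Lifts E₀ y₀)

include hu hy in
lemma u_eq {T' : Scheme.{u}} (m : T' ⟶ T) {i j : ι} (x₀ : T' ⟶ U i) (x₁ : T' ⟶ U j)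
    (h₀ : m ≫ y₀ = x₀ ≫ h i) (h₁ : m ≫ y₁ = x₁ ≫ h j) : x₀ ≫ u i = x₁ ≫ u j := by
  rw [← hu, ← hu, ← Category.assoc, ← h₀, ← Category.assoc, ← h₁, Category.assoc, Category.assoc, hy]

lemma md_hom {T' : Scheme.{u}} (m : T' ⟶ T) {i : ι} (x₀ : T' ⟶ U i)
    (h₀ : m ≫ y₀ = x₀ ≫ h i) : (m ≫ d.1) ≫ E₀.hom = x₀ ≫ h i := by
  rw [Category.assoc, d.2]; exact h₀

/-- the local transport of a point in a pair of charts -/
noncomputable def loc {T' : Scheme.{u}} (m : T' ⟶ T) {i j : ι} (x₀ : T' ⟶ U i) (x₁ : T' ⟶ U j)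
    (h₀ : m ≫ y₀ = x₀ ≫ h i) (h₁ : m ≫ y₁ = x₁ ≫ h j) : T' ⟶ E₀.left :=
  uncoord θ x₁ (E.φ x₀ x₁ (u_eq (hu := hu) y₀ y₁ hy m x₀ x₁ h₀ h₁) (coord θ x₀ (m ≫ d.1) (md_hom y₀ d m x₀ h₀)))

lemma loc_hom {T' : Scheme.{u}} (m : T' ⟶ T) {i j : ι} (x₀ : T' ⟶ U i) (x₁ : T' ⟶ U j)
    (h₀ : m ≫ y₀ = x₀ ≫ h i) (h₁ : m ≫ y₁ = x₁ ≫ h j) :
    loc θ y₀ y₁ hy d m x₀ x₁ h₀ h₁ ≫ E₀.hom = m ≫ y₁ := by
  unfold loc
  rw [uncoord_hom, h₁]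

lemma coord_loc {T' : Scheme.{u}} (m : T' ⟶ T) {i j : ι} (x₀ : T' ⟶ U i) (x₁ : T' ⟶ U j)
    (h₀ : m ≫ y₀ = x₀ ≫ h i) (h₁ : m ≫ y₁ = x₁ ≫ h j)
    (hw : loc θ y₀ y₁ hy d m x₀ x₁ h₀ h₁ ≫ E₀.hom = x₁ ≫ h j) :
    coord θ x₁ (loc θ y₀ y₁ hy d m x₀ x₁ h₀ h₁) hw =
      E.φ x₀ x₁ (u_eq (hu := hu) y₀ y₁ hy m x₀ x₁ h₀ h₁) (coord θ x₀ (m ≫ d.1) (md_hom y₀ d m x₀ h₀)) :=
  coord_uncoord θ x₁ _

lemma loc_indep {T' : Scheme.{u}} (m : T' ⟶ T) {i j i' j' : ι} (x₀ : T' ⟶ U i) (x₁ : T' ⟶ U j)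
    (x₀' : T' ⟶ U i') (x₁' : T' ⟶ U j')
    (h₀ : m ≫ y₀ = x₀ ≫ h i) (h₁ : m ≫ y₁ = x₁ ≫ h j)
    (h₀' : m ≫ y₀ = x₀' ≫ h i') (h₁' : m ≫ y₁ = x₁' ≫ h j') :
    loc θ y₀ y₁ hy d m x₀ x₁ h₀ h₁ = loc θ y₀ y₁ hy d m x₀' x₁' h₀' h₁' := by
  unfold loc
  have e₀ : x₀ ≫ h i = x₀' ≫ h i' := h₀.symm.trans h₀'
  have e₁ : x₁ ≫ h j = x₁' ≫ h j' := h₁.symm.trans h₁'
  have c₀ := coord_φ θ x₀ x₀' e₀ (m ≫ d.1) (md_hom y₀ d m x₀ h₀) (md_hom y₀ d m x₀' h₀')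
  rw [← uncoord_φ θ x₁ x₁' e₁, ← c₀]
  congr 1
  change E.φ x₁ x₁' _ (E.φ x₀ x₁ _ _) = E.φ x₀' x₁' _ (E.φ x₀ x₀' _ _)
  rw [E.φ_comp, E.φ_comp]

lemma loc_nat {T' T'' : Scheme.{u}} (g : T'' ⟶ T') (m : T' ⟶ T) {i j : ι} (x₀ : T' ⟶ U i)
    (x₁ : T' ⟶ U j) (h₀ : m ≫ y₀ = x₀ ≫ h i) (h₁ : m ≫ y₁ = x₁ ≫ h j)
    (h₀' : (g ≫ m) ≫ y₀ = (g ≫ x₀) ≫ h i) (h₁' : (g ≫ m) ≫ y₁ = (g ≫ x₁) ≫ h j) :
    loc θ y₀ y₁ hy d (g ≫ m) (g ≫ x₀) (g ≫ x₁) h₀' h₁' = g ≫ loc θ y₀ y₁ hy d m x₀ x₁ h₀ h₁ := by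
  unfold loc
  apply uncoord_nat θ g x₁
  refine E.φ_natural g x₀ x₁ _ (g ≫ x₀) (g ≫ x₁) rfl rfl _ _ _ ?_
  have hw' : (g ≫ m ≫ d.1) ≫ E₀.hom = (g ≫ x₀) ≫ h i := by
    rw [Category.assoc, md_hom y₀ d m x₀ h₀, Category.assoc]
  exact (coord_congr θ (md_hom y₀ d (g ≫ m) (g ≫ x₀) h₀') hw' rfl (Category.assoc _ _ _)).trans
    (coord_nat θ g x₀ (m ≫ d.1) (md_hom y₀ d m x₀ h₀) hw')

end loc

variable (hh : Presieve.ofArrows U h ∈ Scheme.fpqcPrecoverage X)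

/-- the sieve of test morphisms over which both points have charts -/
def dblSieve {T : Scheme.{u}} (y₀ y₁ : T ⟶ X) : Sieve T := factSieve h y₀ ⊓ factSieve h y₁

include hh in
lemma dblSieve_mem {T : Scheme.{u}} (y₀ y₁ : T ⟶ X) :
    dblSieve (h := h) y₀ y₁ ∈ Scheme.fpqcTopology T :=
  Scheme.fpqcTopology.intersection_covering (factSieve_mem_of_ofArrows_mem h hh y₀)
    (factSieve_mem_of_ofArrows_mem h hh y₁)

include hh in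
/-- the transported point, characterised by its coordinates -/
theorem exists_tr {T : Scheme.{u}} (y₀ y₁ : T ⟶ X) (hy : y₀ ≫ p = y₁ ≫ p) (d : Lifts E₀ y₀) :
    ∃ d' : T ⟶ E₀.left, d' ≫ E₀.hom = y₁ ∧
      ∀ ⦃T' : Scheme.{u}⦄ (m : T' ⟶ T) ⦃i j : ι⦄ (x₀ : T' ⟶ U i) (x₁ : T' ⟶ U j)
        (h₀ : m ≫ y₀ = x₀ ≫ h i) (h₁ : m ≫ y₁ = x₁ ≫ h j),
        m ≫ d' = loc θ y₀ y₁ hy d m x₀ x₁ h₀ h₁ := by
  have hR := dblSieve_mem hh y₀ y₁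
  obtain ⟨b, hb⟩ := glue_of_covering (W' := E₀.left) (dblSieve (h := h) y₀ y₁) hR
    (fun T' m hm => loc θ y₀ y₁ hy d m hm.1.choose_spec.choose hm.2.choose_spec.choose
      hm.1.choose_spec.choose_spec.symm hm.2.choose_spec.choose_spec.symm)
    (by
      intro T' T'' m g hm
      have h₀ := hm.1.choose_spec.choose_spec.symm
      have h₁ := hm.2.choose_spec.choose_spec.symm
      rw [← loc_nat θ y₀ y₁ hy d g m _ _ h₀ h₁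
        ((Category.assoc g m y₀).trans ((congrArg (g ≫ ·) h₀).trans (Category.assoc _ _ _).symm))
        ((Category.assoc g m y₁).trans ((congrArg (g ≫ ·) h₁).trans (Category.assoc _ _ _).symm))]
      exact loc_indep θ y₀ y₁ hy d _ _ _ _ _ _ _ _ _)
  have key : ∀ ⦃T' : Scheme.{u}⦄ (m : T' ⟶ T) ⦃i j : ι⦄ (x₀ : T' ⟶ U i) (x₁ : T' ⟶ U j)
      (h₀ : m ≫ y₀ = x₀ ≫ h i) (h₁ : m ≫ y₁ = x₁ ≫ h j),
      m ≫ b = loc θ y₀ y₁ hy d m x₀ x₁ h₀ h₁ := by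
    intro T' m i j x₀ x₁ h₀ h₁
    have hm : dblSieve (h := h) y₀ y₁ m := ⟨⟨i, x₀, h₀.symm⟩, ⟨j, x₁, h₁.symm⟩⟩
    rw [hb m hm]
    exact loc_indep θ y₀ y₁ hy d _ _ _ _ _ _ _ _ _
  refine ⟨b, ?_, key⟩
  apply ext_of_covering _ hR
  rintro T' m ⟨⟨i, x₀, h₀⟩, ⟨j, x₁, h₁⟩⟩
  rw [← Category.assoc, key m x₀ x₁ h₀.symm h₁.symm, loc_hom]

include hh in
/-- points of `E₀` over the same point of `X` agreeing in coordinates on a covering sieve are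
equal -/
theorem pt_ext {T : Scheme.{u}} (y : T ⟶ X) (w₁ w₂ : T ⟶ E₀.left) (hw₁ : w₁ ≫ E₀.hom = y)
    (hw₂ : w₂ ≫ E₀.hom = y) (R : Sieve T) (hR : R ∈ Scheme.fpqcTopology T)
    (H : ∀ ⦃T' : Scheme.{u}⦄ (m : T' ⟶ T), R m → ∃ (j : ι) (x₁ : T' ⟶ U j)
      (e₁ : (m ≫ w₁) ≫ E₀.hom = x₁ ≫ h j) (e₂ : (m ≫ w₂) ≫ E₀.hom = x₁ ≫ h j),
      (coord θ x₁ (m ≫ w₁) e₁).1 = (coord θ x₁ (m ≫ w₂) e₂).1) : w₁ = w₂ := by
  apply ext_of_covering R hR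
  intro T' m hm
  obtain ⟨j, x₁, e₁, e₂, hc⟩ := H m hm
  exact coord_injective θ x₁ _ _ e₁ e₂ hc

end ext

end Groth.Agent.Lib.Helper5.DescZar
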