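import Groth.Agent.Lib.Helper5.DescZar

/-!
# The extended descent datum (helper5)
-/

set_option backward.isDefEq.respectTransparency false
set_option backward.isDefEq.respectTransparency.types false
set_option autoImplicit false
universe u
open CategoryTheory CategoryTheory.Limits AlgebraicGeometry Desc

namespace Groth.Agent.Lib.Helper5.DescZar

open Groth.Agent.Lib.Helper64.DescFam Groth.Agent.Lib.Helper5.DescCoord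

variable {S X : Scheme.{u}} {p : X ⟶ S} {ι : Type u} {U : ι → Scheme.{u}} {h : ∀ i, U i ⟶ X}
  {u : ∀ i, U i ⟶ S} {hu : ∀ i, h i ≫ p = u i} {E : SchDDFam u}
  {E₀ : Over X} (θ : (toDDFam h).obj E₀ ≅ resDD p h u hu E)
  (hh : Presieve.ofArrows U h ∈ Scheme.fpqcPrecoverage X)

section tr

variable {T : Scheme.{u}} (y₀ y₁ : T ⟶ X) (hy : y₀ ≫ p = y₁ ≫ p) (d : Lifts E₀ y₀)

/-- the transported point -/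
noncomputable def tr : Lifts E₀ y₁ :=
  ⟨(exists_tr θ hh y₀ y₁ hy d).choose, (exists_tr θ hh y₀ y₁ hy d).choose_spec.1⟩

lemma tr_spec {T' : Scheme.{u}} (m : T' ⟶ T) {i j : ι} (x₀ : T' ⟶ U i) (x₁ : T' ⟶ U j)
    (h₀ : m ≫ y₀ = x₀ ≫ h i) (h₁ : m ≫ y₁ = x₁ ≫ h j) :
    m ≫ (tr θ hh y₀ y₁ hy d).1 = loc θ y₀ y₁ hy d m x₀ x₁ h₀ h₁ :=
  (exists_tr θ hh y₀ y₁ hy d).choose_spec.2 m x₀ x₁ h₀ h₁

lemma coord_tr {T' : Scheme.{u}} (m : T' ⟶ T) {i j : ι} (x₀ : T' ⟶ U i) (x₁ : T' ⟶ U j)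
    (h₀ : m ≫ y₀ = x₀ ≫ h i) (h₁ : m ≫ y₁ = x₁ ≫ h j)
    (hw : (m ≫ (tr θ hh y₀ y₁ hy d).1) ≫ E₀.hom = x₁ ≫ h j) :
    coord θ x₁ (m ≫ (tr θ hh y₀ y₁ hy d).1) hw =
      E.φ x₀ x₁ (u_eq (hu := hu) y₀ y₁ hy m x₀ x₁ h₀ h₁)
        (coord θ x₀ (m ≫ d.1) (md_hom y₀ d m x₀ h₀)) := by
  have hw' : loc θ y₀ y₁ hy d m x₀ x₁ h₀ h₁ ≫ E₀.hom = x₁ ≫ h j := by
    rw [← tr_spec θ hh y₀ y₁ hy d m x₀ x₁ h₀ h₁]; exact hw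
  apply Subtype.ext
  rw [coord_congr θ hw hw' rfl (tr_spec θ hh y₀ y₁ hy d m x₀ x₁ h₀ h₁),
    coord_loc θ y₀ y₁ hy d m x₀ x₁ h₀ h₁ hw']

end tr

lemma coord_res {T : Scheme.{u}} {i j : ι} (x₀ : T ⟶ U i) (x₁ : T ⟶ U j)
    (e : x₀ ≫ h i = x₁ ≫ h j) (e' : x₀ ≫ u i = x₁ ≫ u j) (w : T ⟶ E₀.left)
    (hw₀ : w ≫ E₀.hom = x₀ ≫ h i) (hw₁ : w ≫ E₀.hom = x₁ ≫ h j) :
    E.φ x₀ x₁ e' (coord θ x₀ w hw₀) = coord θ x₁ w hw₁ :=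
  coord_φ θ x₀ x₁ e w hw₀ hw₁

include hh in
lemma tr_self {T : Scheme.{u}} (y : T ⟶ X) (d : Lifts E₀ y) : tr θ hh y y rfl d = d := by
  apply Subtype.ext
  apply pt_ext θ hh y _ _ (tr θ hh y y rfl d).2 d.2 (dblSieve (h := h) y y) (dblSieve_mem hh y y)
  rintro T' m ⟨⟨i, x₀, h₀⟩, ⟨j, x₁, h₁⟩⟩
  have hw : (m ≫ (tr θ hh y y rfl d).1) ≫ E₀.hom = x₁ ≫ h j := by
    rw [Category.assoc, (tr θ hh y y rfl d).2]; exact h₁.symm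
  refine ⟨j, x₁, hw, md_hom y d m x₁ h₁.symm, ?_⟩
  rw [coord_tr θ hh y y rfl d m x₀ x₁ h₀.symm h₁.symm hw,
    coord_res θ x₀ x₁ (h₀.trans h₁.symm) _ (m ≫ d.1) (md_hom y d m x₀ h₀.symm)
      (md_hom y d m x₁ h₁.symm)]

include hh in
lemma tr_comp {T : Scheme.{u}} (y₀ y₁ y₂ : T ⟶ X) (h₀₁ : y₀ ≫ p = y₁ ≫ p) (h₁₂ : y₁ ≫ p = y₂ ≫ p)
    (d : Lifts E₀ y₀) :
    tr θ hh y₁ y₂ h₁₂ (tr θ hh y₀ y₁ h₀₁ d) = tr θ hh y₀ y₂ (h₀₁.trans h₁₂) d := by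
  apply Subtype.ext
  apply pt_ext θ hh y₂ _ _ (tr θ hh y₁ y₂ h₁₂ _).2 (tr θ hh y₀ y₂ _ d).2
    (factSieve h y₀ ⊓ (factSieve h y₁ ⊓ factSieve h y₂))
    (Scheme.fpqcTopology.intersection_covering (factSieve_mem_of_ofArrows_mem h hh y₀)
      (Scheme.fpqcTopology.intersection_covering (factSieve_mem_of_ofArrows_mem h hh y₁)
        (factSieve_mem_of_ofArrows_mem h hh y₂)))
  rintro T' m ⟨⟨i, x₀, h₀⟩, ⟨j, x₁, h₁⟩, ⟨k, x₂, h₂⟩⟩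
  have hw₁ : (m ≫ (tr θ hh y₁ y₂ h₁₂ (tr θ hh y₀ y₁ h₀₁ d)).1) ≫ E₀.hom = x₂ ≫ h k := by
    rw [Category.assoc, (tr θ hh y₁ y₂ h₁₂ _).2]; exact h₂.symm
  have hw₂ : (m ≫ (tr θ hh y₀ y₂ (h₀₁.trans h₁₂) d).1) ≫ E₀.hom = x₂ ≫ h k := by
    rw [Category.assoc, (tr θ hh y₀ y₂ _ d).2]; exact h₂.symm
  have hwm : (m ≫ (tr θ hh y₀ y₁ h₀₁ d).1) ≫ E₀.hom = x₁ ≫ h j := by
    rw [Category.assoc, (tr θ hh y₀ y₁ h₀₁ d).2]; exact h₁.symm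
  refine ⟨k, x₂, hw₁, hw₂, ?_⟩
  rw [coord_tr θ hh y₁ y₂ h₁₂ _ m x₁ x₂ h₁.symm h₂.symm hw₁,
    coord_tr θ hh y₀ y₂ _ d m x₀ x₂ h₀.symm h₂.symm hw₂]
  have e := coord_tr θ hh y₀ y₁ h₀₁ d m x₀ x₁ h₀.symm h₁.symm hwm
  have e' : coord θ x₁ (m ≫ (tr θ hh y₀ y₁ h₀₁ d).1)
      (md_hom y₁ (tr θ hh y₀ y₁ h₀₁ d) m x₁ h₁.symm) = coord θ x₁ (m ≫ (tr θ hh y₀ y₁ h₀₁ d).1) hwm :=
    rfl
  rw [e', e, E.φ_comp]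

include hh in
lemma tr_nat {T T₂ : Scheme.{u}} (g : T₂ ⟶ T) (y₀ y₁ : T ⟶ X) (hy : y₀ ≫ p = y₁ ≫ p)
    (d : Lifts E₀ y₀) (hy' : (g ≫ y₀) ≫ p = (g ≫ y₁) ≫ p) :
    (tr θ hh (g ≫ y₀) (g ≫ y₁) hy' (pre g d)).1 = g ≫ (tr θ hh y₀ y₁ hy d).1 := by
  apply pt_ext θ hh (g ≫ y₁) _ _ (tr θ hh (g ≫ y₀) (g ≫ y₁) hy' (pre g d)).2
    (by rw [Category.assoc, (tr θ hh y₀ y₁ hy d).2])
    (dblSieve (h := h) (g ≫ y₀) (g ≫ y₁)) (dblSieve_mem hh _ _)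
  rintro T' m ⟨⟨i, x₀, h₀⟩, ⟨j, x₁, h₁⟩⟩
  have hw₁ : (m ≫ (tr θ hh (g ≫ y₀) (g ≫ y₁) hy' (pre g d)).1) ≫ E₀.hom = x₁ ≫ h j := by
    rw [Category.assoc, (tr θ hh (g ≫ y₀) (g ≫ y₁) hy' (pre g d)).2]; exact h₁.symm
  have hw₂ : (m ≫ g ≫ (tr θ hh y₀ y₁ hy d).1) ≫ E₀.hom = x₁ ≫ h j := by
    rw [Category.assoc, Category.assoc, (tr θ hh y₀ y₁ hy d).2]; exact h₁.symm
  have h₀' : (m ≫ g) ≫ y₀ = x₀ ≫ h i := by rw [Category.assoc]; exact h₀.symm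
  have h₁' : (m ≫ g) ≫ y₁ = x₁ ≫ h j := by rw [Category.assoc]; exact h₁.symm
  have hw₃ : ((m ≫ g) ≫ (tr θ hh y₀ y₁ hy d).1) ≫ E₀.hom = x₁ ≫ h j := by
    rw [Category.assoc, (tr θ hh y₀ y₁ hy d).2]; exact h₁'
  refine ⟨j, x₁, hw₁, hw₂, ?_⟩
  rw [coord_tr θ hh (g ≫ y₀) (g ≫ y₁) hy' (pre g d) m x₀ x₁ h₀.symm h₁.symm hw₁,
    coord_congr θ hw₂ hw₃ rfl (Category.assoc _ _ _).symm,
    coord_tr θ hh y₀ y₁ hy d (m ≫ g) x₀ x₁ h₀' h₁' hw₃]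
  congr 2 <;> first | exact coord_congr θ _ _ rfl (by rw [pre_val, Category.assoc]) | rfl

/-- the extended descent datum relative to `p` -/
noncomputable def extDD : SchDDFam (fun _ : PUnit.{u + 1} => p) where
  obj _ := E₀
  φ T _ _ y₀ y₁ hy :=
    { toFun := tr θ hh y₀ y₁ hy
      invFun := tr θ hh y₁ y₀ hy.symm
      left_inv := fun d => by rw [tr_comp, tr_self]
      right_inv := fun d => by rw [tr_comp, tr_self] }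
  φ_natural T T' g _ _ x₀ x₁ hx y₀ y₁ hy₀ hy₁ hy v v' hv' := by
    subst hy₀ hy₁
    have e : v' = pre g v := Subtype.ext hv'
    subst e
    exact tr_nat θ hh g x₀ x₁ hx v hy
  φ_self T _ y d := tr_self θ hh y d
  φ_comp T _ _ _ y₀ y₁ y₂ h₀₁ h₁₂ d := tr_comp θ hh y₀ y₁ y₂ h₀₁ h₁₂ d

lemma extDD_φ {T : Scheme.{u}} (y₀ y₁ : T ⟶ X) (hy : y₀ ≫ p = y₁ ≫ p) (d : Lifts E₀ y₀) :
    (extDD θ hh).φ (i := PUnit.unit) (j := PUnit.unit) y₀ y₁ hy d = tr θ hh y₀ y₁ hy d := rfl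

end Groth.Agent.Lib.Helper5.DescZar
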