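import Groth.Agent.Lib.Helper5.DescZar2

/-!
# Descent data relative to a Zariski refinement: essential surjectivity of the pullback (helper5)
-/

set_option backward.isDefEq.respectTransparency false
set_option backward.isDefEq.respectTransparency.types false
set_option autoImplicit false
universe u
open CategoryTheory CategoryTheory.Limits AlgebraicGeometry Desc

namespace Groth.Agent.Lib.Helper5.DescZar

open Groth.Agent.Lib.Helper64.DescFam Groth.Agent.Lib.Helper5.DescCoord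

section coordEquiv

variable {S : Scheme.{u}} {ι : Type u} {U : ι → Scheme.{u}} {c : ∀ i, U i ⟶ S}
  {D : SchDDFam c} {W₀ : Over S} (θ : (toDDFam c).obj W₀ ≅ D)

/-- the coordinate bijection -/
noncomputable def coordEquiv {T : Scheme.{u}} {i : ι} (x : T ⟶ U i) (y : T ⟶ S)
    (hy : y = x ≫ c i) : Lifts W₀ y ≃ Lifts (D.obj i) x where
  toFun d := coord θ x d.1 (d.2.trans hy)
  invFun d := ⟨uncoord θ x d, (uncoord_hom θ x d).trans hy.symm⟩
  left_inv d := Subtype.ext (uncoord_coord θ x d.1 _)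
  right_inv d := coord_uncoord θ x d

lemma coordEquiv_apply {T : Scheme.{u}} {i : ι} (x : T ⟶ U i) (y : T ⟶ S)
    (hy : y = x ≫ c i) (d : Lifts W₀ y) :
    coordEquiv θ x y hy d = coord θ x d.1 (d.2.trans hy) := rfl

lemma coordEquiv_nat {T T' : Scheme.{u}} (g' : T' ⟶ T) {i : ι} (x : T ⟶ U i) (y : T ⟶ S)
    (y' : T' ⟶ S) (hy : y = x ≫ c i) (hy' : y' = (g' ≫ x) ≫ c i) (q : Lifts W₀ y)
    (q' : Lifts W₀ y') (hq : q'.1 = g' ≫ q.1) :
    (coordEquiv θ (g' ≫ x) y' hy' q').1 = g' ≫ (coordEquiv θ x y hy q).1 := by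
  rw [coordEquiv_apply, coordEquiv_apply, ← coord_nat θ g' x q.1 (q.2.trans hy)
    (by rw [Category.assoc, q.2, hy, Category.assoc])]
  exact coord_congr θ _ _ rfl hq

end coordEquiv

section trid

variable {S X : Scheme.{u}} {p : X ⟶ S} {ι : Type u} {U : ι → Scheme.{u}} {h : ∀ i, U i ⟶ X}
  {u : ∀ i, U i ⟶ S} {hu : ∀ i, h i ≫ p = u i} {E : SchDDFam u}
  {E₀ : Over X} (θ : (toDDFam h).obj E₀ ≅ resDD p h u hu E)
  (hh : Presieve.ofArrows U h ∈ Scheme.fpqcPrecoverage X)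

lemma coord_tr' {T : Scheme.{u}} (y₀ y₁ : T ⟶ X) (hy : y₀ ≫ p = y₁ ≫ p) (d : Lifts E₀ y₀)
    {i j : ι} (x₀ : T ⟶ U i) (x₁ : T ⟶ U j) (h₀ : y₀ = x₀ ≫ h i) (h₁ : y₁ = x₁ ≫ h j)
    (e : x₀ ≫ u i = x₁ ≫ u j) :
    coord θ x₁ (tr θ hh y₀ y₁ hy d).1 ((tr θ hh y₀ y₁ hy d).2.trans h₁) =
      E.φ x₀ x₁ e (coord θ x₀ d.1 (d.2.trans h₀)) := by
  have h₀' : 𝟙 T ≫ y₀ = x₀ ≫ h i := by rw [Category.id_comp, h₀]
  have h₁' : 𝟙 T ≫ y₁ = x₁ ≫ h j := by rw [Category.id_comp, h₁]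
  have hw : (𝟙 T ≫ (tr θ hh y₀ y₁ hy d).1) ≫ E₀.hom = x₁ ≫ h j := by
    rw [Category.id_comp, (tr θ hh y₀ y₁ hy d).2, h₁]
  have key := coord_tr θ hh y₀ y₁ hy d (𝟙 T) x₀ x₁ h₀' h₁' hw
  apply Subtype.ext
  rw [coord_congr θ ((tr θ hh y₀ y₁ hy d).2.trans h₁) hw rfl (Category.id_comp _).symm, key]
  exact φ_congr E _ _ rfl rfl _ _ (coord_congr θ _ _ rfl (Category.id_comp _))

end trid

section main

variable {ι κ : Type u} {S : Scheme.{u}} {U : ι → Scheme.{u}} {V : κ → Scheme.{u}}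
  (u : ∀ i, U i ⟶ S) (v : ∀ j, V j ⟶ S) (α : ι → κ) (g : ∀ i, U i ⟶ V (α i))
  (w : ∀ i, g i ≫ v (α i) = u i)

include w in
lemma sigma_hu (i : ι) : (g i ≫ Sigma.ι V (α i)) ≫ Sigma.desc v = u i := by
  rw [Category.assoc, Sigma.ι_desc, w]

lemma sigma_zariski
    (hcov : ∀ j, Presieve.ofArrows (fun i : {i // α i = j} => U i.1)
      (fun i => g i.1 ≫ eqToHom (congrArg V i.2)) ∈ Scheme.zariskiPrecoverage (V j)) :
    Presieve.ofArrows U (fun i => g i ≫ Sigma.ι V (α i)) ∈ Scheme.zariskiPrecoverage (∐ V) := by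
  have hz : ∀ j, Presieve.ofArrows (fun i : {i // α i = j} => U i.1)
      (fun i => g i.1 ≫ eqToHom (congrArg V i.2)) ∈ Scheme.precoverage @IsOpenImmersion (V j) :=
    hcov
  simp only [Scheme.ofArrows_mem_precoverage_iff] at hz
  change _ ∈ Scheme.precoverage @IsOpenImmersion (∐ V)
  rw [Scheme.ofArrows_mem_precoverage_iff]
  have hg : ∀ i, IsOpenImmersion (g i) := by
    intro i
    have := (hz (α i)).2 ⟨i, rfl⟩
    simpa using this
  refine ⟨?_, fun i => ?_⟩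
  · intro x
    obtain ⟨⟨j, y⟩, rfl⟩ := (sigmaMk V).surjective x
    rw [sigmaMk_mk]
    obtain ⟨⟨i, hi⟩, z, hz'⟩ := (hz j).1 y
    subst hi
    refine ⟨i, z, ?_⟩
    simp only [eqToHom_refl, Category.comp_id] at hz'
    rw [Scheme.Hom.comp_apply, hz']
  · haveI := hg i
    infer_instance

end main

section ess

variable {ι κ : Type u} {S : Scheme.{u}} {U : ι → Scheme.{u}} {V : κ → Scheme.{u}}
  {u : ∀ i, U i ⟶ S} {v : ∀ j, V j ⟶ S} {α : ι → κ} {g : ∀ i, U i ⟶ V (α i)}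
  (w : ∀ i, g i ≫ v (α i) = u i)
  {E : SchDDFam u} {E₀ : Over (∐ V)}
  (θ : (toDDFam (fun i => g i ≫ Sigma.ι V (α i))).obj E₀ ≅
    resDD (Sigma.desc v) (fun i => g i ≫ Sigma.ι V (α i)) u (sigma_hu u v α g w) E)
  (hh : Presieve.ofArrows U (fun i => g i ≫ Sigma.ι V (α i)) ∈ Scheme.fpqcPrecoverage (∐ V))

lemma wι (v : ∀ j, V j ⟶ S) (j : κ) :
    Sigma.ι V j ≫ (fun _ : PUnit.{u + 1} => Sigma.desc v) PUnit.unit = v j ≫ 𝟙 S := by
  simp

include w in
lemma wg (i : ι) : g i ≫ v (α i) = u i ≫ 𝟙 S := (w i).trans (Category.comp_id (u i)).symm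

/-- the descent datum relative to `v` obtained by extension to the coproduct and restriction -/
noncomputable abbrev midDD : SchDDFam v :=
  pullDDFamObj (f := fun _ : PUnit.{u + 1} => Sigma.desc v) (f' := v)
    (α := fun _ => PUnit.unit) (p := 𝟙 S) (p' := fun j => Sigma.ι V j) (wι v) (extDD θ hh)

lemma midDD_φ {T : Scheme.{u}} {j₀ j₁ : κ} (y₀ : T ⟶ V j₀) (y₁ : T ⟶ V j₁)
    (h : y₀ ≫ v j₀ = y₁ ≫ v j₁) (q : Lifts ((midDD w θ hh).obj j₀) y₀) :
    (midDD w θ hh).φ y₀ y₁ h q =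
      (pe (f := fun _ : PUnit.{u + 1} => Sigma.desc v) (f' := v)
        (α := fun _ => PUnit.unit) (p' := fun j => Sigma.ι V j) (wι v) (extDD θ hh) j₁ y₁).symm
        ((extDD θ hh).φ (i := PUnit.unit) (j := PUnit.unit) (y₀ ≫ Sigma.ι V j₀)
          (y₁ ≫ Sigma.ι V j₁) (pull_compat (wι v) y₀ y₁ h)
          (pe (f := fun _ : PUnit.{u + 1} => Sigma.desc v) (f' := v)
            (α := fun _ => PUnit.unit) (p' := fun j => Sigma.ι V j) (wι v) (extDD θ hh) j₀ y₀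
            q)) :=
  rfl

/-- points of the pullback of `midDD` are points of the given datum -/
noncomputable def zarRebase :
    Rebase (pullDDFamObj (f := v) (f' := u) (α := α) (p := 𝟙 S) (p' := g) (wg w) (midDD w θ hh))
      E where
  γ i := i
  c T i x := x
  c_nat _ _ _ _ _ := rfl
  c_f _ _ _ := rfl
  e T i x :=
    (pe (wg w) (midDD w θ hh) i x).trans
      ((pe (f := fun _ : PUnit.{u + 1} => Sigma.desc v) (f' := v)
        (α := fun _ => PUnit.unit) (p' := fun j => Sigma.ι V j) (wι v) (extDD θ hh) (α i)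
          (x ≫ g i)).trans
        (coordEquiv θ x ((x ≫ g i) ≫ Sigma.ι V (α i)) (Category.assoc _ _ _)))
  e_nat T T' g' i x y hy d d' hd := by
    subst hy
    simp only [Equiv.trans_apply]
    exact coordEquiv_nat θ g' x _ _ _ _ _ _ (by simp only [pe_val, hd, Category.assoc])
  e_φ T i j x₀ x₁ h d := by
    rw [pull_φ]
    simp only [Equiv.trans_apply, Equiv.apply_symm_apply]
    rw [midDD_φ, Equiv.apply_symm_apply, extDD_φ]
    exact coord_tr' θ hh _ _ _ _ x₀ x₁ (Category.assoc _ _ _) (Category.assoc _ _ _) _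

end ess

section final

variable {ι κ : Type u} {S : Scheme.{u}} {U : ι → Scheme.{u}} {V : κ → Scheme.{u}}
  (u : ∀ i, U i ⟶ S) (v : ∀ j, V j ⟶ S) (α : ι → κ) (g : ∀ i, U i ⟶ V (α i))
  (w : ∀ i, g i ≫ v (α i) = u i)

/-- Pullback of descent data along a Zariski refinement of families is essentially surjective. -/
theorem essSurj_of_zariski
    (hcov : ∀ j, Presieve.ofArrows (fun i : {i // α i = j} => U i.1)
      (fun i => g i.1 ≫ eqToHom (congrArg V i.2)) ∈ Scheme.zariskiPrecoverage (V j)) :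
    (pullDDFam (f := v) (f' := u) (α := α) (p := 𝟙 S) (p' := g)
      (fun i => (w i).trans (Category.comp_id (u i)).symm)).EssSurj := by
  refine ⟨fun E => ?_⟩
  have hz := sigma_zariski α g hcov
  have hh : Presieve.ofArrows U (fun i => g i ≫ Sigma.ι V (α i)) ∈
      Scheme.fpqcPrecoverage (∐ V) := Scheme.zariskiPrecoverage_le_fpqcPrecoverage _ hz
  obtain ⟨E₀, ⟨θ⟩⟩ := effective_of_zariski (fun i => g i ≫ Sigma.ι V (α i)) hz
    (resDD (Sigma.desc v) (fun i => g i ≫ Sigma.ι V (α i)) u (sigma_hu u v α g w) E)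
  exact ⟨midDD w θ hh, ⟨(zarRebase w θ hh).iso⟩⟩

end final

end Groth.Agent.Lib.Helper5.DescZar
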