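import Mathlib
import Groth.Prelude.Def_Desc
import Groth.Prelude.Def_NonAbH2
import Groth.Agent.Lib.Helper5.TorsorPush

/-!
# The descent datum of an associated bundle (helper5)

For a principal `G`-bundle `f : X ⟶ Y` over a base `B` (the square `act, snd, f, f` cartesian) and
an action of `G` on `Z`, the scheme `X ×_B Z` over `X` carries a descent datum relative to `f`:
over a pair of points `x₀ = g • x₁` a point `(x₀, z)` goes to `(x₁, g⁻¹ • z)`.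
-/

set_option autoImplicit false
universe u
open CategoryTheory CategoryTheory.Limits MonoidalCategory CartesianMonoidalCategory MonObj GrpObj
  AlgebraicGeometry Desc

namespace Groth.Agent.Lib.Helper5.PrincDesc

open Groth.Agent.Lib.Helper5.TorsorPush

variable {B : Scheme.{u}} {G X Y Z : Over B} [GrpObj G] (a : AlgGrp.Action G X) (f : X ⟶ Y)
  (hsq : IsPullback a.act.left (snd G X).left f.left f.left) (b : AlgGrp.Action G Z)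

section div

variable {T : Over B}

/-- the point of `G ⊗ X` over a pair of points of `X` with the same image in `Y` -/
noncomputable def gam (y₀ y₁ : T ⟶ X) (h : y₀ ≫ f = y₁ ≫ f) : T ⟶ G ⊗ X :=
  Over.homMk (hsq.lift y₀.left y₁.left (by rw [← Over.comp_left, ← Over.comp_left, h])) (by
    have e : (G ⊗ X).hom = (snd G X).left ≫ X.hom := (Over.w (snd G X)).symm
    rw [e, ← Category.assoc, hsq.lift_snd, Over.w y₁])

lemma gam_act (y₀ y₁ : T ⟶ X) (h : y₀ ≫ f = y₁ ≫ f) : gam a f hsq y₀ y₁ h ≫ a.act = y₀ := by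
  ext
  simp only [gam, Over.comp_left, Over.homMk_left]
  exact hsq.lift_fst _ _ _

lemma gam_snd (y₀ y₁ : T ⟶ X) (h : y₀ ≫ f = y₁ ≫ f) : gam a f hsq y₀ y₁ h ≫ snd G X = y₁ := by
  ext
  simp only [gam, Over.comp_left, Over.homMk_left]
  exact hsq.lift_snd _ _ _

/-- the division map: the unique `g` with `g • y₁ = y₀` -/
noncomputable def divY (y₀ y₁ : T ⟶ X) (h : y₀ ≫ f = y₁ ≫ f) : T ⟶ G :=
  gam a f hsq y₀ y₁ h ≫ fst G X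

lemma divY_smul (y₀ y₁ : T ⟶ X) (h : y₀ ≫ f = y₁ ≫ f) :
    smul a (divY a f hsq y₀ y₁ h) y₁ = y₀ := by
  have e : lift (divY a f hsq y₀ y₁ h) y₁ = gam a f hsq y₀ y₁ h := by
    apply CartesianMonoidalCategory.hom_ext
    · rw [lift_fst, divY]
    · rw [lift_snd, gam_snd]
  unfold smul
  rw [e, gam_act]

include hsq in
lemma smul_comp_f (g : T ⟶ G) (y : T ⟶ X) : smul a g y ≫ f = y ≫ f := by
  unfold smul
  have hw : a.act ≫ f = snd G X ≫ f := by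
    ext
    rw [Over.comp_left, Over.comp_left, hsq.toCommSq.w]
  rw [Category.assoc, hw, lift_snd_assoc]

lemma eq_divY (g : T ⟶ G) (y₀ y₁ : T ⟶ X) (h : y₀ ≫ f = y₁ ≫ f) (hg : smul a g y₁ = y₀) :
    g = divY a f hsq y₀ y₁ h := by
  have e : lift g y₁ = gam a f hsq y₀ y₁ h := by
    apply Over.OverMorphism.ext
    apply hsq.hom_ext
    · rw [← Over.comp_left, ← Over.comp_left, gam_act]
      exact congrArg (fun t => t.left) hg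
    · rw [← Over.comp_left, ← Over.comp_left, gam_snd, lift_snd]
  rw [divY, ← e, lift_fst]

lemma comp_divY {T' : Over B} (k : T' ⟶ T) (y₀ y₁ : T ⟶ X) (h : y₀ ≫ f = y₁ ≫ f)
    (h' : (k ≫ y₀) ≫ f = (k ≫ y₁) ≫ f) :
    k ≫ divY a f hsq y₀ y₁ h = divY a f hsq (k ≫ y₀) (k ≫ y₁) h' := by
  apply eq_divY
  rw [← comp_smul, divY_smul]

lemma divY_self (y : T ⟶ X) : divY a f hsq y y rfl = 1 :=
  (eq_divY a f hsq 1 y y rfl (TorsorPush.one_smul a y)).symm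

lemma divY_mul (y₀ y₁ y₂ : T ⟶ X) (h₀₁ : y₀ ≫ f = y₁ ≫ f) (h₁₂ : y₁ ≫ f = y₂ ≫ f) :
    divY a f hsq y₀ y₂ (h₀₁.trans h₁₂) = divY a f hsq y₀ y₁ h₀₁ * divY a f hsq y₁ y₂ h₁₂ := by
  symm
  apply eq_divY
  rw [TorsorPush.mul_smul, divY_smul, divY_smul]

/-- the gluing map on points of `X ⊗ Z` -/
noncomputable def Φ (y₀ y₁ : T ⟶ X) (h : y₀ ≫ f = y₁ ≫ f) (V : T ⟶ X ⊗ Z) : T ⟶ X ⊗ Z :=
  lift y₁ (smul b (divY a f hsq y₀ y₁ h)⁻¹ (V ≫ snd X Z))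

lemma Φ_fst (y₀ y₁ : T ⟶ X) (h : y₀ ≫ f = y₁ ≫ f) (V : T ⟶ X ⊗ Z) :
    Φ a f hsq b y₀ y₁ h V ≫ fst X Z = y₁ := lift_fst _ _

lemma Φ_snd (y₀ y₁ : T ⟶ X) (h : y₀ ≫ f = y₁ ≫ f) (V : T ⟶ X ⊗ Z) :
    Φ a f hsq b y₀ y₁ h V ≫ snd X Z = smul b (divY a f hsq y₀ y₁ h)⁻¹ (V ≫ snd X Z) :=
  lift_snd _ _

lemma Φ_nat {T' : Over B} (k : T' ⟶ T) (y₀ y₁ : T ⟶ X) (h : y₀ ≫ f = y₁ ≫ f)
    (h' : (k ≫ y₀) ≫ f = (k ≫ y₁) ≫ f) (V : T ⟶ X ⊗ Z) :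
    k ≫ Φ a f hsq b y₀ y₁ h V = Φ a f hsq b (k ≫ y₀) (k ≫ y₁) h' (k ≫ V) := by
  unfold Φ
  rw [comp_lift, comp_smul, GrpObj.comp_inv, comp_divY a f hsq k y₀ y₁ h h', Category.assoc]

lemma Φ_self (y : T ⟶ X) (V : T ⟶ X ⊗ Z) (hV : V ≫ fst X Z = y) :
    Φ a f hsq b y y rfl V = V := by
  unfold Φ
  rw [divY_self, _root_.inv_one, TorsorPush.one_smul]
  apply CartesianMonoidalCategory.hom_ext
  · rw [lift_fst, hV]
  · rw [lift_snd]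

lemma Φ_comp (y₀ y₁ y₂ : T ⟶ X) (h₀₁ : y₀ ≫ f = y₁ ≫ f) (h₁₂ : y₁ ≫ f = y₂ ≫ f)
    (V : T ⟶ X ⊗ Z) :
    Φ a f hsq b y₁ y₂ h₁₂ (Φ a f hsq b y₀ y₁ h₀₁ V) = Φ a f hsq b y₀ y₂ (h₀₁.trans h₁₂) V := by
  unfold Φ
  rw [lift_snd, ← TorsorPush.mul_smul, divY_mul a f hsq y₀ y₁ y₂ h₀₁ h₁₂, _root_.mul_inv_rev]

/-- undoing the diagonal action -/
lemma Φ_act (g : T ⟶ G) (x : T ⟶ X) (z : T ⟶ Z) :
    Φ a f hsq b (smul a g x) x (smul_comp_f a f hsq g x) (lift (smul a g x) (smul b g z)) =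
      lift x z := by
  unfold Φ
  rw [← eq_divY a f hsq g (smul a g x) x (smul_comp_f a f hsq g x) rfl, lift_snd,
    ← TorsorPush.mul_smul, _root_.inv_mul_cancel, TorsorPush.one_smul]

end div

section sch

variable {T : Scheme.{u}}

/-- the gluing map on scheme-level points -/
noncomputable def φS (t : T ⟶ B) (x₀ x₁ : T ⟶ X.left) (h₀ : x₀ ≫ X.hom = t) (h₁ : x₁ ≫ X.hom = t)
    (h : x₀ ≫ f.left = x₁ ≫ f.left) (v : T ⟶ (X ⊗ Z).left) (hv : v ≫ (X ⊗ Z).hom = t) :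
    T ⟶ (X ⊗ Z).left :=
  (Φ a f hsq b (T := Over.mk t) (Over.homMk x₀ h₀) (Over.homMk x₁ h₁)
    (by ext; simpa using h) (Over.homMk v hv)).left

lemma φS_congr {t t' : T ⟶ B} (e : t = t') (x₀ x₁ : T ⟶ X.left) (h₀ : x₀ ≫ X.hom = t)
    (h₁ : x₁ ≫ X.hom = t) (h : x₀ ≫ f.left = x₁ ≫ f.left) (v : T ⟶ (X ⊗ Z).left)
    (hv : v ≫ (X ⊗ Z).hom = t) :
    φS a f hsq b t x₀ x₁ h₀ h₁ h v hv =
      φS a f hsq b t' x₀ x₁ (h₀.trans e) (h₁.trans e) h v (hv.trans e) := by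
  subst e; rfl

lemma φS_fst (t : T ⟶ B) (x₀ x₁ : T ⟶ X.left) (h₀ : x₀ ≫ X.hom = t) (h₁ : x₁ ≫ X.hom = t)
    (h : x₀ ≫ f.left = x₁ ≫ f.left) (v : T ⟶ (X ⊗ Z).left) (hv : v ≫ (X ⊗ Z).hom = t) :
    φS a f hsq b t x₀ x₁ h₀ h₁ h v hv ≫ (fst X Z).left = x₁ := by
  unfold φS
  rw [← Over.comp_left, Φ_fst]
  rfl

lemma φS_hom (t : T ⟶ B) (x₀ x₁ : T ⟶ X.left) (h₀ : x₀ ≫ X.hom = t) (h₁ : x₁ ≫ X.hom = t)
    (h : x₀ ≫ f.left = x₁ ≫ f.left) (v : T ⟶ (X ⊗ Z).left) (hv : v ≫ (X ⊗ Z).hom = t) :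
    φS a f hsq b t x₀ x₁ h₀ h₁ h v hv ≫ (X ⊗ Z).hom = t := by
  unfold φS
  exact Over.w (Φ a f hsq b (T := Over.mk t) (Over.homMk x₀ h₀) (Over.homMk x₁ h₁) _
    (Over.homMk v hv))

lemma φS_nat {T' : Scheme.{u}} (g : T' ⟶ T) (t : T ⟶ B) (x₀ x₁ : T ⟶ X.left)
    (h₀ : x₀ ≫ X.hom = t) (h₁ : x₁ ≫ X.hom = t)
    (h : x₀ ≫ f.left = x₁ ≫ f.left) (v : T ⟶ (X ⊗ Z).left) (hv : v ≫ (X ⊗ Z).hom = t) :
    g ≫ φS a f hsq b t x₀ x₁ h₀ h₁ h v hv =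
      φS a f hsq b (g ≫ t) (g ≫ x₀) (g ≫ x₁) (by rw [Category.assoc, h₀])
        (by rw [Category.assoc, h₁]) (by rw [Category.assoc, Category.assoc, h]) (g ≫ v)
        (by rw [Category.assoc, hv]) := by
  unfold φS
  let k : Over.mk (g ≫ t) ⟶ Over.mk t := Over.homMk g rfl
  have e := Φ_nat a f hsq b k (Over.homMk x₀ h₀) (Over.homMk x₁ h₁) (by ext; simpa using h)
    (by ext; simp [k, h]) (Over.homMk v hv)
  have e' := congrArg (fun m => m.left) e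
  simp only [Over.comp_left] at e'
  exact e'

lemma φS_self (t : T ⟶ B) (x : T ⟶ X.left) (h₀ : x ≫ X.hom = t)
    (v : T ⟶ (X ⊗ Z).left) (hv : v ≫ (X ⊗ Z).hom = t) (hvx : v ≫ (fst X Z).left = x) :
    φS a f hsq b t x x h₀ h₀ rfl v hv = v := by
  unfold φS
  have e : (Over.homMk v hv : Over.mk t ⟶ X ⊗ Z) ≫ fst X Z = Over.homMk x h₀ := by
    ext
    exact hvx
  exact congrArg (fun m => m.left)
    (Φ_self a f hsq b (T := Over.mk t) (Over.homMk x h₀) (Over.homMk v hv) e)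

lemma φS_comp (t : T ⟶ B) (x₀ x₁ x₂ : T ⟶ X.left) (h₀ : x₀ ≫ X.hom = t) (h₁ : x₁ ≫ X.hom = t)
    (h₂ : x₂ ≫ X.hom = t)
    (h₀₁ : x₀ ≫ f.left = x₁ ≫ f.left) (h₁₂ : x₁ ≫ f.left = x₂ ≫ f.left)
    (v : T ⟶ (X ⊗ Z).left) (hv : v ≫ (X ⊗ Z).hom = t) :
    φS a f hsq b t x₁ x₂ h₁ h₂ h₁₂ (φS a f hsq b t x₀ x₁ h₀ h₁ h₀₁ v hv)
        (φS_hom a f hsq b t x₀ x₁ h₀ h₁ h₀₁ v hv) =
      φS a f hsq b t x₀ x₂ h₀ h₂ (h₀₁.trans h₁₂) v hv := by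
  unfold φS
  have e := Φ_comp a f hsq b (T := Over.mk t) (Over.homMk x₀ h₀) (Over.homMk x₁ h₁)
    (Over.homMk x₂ h₂) (by ext; simpa using h₀₁) (by ext; simpa using h₁₂) (Over.homMk v hv)
  exact congrArg (fun m => m.left) e

include f in
lemma hom_eq_of_f_eq (x₀ x₁ : T ⟶ X.left) (h : x₀ ≫ f.left = x₁ ≫ f.left) :
    x₁ ≫ X.hom = x₀ ≫ X.hom := by
  rw [← Over.w f, ← Category.assoc, ← Category.assoc, h]

lemma lifts_hom {x : T ⟶ X.left} (v : Lifts (Over.mk (fst X Z).left) x) :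
    v.1 ≫ (X ⊗ Z).hom = x ≫ X.hom := by
  have e : v.1 ≫ (fst X Z).left = x := v.2
  calc v.1 ≫ (X ⊗ Z).hom = v.1 ≫ (fst X Z).left ≫ X.hom := by rw [Over.w (fst X Z)]
    _ = x ≫ X.hom := by rw [← Category.assoc, e]

/-- the descent datum of the associated bundle: `X ⊗ Z` over `X`, relative to `f` -/
noncomputable def assocDD : SchDD f.left where
  obj := Over.mk (fst X Z).left
  φ T x₀ x₁ h :=
    { toFun := fun v => ⟨φS a f hsq b (x₀ ≫ X.hom) x₀ x₁ rfl (hom_eq_of_f_eq f x₀ x₁ h) h v.1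
        (lifts_hom v), φS_fst _ _ _ _ _ _ _ _ _ _ _ _⟩
      invFun := fun w => ⟨φS a f hsq b (x₀ ≫ X.hom) x₁ x₀ (hom_eq_of_f_eq f x₀ x₁ h) rfl h.symm w.1
        ((lifts_hom w).trans (hom_eq_of_f_eq f x₀ x₁ h)), φS_fst _ _ _ _ _ _ _ _ _ _ _ _⟩
      left_inv := fun v => Subtype.ext (by
        dsimp only
        rw [φS_comp, φS_self]
        exact v.2)
      right_inv := fun w => Subtype.ext (by
        dsimp only
        rw [φS_comp, φS_self]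
        exact w.2) }
  φ_natural T T' g x₀ x₁ h h' v v' hv' := by
    obtain ⟨v', hv'2⟩ := v'
    change v' = g ≫ v.1 at hv'
    subst hv'
    dsimp only [Equiv.coe_fn_mk]
    rw [φS_nat, φS_congr a f hsq b (Category.assoc g x₀ X.hom)]
  φ_self T x v := Subtype.ext (φS_self a f hsq b _ x rfl v.1 (lifts_hom v) v.2)
  φ_comp T x₀ x₁ x₂ h₀₁ h₁₂ v := Subtype.ext (by
    dsimp only [Equiv.coe_fn_mk]
    rw [φS_congr a f hsq b (hom_eq_of_f_eq f x₀ x₁ h₀₁), φS_comp])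

lemma φS_eq (T : Over B) (y₀ y₁ : T ⟶ X) (h : y₀ ≫ f = y₁ ≫ f) (V : T ⟶ X ⊗ Z) :
    φS a f hsq b T.hom y₀.left y₁.left (Over.w y₀) (Over.w y₁)
      (by rw [← Over.comp_left, h, Over.comp_left]) V.left (Over.w V) =
      (Φ a f hsq b y₀ y₁ h V).left := rfl

lemma assocDD_φ (T : Over B) (y₀ y₁ : T ⟶ X) (h : y₀ ≫ f = y₁ ≫ f) (V : T ⟶ X ⊗ Z)
    (hV : V ≫ fst X Z = y₀) :
    ((assocDD a f hsq b).φ y₀.left y₁.left (by rw [← Over.comp_left, h, Over.comp_left])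
      ⟨V.left, by
        change V.left ≫ (fst X Z).left = y₀.left
        rw [← Over.comp_left, hV]⟩).1 = (Φ a f hsq b y₀ y₁ h V).left := by
  rw [← φS_eq]
  exact φS_congr a f hsq b (Over.w y₀) _ _ _ _ _ _ _

end sch

end Groth.Agent.Lib.Helper5.PrincDesc
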