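import Mathlib
import Groth.Prelude.Def_Desc
import Groth.Prelude.Def_NonAbH2
import Groth.Agent.Lib.Helper5.TorsorPush
import Groth.Agent.Lib.Helper5.PrincDesc
import Groth.Agent.Lib.Helper5.DescAffineHom
import Groth.Agent.Lib.Helper5.DescQAffHom
import Groth.Agent.Lib.Helper5.DescProps

/-!
# Descent of an equivariant scheme over a principal bundle (helper5)

For a principal `G`-bundle `f : X ⟶ Y` over a base `B` (the square `act, snd, f, f` cartesian) and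
a `G`-equivariant morphism `r : Z ⟶ X`, the scheme `Z` over `X` carries a descent datum relative to
`f`: over a pair of points `x₀ = g • x₁` a point `z` over `x₀` goes to `g⁻¹ • z`.  When the datum is
effective the descended scheme `W` is the quotient `Z / G`, and `Z = X ×_Y W`.
-/

set_option autoImplicit false
universe u
open CategoryTheory CategoryTheory.Limits MonoidalCategory CartesianMonoidalCategory MonObj GrpObj
  AlgebraicGeometry Desc

namespace Groth.Agent.Lib.Helper5.EqvDesc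

open Groth.Agent.Lib.Helper5.TorsorPush Groth.Agent.Lib.Helper5.PrincDesc
  Groth.Agent.Lib.Helper5.DescProps

variable {B : Scheme.{u}} {G X Y Z : Over B} [GrpObj G] (a : AlgGrp.Action G X) (f : X ⟶ Y)
  (hsq : IsPullback a.act.left (snd G X).left f.left f.left) (c : AlgGrp.Action G Z)
  (r : Z ⟶ X) (hr : c.act ≫ r = (G ◁ r) ≫ a.act)

section div

variable {T : Over B}

include hr in
lemma smul_r (g : T ⟶ G) (p : T ⟶ Z) : smul c g p ≫ r = smul a g (p ≫ r) := by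
  unfold smul
  rw [Category.assoc, hr, ← Category.assoc]
  congr 1
  apply CartesianMonoidalCategory.hom_ext <;> simp

/-- the gluing map on points of `Z` -/
noncomputable def Ψ (y₀ y₁ : T ⟶ X) (h : y₀ ≫ f = y₁ ≫ f) (V : T ⟶ Z) : T ⟶ Z :=
  smul c (divY a f hsq y₀ y₁ h)⁻¹ V

include hr in
lemma Ψ_r (y₀ y₁ : T ⟶ X) (h : y₀ ≫ f = y₁ ≫ f) (V : T ⟶ Z) (hV : V ≫ r = y₀) :
    Ψ a f hsq c y₀ y₁ h V ≫ r = y₁ := by
  unfold Ψ
  rw [smul_r a c r hr, hV]
  have e : smul a (divY a f hsq y₀ y₁ h)⁻¹ (smul a (divY a f hsq y₀ y₁ h) y₁) = y₁ := by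
    rw [← TorsorPush.mul_smul, _root_.inv_mul_cancel, TorsorPush.one_smul]
  rw [divY_smul] at e
  exact e

lemma Ψ_nat {T' : Over B} (k : T' ⟶ T) (y₀ y₁ : T ⟶ X) (h : y₀ ≫ f = y₁ ≫ f)
    (h' : (k ≫ y₀) ≫ f = (k ≫ y₁) ≫ f) (V : T ⟶ Z) :
    k ≫ Ψ a f hsq c y₀ y₁ h V = Ψ a f hsq c (k ≫ y₀) (k ≫ y₁) h' (k ≫ V) := by
  unfold Ψ
  rw [comp_smul, GrpObj.comp_inv, comp_divY a f hsq k y₀ y₁ h h']

lemma Ψ_self (y : T ⟶ X) (V : T ⟶ Z) : Ψ a f hsq c y y rfl V = V := by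
  unfold Ψ
  rw [divY_self, _root_.inv_one, TorsorPush.one_smul]

lemma Ψ_comp (y₀ y₁ y₂ : T ⟶ X) (h₀₁ : y₀ ≫ f = y₁ ≫ f) (h₁₂ : y₁ ≫ f = y₂ ≫ f) (V : T ⟶ Z) :
    Ψ a f hsq c y₁ y₂ h₁₂ (Ψ a f hsq c y₀ y₁ h₀₁ V) = Ψ a f hsq c y₀ y₂ (h₀₁.trans h₁₂) V := by
  unfold Ψ
  rw [← TorsorPush.mul_smul, divY_mul a f hsq y₀ y₁ y₂ h₀₁ h₁₂, _root_.mul_inv_rev]

/-- undoing the action -/
lemma Ψ_act (g : T ⟶ G) (x : T ⟶ X) (z : T ⟶ Z) :
    Ψ a f hsq c (smul a g x) x (smul_comp_f a f hsq g x) (smul c g z) = z := by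
  unfold Ψ
  rw [← eq_divY a f hsq g (smul a g x) x (smul_comp_f a f hsq g x) rfl,
    ← TorsorPush.mul_smul, _root_.inv_mul_cancel, TorsorPush.one_smul]

end div

section sch

variable {T : Scheme.{u}}

/-- the gluing map on scheme-level points -/
noncomputable def ψS (t : T ⟶ B) (x₀ x₁ : T ⟶ X.left) (h₀ : x₀ ≫ X.hom = t) (h₁ : x₁ ≫ X.hom = t)
    (h : x₀ ≫ f.left = x₁ ≫ f.left) (v : T ⟶ Z.left) (hv : v ≫ Z.hom = t) : T ⟶ Z.left :=
  (Ψ a f hsq c (T := Over.mk t) (Over.homMk x₀ h₀) (Over.homMk x₁ h₁)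
    (by ext; simpa using h) (Over.homMk v hv)).left

lemma ψS_congr {t t' : T ⟶ B} (e : t = t') (x₀ x₁ : T ⟶ X.left) (h₀ : x₀ ≫ X.hom = t)
    (h₁ : x₁ ≫ X.hom = t) (h : x₀ ≫ f.left = x₁ ≫ f.left) (v : T ⟶ Z.left)
    (hv : v ≫ Z.hom = t) :
    ψS a f hsq c t x₀ x₁ h₀ h₁ h v hv =
      ψS a f hsq c t' x₀ x₁ (h₀.trans e) (h₁.trans e) h v (hv.trans e) := by
  subst e; rfl

include hr in
lemma ψS_r (t : T ⟶ B) (x₀ x₁ : T ⟶ X.left) (h₀ : x₀ ≫ X.hom = t) (h₁ : x₁ ≫ X.hom = t)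
    (h : x₀ ≫ f.left = x₁ ≫ f.left) (v : T ⟶ Z.left) (hv : v ≫ Z.hom = t)
    (hvr : v ≫ r.left = x₀) :
    ψS a f hsq c t x₀ x₁ h₀ h₁ h v hv ≫ r.left = x₁ := by
  unfold ψS
  rw [← Over.comp_left, Ψ_r a f hsq c r hr]
  · rfl
  · ext
    exact hvr

lemma ψS_hom (t : T ⟶ B) (x₀ x₁ : T ⟶ X.left) (h₀ : x₀ ≫ X.hom = t) (h₁ : x₁ ≫ X.hom = t)
    (h : x₀ ≫ f.left = x₁ ≫ f.left) (v : T ⟶ Z.left) (hv : v ≫ Z.hom = t) :
    ψS a f hsq c t x₀ x₁ h₀ h₁ h v hv ≫ Z.hom = t := by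
  unfold ψS
  exact Over.w (Ψ a f hsq c (T := Over.mk t) (Over.homMk x₀ h₀) (Over.homMk x₁ h₁) _
    (Over.homMk v hv))

lemma ψS_nat {T' : Scheme.{u}} (g : T' ⟶ T) (t : T ⟶ B) (x₀ x₁ : T ⟶ X.left)
    (h₀ : x₀ ≫ X.hom = t) (h₁ : x₁ ≫ X.hom = t)
    (h : x₀ ≫ f.left = x₁ ≫ f.left) (v : T ⟶ Z.left) (hv : v ≫ Z.hom = t) :
    g ≫ ψS a f hsq c t x₀ x₁ h₀ h₁ h v hv =
      ψS a f hsq c (g ≫ t) (g ≫ x₀) (g ≫ x₁) (by rw [Category.assoc, h₀])
        (by rw [Category.assoc, h₁]) (by rw [Category.assoc, Category.assoc, h]) (g ≫ v)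
        (by rw [Category.assoc, hv]) := by
  unfold ψS
  let k : Over.mk (g ≫ t) ⟶ Over.mk t := Over.homMk g rfl
  have e := Ψ_nat a f hsq c k (Over.homMk x₀ h₀) (Over.homMk x₁ h₁) (by ext; simpa using h)
    (by ext; simp [k, h]) (Over.homMk v hv)
  have e' := congrArg (fun m => m.left) e
  simp only [Over.comp_left] at e'
  exact e'

lemma ψS_self (t : T ⟶ B) (x : T ⟶ X.left) (h₀ : x ≫ X.hom = t)
    (v : T ⟶ Z.left) (hv : v ≫ Z.hom = t) :
    ψS a f hsq c t x x h₀ h₀ rfl v hv = v := by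
  unfold ψS
  exact congrArg (fun m => m.left)
    (Ψ_self a f hsq c (T := Over.mk t) (Over.homMk x h₀) (Over.homMk v hv))

lemma ψS_comp (t : T ⟶ B) (x₀ x₁ x₂ : T ⟶ X.left) (h₀ : x₀ ≫ X.hom = t) (h₁ : x₁ ≫ X.hom = t)
    (h₂ : x₂ ≫ X.hom = t)
    (h₀₁ : x₀ ≫ f.left = x₁ ≫ f.left) (h₁₂ : x₁ ≫ f.left = x₂ ≫ f.left)
    (v : T ⟶ Z.left) (hv : v ≫ Z.hom = t) :
    ψS a f hsq c t x₁ x₂ h₁ h₂ h₁₂ (ψS a f hsq c t x₀ x₁ h₀ h₁ h₀₁ v hv)
        (ψS_hom a f hsq c t x₀ x₁ h₀ h₁ h₀₁ v hv) =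
      ψS a f hsq c t x₀ x₂ h₀ h₂ (h₀₁.trans h₁₂) v hv := by
  unfold ψS
  have e := Ψ_comp a f hsq c (T := Over.mk t) (Over.homMk x₀ h₀) (Over.homMk x₁ h₁)
    (Over.homMk x₂ h₂) (by ext; simpa using h₀₁) (by ext; simpa using h₁₂) (Over.homMk v hv)
  exact congrArg (fun m => m.left) e

lemma lifts_hom {x : T ⟶ X.left} (v : Lifts (Over.mk r.left) x) :
    v.1 ≫ Z.hom = x ≫ X.hom := by
  have e : v.1 ≫ r.left = x := v.2
  calc v.1 ≫ Z.hom = v.1 ≫ r.left ≫ X.hom := by rw [Over.w r]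
    _ = x ≫ X.hom := by rw [← Category.assoc, e]

/-- the descent datum of an equivariant scheme `r : Z ⟶ X`, relative to `f` -/
noncomputable def eqvDD : SchDD f.left where
  obj := Over.mk r.left
  φ T x₀ x₁ h :=
    { toFun := fun v => ⟨ψS a f hsq c (x₀ ≫ X.hom) x₀ x₁ rfl (hom_eq_of_f_eq f x₀ x₁ h) h v.1
        (lifts_hom r v), ψS_r a f hsq c r hr _ _ _ _ _ _ _ _ v.2⟩
      invFun := fun w => ⟨ψS a f hsq c (x₀ ≫ X.hom) x₁ x₀ (hom_eq_of_f_eq f x₀ x₁ h) rfl h.symm w.1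
        ((lifts_hom r w).trans (hom_eq_of_f_eq f x₀ x₁ h)),
        ψS_r a f hsq c r hr _ _ _ _ _ _ _ _ w.2⟩
      left_inv := fun v => Subtype.ext (by
        dsimp only
        rw [ψS_comp, ψS_self])
      right_inv := fun w => Subtype.ext (by
        dsimp only
        rw [ψS_comp, ψS_self]) }
  φ_natural T T' g x₀ x₁ h h' v v' hv' := by
    obtain ⟨v', hv'2⟩ := v'
    change v' = g ≫ v.1 at hv'
    subst hv'
    dsimp only [Equiv.coe_fn_mk]
    rw [ψS_nat, ψS_congr a f hsq c (Category.assoc g x₀ X.hom)]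
  φ_self T x v := Subtype.ext (ψS_self a f hsq c _ x rfl v.1 (lifts_hom r v))
  φ_comp T x₀ x₁ x₂ h₀₁ h₁₂ v := Subtype.ext (by
    dsimp only [Equiv.coe_fn_mk]
    rw [ψS_congr a f hsq c (hom_eq_of_f_eq f x₀ x₁ h₀₁), ψS_comp])

lemma ψS_eq (T : Over B) (y₀ y₁ : T ⟶ X) (h : y₀ ≫ f = y₁ ≫ f) (V : T ⟶ Z) :
    ψS a f hsq c T.hom y₀.left y₁.left (Over.w y₀) (Over.w y₁)
      (by rw [← Over.comp_left, h, Over.comp_left]) V.left (Over.w V) =
      (Ψ a f hsq c y₀ y₁ h V).left := rfl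

lemma eqvDD_φ (T : Over B) (y₀ y₁ : T ⟶ X) (h : y₀ ≫ f = y₁ ≫ f) (V : T ⟶ Z)
    (hV : V ≫ r = y₀) :
    ((eqvDD a f hsq c r hr).φ y₀.left y₁.left (by rw [← Over.comp_left, h, Over.comp_left])
      ⟨V.left, by
        change V.left ≫ r.left = y₀.left
        rw [← Over.comp_left, hV]⟩).1 = (Ψ a f hsq c y₀ y₁ h V).left := by
  rw [← ψS_eq]
  exact ψS_congr a f hsq c (Over.w y₀) _ _ _ _ _ _ _

end sch

/-- The quotient from an effectiveness isomorphism for `eqvDD`. -/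
theorem exists_quot_of_iso (W₀ : Over Y.left)
    (θ : (toDD f.left).obj W₀ ≅ eqvDD a f hsq c r hr) :
    ∃ φ : Z ⟶ Over.mk (W₀.hom ≫ Y.hom),
      c.act ≫ φ = snd G Z ≫ φ ∧ IsPullback r.left φ.left f.left W₀.hom := by
  let W : Over B := Over.mk (W₀.hom ≫ Y.hom)
  let θl : Z.left ⟶ pullback f.left W₀.hom := θ.inv.hom.left
  have hθw : θl ≫ pullback.fst f.left W₀.hom = r.left := Over.w θ.inv.hom
  let φ₀ : Z.left ⟶ W₀.left := θl ≫ pullback.snd f.left W₀.hom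
  have hφ₀ : φ₀ ≫ W.hom = Z.hom := by
    change (θl ≫ pullback.snd f.left W₀.hom) ≫ W₀.hom ≫ Y.hom = _
    rw [Category.assoc, ← pullback.condition_assoc, ← Category.assoc, hθw, Over.w f, Over.w r]
  let φ : Z ⟶ W := Over.homMk φ₀ hφ₀
  refine ⟨φ, ?_, ?_⟩
  · -- invariance
    let g : G ⊗ Z ⟶ G := fst G Z
    let z : G ⊗ Z ⟶ Z := snd G Z
    let x : G ⊗ Z ⟶ X := z ≫ r
    have e₀ : c.act = smul c g z := by
      unfold smul
      rw [lift_fst_snd, Category.id_comp]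
    have hzr : smul c g z ≫ r = smul a g x := smul_r a c r hr g z
    have hΨ := Ψ_act a f hsq c g x z
    have hD := eqvDD_φ a f hsq c r hr (G ⊗ Z) (smul a g x) x (smul_comp_f a f hsq g x)
      (smul c g z) hzr
    rw [hΨ] at hD
    have hc := θ.inv.comm (smul a g x).left x.left
      (by rw [← Over.comp_left, smul_comp_f a f hsq g x, Over.comp_left])
      ⟨(smul c g z).left, by
        change (smul c g z).left ≫ r.left = (smul a g x).left
        rw [← Over.comp_left, hzr]⟩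
      ⟨(smul c g z).left ≫ θl, by
        change ((smul c g z).left ≫ θl) ≫ pullback.fst f.left W₀.hom = _
        rw [Category.assoc, hθw, ← Over.comp_left, hzr]⟩ rfl
    rw [hD] at hc
    rw [e₀]
    ext
    change (smul c g z).left ≫ θl ≫ pullback.snd f.left W₀.hom =
      z.left ≫ θl ≫ pullback.snd f.left W₀.hom
    have hc' := congrArg (fun m => m ≫ pullback.snd f.left W₀.hom) hc
    refine (Category.assoc _ _ _).symm.trans (Eq.trans ?_ (hc'.trans (Category.assoc _ _ _)))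
    exact (pullback.lift_snd _ _ _).symm
  · -- the cartesian square
    have hpb : IsPullback (pullback.fst f.left W₀.hom) (pullback.snd f.left W₀.hom) f.left W₀.hom :=
      IsPullback.of_hasPullback _ _
    let e : pullback f.left W₀.hom ≅ Z.left :=
      ⟨θ.hom.hom.left, θl, hom_inv_left θ, inv_hom_left θ⟩
    refine hpb.of_iso e (Iso.refl _) (Iso.refl _) (Iso.refl _) ?_ ?_ ?_ ?_
    · have hw : θ.hom.hom.left ≫ r.left = pullback.fst f.left W₀.hom := Over.w θ.hom.hom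
      simp only [Iso.refl_hom, Category.comp_id, e]
      exact hw.symm
    · change pullback.snd f.left W₀.hom ≫ 𝟙 _ = θ.hom.hom.left ≫ θl ≫ pullback.snd f.left W₀.hom
      rw [Category.comp_id, ← Category.assoc]
      have h3 : (θ.hom.hom.left : pullback f.left W₀.hom ⟶ Z.left) ≫ θl =
        𝟙 (pullback f.left W₀.hom) := hom_inv_left θ
      rw [h3]
      exact (Category.id_comp _).symm
    · simp
    · simp

include hsq hr in
/-- the quotient of an equivariant scheme affine over the total space of a principal bundle -/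
theorem exists_quot [Flat f.left] [Surjective f.left] [QuasiCompact f.left]
    (hra : IsAffineHom r.left) :
    ∃ (W : Over B) (φ : Z ⟶ W) (ψ : W ⟶ Y),
      (∀ (P : MorphismProperty Scheme.{u}) [P.RespectsIso] [P.DescendsAlong fpqc.{u}],
        P r.left → P ψ.left) ∧
      c.act ≫ φ = snd G Z ≫ φ ∧ IsPullback r.left φ.left f.left ψ.left := by
  let D : SchDD f.left := eqvDD a f hsq c r hr
  haveI : IsAffineHom D.obj.hom := hra
  obtain ⟨W₀, ⟨θ⟩⟩ := DescAffineHom.effective_of_isAffineHom f.left D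
  obtain ⟨φ, hinv, hpb⟩ := exists_quot_of_iso a f hsq c r hr W₀ θ
  refine ⟨Over.mk (W₀.hom ≫ Y.hom), φ, Over.homMk W₀.hom rfl, ?_, hinv, hpb⟩
  intro P _ _ hP
  exact of_iso_toDD P θ hP

include hsq hr in
/-- the quotient of an equivariant scheme quasi-affine over the total space -/
theorem exists_quot_qaff [Flat f.left] [Surjective f.left] [QuasiCompact f.left]
    (hra : Mor2.IsQuasiAffine r.left) :
    ∃ (W : Over B) (φ : Z ⟶ W) (ψ : W ⟶ Y),
      (∀ (P : MorphismProperty Scheme.{u}) [P.RespectsIso] [P.DescendsAlong fpqc.{u}],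
        P r.left → P ψ.left) ∧
      c.act ≫ φ = snd G Z ≫ φ ∧ IsPullback r.left φ.left f.left ψ.left := by
  let D : SchDD f.left := eqvDD a f hsq c r hr
  have hD : Mor2.IsQuasiAffine D.obj.hom := hra
  obtain ⟨W₀, ⟨θ⟩⟩ := DescQAffHom.effective_of_isQuasiAffine f.left D hD
  obtain ⟨φ, hinv, hpb⟩ := exists_quot_of_iso a f hsq c r hr W₀ θ
  refine ⟨Over.mk (W₀.hom ≫ Y.hom), φ, Over.homMk W₀.hom rfl, ?_, hinv, hpb⟩
  intro P _ _ hP
  exact of_iso_toDD P θ hP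

end Groth.Agent.Lib.Helper5.EqvDesc
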