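import Mathlib
import Groth.Prelude.Def_Desc
import Groth.Prelude.Def_NonAbH2
import Groth.Agent.Lib.Helper5.TorsorPush
import Groth.Agent.Lib.Helper5.PrincDesc

/-!
# Base change of a principal bundle is a principal bundle (helper5)

Let `π : U ⟶ Y` be a principal `G`-bundle (cartesian action square), `P` a `G`-object with an
equivariant map `r : P ⟶ U` and an invariant map `ρ : P ⟶ Q` such that `P = U ×_Y Q`.  Then
`ρ : P ⟶ Q` is a principal `G`-bundle: the action square of `P` over `Q` is cartesian.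
-/

set_option autoImplicit false
universe u
open CategoryTheory CategoryTheory.Limits MonoidalCategory CartesianMonoidalCategory MonObj GrpObj
  AlgebraicGeometry Desc

namespace Groth.Agent.Lib.Helper5.PrincQuot

open Groth.Agent.Lib.Helper5.TorsorPush Groth.Agent.Lib.Helper5.PrincDesc

variable {B : Scheme.{u}} {G U P Q Y : Over B} [GrpObj G] (b : AlgGrp.Action G U) (π : U ⟶ Y)
  (hsq : IsPullback b.act.left (snd G U).left π.left π.left) (c : AlgGrp.Action G P)
  (r : P ⟶ U) (hr : c.act ≫ r = (G ◁ r) ≫ b.act) (ρ : P ⟶ Q) (hρ : c.act ≫ ρ = snd G P ≫ ρ)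
  (ψ : Q ⟶ Y) (hpb : IsPullback r.left ρ.left π.left ψ.left)

include hr in
lemma smul_r {T : Over B} (g : T ⟶ G) (p : T ⟶ P) : smul c g p ≫ r = smul b g (p ≫ r) := by
  unfold smul
  rw [Category.assoc, hr, ← Category.assoc]
  congr 1
  apply CartesianMonoidalCategory.hom_ext <;> simp

include hρ in
lemma smul_ρ {T : Over B} (g : T ⟶ G) (p : T ⟶ P) : smul c g p ≫ ρ = p ≫ ρ := by
  unfold smul
  rw [Category.assoc, hρ, lift_snd_assoc]

include hpb in
lemma ext_rρ {T : Over B} (p p' : T ⟶ P) (h₁ : p ≫ r = p' ≫ r) (h₂ : p ≫ ρ = p' ≫ ρ) : p = p' := by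
  apply Over.OverMorphism.ext
  apply hpb.hom_ext
  · rw [← Over.comp_left, ← Over.comp_left, h₁]
  · rw [← Over.comp_left, ← Over.comp_left, h₂]

include hpb in
lemma r_π : r ≫ π = ρ ≫ ψ := by
  apply Over.OverMorphism.ext
  rw [Over.comp_left, Over.comp_left]
  exact hpb.w

include hsq hr hρ hpb in
/-- The action square of `P` over `Q` is cartesian. -/
theorem isPullback_act : IsPullback c.act (snd G P) ρ ρ := by
  have hw : r ≫ π = ρ ≫ ψ := r_π π r ρ ψ hpb
  have hcond : ∀ s : PullbackCone ρ ρ, (s.fst ≫ r) ≫ π = (s.snd ≫ r) ≫ π := by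
    intro s
    rw [Category.assoc, Category.assoc, hw, ← Category.assoc, ← Category.assoc, s.condition]
  refine ⟨⟨hρ⟩, ⟨PullbackCone.IsLimit.mk _
    (fun s => lift (divY b π hsq (s.fst ≫ r) (s.snd ≫ r) (hcond s)) s.snd) ?_ ?_ ?_⟩⟩
  · intro s
    change smul c (divY b π hsq (s.fst ≫ r) (s.snd ≫ r) (hcond s)) s.snd = s.fst
    apply ext_rρ π r ρ ψ hpb
    · rw [smul_r b c r hr, divY_smul]
    · rw [smul_ρ c ρ hρ, s.condition]
  · intro s
    exact lift_snd _ _
  · intro s m h₁ h₂
    have hm : m = lift (m ≫ fst G P) s.snd := by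
      apply CartesianMonoidalCategory.hom_ext
      · rw [lift_fst]
      · rw [lift_snd, h₂]
    rw [hm]
    congr 1
    apply eq_divY
    rw [← smul_r b c r hr]
    unfold smul
    rw [← hm, h₁]

include hsq hr hρ hpb in
/-- Scheme-level version. -/
theorem isPullback_act_left :
    IsPullback c.act.left (snd G P).left ρ.left ρ.left :=
  (isPullback_act b π hsq c r hr ρ hρ ψ hpb).map (Over.forget B)

end Groth.Agent.Lib.Helper5.PrincQuot
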