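import Groth.Agent.Lib.Helper5.TorsorPush

/-! # Exact sequences of group schemes and torsors: point calculus (helper5) -/

set_option autoImplicit false
universe u

open CategoryTheory CategoryTheory.Limits MonoidalCategory CartesianMonoidalCategory MonObj GrpObj
  AlgebraicGeometry

namespace Groth.Agent.Lib.Helper5.TorsorExact

open Groth.Agent.Lib.Helper5.TorsorPush

variable {S : Scheme.{u}}

section points

variable {G X : Over S} [GrpObj G] (a : AlgGrp.Action G X)

theorem smul_trivialAction {T : Over S} (g x : T ⟶ G) :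
    smul (NonAbH1.trivialAction G) g x = g * x := by
  unfold smul NonAbH1.trivialAction
  rw [Hom.mul_def]

theorem isPseudoTorsorSch_of_points
    (h : ∀ {T : Over S} (y₁ y₂ : T ⟶ X), ∃! g : T ⟶ G, smul a g y₂ = y₁) :
    NonAbH1.IsPseudoTorsorSch a := by
  unfold NonAbH1.IsPseudoTorsorSch
  apply isIso_of_yoneda_map_bijective
  intro T
  constructor
  · intro w₁ w₂ hw
    dsimp only at hw
    have h1 : w₁ ≫ a.act = w₂ ≫ a.act := by
      have := congrArg (· ≫ fst X X) hw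
      simpa using this
    have h2 : w₁ ≫ snd G X = w₂ ≫ snd G X := by
      have := congrArg (· ≫ snd X X) hw
      simpa using this
    obtain ⟨g, -, hg⟩ := h (w₁ ≫ a.act) (w₁ ≫ snd G X)
    have e1 : w₁ ≫ fst G X = g := hg _ (by
      show smul a _ _ = _
      unfold smul; rw [lift_comp_fst_snd])
    have e2 : w₂ ≫ fst G X = g := hg _ (by
      show smul a _ _ = _
      unfold smul; rw [h2, lift_comp_fst_snd, h1])
    apply CartesianMonoidalCategory.hom_ext
    · rw [e1, e2]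
    · exact h2
  · intro z
    obtain ⟨g, hg, -⟩ := h (z ≫ fst X X) (z ≫ snd X X)
    refine ⟨lift g (z ≫ snd X X), ?_⟩
    dsimp only
    apply CartesianMonoidalCategory.hom_ext
    · rw [Category.assoc, lift_fst]; exact hg
    · rw [Category.assoc, lift_snd, lift_snd]

/-- An action from its description on points. -/
noncomputable def actionOfPoints (act : G ⊗ X ⟶ X)
    (h1 : ∀ {T : Over S} (x : T ⟶ X), lift 1 x ≫ act = x)
    (hmul : ∀ {T : Over S} (g h : T ⟶ G) (x : T ⟶ X),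
      lift (g * h) x ≫ act = lift g (lift h x ≫ act) ≫ act) : AlgGrp.Action G X where
  act := act
  one_act := by
    have e : (η[G] ▷ X) = lift (1 : 𝟙_ (Over S) ⊗ X ⟶ G) (snd _ _) := by
      apply CartesianMonoidalCategory.hom_ext
      · rw [lift_fst, whiskerRight_fst, Hom.one_def]
        congr 1
      · rw [lift_snd, whiskerRight_snd]
    rw [e, h1, leftUnitor_hom]
  mul_act := by
    have e1 : (μ[G] ▷ X) = lift ((fst (G ⊗ G) X ≫ fst G G) * (fst (G ⊗ G) X ≫ snd G G))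
        (snd (G ⊗ G) X) := by
      apply CartesianMonoidalCategory.hom_ext
      · rw [lift_fst, whiskerRight_fst, Hom.mul_def, ← comp_lift, lift_fst_snd, Category.comp_id]
      · rw [lift_snd, whiskerRight_snd]
    have e2 : (α_ G G X).hom ≫ (G ◁ act) = lift (fst (G ⊗ G) X ≫ fst G G)
        (lift (fst (G ⊗ G) X ≫ snd G G) (snd (G ⊗ G) X) ≫ act) := by
      apply CartesianMonoidalCategory.hom_ext
      · simp
      · rw [Category.assoc, whiskerLeft_snd, lift_snd, ← Category.assoc]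
        congr 1
        apply CartesianMonoidalCategory.hom_ext <;> simp
    rw [e1, hmul, ← Category.assoc, e2]

/-- The sieve of morphisms over which `X` has a section. -/
def secSieve (X : Over S) : Sieve S where
  arrows _ f := NonAbH1.HasSectionOver X f
  downward_closed := by
    rintro Y Z f ⟨s, hs⟩ g
    exact ⟨g ≫ s, by rw [Category.assoc, hs]⟩

theorem isLocallyTrivialFor_iff (X : Over S) :
    NonAbH1.IsLocallyTrivialFor Scheme.fpqcPrecoverage X ↔
      secSieve X ∈ Scheme.fpqcTopology S := by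
  rw [Precoverage.mem_toGrothendieck_iff_of_isStableUnderComposition]
  exact ⟨fun ⟨R, hR, h⟩ => ⟨R, hR, fun Y f hf => h f hf⟩,
    fun ⟨R, hR, h⟩ => ⟨R, hR, fun Y f hf => h _ _ hf⟩⟩

theorem isPullback_toUnit_of_points {Q A B : Over S} (i : Q ⟶ A) (v : A ⟶ B)
    (f : 𝟙_ (Over S) ⟶ B) (w : i ≫ v = toUnit Q ≫ f)
    (h : ∀ {T : Over S} (x : T ⟶ A), x ≫ v = toUnit T ≫ f → ∃! t : T ⟶ Q, t ≫ i = x) :
    IsPullback i (toUnit Q) v f := by
  have hs : ∀ s : PullbackCone v f, s.fst ≫ v = toUnit s.pt ≫ f := by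
    intro s
    rw [s.condition]
    congr 1
    apply toUnit_unique
  refine ⟨⟨w⟩, ⟨PullbackCone.IsLimit.mk _ (fun s => (h s.fst (hs s)).exists.choose) ?_ ?_ ?_⟩⟩
  · intro s
    exact (h s.fst (hs s)).exists.choose_spec
  · intro s
    apply toUnit_unique
  · intro s m h1 _
    exact (h s.fst (hs s)).unique h1 (h s.fst (hs s)).exists.choose_spec

end points

section exact

variable {G G' G'' : Over S} [GrpObj G] [GrpObj G'] [GrpObj G''] (u : G' ⟶ G) (v : G ⟶ G'')
  (hpb : IsPullback (fst G G') ((G ◁ u) ≫ μ[G]) v v)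

theorem lift_rightTranslate {T : Over S} (x : T ⟶ G) (g' : T ⟶ G') :
    lift x g' ≫ (G ◁ u) ≫ μ[G] = x * (g' ≫ u) := by
  rw [Hom.mul_def, ← Category.assoc]
  congr 1
  apply CartesianMonoidalCategory.hom_ext <;> simp

include hpb in
theorem existsUnique_of_exact {T : Over S} (x₁ x₂ : T ⟶ G) (h : x₁ ≫ v = x₂ ≫ v) :
    ∃! g' : T ⟶ G', x₁ * (g' ≫ u) = x₂ := by
  refine ⟨hpb.lift x₁ x₂ h ≫ snd G G', ?_, ?_⟩
  · have e : lift x₁ (hpb.lift x₁ x₂ h ≫ snd G G') = hpb.lift x₁ x₂ h := by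
      apply CartesianMonoidalCategory.hom_ext
      · rw [lift_fst, hpb.lift_fst]
      · rw [lift_snd]
    show x₁ * ((hpb.lift x₁ x₂ h ≫ snd G G') ≫ u) = x₂
    rw [← lift_rightTranslate, e, hpb.lift_snd]
  · intro g' hg'
    have e : lift x₁ g' = hpb.lift x₁ x₂ h := by
      apply hpb.hom_ext
      · rw [lift_fst, hpb.lift_fst]
      · rw [hpb.lift_snd, lift_rightTranslate, hg']
    rw [← e, lift_snd]

include hpb in
theorem existsUnique_of_ker [IsMonHom v] {T : Over S} (g : T ⟶ G) (h : g ≫ v = 1) :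
    ∃! g' : T ⟶ G', g' ≫ u = g := by
  have := existsUnique_of_exact u v hpb (1 : T ⟶ G) g (by rw [MonObj.one_comp, h])
  simpa only [_root_.one_mul] using this

include hpb in
theorem eq_one_of_comp_eq_one [IsMonHom u] [IsMonHom v] {T : Over S} (g' : T ⟶ G')
    (h : g' ≫ u = 1) : g' = 1 := by
  have h1 : (1 : T ⟶ G) ≫ v = 1 := MonObj.one_comp v
  exact (existsUnique_of_ker u v hpb (1 : T ⟶ G) h1).unique h (MonObj.one_comp u)

/-- A morphism of group objects which is multiplicative on points is a homomorphism. -/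
theorem isMonHom_of_points {H K : Over S} [GrpObj H] [GrpObj K] (f : H ⟶ K)
    (h : ∀ {T : Over S} (x y : T ⟶ H), (x * y) ≫ f = (x ≫ f) * (y ≫ f)) : IsMonHom f where
  one_hom := by
    have h1 : (1 : 𝟙_ (Over S) ⟶ H) = η[H] := by
      rw [Hom.one_def, toUnit_unique (toUnit (𝟙_ (Over S))) (𝟙 _), Category.id_comp]
    have h1' : (1 : 𝟙_ (Over S) ⟶ K) = η[K] := by
      rw [Hom.one_def, toUnit_unique (toUnit (𝟙_ (Over S))) (𝟙 _), Category.id_comp]
    have h2 := h (1 : 𝟙_ (Over S) ⟶ H) 1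
    rw [_root_.mul_one] at h2
    have h3 : (1 : 𝟙_ (Over S) ⟶ H) ≫ f = 1 := by
      have := _root_.left_eq_mul.mp h2
      exact this
    rw [← h1, ← h1', h3]
  mul_hom := by
    have h2 := h (fst H H) (snd H H)
    have e1 : fst H H * snd H H = μ[H] := by
      rw [Hom.mul_def, lift_fst_snd, Category.id_comp]
    have e2 : (fst H H ≫ f) * (snd H H ≫ f) = (f ⊗ₘ f) ≫ μ[K] := by
      rw [Hom.mul_def, lift_fst_comp_snd_comp]
    rw [← e1, ← e2, h2]

/-- Converse of `existsUnique_of_exact`. -/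
theorem isPullback_of_existsUnique [IsMonHom v] (huv : u ≫ v = 1)
    (h : ∀ {T : Over S} (x₁ x₂ : T ⟶ G), x₁ ≫ v = x₂ ≫ v →
      ∃! g' : T ⟶ G', x₁ * (g' ≫ u) = x₂) :
    IsPullback (fst G G') ((G ◁ u) ≫ μ[G]) v v := by
  have key : ∀ {T : Over S} (w : T ⟶ G ⊗ G'),
      w ≫ (G ◁ u) ≫ μ[G] = (w ≫ fst G G') * ((w ≫ snd G G') ≫ u) := by
    intro T w
    rw [← lift_rightTranslate, lift_comp_fst_snd]
  have hw : fst G G' ≫ v = ((G ◁ u) ≫ μ[G]) ≫ v := by
    have := key (𝟙 (G ⊗ G'))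
    rw [Category.id_comp, Category.id_comp, Category.id_comp] at this
    rw [this, MonObj.mul_comp, Category.assoc, huv, MonObj.comp_one, _root_.mul_one]
  have hs : ∀ s : PullbackCone v v, ∃! g' : s.pt ⟶ G', s.fst * (g' ≫ u) = s.snd :=
    fun s => h s.fst s.snd s.condition
  refine ⟨⟨hw⟩, ⟨PullbackCone.IsLimit.mk _ (fun s => lift s.fst (hs s).exists.choose) ?_ ?_ ?_⟩⟩
  · intro s
    exact lift_fst _ _
  · intro s
    rw [lift_rightTranslate]
    exact (hs s).exists.choose_spec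
  · intro s m h1 h2
    have h3 : m ≫ snd G G' = (hs s).exists.choose := by
      apply (hs s).unique _ (hs s).exists.choose_spec
      rw [← h1, ← key, h2]
    apply CartesianMonoidalCategory.hom_ext
    · rw [lift_fst, h1]
    · rw [lift_snd, h3]

end exact

section sub

variable {G G' G'' : Over S} [GrpObj G] [GrpObj G'] [GrpObj G''] (u : G' ⟶ G) [IsMonHom u]
  (v : G ⟶ G'') [IsMonHom v] (huv : u ≫ v = 1)
  (hpb : IsPullback (fst G G') ((G ◁ u) ≫ μ[G]) v v)
  {P : Over S} (aP : AlgGrp.Action G P) (haP : NonAbH1.IsPseudoTorsorSch aP)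
  (j : P ⟶ G'')
  (hj : aP.act ≫ j = lift (fst G P ≫ v) (snd G P ≫ j) ≫ (NonAbH1.trivialAction G'').act)
  {Q : Over S} (m : Q ⟶ P)
  (hm : ∀ {T : Over S} (t₁ t₂ : T ⟶ Q), t₁ ≫ m = t₂ ≫ m → t₁ = t₂)
  (hm1 : m ≫ j = 1)
  (hlift : ∀ {T : Over S} (p : T ⟶ P), p ≫ j = 1 → ∃ t : T ⟶ Q, t ≫ m = p)

include hj in
theorem smul_comp_j {T : Over S} (g : T ⟶ G) (p : T ⟶ P) :
    smul aP g p ≫ j = (g ≫ v) * (p ≫ j) := by
  rw [smul_comp_of_equivariant aP (NonAbH1.trivialAction G'') v j hj, smul_trivialAction]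

include huv hj hm1 hlift in
theorem exists_subAct : ∃ act' : G' ⊗ Q ⟶ Q,
    act' ≫ m = smul aP (fst G' Q ≫ u) (snd G' Q ≫ m) := by
  apply hlift
  rw [smul_comp_j v aP j hj, Category.assoc, Category.assoc, huv, hm1, MonObj.comp_one,
    MonObj.comp_one, _root_.one_mul]

/-- The restricted action on `Q`. -/
noncomputable def subAction (act' : G' ⊗ Q ⟶ Q)
    (hact : act' ≫ m = smul aP (fst G' Q ≫ u) (snd G' Q ≫ m))
    (hm : ∀ {T : Over S} (t₁ t₂ : T ⟶ Q), t₁ ≫ m = t₂ ≫ m → t₁ = t₂) : AlgGrp.Action G' Q :=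
  have key : ∀ {T : Over S} (g' : T ⟶ G') (q : T ⟶ Q),
      (lift g' q ≫ act') ≫ m = smul aP (g' ≫ u) (q ≫ m) := by
    intro T g' q
    rw [Category.assoc, hact, comp_smul, lift_fst_assoc, lift_snd_assoc]
  actionOfPoints act'
    (by
      intro T x
      apply hm
      rw [key, MonObj.one_comp, TorsorPush.one_smul])
    (by
      intro T g h x
      apply hm
      rw [key, key, key, MonObj.mul_comp, TorsorPush.mul_smul])

theorem subAction_smul (act' : G' ⊗ Q ⟶ Q)
    (hact : act' ≫ m = smul aP (fst G' Q ≫ u) (snd G' Q ≫ m))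
    {T : Over S} (g' : T ⟶ G') (q : T ⟶ Q) :
    smul (subAction u aP m act' hact hm) g' q ≫ m = smul aP (g' ≫ u) (q ≫ m) := by
  show (lift g' q ≫ act') ≫ m = _
  rw [Category.assoc, hact, comp_smul, lift_fst_assoc, lift_snd_assoc]

include hpb haP hj hm1 in
theorem isPseudoTorsorSch_subAction (act' : G' ⊗ Q ⟶ Q)
    (hact : act' ≫ m = smul aP (fst G' Q ≫ u) (snd G' Q ≫ m)) :
    NonAbH1.IsPseudoTorsorSch (subAction u aP m act' hact hm) := by
  apply isPseudoTorsorSch_of_points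
  intro T q₁ q₂
  obtain ⟨g, hg⟩ : ∃ g : T ⟶ G, smul aP g (q₂ ≫ m) = q₁ ≫ m := ⟨_, dvp_smul aP haP _ _⟩
  have hgv : g ≫ v = 1 := by
    have := congrArg (fun k => k ≫ j) hg
    rw [smul_comp_j v aP j hj, Category.assoc, Category.assoc, hm1, MonObj.comp_one,
      MonObj.comp_one, _root_.mul_one] at this
    exact this
  obtain ⟨g', hg', hg'u⟩ := existsUnique_of_ker u v hpb g hgv
  refine ⟨g', ?_, ?_⟩
  · apply hm
    rw [subAction_smul, hg', hg]
  · intro g₂ hg₂
    apply hg'u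
    have h1 := subAction_smul u aP m hm act' hact g₂ q₂
    rw [hg₂] at h1
    rw [eq_dvp aP haP (g₂ ≫ u) _ _ h1.symm, eq_dvp aP haP g _ _ hg]

include hj hlift in
theorem isLocallyTrivialFor_sub
    (hP : NonAbH1.IsLocallyTrivialFor Scheme.fpqcPrecoverage P)
    (hv : NonAbH1.IsLocallyTrivialFor Scheme.fpqcPrecoverage (Over.mk v.left : Over G''.left)) :
    NonAbH1.IsLocallyTrivialFor Scheme.fpqcPrecoverage Q := by
  rw [isLocallyTrivialFor_iff] at hP hv ⊢
  refine Scheme.fpqcTopology.transitive hP _ ?_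
  rintro S' f ⟨p, hp⟩
  refine Scheme.fpqcTopology.superset_covering ?_
    (Scheme.fpqcTopology.pullback_stable (p ≫ j.left) hv)
  rintro T h ⟨g, hg⟩
  change g ≫ v.left = h ≫ p ≫ j.left at hg
  let T' : Over S := Over.mk (h ≫ f)
  let g₀ : T' ⟶ G := Over.homMk g (by
    show g ≫ G.hom = h ≫ f
    rw [← Over.w v, ← Category.assoc, hg, ← hp, Category.assoc, Category.assoc, Over.w j])
  let p₀ : T' ⟶ P := Over.homMk (h ≫ p) (by
    show (h ≫ p) ≫ P.hom = h ≫ f
    rw [Category.assoc, hp])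
  have h1 : g₀ ≫ v = p₀ ≫ j := by
    ext
    show g ≫ v.left = (h ≫ p) ≫ j.left
    rw [hg, Category.assoc]
  obtain ⟨t, ht⟩ := hlift (smul aP g₀⁻¹ p₀) (by
    rw [smul_comp_j v aP j hj, GrpObj.inv_comp, h1, _root_.inv_mul_cancel])
  exact ⟨t.left, Over.w t⟩

end sub

section desc

theorem effectiveEpi_left_of_secSieve {A B : Over S} (π : A ⟶ B)
    (h : secSieve (Over.mk π.left : Over B.left) ∈ Scheme.fpqcTopology B.left) :
    EffectiveEpi π.left := by
  apply effectiveEpi_of_generate_mem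
  refine Scheme.fpqcTopology.superset_covering ?_ h
  rintro W g ⟨s, hs⟩
  exact ⟨_, s, π.left, Presieve.singleton.mk, hs⟩

theorem secSieve_tensor {A B A' B' : Over S} (π : A ⟶ B) (π' : A' ⟶ B')
    (h : secSieve (Over.mk π.left : Over B.left) ∈ Scheme.fpqcTopology B.left)
    (h' : secSieve (Over.mk π'.left : Over B'.left) ∈ Scheme.fpqcTopology B'.left) :
    secSieve (Over.mk (π ⊗ₘ π').left : Over (B ⊗ B').left) ∈
      Scheme.fpqcTopology (B ⊗ B').left := by
  have h1 := Scheme.fpqcTopology.pullback_stable (fst B B').left h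
  have h2 := Scheme.fpqcTopology.pullback_stable (snd B B').left h'
  refine Scheme.fpqcTopology.superset_covering ?_
    (Scheme.fpqcTopology.intersection_covering h1 h2)
  rintro W g ⟨⟨a, ha⟩, ⟨b, hb⟩⟩
  change a ≫ π.left = g ≫ (fst B B').left at ha
  change b ≫ π'.left = g ≫ (snd B B').left at hb
  let W' : Over S := Over.mk (g ≫ (B ⊗ B').hom)
  let a' : W' ⟶ A := Over.homMk a (by
    show a ≫ A.hom = g ≫ (B ⊗ B').hom
    rw [← Over.w π, ← Category.assoc, ha, Category.assoc, Over.w])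
  let b' : W' ⟶ A' := Over.homMk b (by
    show b ≫ A'.hom = g ≫ (B ⊗ B').hom
    rw [← Over.w π', ← Category.assoc, hb, Category.assoc, Over.w])
  let g' : W' ⟶ B ⊗ B' := Over.homMk g rfl
  have e : lift a' b' ≫ (π ⊗ₘ π') = g' := by
    apply CartesianMonoidalCategory.hom_ext
    · rw [Category.assoc, tensorHom_fst, lift_fst_assoc]
      ext
      exact ha
    · rw [Category.assoc, tensorHom_snd, lift_snd_assoc]
      ext
      exact hb
  exact ⟨(lift a' b').left, congrArg Over.Hom.left e⟩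

theorem exists_desc_of_effectiveEpi {A B Z : Over S} (π : A ⟶ B) [EffectiveEpi π.left]
    (f : A ⟶ Z)
    (hf : ∀ {T : Over S} (a₁ a₂ : T ⟶ A), a₁ ≫ π = a₂ ≫ π → a₁ ≫ f = a₂ ≫ f) :
    ∃ r : B ⟶ Z, π ≫ r = f := by
  have hcompat : ∀ {W : Scheme.{u}} (g₁ g₂ : W ⟶ A.left),
      g₁ ≫ π.left = g₂ ≫ π.left → g₁ ≫ f.left = g₂ ≫ f.left := by
    intro W g₁ g₂ hg
    let T : Over S := Over.mk (g₁ ≫ A.hom)
    let G₁ : T ⟶ A := Over.homMk g₁ rfl
    have hw : g₂ ≫ A.hom = g₁ ≫ A.hom := by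
      rw [← Over.w π, ← Category.assoc, ← Category.assoc, hg]
    let G₂ : T ⟶ A := Over.homMk g₂ hw
    have hs : G₁ ≫ π = G₂ ≫ π := by
      ext
      exact hg
    exact congrArg (fun k : T ⟶ Z => k.left) (hf G₁ G₂ hs)
  refine ⟨Over.homMk (EffectiveEpi.desc π.left f.left hcompat) ?_, ?_⟩
  · rw [← cancel_epi π.left, ← Category.assoc,
      EffectiveEpi.fac π.left f.left hcompat, Over.w, Over.w]
  · ext
    exact EffectiveEpi.fac π.left f.left hcompat

theorem epi_of_effectiveEpi_left {A B : Over S} (π : A ⟶ B) [EffectiveEpi π.left] : Epi π := by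
  haveI : Epi ((Over.forget S).map π) := by
    show Epi π.left
    infer_instance
  exact (Over.forget S).epi_of_epi_map this

end desc

section main

variable {G G' G'' : Over S} [GrpObj G] [GrpObj G'] [GrpObj G''] (u : G' ⟶ G) (v : G ⟶ G'')
  (hex : NonAbH1.IsExactSeq Scheme.fpqcPrecoverage u v)

include hex in
/-- Exactness at `H¹(S, G)`. -/
theorem push_trivial_iff (P : NonAbH1.TorsorSch G Scheme.fpqcPrecoverage) :
    NonAbH1.IsPushforwardAlongSch v P.act (NonAbH1.trivialAction G'') ↔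
      ∃ Q : NonAbH1.TorsorSch G' Scheme.fpqcPrecoverage,
        NonAbH1.IsPushforwardAlongSch u Q.act P.act := by
  obtain ⟨hu, hv, huv, hpb, hloc⟩ := hex
  haveI := hu
  haveI := hv
  constructor
  · rintro ⟨j, hj⟩
    let Q : Over S := Limits.pullback j η[G'']
    let m : Q ⟶ P.X := pullback.fst j η[G'']
    have hm : ∀ {T : Over S} (t₁ t₂ : T ⟶ Q), t₁ ≫ m = t₂ ≫ m → t₁ = t₂ := by
      intro T t₁ t₂ h
      exact pullback.hom_ext h (toUnit_unique _ _)
    have hm1 : m ≫ j = 1 := by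
      rw [pullback.condition, Hom.one_def]
      congr 1
      exact toUnit_unique _ _
    have hlift : ∀ {T : Over S} (p : T ⟶ P.X), p ≫ j = 1 → ∃ t : T ⟶ Q, t ≫ m = p := by
      intro T p hp
      exact ⟨pullback.lift p (toUnit T) (by rw [hp, Hom.one_def]), pullback.lift_fst _ _ _⟩
    obtain ⟨act', hact⟩ := exists_subAct u v huv P.act j hj m hm1 hlift
    exact ⟨⟨Q, subAction u P.act m act' hact hm,
      isPseudoTorsorSch_subAction u v hpb P.act P.isTorsor.1 j hj m hm hm1 act' hact,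
      isLocallyTrivialFor_sub v P.act j hj m hlift P.isTorsor.2 hloc⟩, m, hact⟩
  · rintro ⟨Q, k, hk⟩
    obtain ⟨r, ⟨hr, -⟩, -⟩ := existsUnique_push u v Q.act P.act (NonAbH1.trivialAction G'')
      Q.isTorsor.1 P.isTorsor.1 Q.isTorsor.2 k hk (1 : Q.X ⟶ G'') (by
        rw [MonObj.comp_one]
        have : lift (fst G' Q.X ≫ u ≫ v) (snd G' Q.X ≫ (1 : Q.X ⟶ G'')) ≫
            (NonAbH1.trivialAction G'').act =
            smul (NonAbH1.trivialAction G'') (fst G' Q.X ≫ u ≫ v) (snd G' Q.X ≫ 1) := rfl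
        rw [this, smul_trivialAction, huv, MonObj.comp_one, MonObj.comp_one, _root_.one_mul])
    exact ⟨r, hr⟩

include hex in
/-- Exactness at `H¹(S, G')`. -/
theorem push_trivial_iff_boundary (Q : NonAbH1.TorsorSch G' Scheme.fpqcPrecoverage) :
    NonAbH1.IsPushforwardAlongSch u Q.act (NonAbH1.trivialAction G) ↔
      ∃ (f : 𝟙_ (Over S) ⟶ G'') (i : Q.X ⟶ G), NonAbH1.IsPullbackTorsor u v f i Q.act := by
  obtain ⟨hu, hv, huv, hpb, hloc⟩ := hex
  haveI := hu
  haveI := hv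
  constructor
  · rintro ⟨i₀, hi₀⟩
    have hi₀' : ∀ {T : Over S} (g' : T ⟶ G') (p : T ⟶ Q.X),
        smul Q.act g' p ≫ i₀ = (g' ≫ u) * (p ≫ i₀) := by
      intro T g' p
      rw [smul_comp_of_equivariant Q.act (NonAbH1.trivialAction G) u i₀ hi₀, smul_trivialAction]
    obtain ⟨i, hidef⟩ : ∃ i : Q.X ⟶ G, i = i₀⁻¹ := ⟨_, rfl⟩
    have hi : ∀ {T : Over S} (g' : T ⟶ G') (p : T ⟶ Q.X),
        smul Q.act g' p ≫ i = (p ≫ i) * (g' ≫ u)⁻¹ := by
      intro T g' p
      rw [hidef, GrpObj.comp_inv, GrpObj.comp_inv, hi₀', _root_.mul_inv_rev]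
    have hinv : ∀ {T : Over S} (p₁ p₂ : T ⟶ Q.X), p₁ ≫ i ≫ v = p₂ ≫ i ≫ v := by
      intro T p₁ p₂
      have h1 := dvp_smul Q.act Q.isTorsor.1 p₁ p₂
      rw [← h1, ← Category.assoc, hi, MonObj.mul_comp, GrpObj.inv_comp, Category.assoc,
        Category.assoc, huv, MonObj.comp_one, _root_.inv_one, _root_.mul_one]
    obtain ⟨f, hf⟩ := exists_desc_snd Q.isTorsor.2 (𝟙_ (Over S))
      (fst Q.X (𝟙_ (Over S)) ≫ i ≫ v) (by
        intro T p₁ p₂ y
        rw [lift_fst_assoc, lift_fst_assoc]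
        exact hinv p₁ p₂)
    have hw : i ≫ v = toUnit Q.X ≫ f := by
      have := congrArg (fun k => lift (𝟙 Q.X) (toUnit Q.X) ≫ k) hf
      simp only [lift_snd_assoc, lift_fst_assoc, Category.id_comp] at this
      exact this.symm
    have huniq : ∀ {T : Over S} (t₁ t₂ : T ⟶ Q.X), t₁ ≫ i = t₂ ≫ i → t₁ = t₂ := by
      intro T t₁ t₂ h
      obtain ⟨d, hd⟩ : ∃ d : T ⟶ G', smul Q.act d t₂ = t₁ := ⟨_, dvp_smul Q.act Q.isTorsor.1 t₁ t₂⟩
      have h2 : (d ≫ u) = 1 := by
        have := hi d t₂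
        rw [hd, h] at this
        have h3 : (d ≫ u)⁻¹ = 1 := by
          exact _root_.left_eq_mul.mp this
        rwa [_root_.inv_eq_one] at h3
      have h4 := eq_one_of_comp_eq_one u v hpb d h2
      rw [← hd, h4, TorsorPush.one_smul]
    refine ⟨f, i, hu, hv, ?_, ?_⟩
    · apply isPullback_toUnit_of_points i v f hw
      intro T x hx
      have key : ∃ t : T ⟶ Q.X, t ≫ i = x := by
        have hx' : (fst Q.X T ≫ i) ≫ v = (snd Q.X T ≫ x) ≫ v := by
          rw [Category.assoc, hw, Category.assoc, hx, ← Category.assoc, ← Category.assoc]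
          congr 1
          exact toUnit_unique _ _
        obtain ⟨g', hg', -⟩ := existsUnique_of_exact u v hpb (fst Q.X T ≫ i) (snd Q.X T ≫ x) hx'
        have ht : smul Q.act g'⁻¹ (fst Q.X T) ≫ i = snd Q.X T ≫ x := by
          rw [hi, GrpObj.inv_comp, _root_.inv_inv, hg']
        obtain ⟨t, ht'⟩ := exists_desc_snd Q.isTorsor.2 T (smul Q.act g'⁻¹ (fst Q.X T)) (by
          intro T₀ p₁ p₂ y
          apply huniq
          rw [Category.assoc, Category.assoc, ht, lift_snd_assoc, lift_snd_assoc])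
        refine ⟨t, ?_⟩
        haveI := epi_snd Q.isTorsor.2 T
        rw [← cancel_epi (snd Q.X T), ← Category.assoc, ht', ht]
      obtain ⟨t, ht⟩ := key
      exact ⟨t, ht, fun t' ht' => huniq t' t (ht'.trans ht.symm)⟩
    · intro T g' p
      rw [← Category.assoc]
      exact hi g' p
  · rintro ⟨f, i, hu', hv', hpbi, hi⟩
    refine ⟨i⁻¹, ?_⟩
    apply equivariant_of_points
    rw [smul_trivialAction, GrpObj.comp_inv, GrpObj.comp_inv]
    have h2 : smul Q.act (fst G' Q.X) (snd G' Q.X) ≫ i =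
        (snd G' Q.X ≫ i) * (fst G' Q.X ≫ u)⁻¹ := by
      unfold smul
      rw [Category.assoc]
      exact hi _ (fst G' Q.X) (snd G' Q.X)
    rw [h2, _root_.mul_inv_rev, _root_.inv_inv]

end main

end Groth.Agent.Lib.Helper5.TorsorExact
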