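import Mathlib
import Groth.Prelude.Def_AlgSt5
import Groth.Agent.Lib.Helper5.QuotStStrict
import Groth.Agent.Lib.Helper5.EqvDesc
import Groth.Agent.Lib.Helper5.PrincQuot
import Groth.Agent.Lib.Helper5.TorsorExact
import Groth.Agent.Lib.Helper5.BalFF
import Groth.Agent.Lib.Helper93.TorsorPts

/-!
# The scheme of isomorphisms between two objects of `[X/G]` (helper5), part A

For two torsor objects `A`, `A'` of `[X/G]` over `U`, the fibre product `Z = P ×_{U × X} P'` with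
its diagonal `G`-action, and its quotient `I = Z / G` (when it exists as a scheme) with
`Z = P ×_U I`.
-/

set_option autoImplicit false
set_option linter.style.haveILetI false
universe u

open CategoryTheory CategoryTheory.Limits MonoidalCategory CartesianMonoidalCategory MonObj GrpObj
  AlgebraicGeometry AlgSt

namespace Groth.Agent.Lib.Helper5.IsomSch

open Groth.Agent.Lib.Helper5.QuotStStrict Groth.Agent.Lib.Helper5.TorsorPush
  Groth.Agent.Lib.Helper5.TorsorExact Groth.Agent.Lib.Helper5.BalLoc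

variable {S : Scheme.{u}} {K : Precoverage Scheme.{u}} {G : Over S} [GrpObj G] {X : Over S}
  {aX : AlgGrp.Action G X} {U : Over S}

/-- the map `(π, φ) : P ⟶ U × X` -/
noncomputable def ζ (A : TorsObj K G aX U) : A.P ⟶ U ⊗ X := lift A.π A.φ

section Z

variable (A A' : TorsObj K G aX U) {Z : Over S} (z₁ : Z ⟶ A.P) (z₂ : Z ⟶ A'.P)
  (hZ₀ : IsPullback z₁ z₂ (ζ A) (ζ A'))

include hZ₀ in
lemma z_π : z₁ ≫ A.π = z₂ ≫ A'.π := by
  have h := congrArg (· ≫ fst U X) hZ₀.w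
  simpa [ζ] using h

include hZ₀ in
lemma z_φ : z₁ ≫ A.φ = z₂ ≫ A'.φ := by
  have h := congrArg (· ≫ snd U X) hZ₀.w
  simpa [ζ] using h

include hZ₀ in
lemma z_ext {T : Over S} (t₁ t₂ : T ⟶ Z) (h₁ : t₁ ≫ z₁ = t₂ ≫ z₁) (h₂ : t₁ ≫ z₂ = t₂ ≫ z₂) :
    t₁ = t₂ := hZ₀.hom_ext h₁ h₂

/-- a point of `Z` from a compatible pair of points -/
noncomputable def zLift {T : Over S} (p : T ⟶ A.P) (p' : T ⟶ A'.P)
    (h1 : p ≫ A.π = p' ≫ A'.π) (h2 : p ≫ A.φ = p' ≫ A'.φ) : T ⟶ Z :=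
  hZ₀.lift p p' (by
    apply CartesianMonoidalCategory.hom_ext
    · simpa [ζ] using h1
    · simpa [ζ] using h2)

lemma zLift_z₁ {T : Over S} (p : T ⟶ A.P) (p' : T ⟶ A'.P)
    (h1 : p ≫ A.π = p' ≫ A'.π) (h2 : p ≫ A.φ = p' ≫ A'.φ) :
    zLift A A' z₁ z₂ hZ₀ p p' h1 h2 ≫ z₁ = p := hZ₀.lift_fst _ _ _

lemma zLift_z₂ {T : Over S} (p : T ⟶ A.P) (p' : T ⟶ A'.P)
    (h1 : p ≫ A.π = p' ≫ A'.π) (h2 : p ≫ A.φ = p' ≫ A'.φ) :
    zLift A A' z₁ z₂ hZ₀ p p' h1 h2 ≫ z₂ = p' := hZ₀.lift_snd _ _ _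

include hZ₀ in
lemma zAct_h1 : ((G ◁ z₁) ≫ A.act.act) ≫ A.π = ((G ◁ z₂) ≫ A'.act.act) ≫ A'.π := by
  rw [Category.assoc, Category.assoc, A.cart.w, A'.cart.w, whiskerLeft_snd_assoc,
    whiskerLeft_snd_assoc, z_π A A' z₁ z₂ hZ₀]

include hZ₀ in
lemma zAct_h2 : ((G ◁ z₁) ≫ A.act.act) ≫ A.φ = ((G ◁ z₂) ≫ A'.act.act) ≫ A'.φ := by
  rw [Category.assoc, Category.assoc, A.eqv, A'.eqv, ← MonoidalCategory.whiskerLeft_comp_assoc,
    ← MonoidalCategory.whiskerLeft_comp_assoc, z_φ A A' z₁ z₂ hZ₀]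

/-- the diagonal action on `Z`, as a morphism -/
noncomputable def zAct : G ⊗ Z ⟶ Z :=
  zLift A A' z₁ z₂ hZ₀ ((G ◁ z₁) ≫ A.act.act) ((G ◁ z₂) ≫ A'.act.act)
    (zAct_h1 A A' z₁ z₂ hZ₀) (zAct_h2 A A' z₁ z₂ hZ₀)

lemma zAct_z₁ : zAct A A' z₁ z₂ hZ₀ ≫ z₁ = (G ◁ z₁) ≫ A.act.act := zLift_z₁ _ _ _ _ _ _ _ _ _

lemma zAct_z₂ : zAct A A' z₁ z₂ hZ₀ ≫ z₂ = (G ◁ z₂) ≫ A'.act.act := zLift_z₂ _ _ _ _ _ _ _ _ _

lemma zAct_pt₁ {T : Over S} (g : T ⟶ G) (v : T ⟶ Z) :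
    (lift g v ≫ zAct A A' z₁ z₂ hZ₀) ≫ z₁ = smul A.act g (v ≫ z₁) := by
  unfold smul
  rw [Category.assoc, zAct_z₁, lift_whiskerLeft_assoc]

lemma zAct_pt₂ {T : Over S} (g : T ⟶ G) (v : T ⟶ Z) :
    (lift g v ≫ zAct A A' z₁ z₂ hZ₀) ≫ z₂ = smul A'.act g (v ≫ z₂) := by
  unfold smul
  rw [Category.assoc, zAct_z₂, lift_whiskerLeft_assoc]

/-- the diagonal action on `Z` -/
noncomputable def zAction : AlgGrp.Action G Z :=
  actionOfPoints (zAct A A' z₁ z₂ hZ₀)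
    (by
      intro T x
      apply z_ext A A' z₁ z₂ hZ₀
      · rw [zAct_pt₁, TorsorPush.one_smul]
      · rw [zAct_pt₂, TorsorPush.one_smul])
    (by
      intro T g h x
      apply z_ext A A' z₁ z₂ hZ₀
      · rw [zAct_pt₁, zAct_pt₁, zAct_pt₁, TorsorPush.mul_smul]
      · rw [zAct_pt₂, zAct_pt₂, zAct_pt₂, TorsorPush.mul_smul])

lemma zAction_act : (zAction A A' z₁ z₂ hZ₀).act = zAct A A' z₁ z₂ hZ₀ := rfl

lemma zAction_z₁ : (zAction A A' z₁ z₂ hZ₀).act ≫ z₁ = (G ◁ z₁) ≫ A.act.act := zAct_z₁ _ _ _ _ _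

lemma zAction_z₂ : (zAction A A' z₁ z₂ hZ₀).act ≫ z₂ = (G ◁ z₂) ≫ A'.act.act := zAct_z₂ _ _ _ _ _

end Z

/-- the data of a scheme of isomorphisms between `A` and `A'` -/
structure IsomData (A A' : TorsObj K G aX U) where
  Z : Over S
  z₁ : Z ⟶ A.P
  z₂ : Z ⟶ A'.P
  hZ₀ : IsPullback z₁ z₂ (ζ A) (ζ A')
  I : Over S
  q : Z ⟶ I
  ρ : I ⟶ U
  hq : (zAction A A' z₁ z₂ hZ₀).act ≫ q = snd G Z ≫ q
  hZ : IsPullback z₁ q A.π ρ

section exist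

variable (A A' : TorsObj K G aX U)

/-- existence of the quotient, for `Z` affine over `P` -/
theorem exists_isomData (hflat : Flat A.π.left) (hsurj : Surjective A.π.left)
    (hqc : QuasiCompact A.π.left)
    (hz : ∀ {Z : Over S} (z₁ : Z ⟶ A.P) (z₂ : Z ⟶ A'.P), IsPullback z₁ z₂ (ζ A) (ζ A') →
      IsAffineHom z₁.left) :
    ∃ D : IsomData A A', ∀ (P : MorphismProperty Scheme.{u}) [P.RespectsIso]
      [P.DescendsAlong Groth.Agent.Lib.Helper5.DescProps.fpqc.{u}], P D.z₁.left → P D.ρ.left := by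
  let Z : Over S := pullback (ζ A) (ζ A')
  let z₁ : Z ⟶ A.P := pullback.fst _ _
  let z₂ : Z ⟶ A'.P := pullback.snd _ _
  have hZ₀ : IsPullback z₁ z₂ (ζ A) (ζ A') := IsPullback.of_hasPullback _ _
  have hsq : IsPullback A.act.act.left (snd G A.P).left A.π.left A.π.left :=
    A.cart.map (Over.forget S)
  obtain ⟨W, φ, ψ, hprop, hinv, hpb⟩ := EqvDesc.exists_quot A.act A.π hsq
    (zAction A A' z₁ z₂ hZ₀) z₁ (zAction_z₁ A A' z₁ z₂ hZ₀) (hz z₁ z₂ hZ₀)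
  refine ⟨⟨Z, z₁, z₂, hZ₀, W, φ, ψ, hinv, ?_⟩, hprop⟩
  exact IsPullback.of_map (Over.forget S) (Over.OverMorphism.ext hpb.w) hpb

/-- existence of the quotient, for `Z` quasi-affine over `P` -/
theorem exists_isomData_qaff (hflat : Flat A.π.left) (hsurj : Surjective A.π.left)
    (hqc : QuasiCompact A.π.left)
    (hz : ∀ {Z : Over S} (z₁ : Z ⟶ A.P) (z₂ : Z ⟶ A'.P), IsPullback z₁ z₂ (ζ A) (ζ A') →
      Mor2.IsQuasiAffine z₁.left) :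
    ∃ D : IsomData A A', ∀ (P : MorphismProperty Scheme.{u}) [P.RespectsIso]
      [P.DescendsAlong Groth.Agent.Lib.Helper5.DescProps.fpqc.{u}], P D.z₁.left → P D.ρ.left := by
  let Z : Over S := pullback (ζ A) (ζ A')
  let z₁ : Z ⟶ A.P := pullback.fst _ _
  let z₂ : Z ⟶ A'.P := pullback.snd _ _
  have hZ₀ : IsPullback z₁ z₂ (ζ A) (ζ A') := IsPullback.of_hasPullback _ _
  have hsq : IsPullback A.act.act.left (snd G A.P).left A.π.left A.π.left :=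
    A.cart.map (Over.forget S)
  obtain ⟨W, φ, ψ, hprop, hinv, hpb⟩ := EqvDesc.exists_quot_qaff A.act A.π hsq
    (zAction A A' z₁ z₂ hZ₀) z₁ (zAction_z₁ A A' z₁ z₂ hZ₀) (hz z₁ z₂ hZ₀)
  refine ⟨⟨Z, z₁, z₂, hZ₀, W, φ, ψ, hinv, ?_⟩, hprop⟩
  exact IsPullback.of_map (Over.forget S) (Over.OverMorphism.ext hpb.w) hpb

end exist

section derived

variable {A A' : TorsObj K G aX U} (D : IsomData A A')

/-- the action on `Z` -/
noncomputable abbrev IsomData.c : AlgGrp.Action G D.Z := zAction A A' D.z₁ D.z₂ D.hZ₀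

lemma IsomData.c_z₁ : D.c.act ≫ D.z₁ = (G ◁ D.z₁) ≫ A.act.act := zAction_z₁ _ _ _ _ _

lemma IsomData.c_z₂ : D.c.act ≫ D.z₂ = (G ◁ D.z₂) ≫ A'.act.act := zAction_z₂ _ _ _ _ _

lemma IsomData.z₂_π : D.z₂ ≫ A'.π = D.q ≫ D.ρ := by
  rw [← z_π A A' D.z₁ D.z₂ D.hZ₀, D.hZ.w]

/-- `Z ⟶ I` is a principal bundle -/
theorem IsomData.cartZ : IsPullback D.c.act (snd G D.Z) D.q D.q :=
  PrincQuot.isPullback_act A.act A.π (A.cart.map (Over.forget S)) D.c D.z₁ D.c_z₁ D.q D.hq D.ρ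
    (D.hZ.map (Over.forget S))

/-- the second cartesian square -/
theorem IsomData.hZ' (hl : LocLift A.π) : IsPullback D.z₂ D.q A'.π D.ρ :=
  Groth.Agent.Lib.Helper5.BalFF.isPullback_of_equivariant' D.c A'.act D.q A'.π D.cartZ A'.cart
    (locLift_of_isPullback D.hZ hl) D.z₂ D.ρ D.c_z₂ D.z₂_π

end derived

end Groth.Agent.Lib.Helper5.IsomSch
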