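import Mathlib
import Groth.Agent.Lib.Helper5.IsomSchA

/-!
# The scheme of isomorphisms between two objects of `[X/G]` (helper5), part B

The universal property of `I = Z / G`: an object `x` of `[X/G]` with morphisms to `A` and `A'` over
the same morphism of bases determines a morphism `x.base ⟶ I`.
-/

set_option autoImplicit false
set_option linter.style.haveILetI false
universe u

open CategoryTheory CategoryTheory.Limits MonoidalCategory CartesianMonoidalCategory MonObj GrpObj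
  AlgebraicGeometry AlgSt

namespace Groth.Agent.Lib.Helper5.IsomSch

open Groth.Agent.Lib.Helper5.QuotStStrict Groth.Agent.Lib.Helper5.TorsorPush
  Groth.Agent.Lib.Helper5.TorsorExact Groth.Agent.Lib.Helper5.BalLoc
  Groth.Agent.Lib.Helper93.TorsorPts

variable {S : Scheme.{u}} {K : Precoverage Scheme.{u}} {G : Over S} [GrpObj G] {X : Over S}
  {aX : AlgGrp.Action G X} {U : Over S}

theorem locLift_π (hK : K ≤ Scheme.fppfPrecoverage) (x : QuotObj K G aX) : LocLift x.π := by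
  apply locLift_of_locTriv
  obtain ⟨R, hR, h⟩ := x.loc
  exact ⟨R, hK _ hR, h⟩

theorem locLift_π' (hK : K ≤ Scheme.fppfPrecoverage) {T : Over S} (A : TorsObj K G aX T) :
    LocLift A.π := locLift_π hK A.toQuot

section tp

variable {T : Over S} {A : TorsObj K G aX T} {x : QuotObj K G aX} (m : x ⟶ A.toQuot)

/-- the top map with the expected type -/
def tp : x.P ⟶ A.P := m.top

/-- the base map with the expected type -/
def bs : x.base ⟶ T := m.base

lemma tp_π : tp m ≫ A.π = x.π ≫ bs m := m.cart.w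

lemma tp_φ : tp m ≫ A.φ = x.φ := m.wφ

lemma tp_eqv : x.act.act ≫ tp m = (G ◁ tp m) ≫ A.act.act := m.eqv

lemma tp_cart : IsPullback (tp m) x.π A.π (bs m) := m.cart

lemma tp_comp {x₁ : QuotObj K G aX} (n : x₁ ⟶ x) : tp (n ≫ m) = n.top ≫ tp m := rfl

lemma bs_comp {x₁ : QuotObj K G aX} (n : x₁ ⟶ x) : bs (n ≫ m) = n.base ≫ bs m := rfl

lemma hom_ext_tp {m₁ m₂ : x ⟶ A.toQuot} (h1 : bs m₁ = bs m₂) (h2 : tp m₁ = tp m₂) : m₁ = m₂ :=
  QuotObj.hom_ext h1 h2

end tp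

variable {A A' : TorsObj K G aX U} (D : IsomData A A')

section sOf

/-- the point of `Z` over the torsor of `x` -/
noncomputable def vOf (x : QuotObj K G aX) (m : x ⟶ A.toQuot) (m' : x ⟶ A'.toQuot)
    (hb : bs m = bs m') : x.P ⟶ D.Z :=
  zLift A A' D.z₁ D.z₂ D.hZ₀ (tp m) (tp m')
    (by rw [tp_π, tp_π, hb])
    (by rw [tp_φ, tp_φ])

variable (x : QuotObj K G aX) (m : x ⟶ A.toQuot) (m' : x ⟶ A'.toQuot) (hb : bs m = bs m')

lemma vOf_z₁ : vOf D x m m' hb ≫ D.z₁ = tp m := zLift_z₁ _ _ _ _ _ _ _ _ _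

lemma vOf_z₂ : vOf D x m m' hb ≫ D.z₂ = tp m' := zLift_z₂ _ _ _ _ _ _ _ _ _

lemma vOf_eqv : x.act.act ≫ vOf D x m m' hb = (G ◁ vOf D x m m' hb) ≫ D.c.act := by
  apply z_ext A A' D.z₁ D.z₂ D.hZ₀
  · rw [Category.assoc, vOf_z₁, Category.assoc, D.c_z₁, ← MonoidalCategory.whiskerLeft_comp_assoc,
      vOf_z₁, tp_eqv]
  · rw [Category.assoc, vOf_z₂, Category.assoc, D.c_z₂, ← MonoidalCategory.whiskerLeft_comp_assoc,
      vOf_z₂, tp_eqv]

lemma vOf_q_inv (T : Over S) (a₁ a₂ : T ⟶ x.P) (h : a₁ ≫ x.π = a₂ ≫ x.π) :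
    a₁ ≫ vOf D x m m' hb ≫ D.q = a₂ ≫ vOf D x m m' hb ≫ D.q := by
  obtain ⟨g, hg⟩ := exists_of_isPullback x.act x.π x.cart a₁ a₂ h
  rw [← hg, Category.assoc, ← Category.assoc x.act.act, vOf_eqv, Category.assoc, D.hq,
    whiskerLeft_snd_assoc, lift_snd_assoc]

/-- the morphism to `I` determined by `(x, m, m')` -/
noncomputable def sOf (hK : K ≤ Scheme.fppfPrecoverage) (x : QuotObj K G aX) (m : x ⟶ A.toQuot)
    (m' : x ⟶ A'.toQuot) (hb : bs m = bs m') : x.base ⟶ D.I :=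
  (exists_desc_of_locLift x.π (locLift_π hK x) (vOf D x m m' hb ≫ D.q)
    (vOf_q_inv D x m m' hb)).choose

variable (hK : K ≤ Scheme.fppfPrecoverage)

lemma sOf_spec : x.π ≫ sOf D hK x m m' hb = vOf D x m m' hb ≫ D.q :=
  (exists_desc_of_locLift x.π (locLift_π hK x) (vOf D x m m' hb ≫ D.q)
    (vOf_q_inv D x m m' hb)).choose_spec

lemma sOf_unique (s : x.base ⟶ D.I) (hs : x.π ≫ s = vOf D x m m' hb ≫ D.q) :
    s = sOf D hK x m m' hb := by
  apply hom_ext_of_locLift x.π (locLift_π hK x)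
  rw [hs, sOf_spec]

lemma sOf_ρ : sOf D hK x m m' hb ≫ D.ρ = bs m := by
  apply hom_ext_of_locLift x.π (locLift_π hK x)
  rw [← Category.assoc, sOf_spec, Category.assoc, ← D.hZ.w, ← Category.assoc, vOf_z₁, tp_π]

end sOf

section precomp

variable (hK : K ≤ Scheme.fppfPrecoverage)

lemma sOf_precomp {x₁ x : QuotObj K G aX} (n : x₁ ⟶ x) (m : x ⟶ A.toQuot) (m' : x ⟶ A'.toQuot)
    (hb : bs m = bs m') (hb' : bs (n ≫ m) = bs (n ≫ m')) :
    sOf D hK x₁ (n ≫ m) (n ≫ m') hb' = n.base ≫ sOf D hK x m m' hb := by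
  symm
  apply sOf_unique
  have h1 : n.top ≫ x.π = x₁.π ≫ n.base := n.cart.w
  rw [← Category.assoc, ← h1, Category.assoc, sOf_spec, ← Category.assoc]
  congr 1
  apply z_ext A A' D.z₁ D.z₂ D.hZ₀
  · rw [Category.assoc, vOf_z₁, vOf_z₁, tp_comp]
  · rw [Category.assoc, vOf_z₂, vOf_z₂, tp_comp]

/-- the second morphism is determined by the first and the point of `I` -/
lemma eq_of_sOf_eq (x : QuotObj K G aX) (m : x ⟶ A.toQuot) (m' m'' : x ⟶ A'.toQuot)
    (hb : bs m = bs m') (hb' : bs m = bs m'')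
    (h : sOf D hK x m m' hb = sOf D hK x m m'' hb') : m' = m'' := by
  have hv : vOf D x m m' hb = vOf D x m m'' hb' := by
    apply D.hZ.hom_ext
    · rw [vOf_z₁, vOf_z₁]
    · rw [← sOf_spec D x m m' hb hK, ← sOf_spec D x m m'' hb' hK, h]
  apply hom_ext_tp
  · rw [← hb, hb']
  · rw [← vOf_z₂ D x m m' hb, ← vOf_z₂ D x m m'' hb', hv]

end precomp

section univ

/-- the point of `Z` determined by `m` and a point of `I` -/
noncomputable def nOf (x : QuotObj K G aX) (m : x ⟶ A.toQuot) (s : x.base ⟶ D.I)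
    (hs : s ≫ D.ρ = bs m) : x.P ⟶ D.Z :=
  D.hZ.lift (tp m) (x.π ≫ s) (by rw [tp_π, Category.assoc, hs])

variable (hK : K ≤ Scheme.fppfPrecoverage)
variable (x : QuotObj K G aX) (m : x ⟶ A.toQuot) (s : x.base ⟶ D.I) (hs : s ≫ D.ρ = bs m)

lemma nOf_z₁ : nOf D x m s hs ≫ D.z₁ = tp m := D.hZ.lift_fst _ _ _

lemma nOf_q : nOf D x m s hs ≫ D.q = x.π ≫ s := D.hZ.lift_snd _ _ _

lemma nOf_eqv : x.act.act ≫ nOf D x m s hs = (G ◁ nOf D x m s hs) ≫ D.c.act := by
  apply D.hZ.hom_ext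
  · rw [Category.assoc, nOf_z₁, Category.assoc, D.c_z₁, ← MonoidalCategory.whiskerLeft_comp_assoc,
      nOf_z₁, tp_eqv]
  · rw [Category.assoc, nOf_q, Category.assoc, D.hq, whiskerLeft_snd_assoc, nOf_q,
      ← Category.assoc, x.cart.w, Category.assoc]

lemma nOf_cart : IsPullback (nOf D x m s hs) x.π D.q s := by
  have h1 : IsPullback (nOf D x m s hs ≫ D.z₁) x.π A.π (s ≫ D.ρ) := by
    rw [nOf_z₁, hs]
    exact tp_cart m
  exact IsPullback.of_right h1 (nOf_q D x m s hs) D.hZ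

/-- the morphism to `A'` determined by `m` and a point of `I` -/
noncomputable def m'Of (hK : K ≤ Scheme.fppfPrecoverage) (x : QuotObj K G aX) (m : x ⟶ A.toQuot)
    (s : x.base ⟶ D.I) (hs : s ≫ D.ρ = bs m) : x ⟶ A'.toQuot :=
  (show QuotObj.Hom x A'.toQuot from
  { base := bs m
    top := nOf D x m s hs ≫ D.z₂
    eqv := by
      change x.act.act ≫ nOf D x m s hs ≫ D.z₂ = (G ◁ (nOf D x m s hs ≫ D.z₂)) ≫ A'.act.act
      rw [← Category.assoc, nOf_eqv, Category.assoc, D.c_z₂, MonoidalCategory.whiskerLeft_comp,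
        Category.assoc]
    cart := by
      change IsPullback (nOf D x m s hs ≫ D.z₂) x.π A'.π (bs m)
      rw [← hs]
      exact (nOf_cart D x m s hs).paste_horiz (D.hZ' (locLift_π' hK A))
    wφ := by
      change (nOf D x m s hs ≫ D.z₂) ≫ A'.φ = x.φ
      rw [Category.assoc, ← z_φ A A' D.z₁ D.z₂ D.hZ₀, ← Category.assoc, nOf_z₁, tp_φ] })

lemma m'Of_bs : bs (m'Of D hK x m s hs) = bs m := rfl

lemma m'Of_tp : tp (m'Of D hK x m s hs) = nOf D x m s hs ≫ D.z₂ := rfl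

lemma sOf_m'Of : sOf D hK x m (m'Of D hK x m s hs) (m'Of_bs D hK x m s hs).symm = s := by
  symm
  apply sOf_unique
  rw [← nOf_q D x m s hs]
  congr 1
  apply z_ext A A' D.z₁ D.z₂ D.hZ₀
  · rw [nOf_z₁, vOf_z₁]
  · rw [vOf_z₂, m'Of_tp]

end univ

end Groth.Agent.Lib.Helper5.IsomSch
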