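import Mathlib
import Groth.Agent.Lib.Helper5.IsomSchB
import Groth.Agent.Lib.Helper14.QuotStRep
import Groth.Agent.Lib.Helper17.SelfProd
import Groth.Agent.Lib.Helper17.FibEquiv
import Groth.Agent.S5139

/-!
# The diagonal of `[X/G]` (helper5), part A

For `H : (Sch/U) ⟶ [X/G] × [X/G]`, with components `A`, `A'` over `U`, and a scheme of
isomorphisms `I` between `A` and `A'`, the 2-fibre product of `H` with the diagonal is equivalent
over `(Sch/S)` to the category of `h_I`.
-/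

set_option autoImplicit false
set_option linter.style.haveILetI false
set_option linter.unusedSectionVars false
universe u

open CategoryTheory CategoryTheory.Limits MonoidalCategory CartesianMonoidalCategory MonObj GrpObj
  AlgebraicGeometry AlgSt Opposite

namespace Groth.Agent.Lib.Helper5.DiagRep

open Groth.Agent.Lib.Helper5.QuotStStrict Groth.Agent.Lib.Helper5.IsomSch
open Groth.Agent.Lib.Helper14.QuotStRep
open Groth.Agent.Lib.Helper17 Groth.Agent.Lib.Helper17.FP Groth.Agent.Lib.Helper17.SP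

variable {S : Scheme.{u}} {K : Precoverage Scheme.{u}} [K.HasIsos] {G : Over S} [GrpObj G]
  {X : Over S} {aX : AlgGrp.Action G X} {U : Over S}

/-- the canonical morphism from an object with base equal to `U` to its strict form -/
def sH (A₀ : QuotObj K G aX) {U : Over S} (hA : A₀.base = U) : A₀ ⟶ (ofQuot A₀ hA).toQuot :=
  (show QuotObj.Hom A₀ (ofQuot A₀ hA).toQuot from
  { base := eqToHom hA
    top := 𝟙 _
    eqv := by
      change A₀.act.act ≫ 𝟙 _ = (G ◁ 𝟙 _) ≫ A₀.act.act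
      simp
    cart := by
      change IsPullback (𝟙 A₀.P) A₀.π (A₀.π ≫ eqToHom hA) (eqToHom hA)
      exact IsPullback.of_horiz_isIso ⟨by simp⟩
    wφ := by
      change 𝟙 _ ≫ A₀.φ = A₀.φ
      simp })

lemma sH_bs (A₀ : QuotObj K G aX) {U : Over S} (hA : A₀.base = U) :
    bs (sH A₀ hA) = eqToHom hA := rfl

variable (K G aX) in
/-- the product of `[X/G]` with itself over `(Sch/S)` -/
abbrev FF : AlgSt.Cat S :=
  FibCat.fp (FibCat.toSelf (AlgSt.QuotSt K G aX)) (FibCat.toSelf (AlgSt.QuotSt K G aX))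

variable (K G aX) in
/-- the diagonal -/
abbrev Δ : AlgSt.QuotSt K G aX ⥤ᵇ FF K G aX := FibCat.diag (FibCat.toSelf (AlgSt.QuotSt K G aX))

variable (H : FibCat.overCat U ⥤ᵇ FF K G aX)

/-- first component -/
noncomputable abbrev y₁ : FibCat.overCat U ⥤ᵇ AlgSt.QuotSt K G aX :=
  BasedFunctor.comp H (FibCat.fpFst _ _)

/-- second component -/
noncomputable abbrev y₂ : FibCat.overCat U ⥤ᵇ AlgSt.QuotSt K G aX :=
  BasedFunctor.comp H (FibCat.fpSnd _ _)

/-- the identification of the bases of the two components -/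
noncomputable def gam (c : (FibCat.overCat U).obj) : ((y₁ H).obj c).base ⟶ ((y₂ H).obj c).base :=
  (H.obj c).obj.iso.hom

lemma gam_eq (c : (FibCat.overCat U).obj) :
    gam H c = eqToHom ((hc (y₁ H) c).trans (hc (y₂ H) c).symm) := by
  have h := SP.iso_hom_eq (H.obj c)
  unfold gam
  rw [h]
  rfl

lemma gam_nat {c c' : (FibCat.overCat U).obj} (k : c ⟶ c') :
    ((y₁ H).map k).base ≫ gam H c' = gam H c ≫ ((y₂ H).map k).base :=
  (H.map k).hom.w

/-- the first object over `U` -/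
noncomputable abbrev AA : TorsObj K G aX U := ofQuot (A0 (y₁ H)) (hA0 (y₁ H))

/-- the second object over `U` -/
noncomputable abbrev AA' : TorsObj K G aX U := ofQuot (A0 (y₂ H)) (hA0 (y₂ H))

/-- the structure morphism to `A` -/
noncomputable def M (c : (FibCat.overCat U).obj) : (y₁ H).obj c ⟶ (AA H).toQuot :=
  tau (y₁ H) c ≫ sH (A0 (y₁ H)) (hA0 (y₁ H))

/-- the structure morphism of the second component to `A'` -/
noncomputable def N (c : (FibCat.overCat U).obj) : (y₂ H).obj c ⟶ (AA' H).toQuot :=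
  tau (y₂ H) c ≫ sH (A0 (y₂ H)) (hA0 (y₂ H))

lemma M_bs (c : (FibCat.overCat U).obj) : bs (M H c) = eqToHom (hc (y₁ H) c) ≫ homU c := by
  change (tau (y₁ H) c).base ≫ eqToHom (hA0 (y₁ H)) = _
  rw [tau_base]
  simp

lemma N_bs (c : (FibCat.overCat U).obj) : bs (N H c) = eqToHom (hc (y₂ H) c) ≫ homU c := by
  change (tau (y₂ H) c).base ≫ eqToHom (hA0 (y₂ H)) = _
  rw [tau_base]
  simp

lemma M_comp {c c' : (FibCat.overCat U).obj} (k : c ⟶ c') : (y₁ H).map k ≫ M H c' = M H c := by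
  unfold M
  rw [← Category.assoc, tau_comp]

lemma N_comp {c c' : (FibCat.overCat U).obj} (k : c ⟶ c') : (y₂ H).map k ≫ N H c' = N H c := by
  unfold N
  rw [← Category.assoc, tau_comp]

/-- the 2-fibre product of `H` with the diagonal -/
abbrev FPd : AlgSt.Cat S := FibCat.fp H (Δ K G aX)

section objs

variable {H}
variable (z : (FPd H).obj)

/-- the base of an object -/
def cz : (FibCat.overCat U).obj := z.obj.fst

/-- the object of `[X/G]` -/
def xz : QuotObj K G aX := z.obj.snd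

noncomputable def i₁ : (y₁ H).obj (cz z) ⟶ xz z := z.obj.iso.hom.hom.fst
noncomputable def i₂ : (y₂ H).obj (cz z) ⟶ xz z := z.obj.iso.hom.hom.snd
noncomputable def j₁ : xz z ⟶ (y₁ H).obj (cz z) := z.obj.iso.inv.hom.fst
noncomputable def j₂ : xz z ⟶ (y₂ H).obj (cz z) := z.obj.iso.inv.hom.snd

lemma i₁j₁ : i₁ z ≫ j₁ z = 𝟙 _ := congrArg (fun w => w.hom.fst) z.obj.iso.hom_inv_id
lemma j₁i₁ : j₁ z ≫ i₁ z = 𝟙 _ := congrArg (fun w => w.hom.fst) z.obj.iso.inv_hom_id
lemma i₂j₂ : i₂ z ≫ j₂ z = 𝟙 _ := congrArg (fun w => w.hom.snd) z.obj.iso.hom_inv_id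
lemma j₂i₂ : j₂ z ≫ i₂ z = 𝟙 _ := congrArg (fun w => w.hom.snd) z.obj.iso.inv_hom_id

/-- the isomorphism between the two components determined by an object -/
noncomputable def β : (y₁ H).obj (cz z) ⟶ (y₂ H).obj (cz z) := i₁ z ≫ j₂ z

lemma j_base : (j₁ z).base ≫ gam H (cz z) = (j₂ z).base := by
  have h := z.obj.iso.inv.hom.w
  have e : ((Δ K G aX).obj (xz z)).obj.iso.hom = 𝟙 _ := rfl
  change (j₁ z).base ≫ gam H (cz z) = ((Δ K G aX).obj (xz z)).obj.iso.hom ≫ (j₂ z).base at h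
  rw [e] at h
  exact h.trans (Category.id_comp _)

lemma β_base : (β z).base = gam H (cz z) := by
  change (i₁ z).base ≫ (j₂ z).base = _
  rw [← j_base, ← Category.assoc]
  have h : (i₁ z).base ≫ (j₁ z).base = 𝟙 _ := congrArg QuotObj.Hom.base (i₁j₁ z)
  rw [h, Category.id_comp]

/-- the morphism to `A'` -/
noncomputable def M' : (y₁ H).obj (cz z) ⟶ (AA' H).toQuot := β z ≫ N H (cz z)

lemma M'_bs : bs (M' z) = eqToHom (hc (y₁ H) (cz z)) ≫ homU (cz z) := by
  change (β z).base ≫ bs (N H (cz z)) = _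
  rw [β_base, gam_eq, N_bs, ← Category.assoc, eqToHom_trans]

lemma hb : bs (M H (cz z)) = bs (M' z) := by rw [M_bs, M'_bs]

end objs

section mors

variable {H}
variable {z z' : (FPd H).obj} (w : z ⟶ z')

/-- the morphism of bases -/
def kw : cz z ⟶ cz z' := w.hom.fst

/-- the morphism of objects of `[X/G]` -/
def nw : xz z ⟶ xz z' := w.hom.snd

lemma w_fst : (y₁ H).map (kw w) ≫ i₁ z' = i₁ z ≫ nw w :=
  congrArg (fun t => t.hom.fst) w.hom.w

lemma w_snd : (y₂ H).map (kw w) ≫ i₂ z' = i₂ z ≫ nw w :=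
  congrArg (fun t => t.hom.snd) w.hom.w

lemma snd_eq : nw w = j₁ z ≫ (y₁ H).map (kw w) ≫ i₁ z' := by
  rw [w_fst, ← Category.assoc, j₁i₁, Category.id_comp]

lemma β_nat : (y₁ H).map (kw w) ≫ β z' = β z ≫ (y₂ H).map (kw w) := by
  have h1 : j₂ z ≫ (y₂ H).map (kw w) = nw w ≫ j₂ z' := by
    have h := w_snd w
    have e1 : j₂ z ≫ (y₂ H).map (kw w) = j₂ z ≫ ((y₂ H).map (kw w) ≫ i₂ z') ≫ j₂ z' := by
      rw [Category.assoc, i₂j₂, Category.comp_id]
    rw [e1, h, Category.assoc, ← Category.assoc, j₂i₂, Category.id_comp]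
  unfold β
  rw [Category.assoc, h1, ← Category.assoc, ← Category.assoc, w_fst]

end mors

end Groth.Agent.Lib.Helper5.DiagRep
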