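import Mathlib
import Groth.Agent.Lib.Helper5.DiagRepA

/-!
# The diagonal of `[X/G]` (helper5), part B: the functor to `h_I`
-/

set_option autoImplicit false
set_option linter.style.haveILetI false
set_option linter.unusedSectionVars false
universe u

open CategoryTheory CategoryTheory.Limits MonoidalCategory CartesianMonoidalCategory MonObj GrpObj
  AlgebraicGeometry AlgSt Opposite

namespace Groth.Agent.Lib.Helper5.DiagRep

open Groth.Agent.Lib.Helper5.QuotStStrict Groth.Agent.Lib.Helper5.IsomSch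
open Groth.Agent.Lib.Helper14.QuotStRep
open Groth.Agent.Lib.Helper17 Groth.Agent.Lib.Helper17.FP Groth.Agent.Lib.Helper17.SP

variable {S : Scheme.{u}} {K : Precoverage Scheme.{u}} [K.HasIsos] {G : Over S} [GrpObj G]
  {X : Over S} {aX : AlgGrp.Action G X} {U : Over S}
  {H : FibCat.overCat U ⥤ᵇ FF K G aX} (D : IsomData (AA H) (AA' H))
  (hK : K ≤ Scheme.fppfPrecoverage)

lemma sOf_congr {A A' : TorsObj K G aX U} (D : IsomData A A') (hK : K ≤ Scheme.fppfPrecoverage)
    (x : QuotObj K G aX) {m₁ m₂ : x ⟶ A.toQuot} {m₁' m₂' : x ⟶ A'.toQuot}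
    (e : m₁ = m₂) (e' : m₁' = m₂') (hb₁ : bs m₁ = bs m₁') (hb₂ : bs m₂ = bs m₂') :
    sOf D hK x m₁ m₁' hb₁ = sOf D hK x m₂ m₂' hb₂ := by
  subst e e'
  rfl

/-- the point of `I` determined by an object -/
noncomputable def sec (z : (FPd H).obj) : (FibCat.overCat U).p.obj (cz z) ⟶ D.I :=
  eqToHom (hc (y₁ H) (cz z)).symm ≫ sOf D hK ((y₁ H).obj (cz z)) (M H (cz z)) (M' z) (hb z)

lemma sec_ρ (z : (FPd H).obj) : sec D hK z ≫ D.ρ = homU (cz z) := by
  unfold sec
  rw [Category.assoc, sOf_ρ, M_bs, ← Category.assoc, eqToHom_trans, eqToHom_refl, Category.id_comp]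

lemma map_base {c c' : (FibCat.overCat U).obj} (k : c ⟶ c') :
    ((y₁ H).map k).base =
      eqToHom (hc (y₁ H) c) ≫ (FibCat.overCat U).p.map k ≫ eqToHom (hc (y₁ H) c').symm :=
  y_map_base (y₁ H) k

/-- compatible isomorphisms give compatible points -/
lemma sec_of_β (z z' : (FPd H).obj) (k : cz z ⟶ cz z')
    (hβ : (y₁ H).map k ≫ β z' = β z ≫ (y₂ H).map k) :
    (FibCat.overCat U).p.map k ≫ sec D hK z' = sec D hK z := by
  have e1 : (y₁ H).map k ≫ M H (cz z') = M H (cz z) := M_comp H k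
  have e2 : (y₁ H).map k ≫ M' z' = M' z := by
    unfold M'
    rw [← Category.assoc, hβ, Category.assoc, N_comp]
  have hb' : bs ((y₁ H).map k ≫ M H (cz z')) = bs ((y₁ H).map k ≫ M' z') := by
    rw [e1, e2]
    exact hb z
  have h := sOf_precomp D hK ((y₁ H).map k) (M H (cz z')) (M' z') (hb z') hb'
  rw [sOf_congr D hK _ e1 e2 hb' (hb z)] at h
  unfold sec
  rw [h, map_base]
  simp

/-- compatible points give compatible isomorphisms -/
lemma β_of_sec (z z' : (FPd H).obj) (k : cz z ⟶ cz z')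
    (hs : (FibCat.overCat U).p.map k ≫ sec D hK z' = sec D hK z) :
    (y₁ H).map k ≫ β z' = β z ≫ (y₂ H).map k := by
  have e1 : (y₁ H).map k ≫ M H (cz z') = M H (cz z) := M_comp H k
  have hb₁ : bs (M H (cz z)) = bs ((y₁ H).map k ≫ M' z') := by
    rw [← e1]
    change ((y₁ H).map k).base ≫ bs (M H (cz z')) = ((y₁ H).map k).base ≫ bs (M' z')
    rw [hb z']
  have hb' : bs ((y₁ H).map k ≫ M H (cz z')) = bs ((y₁ H).map k ≫ M' z') := by
    rw [e1]
    exact hb₁
  have key : (y₁ H).map k ≫ M' z' = M' z := by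
    apply eq_of_sOf_eq D hK _ (M H (cz z)) _ _ hb₁ (hb z)
    have h := sOf_precomp D hK ((y₁ H).map k) (M H (cz z')) (M' z') (hb z') hb'
    rw [sOf_congr D hK _ e1 rfl hb' hb₁] at h
    rw [h]
    have h2 : sOf D hK ((y₁ H).obj (cz z)) (M H (cz z)) (M' z) (hb z) =
        eqToHom (hc (y₁ H) (cz z)) ≫ sec D hK z := by
      unfold sec
      simp
    rw [h2, ← hs, map_base]
    unfold sec
    simp
  apply hom_ext_cart (N H (cz z'))
  · change ((y₁ H).map k).base ≫ (β z').base = (β z).base ≫ ((y₂ H).map k).base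
    rw [β_base, β_base]
    exact gam_nat H k
  · rw [Category.assoc, Category.assoc, N_comp]
    exact key

/-- the functor to the category of `h_I` -/
noncomputable def Φ : FPd H ⥤ᵇ AlgSt.ofSp ((AlgSp.yon S).obj D.I) where
  toFunctor :=
    { obj := fun z => ⟨(FibCat.overCat U).p.obj (cz z), ⟨sec D hK z⟩⟩
      map := fun {z z'} w => ⟨(FibCat.overCat U).p.map (kw w),
        congrArg ULift.up (sec_of_β D hK z z' (kw w) (β_nat w))⟩
      map_id := fun z => by
        apply Stk.EltObj.hom_ext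
        rfl
      map_comp := fun w w' => by
        apply Stk.EltObj.hom_ext
        rfl }
  w := rfl

lemma Φ_map_hom {z z' : (FPd H).obj} (w : z ⟶ z') :
    ((Φ D hK).map w).hom = (FibCat.overCat U).p.map (kw w) := rfl

theorem Φ_faithful : (Φ D hK).toFunctor.Faithful where
  map_injective := by
    intro z z' w₁ w₂ h
    have h1 : (FibCat.overCat U).p.map (kw w₁) = (FibCat.overCat U).p.map (kw w₂) :=
      congrArg (fun t => t.hom) h
    have h2 : kw w₁ = kw w₂ := Over.OverMorphism.ext h1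
    have h3 : nw w₁ = nw w₂ := by rw [snd_eq w₁, snd_eq w₂, h2]
    exact FP.hom_ext h2 h3

theorem Φ_full : (Φ D hK).toFunctor.Full where
  map_surjective := by
    intro z z' g
    obtain ⟨g₀, hg₀⟩ : ∃ g₀ : (FibCat.overCat U).p.obj (cz z) ⟶ (FibCat.overCat U).p.obj (cz z'),
      g₀ = g.hom := ⟨g.hom, rfl⟩
    have hg : g₀ ≫ sec D hK z' = sec D hK z := by
      rw [hg₀]
      exact congrArg ULift.down g.map_sec
    have hk : g₀ ≫ homU (cz z') = homU (cz z) := by
      rw [← sec_ρ D hK z', ← Category.assoc, hg, sec_ρ]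
    let k : cz z ⟶ cz z' := Over.homMk g₀ hk
    have hβ := β_of_sec D hK z z' k hg
    let n : xz z ⟶ xz z' := j₁ z ≫ (y₁ H).map k ≫ i₁ z'
    have hn2 : n = j₂ z ≫ (y₂ H).map k ≫ i₂ z' := by
      have e : (y₁ H).map k ≫ i₁ z' = ((y₁ H).map k ≫ β z') ≫ i₂ z' := by
        unfold β
        rw [Category.assoc, Category.assoc, j₂i₂, Category.comp_id]
      change j₁ z ≫ (y₁ H).map k ≫ i₁ z' = _
      rw [e, hβ]
      unfold β
      rw [Category.assoc, Category.assoc, ← Category.assoc (j₁ z), j₁i₁, Category.id_comp]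
    have w1 : (y₁ H).map k ≫ i₁ z' = i₁ z ≫ n := by
      change _ = i₁ z ≫ j₁ z ≫ (y₁ H).map k ≫ i₁ z'
      rw [← Category.assoc, i₁j₁, Category.id_comp]
    have w2 : (y₂ H).map k ≫ i₂ z' = i₂ z ≫ n := by
      rw [hn2, ← Category.assoc, i₂j₂, Category.id_comp]
    refine ⟨FP.mkHom k n ?_, ?_⟩
    · exact FP.hom_ext w1 w2
    · apply Stk.EltObj.hom_ext
      exact hg₀

end Groth.Agent.Lib.Helper5.DiagRep
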