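import Mathlib
import Groth.Prelude.Def_AlgSpRep
import Groth.Agent.Lib.Helper23.AlgSpMor4

/-!
# Diagonal representable by algebraic spaces iff all maps from schemes are (helper5)
-/

set_option autoImplicit false
universe u
open CategoryTheory CategoryTheory.Limits AlgebraicGeometry Opposite

namespace Groth.Agent.Lib.Helper5.DiagRepBySp

open AlgSp

variable {S : Scheme.{u}} (F : AlgSp.PSp S)

/-- The product of representables. -/
noncomputable def prodLimit (T U : Over S) :
    IsLimit (BinaryFan.mk ((pyon S).map (prod.fst : T ⨯ U ⟶ T))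
      ((pyon S).map (prod.snd : T ⨯ U ⟶ U))) :=
  mapIsLimitOfPreservesOfIsLimit (pyon S) _ _ (prodIsProd T U)

/-- Maps into a product of representables. -/
theorem exists_lift_prod {T U : Over S} {Z : AlgSp.PSp S} (a : Z ⟶ (pyon S).obj T)
    (b : Z ⟶ (pyon S).obj U) :
    ∃ l : Z ⟶ (pyon S).obj (T ⨯ U), l ≫ (pyon S).map prod.fst = a ∧
      l ≫ (pyon S).map prod.snd = b :=
  ⟨(prodLimit T U).lift (BinaryFan.mk a b), (prodLimit T U).fac (BinaryFan.mk a b) ⟨WalkingPair.left⟩,
    (prodLimit T U).fac (BinaryFan.mk a b) ⟨WalkingPair.right⟩⟩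

theorem hom_ext_prod {T U : Over S} {Z : AlgSp.PSp S} (l l' : Z ⟶ (pyon S).obj (T ⨯ U))
    (h1 : l ≫ (pyon S).map prod.fst = l' ≫ (pyon S).map prod.fst)
    (h2 : l ≫ (pyon S).map prod.snd = l' ≫ (pyon S).map prod.snd) : l = l' :=
  BinaryFan.IsLimit.hom_ext (prodLimit T U) h1 h2

/-- (1) ⇒ (2). -/
theorem repBySp_of_diag (h : RepBySp (Limits.diag F)) (T : Over S) (ξ : (pyon S).obj T ⟶ F) :
    RepBySp ξ := by
  intro U η F' fst snd sq
  obtain ⟨l, hl1, hl2⟩ := exists_lift_prod fst snd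
  refine h (prod.lift ((pyon S).map prod.fst ≫ ξ) ((pyon S).map prod.snd ≫ η)) (fst ≫ ξ) l ?_
  refine IsPullback.mk ⟨?_⟩ ⟨PullbackCone.IsLimit.mk _ (fun c => sq.lift
      (c.snd ≫ (pyon S).map prod.fst) (c.snd ≫ (pyon S).map prod.snd) ?_) (fun c => ?_)
      (fun c => ?_) (fun c m h1 h2 => ?_)⟩
  · apply Limits.prod.hom_ext
    · simp only [Category.assoc, diag, prod.lift_fst, Category.comp_id]
      rw [← Category.assoc, hl1]
    · simp only [Category.assoc, diag, prod.lift_snd, Category.comp_id]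
      rw [← Category.assoc, hl2, sq.w]
  · have h1 := congrArg (· ≫ (prod.fst : F ⨯ F ⟶ F)) c.condition
    have h2 := congrArg (· ≫ (prod.snd : F ⨯ F ⟶ F)) c.condition
    simp only [Category.assoc, diag, prod.lift_fst, prod.lift_snd, Category.comp_id] at h1 h2
    rw [Category.assoc, Category.assoc, ← h1, ← h2]
  · have h1 := congrArg (· ≫ (prod.fst : F ⨯ F ⟶ F)) c.condition
    simp only [Category.assoc, diag, prod.lift_fst, Category.comp_id] at h1
    rw [← Category.assoc, sq.lift_fst, Category.assoc, h1]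
  · apply hom_ext_prod
    · rw [Category.assoc, hl1, sq.lift_fst]
    · rw [Category.assoc, hl2, sq.lift_snd]
  · apply sq.hom_ext
    · rw [sq.lift_fst, ← h2, Category.assoc, hl1]
    · rw [sq.lift_snd, ← h2, Category.assoc, hl2]

/-- (2) ⇒ (1). -/
theorem repBySp_diag_of_forall (h : ∀ (T : Over S) (ξ : (pyon S).obj T ⟶ F), RepBySp ξ) :
    RepBySp (Limits.diag F) := by
  intro U ζ F' fst snd sq
  obtain ⟨a, ha⟩ : ∃ a, a = ζ ≫ (prod.fst : F ⨯ F ⟶ F) := ⟨_, rfl⟩
  obtain ⟨b, hb⟩ : ∃ b, b = ζ ≫ (prod.snd : F ⨯ F ⟶ F) := ⟨_, rfl⟩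
  -- `E = h_U ×_{a, F, b} h_U`
  obtain ⟨hEs, hE⟩ := h U a b (pullback.fst a b) (pullback.snd a b) (IsPullback.of_hasPullback a b)
  let E : Sp S := ⟨pullback a b, hEs⟩
  have hfst1 : snd ≫ a = fst := by
    have := congrArg (· ≫ (prod.fst : F ⨯ F ⟶ F)) sq.w
    simp only [Category.assoc, diag, prod.lift_fst, Category.comp_id] at this
    rw [ha, this]
  have hfst2 : snd ≫ b = fst := by
    have := congrArg (· ≫ (prod.snd : F ⨯ F ⟶ F)) sq.w
    simp only [Category.assoc, diag, prod.lift_snd, Category.comp_id] at this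
    rw [hb, this]
  let k : F' ⟶ pullback a b := pullback.lift snd snd (hfst1.trans hfst2.symm)
  obtain ⟨e, he1, he2⟩ := exists_lift_prod (pullback.fst a b) (pullback.snd a b)
  let δ : U ⟶ U ⨯ U := Limits.diag U
  have hδ1 : (pyon S).map δ ≫ (pyon S).map (prod.fst : U ⨯ U ⟶ U) = 𝟙 _ := by
    rw [← Functor.map_comp]
    have : δ ≫ (prod.fst : U ⨯ U ⟶ U) = 𝟙 U := prod.lift_fst _ _
    rw [this]
    exact (pyon S).map_id U
  have hδ2 : (pyon S).map δ ≫ (pyon S).map (prod.snd : U ⨯ U ⟶ U) = 𝟙 _ := by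
    rw [← Functor.map_comp]
    have : δ ≫ (prod.snd : U ⨯ U ⟶ U) = 𝟙 U := prod.lift_snd _ _
    rw [this]
    exact (pyon S).map_id U
  -- the pullback square of presheaves
  have sqP : IsPullback k snd e ((pyon S).map δ) := by
    have key : ∀ c : PullbackCone e ((pyon S).map δ),
        c.fst ≫ pullback.fst a b = c.snd ∧ c.fst ≫ pullback.snd a b = c.snd := by
      intro c
      have h1 := congrArg (· ≫ (pyon S).map (prod.fst : U ⨯ U ⟶ U)) c.condition
      have h2 := congrArg (· ≫ (pyon S).map (prod.snd : U ⨯ U ⟶ U)) c.condition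
      simp only [Category.assoc, he1, he2, hδ1, hδ2] at h1 h2
      exact ⟨h1.trans (Category.comp_id _), h2.trans (Category.comp_id _)⟩
    refine IsPullback.mk ⟨?_⟩ ⟨PullbackCone.IsLimit.mk _ (fun c => sq.lift (c.snd ≫ a) c.snd ?_)
      (fun c => ?_) (fun c => ?_) (fun c m h1 h2 => ?_)⟩
    · apply hom_ext_prod
      · rw [Category.assoc, he1, pullback.lift_fst, Category.assoc, hδ1]
        exact (Category.comp_id _).symm
      · rw [Category.assoc, he2, pullback.lift_snd, Category.assoc, hδ2]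
        exact (Category.comp_id _).symm
    · obtain ⟨h1, h2⟩ := key c
      apply Limits.prod.hom_ext
      · simp only [Category.assoc, diag, prod.lift_fst, Category.comp_id]
        exact congrArg (fun z => c.snd ≫ z) ha
      · simp only [Category.assoc, diag, prod.lift_snd, Category.comp_id]
        have h3 : c.snd ≫ a = c.snd ≫ b := by
          calc c.snd ≫ a = (c.fst ≫ pullback.fst a b) ≫ a := by rw [h1]
            _ = (c.fst ≫ pullback.snd a b) ≫ b := by
                rw [Category.assoc, pullback.condition, Category.assoc]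
            _ = c.snd ≫ b := by rw [h2]
        rw [h3]
        exact congrArg (fun z => c.snd ≫ z) hb
    · obtain ⟨h1, h2⟩ := key c
      apply pullback.hom_ext
      · rw [Category.assoc, pullback.lift_fst, sq.lift_snd, h1]
      · rw [Category.assoc, pullback.lift_snd, sq.lift_snd, h2]
    · exact sq.lift_snd _ _ _
    · apply sq.hom_ext
      · rw [sq.lift_fst, ← hfst1, ← Category.assoc, h2]
      · rw [sq.lift_snd, h2]
  -- transfer to sheaves
  have hF's : Presheaf.IsSheaf (J S) F' :=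
    isSheaf_of_isPullback (F := E) (G := (yon S).obj (U ⨯ U)) (H := (yon S).obj U) sqP
  refine ⟨hF's, ?_⟩
  have sqS : IsPullback (ObjectProperty.homMk k : (⟨F', hF's⟩ : Sp S) ⟶ E)
      (ObjectProperty.homMk snd : (⟨F', hF's⟩ : Sp S) ⟶ (yon S).obj U)
      (ObjectProperty.homMk e : E ⟶ (yon S).obj (U ⨯ U)) ((yon S).map δ) :=
    IsPullback.of_map (sheafToPresheaf (J S) (Type (u + 1)))
      (by apply (sheafToPresheaf (J S) (Type (u + 1))).map_injective; exact sqP.w) sqP
  exact Groth.Agent.Lib.Helper23.AlgSpMor.isAlgSpace_of_isPullback hE (IsAlgSpace.yon_obj U)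
    (IsAlgSpace.yon_obj (U ⨯ U)).diag sqS

end Groth.Agent.Lib.Helper5.DiagRepBySp
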