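import Mathlib
import Groth.Agent.Lib.Helper5.DiagRepB

/-!
# The diagonal of `[X/G]` (helper5), part C: the equivalence with `h_I`
-/

set_option autoImplicit false
set_option linter.style.haveILetI false
set_option linter.unusedSectionVars false
universe u

open CategoryTheory CategoryTheory.Limits MonoidalCategory CartesianMonoidalCategory MonObj GrpObj
  AlgebraicGeometry AlgSt Opposite

namespace Groth.Agent.Lib.Helper5.DiagRep

open Groth.Agent.Lib.Helper5.QuotStStrict Groth.Agent.Lib.Helper5.IsomSch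
open Groth.Agent.Lib.Helper14.QuotStRep
open Groth.Agent.Lib.Helper17 Groth.Agent.Lib.Helper17.FP Groth.Agent.Lib.Helper17.SP

variable {S : Scheme.{u}} {K : Precoverage Scheme.{u}} [K.HasIsos] {G : Over S} [GrpObj G]
  {X : Over S} {aX : AlgGrp.Action G X} {U : Over S}
  {H : FibCat.overCat U ⥤ᵇ FF K G aX} (D : IsomData (AA H) (AA' H))
  (hK : K ≤ Scheme.fppfPrecoverage)

section ess

variable {T₀ : Over S} (s : T₀ ⟶ D.I)

/-- the object of `(Sch/U)` of a point of `I` -/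
def cS : (FibCat.overCat U).obj := Over.mk (s ≫ D.ρ)

/-- the point of `I` on the base of the first component -/
noncomputable def s' : ((y₁ H).obj (cS D s)).base ⟶ D.I := eqToHom (hc (y₁ H) (cS D s)) ≫ s

lemma hs' : s' D s ≫ D.ρ = bs (M H (cS D s)) := by
  rw [M_bs]
  unfold s'
  rw [Category.assoc]
  rfl

/-- the morphism to `A'` -/
noncomputable def Mp : (y₁ H).obj (cS D s) ⟶ (AA' H).toQuot :=
  m'Of D hK ((y₁ H).obj (cS D s)) (M H (cS D s)) (s' D s) (hs' D s)

lemma Mp_bs : bs (Mp D hK s) = bs (M H (cS D s)) := rfl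

lemma bS_aux : gam H (cS D s) ≫ (N H (cS D s)).base = (Mp D hK s).base := by
  change gam H (cS D s) ≫ bs (N H (cS D s)) = bs (Mp D hK s)
  rw [Mp_bs, M_bs, N_bs, gam_eq, ← Category.assoc, eqToHom_trans]

/-- the isomorphism of the two components over a point of `I` -/
noncomputable def bS : (y₁ H).obj (cS D s) ⟶ (y₂ H).obj (cS D s) :=
  liftHom (N H (cS D s)) (Mp D hK s) (gam H (cS D s)) (bS_aux D hK s)

lemma bS_base : (bS D hK s).base = gam H (cS D s) := rfl

lemma bS_comp : bS D hK s ≫ N H (cS D s) = Mp D hK s := liftHom_comp _ _ _ _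

lemma isIso_bS : IsIso (bS D hK s) :=
  isIso_of_base_eqToHom (bS D hK s) _ ((bS_base D hK s).trans (gam_eq H (cS D s)))

lemma bS_lift : (AlgSt.QuotSt K G aX).p.IsHomLift (𝟙 ((y₁ H).obj (cS D s)).base) (bS D hK s) := by
  apply IsHomLift.of_fac' _ _ _ rfl ((hc (y₂ H) (cS D s)).trans (hc (y₁ H) (cS D s)).symm)
  change (bS D hK s).base = _
  rw [bS_base, gam_eq]
  simp only [eqToHom_refl, Category.id_comp]
  exact (Category.id_comp _).symm

/-- the isomorphism in the product -/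
noncomputable def ιS : H.obj (cS D s) ≅ (Δ K G aX).obj ((y₁ H).obj (cS D s)) :=
  SP.mkIsoSq (z := H.obj (cS D s)) (z' := (Δ K G aX).obj ((y₁ H).obj (cS D s)))
    (Iso.refl _) (@asIso _ _ _ _ (bS D hK s) (isIso_bS D hK s)).symm
    (by
      change (AlgSt.QuotSt K G aX).p.IsHomLift
        ((AlgSt.QuotSt K G aX).p.map (𝟙 ((y₁ H).obj (cS D s))))
        (@inv _ _ _ _ (bS D hK s) (isIso_bS D hK s))
      rw [(AlgSt.QuotSt K G aX).p.map_id]
      exact @IsHomLift.lift_id_inv_isIso _ _ _ _ (AlgSt.QuotSt K G aX).p _ _ _ (bS D hK s)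
        (isIso_bS D hK s) (bS_lift D hK s))

/-- the object of the fibre product over a point of `I` -/
noncomputable def zS : (FPd H).obj :=
  FP.mkObj (F := H) (G := Δ K G aX) (cS D s) ((y₁ H).obj (cS D s)) (ιS D hK s)
    (by
      rw [FP.isHomLift_iff_fst]
      change (AlgSt.QuotSt K G aX).p.IsHomLift (𝟙 _) (𝟙 ((y₁ H).obj (cS D s)))
      apply IsHomLift.of_fac' _ _ _ (hc (y₁ H) (cS D s)) (hc (y₁ H) (cS D s))
      simp)

lemma cz_zS : cz (zS D hK s) = cS D s := rfl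

lemma β_zS : β (zS D hK s) = bS D hK s := by
  change 𝟙 _ ≫ bS D hK s = _
  exact Category.id_comp _

lemma M'_zS : M' (zS D hK s) = Mp D hK s := by
  unfold M'
  rw [β_zS]
  exact bS_comp D hK s

lemma sec_zS : sec D hK (zS D hK s) = s := by
  unfold sec
  have h := sOf_m'Of D hK ((y₁ H).obj (cS D s)) (M H (cS D s)) (s' D s) (hs' D s)
  have e : sOf D hK ((y₁ H).obj (cz (zS D hK s))) (M H (cz (zS D hK s))) (M' (zS D hK s))
      (hb (zS D hK s)) = s' D s := by
    rw [← h]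
    exact sOf_congr D hK _ rfl (M'_zS D hK s) _ _
  rw [e]
  unfold s'
  change eqToHom (hc (y₁ H) (cS D s)).symm ≫ eqToHom (hc (y₁ H) (cS D s)) ≫ s = s
  rw [← Category.assoc, eqToHom_trans, eqToHom_refl, Category.id_comp]

end ess

theorem Φ_ess (et : (AlgSt.ofSp ((AlgSp.yon S).obj D.I)).obj) :
    ∃ (ξ : (FPd H).obj) (e : (Φ D hK).toFunctor.obj ξ ≅ et),
      (AlgSt.ofSp ((AlgSp.yon S).obj D.I)).p.IsHomLift
        (𝟙 ((AlgSt.ofSp ((AlgSp.yon S).obj D.I)).p.obj et)) e.hom := by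
  obtain ⟨T₀, ⟨s⟩⟩ := et
  refine ⟨zS D hK s, ?_, ?_⟩
  · have h : (Φ D hK).toFunctor.obj (zS D hK s) =
        (⟨T₀, ⟨s⟩⟩ : (AlgSt.ofSp ((AlgSp.yon S).obj D.I)).obj) := by
      change (⟨T₀, ⟨sec D hK (zS D hK s)⟩⟩ : (AlgSt.ofSp ((AlgSp.yon S).obj D.I)).obj) = _
      rw [sec_zS]
    exact eqToIso h
  · dsimp only
    generalize_proofs h
    apply hl_of_eq
    rw [eqToIso.hom, eqToHom_map]
    rfl

theorem isEquivOver_Φ : FibCat.IsEquivOver (Φ D hK) :=
  (Groth.Agent.S5139.result (Φ D hK)).2 ⟨⟨Φ_full D hK, Φ_faithful D hK⟩, Φ_ess D hK⟩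

end Groth.Agent.Lib.Helper5.DiagRep
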