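import Mathlib
import Groth.Agent.Lib.Helper5.DiagRepC

/-!
# The diagonal of `[X/G]` (helper5), part D: representability with a property
-/

set_option autoImplicit false
set_option linter.style.haveILetI false
set_option linter.unusedSectionVars false
universe u

open CategoryTheory CategoryTheory.Limits MonoidalCategory CartesianMonoidalCategory MonObj GrpObj
  AlgebraicGeometry AlgSt Opposite

namespace Groth.Agent.Lib.Helper5.DiagRep

open Groth.Agent.Lib.Helper5.QuotStStrict Groth.Agent.Lib.Helper5.IsomSch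
open Groth.Agent.Lib.Helper14.QuotStRep
open Groth.Agent.Lib.Helper17 Groth.Agent.Lib.Helper17.FP Groth.Agent.Lib.Helper17.SP

variable {S : Scheme.{u}} {K : Precoverage Scheme.{u}} [K.HasIsos] {G : Over S} [GrpObj G]
  {X : Over S} {aX : AlgGrp.Action G X} {U : Over S}
  {H : FibCat.overCat U ⥤ᵇ FF K G aX} (D : IsomData (AA H) (AA' H))
  (hK : K ≤ Scheme.fppfPrecoverage)

theorem eqToHom_aux {C : Type*} [Category C] {T B W V : C} (p : T = B) (q : B = T) (r : T = T)
    (x : T ⟶ W) (ρ : W ⟶ V) :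
    eqToHom p ≫ ((eqToHom q ≫ 𝟙 T ≫ eqToHom r) ≫ x) ≫ ρ = x ≫ ρ := by
  subst p
  simp

/-- the map of sheaves of an inverse of `Φ` followed by the first projection is `h_ρ` -/
theorem spMap_inverse (e : AlgSt.ofSp ((AlgSp.yon S).obj D.I) ⥤ᵇ FPd H)
    (c₁ : BasedFunctor.comp e (Φ D hK) ≅ BasedFunctor.id _) :
    AlgSt.spMapOfOver (BasedFunctor.comp e (FibCat.fpFst H (Δ K G aX))) =
      (AlgSp.yon S).map D.ρ := by
  apply Sheaf.hom_ext
  ext T x
  apply ULift.ext
  change AlgSt.secHom (BasedFunctor.comp e (FibCat.fpFst H (Δ K G aX))) ⟨T.unop, x⟩ = x.down ≫ D.ρ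
  let a : (AlgSt.ofSp ((AlgSp.yon S).obj D.I)).obj := ⟨T.unop, x⟩
  let ε : (Φ D hK).obj (e.obj a) ⟶ a := c₁.hom.app a
  have hε : (AlgSt.ofSp ((AlgSp.yon S).obj D.I)).p.IsHomLift (𝟙 T.unop) ε :=
    BasedNatTrans.isHomLift c₁.hom rfl
  have h1 : ε.hom ≫ x.down = sec D hK (e.obj a) := congrArg ULift.down ε.map_sec
  have h2 := hl_fac' hε
  change ε.hom = _ at h2
  unfold AlgSt.secHom
  change eqToHom _ ≫ homU (cz (e.obj a)) = _
  rw [← sec_ρ D hK (e.obj a), ← h1, h2]
  exact eqToHom_aux _ _ _ _ _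

/-- the diagonal of `[X/G]` is representable with property `P` as soon as all schemes of
isomorphisms exist with property `P` -/
theorem repWith_diag (hK : K ≤ Scheme.fppfPrecoverage) (P : MorphismProperty (AlgSp.Sp S))
    (hD : ∀ (U : Over S) (A A' : TorsObj K G aX U),
      ∃ D : IsomData A A', P ((AlgSp.yon S).map D.ρ)) :
    AlgSt.RepByAlgSpWith P (FibCat.diag (FibCat.toSelf (AlgSt.QuotSt K G aX))) := by
  intro U H
  obtain ⟨D, hP⟩ := hD U (AA H) (AA' H)
  obtain ⟨e, ⟨u₁⟩, ⟨c₁⟩⟩ := id (isEquivOver_Φ D hK)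
  refine ⟨⟨(AlgSp.yon S).obj D.I, AlgSp.IsAlgSpace.yon_obj D.I⟩, e,
    isEquivOver_symm _ e u₁ c₁, ?_⟩
  rw [spMap_inverse D hK e c₁]
  exact hP

end Groth.Agent.Lib.Helper5.DiagRep
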