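import Mathlib
import Groth.Agent.Lib.Helper5.IsomSchB
import Groth.Agent.Lib.Helper14.QuotStGeom
import Groth.Agent.S0082

/-!
# The scheme of isomorphisms between two objects of `[X/G]` (helper5), part C: geometry
-/

set_option autoImplicit false
set_option linter.style.haveILetI false
universe u

open CategoryTheory CategoryTheory.Limits MonoidalCategory CartesianMonoidalCategory MonObj GrpObj
  AlgebraicGeometry AlgSt

namespace Groth.Agent.Lib.Helper5.IsomSch

open Groth.Agent.Lib.Helper5.QuotStStrict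

variable {S : Scheme.{u}} {K : Precoverage Scheme.{u}} {G : Over S} [GrpObj G] {X : Over S}
  {aX : AlgGrp.Action G X} {U : Over S}

theorem etale_le_fppf : Scheme.etalePrecoverage.{u} ≤ Scheme.fppfPrecoverage.{u} :=
  Scheme.precoverage_mono fun _ _ _ _ ↦ ⟨inferInstance, inferInstance⟩

/-- an object of `[X/G]` for a topology coarser than fppf as an object for the fppf topology -/
def toFppf (hK : K ≤ Scheme.fppfPrecoverage) (x : QuotObj K G aX) :
    QuotObj Scheme.fppfPrecoverage G aX where
  base := x.base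
  P := x.P
  act := x.act
  π := x.π
  cart := x.cart
  loc := by
    obtain ⟨R, hR, h⟩ := x.loc
    exact ⟨R, hK _ hR, h⟩
  φ := x.φ
  eqv := x.eqv

section pi

variable (hK : K ≤ Scheme.fppfPrecoverage)

include hK in
theorem pi_flat [Flat G.hom] (x : QuotObj K G aX) : Flat x.π.left := by
  haveI := Groth.Agent.Lib.Helper14.QuotStGeom.flat_descendsAlong_fppf
  exact Groth.Agent.Lib.Helper14.QuotStGeom.pi_prop @Flat inferInstance (toFppf hK x)

include hK in
theorem pi_affine [IsAffineHom G.hom] (x : QuotObj K G aX) : IsAffineHom x.π.left := by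
  haveI : MorphismProperty.DescendsAlong @IsAffineHom
      (@Surjective ⊓ @Flat ⊓ @QuasiCompact : MorphismProperty Scheme.{u}) :=
    Groth.Agent.S0082.result
  haveI : MorphismProperty.DescendsAlong @IsAffineHom
      (@Surjective ⊓ @Flat ⊓ @LocallyOfFinitePresentation : MorphismProperty Scheme.{u}) :=
    inferInstance
  exact Groth.Agent.Lib.Helper14.QuotStGeom.pi_prop @IsAffineHom inferInstance (toFppf hK x)

include hK in
theorem pi_surj (x : QuotObj K G aX) : Surjective x.π.left :=
  ⟨Groth.Agent.Lib.Helper14.QuotStGeom.pi_surj (toFppf hK x)⟩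

end pi

section prop

variable (Q : MorphismProperty Scheme.{u}) [Q.IsStableUnderBaseChange] [Q.IsMultiplicative]

theorem prop_ζ (A' : TorsObj K G aX U) (hπ : Q A'.π.left) (hX : Q (pullback.diagonal X.hom)) :
    Q (ζ A').left := by
  haveI : Q.HasOfPostcompProperty Q.diagonal :=
    MorphismProperty.hasOfPostcompProperty_iff_le_diagonal.mpr le_rfl
  refine Q.of_postcomp (W' := Q.diagonal) (ζ A').left (fst U X).left ?_ ?_
  · have hfst : (fst U X).left = pullback.fst U.hom X.hom := rfl
    rw [hfst]
    exact MorphismProperty.pullback_fst (P := Q.diagonal) _ _ hX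
  · rw [← Over.comp_left]
    have : ζ A' ≫ fst U X = A'.π := lift_fst _ _
    rw [this]
    exact hπ

theorem prop_z₁ (A A' : TorsObj K G aX U) (hπ : Q A'.π.left) (hX : Q (pullback.diagonal X.hom))
    {Z : Over S} (z₁ : Z ⟶ A.P) (z₂ : Z ⟶ A'.P) (hZ₀ : IsPullback z₁ z₂ (ζ A) (ζ A')) :
    Q z₁.left :=
  Q.of_isPullback (hZ₀.flip.map (Over.forget S)) (prop_ζ Q A' hπ hX)

end prop

/-- an affine morphism of schemes gives an affine morphism of sheaves -/
theorem isAffineMor_yon_map {I U : Over S} (ρ : I ⟶ U) (h : IsAffineHom ρ.left) :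
    AlgSp.IsAffineMor ((AlgSp.yon S).map ρ) := by
  intro Z hZ g
  obtain ⟨g', rfl⟩ := (AlgSp.yon S).map_surjective g
  refine ⟨pullback ρ g', pullback.snd ρ g', (AlgSp.yon S).map (pullback.fst ρ g'),
    (IsPullback.of_hasPullback ρ g').map (AlgSp.yon S), ?_⟩
  have sq : IsPullback (pullback.fst ρ g').left (pullback.snd ρ g').left ρ.left g'.left :=
    (IsPullback.of_hasPullback ρ g').map (Over.forget S)
  haveI : IsAffineHom (pullback.snd ρ g').left :=
    MorphismProperty.of_isPullback (P := @IsAffineHom) sq h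
  haveI := hZ
  exact isAffine_of_isAffineHom (pullback.snd ρ g').left

/-- schemes of isomorphisms exist and are affine over the base when `G` is affine and flat and the
diagonal of `X` is affine -/
theorem exists_isomData_affine (hK : K ≤ Scheme.fppfPrecoverage) [Flat G.hom] [IsAffineHom G.hom]
    (hX : IsAffineHom (pullback.diagonal X.hom)) (A A' : TorsObj K G aX U) :
    ∃ D : IsomData A A', AlgSp.IsAffineMor ((AlgSp.yon S).map D.ρ) := by
  haveI hfl : Flat A.π.left := pi_flat hK A.toQuot
  haveI hsu : Surjective A.π.left := pi_surj hK A.toQuot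
  haveI haf : IsAffineHom A.π.left := pi_affine hK A.toQuot
  have haf' : IsAffineHom A'.π.left := pi_affine hK A'.toQuot
  haveI hqc : QuasiCompact A.π.left := inferInstance
  obtain ⟨D, hD⟩ := exists_isomData A A' hfl hsu hqc
    (fun z₁ z₂ hZ₀ => prop_z₁ @IsAffineHom A A' haf' hX z₁ z₂ hZ₀)
  haveI : MorphismProperty.DescendsAlong @IsAffineHom
      (@Surjective ⊓ @Flat ⊓ @QuasiCompact : MorphismProperty Scheme.{u}) :=
    Groth.Agent.S0082.result
  refine ⟨D, isAffineMor_yon_map D.ρ (hD @IsAffineHom ?_)⟩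
  exact prop_z₁ @IsAffineHom A A' haf' hX D.z₁ D.z₂ D.hZ₀

end Groth.Agent.Lib.Helper5.IsomSch
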