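import Mathlib
import Groth.Agent.Lib.Helper5.IsomSchC
import Groth.Agent.Lib.Helper7.QuasiAffine
import Groth.Agent.S1127

/-!
# The scheme of isomorphisms between two objects of `[X/G]` (helper5), part D: quasi-affine case
-/

set_option autoImplicit false
set_option linter.style.haveILetI false
universe u

open CategoryTheory CategoryTheory.Limits MonoidalCategory CartesianMonoidalCategory MonObj GrpObj
  AlgebraicGeometry AlgSt

namespace Groth.Agent.Lib.Helper5.IsomSch

open Groth.Agent.Lib.Helper5.QuotStStrict Groth.Agent.Lib.Helper7.QA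

variable {S : Scheme.{u}} {K : Precoverage Scheme.{u}} {G : Over S} [GrpObj G] {X : Over S}
  {aX : AlgGrp.Action G X} {U : Over S}

theorem qaff_ζ [QuasiSeparated X.hom] (A' : TorsObj K G aX U)
    (hπ : Mor2.IsQuasiAffine A'.π.left) : Mor2.IsQuasiAffine (ζ A').left := by
  have hfst : (fst U X).left = pullback.fst U.hom X.hom := rfl
  haveI : QuasiSeparated (fst U X).left := by
    rw [hfst]
    infer_instance
  apply QAffHom_of_comp (ζ A').left (fst U X).left
  rw [← Over.comp_left]
  have : ζ A' ≫ fst U X = A'.π := lift_fst _ _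
  rw [this]
  exact hπ

theorem qaff_z₁ [QuasiSeparated X.hom] (A A' : TorsObj K G aX U)
    (hπ : Mor2.IsQuasiAffine A'.π.left)
    {Z : Over S} (z₁ : Z ⟶ A.P) (z₂ : Z ⟶ A'.P) (hZ₀ : IsPullback z₁ z₂ (ζ A) (ζ A')) :
    Mor2.IsQuasiAffine z₁.left :=
  QAffHom.of_isPullback (hZ₀.flip.map (Over.forget S)) (qaff_ζ A' hπ)

/-- a quasi-affine morphism of schemes gives a quasi-affine morphism of sheaves -/
theorem isQuasiAffineMor_yon_map {I U : Over S} (ρ : I ⟶ U) (h : Mor2.IsQuasiAffine ρ.left) :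
    AlgSp.IsQuasiAffineMor ((AlgSp.yon S).map ρ) := by
  intro Z hZ g
  obtain ⟨g', rfl⟩ := (AlgSp.yon S).map_surjective g
  refine ⟨pullback ρ g', pullback.snd ρ g', (AlgSp.yon S).map (pullback.fst ρ g'),
    (IsPullback.of_hasPullback ρ g').map (AlgSp.yon S), ?_⟩
  have sq : IsPullback (pullback.fst ρ g').left (pullback.snd ρ g').left ρ.left g'.left :=
    (IsPullback.of_hasPullback ρ g').map (Over.forget S)
  have h1 : Mor2.IsQuasiAffine (pullback.snd ρ g').left := QAffHom.of_isPullback sq h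
  haveI := hZ
  exact isQuasiAffine_of_QAffHom (pullback.snd ρ g').left h1

/-- schemes of isomorphisms exist and are quasi-affine over the base when `G` is affine and flat
and `X` is quasi-separated -/
theorem exists_isomData_quasiAffine (hK : K ≤ Scheme.fppfPrecoverage) [Flat G.hom]
    [IsAffineHom G.hom] [QuasiSeparated X.hom] (A A' : TorsObj K G aX U) :
    ∃ D : IsomData A A', AlgSp.IsQuasiAffineMor ((AlgSp.yon S).map D.ρ) := by
  haveI hfl : Flat A.π.left := pi_flat hK A.toQuot
  haveI hsu : Surjective A.π.left := pi_surj hK A.toQuot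
  haveI haf : IsAffineHom A.π.left := pi_affine hK A.toQuot
  haveI haf' : IsAffineHom A'.π.left := pi_affine hK A'.toQuot
  have hqa' : Mor2.IsQuasiAffine A'.π.left := QAffHom_of_isAffineHom A'.π.left
  haveI hqc : QuasiCompact A.π.left := inferInstance
  obtain ⟨D, hD⟩ := exists_isomData_qaff A A' hfl hsu hqc
    (fun z₁ z₂ hZ₀ => qaff_z₁ A A' hqa' z₁ z₂ hZ₀)
  haveI : MorphismProperty.DescendsAlong QAffHom.{u}
      (@Surjective ⊓ @Flat ⊓ @QuasiCompact : MorphismProperty Scheme.{u}) :=
    Groth.Agent.S1127.result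
  refine ⟨D, isQuasiAffineMor_yon_map D.ρ (hD QAffHom ?_)⟩
  exact qaff_z₁ A A' hqa' D.z₁ D.z₂ D.hZ₀

end Groth.Agent.Lib.Helper5.IsomSch
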