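import Mathlib
import Groth.Agent.Lib.Helper5.DiagRepD
import Groth.Agent.Lib.Helper5.IsomSchD
import Groth.Agent.Lib.Helper17.DiagLft2
import Groth.Agent.Lib.Helper17.SchLocalProps

/-!
# The diagonal of `[X/G]` (helper5), part E: from an affine diagonal of `[X/G]` back to `X`
-/

set_option autoImplicit false
set_option linter.style.haveILetI false
set_option linter.unusedSectionVars false
universe u

open CategoryTheory CategoryTheory.Limits MonoidalCategory CartesianMonoidalCategory MonObj GrpObj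
  AlgebraicGeometry AlgSt Opposite

namespace Groth.Agent.Lib.Helper5.DiagRep

open Groth.Agent.Lib.Helper5.QuotStStrict Groth.Agent.Lib.Helper5.IsomSch
open Groth.Agent.Lib.Helper14.QuotStRep
open Groth.Agent.Lib.Helper17 Groth.Agent.Lib.Helper17.FP Groth.Agent.Lib.Helper17.SP

variable {S : Scheme.{u}} {K : Precoverage Scheme.{u}} [K.HasIsos] {G : Over S} [GrpObj G]
  {X : Over S} {aX : AlgGrp.Action G X} {U : Over S}

/-- an affine morphism of representable sheaves comes from an affine morphism of schemes -/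
theorem isAffineHom_of_isAffineMor_yon_map {I U : Over S} (ρ : I ⟶ U)
    (h : AlgSp.IsAffineMor ((AlgSp.yon S).map ρ)) : IsAffineHom ρ.left := by
  refine ⟨fun V hV => ?_⟩
  let Zo : Over S := Over.mk (V.ι ≫ U.hom)
  let j : Zo ⟶ U := Over.homMk V.ι rfl
  have hZ : IsAffine Zo.left := hV
  obtain ⟨W, i, fst, sq, hW⟩ := h hZ ((AlgSp.yon S).map j)
  obtain ⟨f', rfl⟩ := (AlgSp.yon S).map_surjective fst
  have sq' : IsPullback f' i ρ j :=
    IsPullback.of_map (AlgSp.yon S) ((AlgSp.yon S).map_injective (by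
      rw [Functor.map_comp, Functor.map_comp]; exact sq.w)) sq
  have sq'' : IsPullback f'.left i.left ρ.left V.ι := sq'.map (Over.forget S)
  have sqr : IsPullback (ρ.left ⁻¹ᵁ V).ι (ρ.left ∣_ V) ρ.left V.ι :=
    (isPullback_morphismRestrict ρ.left V).flip
  let e : W.left ≅ (ρ.left ⁻¹ᵁ V : Scheme.{u}) := sq''.isoIsPullback _ _ sqr
  haveI := hW
  exact IsAffine.of_isIso e.inv

/-- if the diagonal of `[X/G]` is affine, every scheme of isomorphisms is affine over its base -/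
theorem isAffineMor_ρ_of_diag (hK : K ≤ Scheme.fppfPrecoverage)
    (hΔ : AlgSt.RepByAlgSpWith AlgSp.IsAffineMor
      (FibCat.diag (FibCat.toSelf (AlgSt.QuotSt K G aX))))
    (H : FibCat.overCat U ⥤ᵇ FF K G aX) (D : IsomData (AA H) (AA' H)) :
    AlgSp.IsAffineMor ((AlgSp.yon S).map D.ρ) := by
  obtain ⟨e, ⟨u₁⟩, ⟨c₁⟩⟩ := id (isEquivOver_Φ D hK)
  have h := DL2.transport AlgSp.IsAffineMor (SLP.affMor_bc _) _ hΔ U H
    ⟨(AlgSp.yon S).obj D.I, AlgSp.IsAlgSpace.yon_obj D.I⟩ e (isEquivOver_symm _ e u₁ c₁)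
  rwa [spMap_inverse D hK e c₁] at h

theorem isSeparated_le_diagonal_isAffineHom :
    (@IsSeparated : MorphismProperty Scheme.{u}) ≤
      MorphismProperty.diagonal (@IsAffineHom : MorphismProperty Scheme.{u}) := by
  intro X Y f hf
  have : IsSeparated f := hf
  exact (inferInstance : IsAffineHom (pullback.diagonal f))

/-- a section of an affine morphism is affine -/
theorem isAffineHom_of_section {A B : Scheme.{u}} (s : B ⟶ A) (p : A ⟶ B) [IsAffineHom p]
    (h : s ≫ p = 𝟙 B) : IsAffineHom s := by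
  haveI : MorphismProperty.HasOfPostcompProperty @IsAffineHom @IsSeparated :=
    MorphismProperty.hasOfPostcompProperty_iff_le_diagonal.mpr isSeparated_le_diagonal_isAffineHom
  refine MorphismProperty.of_postcomp (W := @IsAffineHom) (W' := @IsSeparated) s p inferInstance ?_
  rw [h]
  infer_instance

section C

variable {A A' : TorsObj K G aX U} (D : IsomData A A')
  (x₁ x₂ : U ⟶ X) (σ : U ⟶ A.P) (σ' : U ⟶ A'.P)
  (hσ : σ ≫ A.π = 𝟙 U) (hσ' : σ' ≫ A'.π = 𝟙 U) (hφ : σ ≫ A.φ = x₁) (hφ' : σ' ≫ A'.φ = x₂)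

include hσ hσ' hφ hφ' in
/-- the locus where the two maps to `X` agree is affine over the base, when the scheme of
isomorphisms is -/
theorem isAffineHom_equalizer (hρ : IsAffineHom D.ρ.left) (hπ' : IsAffineHom A'.π.left)
    {E : Over S} (j : E ⟶ U) (hE : IsPullback j j (lift (𝟙 U) x₁) (lift (𝟙 U) x₂)) :
    IsAffineHom j.left := by
  have hΓ₁ : σ ≫ ζ A = lift (𝟙 U) x₁ := by
    unfold ζ
    rw [comp_lift, hσ, hφ]
  have hΓ₂ : σ' ≫ ζ A' = lift (𝟙 U) x₂ := by
    unfold ζ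
    rw [comp_lift, hσ', hφ']
  -- the section of `Z ⟶ I`
  let i : D.I ⟶ D.Z := D.hZ.lift (D.ρ ≫ σ) (𝟙 D.I) (by rw [Category.assoc, hσ]; simp)
  have hi₁ : i ≫ D.z₁ = D.ρ ≫ σ := D.hZ.lift_fst _ _ _
  have hi₂ : i ≫ D.q = 𝟙 D.I := D.hZ.lift_snd _ _ _
  have top : IsPullback D.ρ i σ D.z₁ := by
    refine IsPullback.of_bot ?_ hi₁.symm D.hZ
    rw [hi₂, hσ]
    exact IsPullback.of_vert_isIso ⟨by simp⟩
  have K1 : IsPullback D.ρ (i ≫ D.z₂) (lift (𝟙 U) x₁) (ζ A') := by
    have := top.paste_vert D.hZ₀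
    rwa [hΓ₁] at this
  -- the point of `I` over the equalizer
  have hcomm : j ≫ lift (𝟙 U) x₁ = (j ≫ σ') ≫ ζ A' := by
    rw [Category.assoc, hΓ₂]
    exact hE.w
  let s : E ⟶ D.I := K1.lift j (j ≫ σ') hcomm
  have hs₁ : s ≫ D.ρ = j := K1.lift_fst _ _ _
  have hs₂ : s ≫ (i ≫ D.z₂) = j ≫ σ' := K1.lift_snd _ _ _
  have big : IsPullback (s ≫ D.ρ) j (lift (𝟙 U) x₁) (σ' ≫ ζ A') := by
    rw [hs₁, hΓ₂]
    exact hE
  have left : IsPullback s j (i ≫ D.z₂) σ' := IsPullback.of_right big hs₂ K1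
  have hσ'a : IsAffineHom σ'.left := by
    haveI := hπ'
    apply isAffineHom_of_section σ'.left A'.π.left
    rw [← Over.comp_left, hσ']
    rfl
  have hsa : IsAffineHom s.left :=
    MorphismProperty.of_isPullback (P := @IsAffineHom) (left.flip.map (Over.forget S)) hσ'a
  have : j.left = s.left ≫ D.ρ.left := by rw [← Over.comp_left, hs₁]
  rw [this]
  haveI := hsa
  haveI := hρ
  infer_instance

end C

end Groth.Agent.Lib.Helper5.DiagRep
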