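import Mathlib
import Groth.Agent.Lib.Helper5.DiagRepE
import Groth.Agent.Lib.Helper17.DiagRep

/-!
# The diagonal of `[X/G]` (helper5), part F: an affine diagonal of `[X/G]` gives an affine
diagonal of `X`
-/

set_option autoImplicit false
set_option linter.style.haveILetI false
set_option linter.unusedSectionVars false
universe u

open CategoryTheory CategoryTheory.Limits MonoidalCategory CartesianMonoidalCategory MonObj GrpObj
  AlgebraicGeometry AlgSt Opposite

namespace Groth.Agent.Lib.Helper5.DiagRep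

open Groth.Agent.Lib.Helper5.QuotStStrict Groth.Agent.Lib.Helper5.IsomSch
open Groth.Agent.Lib.Helper14.QuotStRep
open Groth.Agent.Lib.Helper17 Groth.Agent.Lib.Helper17.FP Groth.Agent.Lib.Helper17.SP

variable {S : Scheme.{u}} {K : Precoverage Scheme.{u}} [K.HasIsos] {G : Over S} [GrpObj G]
  {X : Over S} {aX : AlgGrp.Action G X} {U : Over S}

variable (K aX) in
/-- the object of `[X/G]` over `U` of a `U`-point of `X`, as a functor -/
noncomputable def ptF (x : U ⟶ X) : FibCat.overCat U ⥤ᵇ AlgSt.QuotSt K G aX :=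
  BasedFunctor.comp (AlgSt.overMap x) (fX K G aX)

lemma ptF_obj_base (x : U ⟶ X) (c : (FibCat.overCat U).obj) :
    ((ptF K aX x).obj c).base = (FibCat.overCat U).p.obj c := rfl

lemma ptF_map_base (x : U ⟶ X) {c c' : (FibCat.overCat U).obj} (k : c ⟶ c') :
    ((ptF K aX x).map k).base = (FibCat.overCat U).p.map k := rfl

variable (K aX) in
/-- the two composites to the base agree -/
noncomputable def selfIso (x₁ x₂ : U ⟶ X) :
    BasedFunctor.comp (ptF K aX x₁) (FibCat.toSelf (AlgSt.QuotSt K G aX)) ≅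
      BasedFunctor.comp (ptF K aX x₂) (FibCat.toSelf (AlgSt.QuotSt K G aX)) :=
  BasedNatIso.mkNatIso
    (NatIso.ofComponents (fun c => Iso.refl ((FibCat.overCat U).p.obj c)) (fun {c c'} k => by
      change ((ptF K aX x₁).map k).base ≫ 𝟙 _ = 𝟙 _ ≫ ((ptF K aX x₂).map k).base
      rw [ptF_map_base, ptF_map_base, Category.comp_id, Category.id_comp]))
    (fun c => by
      change (FibCat.selfOver (Over S)).p.IsHomLift (𝟙 ((FibCat.overCat U).p.obj c))
        (𝟙 ((FibCat.overCat U).p.obj c))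
      exact IsHomLift.id (p := (FibCat.selfOver (Over S)).p) rfl)

variable (K aX) in
/-- the pair of objects of `[X/G]` over `U` of two `U`-points of `X` -/
noncomputable def pairF (x₁ x₂ : U ⟶ X) : FibCat.overCat U ⥤ᵇ FF K G aX :=
  FibCat.fpLift (ptF K aX x₁) (ptF K aX x₂) (selfIso K aX x₁ x₂)

section sections

variable (x₁ x₂ : U ⟶ X)

/-- the unit section of the first torsor -/
noncomputable def σ₁ : U ⟶ (AA (pairF K aX x₁ x₂)).P := unitSec (G := G) U

/-- the unit section of the second torsor -/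
noncomputable def σ₂ : U ⟶ (AA' (pairF K aX x₁ x₂)).P := unitSec (G := G) U

lemma σ₁_π : σ₁ x₁ x₂ ≫ (AA (pairF K aX x₁ x₂)).π = 𝟙 U := by
  change unitSec (G := G) U ≫ snd G U ≫ eqToHom _ = 𝟙 U
  rw [eqToHom_refl, Category.comp_id, unitSec_snd]

lemma σ₂_π : σ₂ x₁ x₂ ≫ (AA' (pairF K aX x₁ x₂)).π = 𝟙 U := by
  change unitSec (G := G) U ≫ snd G U ≫ eqToHom _ = 𝟙 U
  rw [eqToHom_refl, Category.comp_id, unitSec_snd]

lemma σ₁_φ : σ₁ x₁ x₂ ≫ (AA (pairF K aX x₁ x₂)).φ = x₁ := by
  change unitSec (G := G) U ≫ (G ◁ (𝟙 U ≫ x₁)) ≫ aX.act = x₁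
  rw [unitSec_act, Category.id_comp]

lemma σ₂_φ : σ₂ x₁ x₂ ≫ (AA' (pairF K aX x₁ x₂)).φ = x₂ := by
  change unitSec (G := G) U ≫ (G ◁ (𝟙 U ≫ x₂)) ≫ aX.act = x₂
  rw [unitSec_act, Category.id_comp]

end sections

/-- the diagonal of `X` as an equalizer -/
theorem isPullback_diag :
    IsPullback (lift (𝟙 X) (𝟙 X)) (lift (𝟙 X) (𝟙 X))
      (lift (𝟙 (X ⊗ X)) (fst X X)) (lift (𝟙 (X ⊗ X)) (snd X X)) := by
  apply Groth.Agent.Lib.Helper93.TorsorPts.isPullback_of_existsUnique
  · apply CartesianMonoidalCategory.hom_ext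
    · simp
    · simp
  · intro T a b hab
    have h1 : a = b := by
      have := congrArg (· ≫ fst (X ⊗ X) X) hab
      simpa using this
    have h2 : a ≫ fst X X = b ≫ snd X X := by
      have := congrArg (· ≫ snd (X ⊗ X) X) hab
      simpa using this
    subst h1
    have ha : (a ≫ fst X X) ≫ lift (𝟙 X) (𝟙 X) = a := by
      apply CartesianMonoidalCategory.hom_ext
      · simp
      · simp [h2]
    refine ⟨a ≫ fst X X, ⟨ha, ha⟩, ?_⟩
    rintro t ⟨ht, -⟩
    rw [← ht]
    simp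

lemma diag_left : (lift (𝟙 X) (𝟙 X) : X ⟶ X ⊗ X).left = pullback.diagonal X.hom := by
  have hfst : (fst X X).left = pullback.fst X.hom X.hom := rfl
  have hsnd : (snd X X).left = pullback.snd X.hom X.hom := rfl
  apply pullback.hom_ext
  · rw [← hfst, ← Over.comp_left, lift_fst]
    simp
  · rw [← hsnd, ← Over.comp_left, lift_snd]
    simp

/-- an affine diagonal of `[X/G]` gives an affine diagonal of `X` -/
theorem isAffineHom_diagonal_of_diag (hK : K ≤ Scheme.fppfPrecoverage) [Flat G.hom]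
    [IsAffineHom G.hom] [QuasiSeparated X.hom]
    (hΔ : AlgSt.RepByAlgSpWith AlgSp.IsAffineMor
      (FibCat.diag (FibCat.toSelf (AlgSt.QuotSt K G aX)))) :
    IsAffineHom (pullback.diagonal X.hom) := by
  let H : FibCat.overCat (X ⊗ X) ⥤ᵇ FF K G aX := pairF K aX (fst X X) (snd X X)
  obtain ⟨D, -⟩ := exists_isomData_quasiAffine hK (AA H) (AA' H)
  have h1 : AlgSp.IsAffineMor ((AlgSp.yon S).map D.ρ) := isAffineMor_ρ_of_diag hK hΔ H D
  have h2 : IsAffineHom D.ρ.left := isAffineHom_of_isAffineMor_yon_map D.ρ h1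
  have h3 : IsAffineHom (AA' H).π.left := pi_affine hK (AA' H).toQuot
  have h4 := isAffineHom_equalizer D (fst X X) (snd X X) (σ₁ (fst X X) (snd X X))
    (σ₂ (fst X X) (snd X X)) (σ₁_π _ _) (σ₂_π _ _) (σ₁_φ _ _) (σ₂_φ _ _) h2 h3
    (lift (𝟙 X) (𝟙 X)) isPullback_diag
  rwa [diag_left] at h4

end Groth.Agent.Lib.Helper5.DiagRep
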