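import Groth.Agent.Lib.Helper5.TorsorExact

/-! # Morphisms of extensions as rigidified bitorsors are homomorphisms (helper5) -/

set_option autoImplicit false
universe u

open CategoryTheory CategoryTheory.Limits MonoidalCategory CartesianMonoidalCategory MonObj GrpObj
  AlgebraicGeometry

namespace Groth.Agent.Lib.Helper5.ExtRigid

open Groth.Agent.Lib.Helper5.TorsorExact Groth.Agent.Lib.Helper5.TorsorPush

variable {S : Scheme.{u}}

theorem isExactSeq_fpqc_of_fppf {G G' G'' : Over S} [GrpObj G] [GrpObj G'] [GrpObj G'']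
    (u : G' ⟶ G) (v : G ⟶ G'') (h : NonAbH1.IsExactSeq Scheme.fppfPrecoverage u v) :
    NonAbH1.IsExactSeq Scheme.fpqcPrecoverage u v := by
  obtain ⟨h1, h2, h3, h4, R, hR, h5⟩ := h
  exact ⟨h1, h2, h3, h4, R, Scheme.fppfPrecoverage_le_fpqcPrecoverage _ hR, h5⟩

theorem isMonHom_of_bitorsor
    (P G E E' : Over S) [GrpObj P] [GrpObj G] [GrpObj E] [GrpObj E']
    (u : G ⟶ E) (v : E ⟶ P) (hex : NonAbH1.IsExactSeq Scheme.fpqcPrecoverage u v)
    (u' : G ⟶ E') (v' : E' ⟶ P) (hex' : NonAbH1.IsExactSeq Scheme.fpqcPrecoverage u' v')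
    (hPP : ∀ c : P ⊗ P ⟶ G, lift (𝟙 P) (toUnit P ≫ η[P]) ≫ c = 1 →
      lift (toUnit P ≫ η[P]) (𝟙 P) ≫ c = 1 → c = 1)
    (f : E ⟶ E') (hv : f ≫ v' = v) (h1 : η[E] ≫ f = η[E'])
    (hl : ∀ (T : Over S) (g : T ⟶ G) (x : T ⟶ E), ((g ≫ u) * x) ≫ f = (g ≫ u') * (x ≫ f))
    (hr : ∀ (T : Over S) (g : T ⟶ G) (x : T ⟶ E), (x * (g ≫ u)) ≫ f = (x ≫ f) * (g ≫ u')) :
    IsMonHom f := by
  obtain ⟨hu_m, hv_m, huv, hpb, hloc⟩ := hex
  obtain ⟨hu'_m, hv'_m, hu'v', hpb', hloc'⟩ := hex'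
  haveI := hu_m
  haveI := hv_m
  haveI := hu'_m
  haveI := hv'_m
  have hf1 : ∀ {T : Over S}, (1 : T ⟶ E) ≫ f = 1 := by
    intro T
    rw [Hom.one_def, Category.assoc, h1, ← Hom.one_def]
  have hconj : ∀ {T : Over S} (g : T ⟶ G) (y : T ⟶ E),
      ∃ g₂ : T ⟶ G, (g ≫ u) * y = y * (g₂ ≫ u) := by
    intro T g y
    obtain ⟨g₂, hg₂, -⟩ := existsUnique_of_ker u v hpb (y⁻¹ * (g ≫ u) * y) (by
      rw [MonObj.mul_comp, MonObj.mul_comp, GrpObj.inv_comp, Category.assoc, huv,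
        MonObj.comp_one, _root_.mul_one, _root_.inv_mul_cancel])
    exact ⟨g₂, by rw [hg₂]; group⟩
  -- the defect
  let d : ∀ {T : Over S}, (T ⟶ E) → (T ⟶ E) → (T ⟶ E') :=
    fun x y => ((x * y) ≫ f) * ((x ≫ f) * (y ≫ f))⁻¹
  have hd_def : ∀ {T : Over S} (x y : T ⟶ E),
      d x y = ((x * y) ≫ f) * ((x ≫ f) * (y ≫ f))⁻¹ := fun _ _ => rfl
  have hd_v : ∀ {T : Over S} (x y : T ⟶ E), d x y ≫ v' = 1 := by
    intro T x y
    rw [hd_def, MonObj.mul_comp _ _ v', GrpObj.inv_comp _ v', MonObj.mul_comp (x ≫ f) (y ≫ f) v',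
      Category.assoc, Category.assoc, Category.assoc, hv, MonObj.mul_comp x y v,
      _root_.mul_inv_cancel]
  have hd_comp : ∀ {T T' : Over S} (z : T' ⟶ T) (x y : T ⟶ E),
      z ≫ d x y = d (z ≫ x) (z ≫ y) := by
    intro T T' z x y
    rw [hd_def, hd_def, MonObj.comp_mul, GrpObj.comp_inv, MonObj.comp_mul, ← Category.assoc,
      ← Category.assoc, ← Category.assoc, MonObj.comp_mul]
  have hd_inv : ∀ {T : Over S} (x y : T ⟶ E) (g h : T ⟶ G),
      d (x * (g ≫ u)) (y * (h ≫ u)) = d x y := by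
    intro T x y g h
    obtain ⟨g₂, hg₂⟩ := hconj g y
    have e1 : (x * (g ≫ u)) * (y * (h ≫ u)) = ((x * y) * (g₂ ≫ u)) * (h ≫ u) := by
      calc (x * (g ≫ u)) * (y * (h ≫ u)) = x * ((g ≫ u) * y) * (h ≫ u) := by group
        _ = x * (y * (g₂ ≫ u)) * (h ≫ u) := by rw [hg₂]
        _ = _ := by group
    have e2 : (g ≫ u') * (y ≫ f) = (y ≫ f) * (g₂ ≫ u') := by
      rw [← hl, hg₂, hr]
    have e3 : (x ≫ f) * (g ≫ u') * ((y ≫ f) * (h ≫ u')) =
        (x ≫ f) * (y ≫ f) * (g₂ ≫ u') * (h ≫ u') := by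
      calc (x ≫ f) * (g ≫ u') * ((y ≫ f) * (h ≫ u'))
          = (x ≫ f) * ((g ≫ u') * (y ≫ f)) * (h ≫ u') := by group
        _ = (x ≫ f) * ((y ≫ f) * (g₂ ≫ u')) * (h ≫ u') := by rw [e2]
        _ = _ := by group
    rw [hd_def, hd_def, e1, hr, hr, hr, hr, e3]
    group
  -- the universal cocycle
  obtain ⟨ct, hct, -⟩ := existsUnique_of_ker u' v' hpb' (d (fst E E) (snd E E)) (hd_v _ _)
  have hct_pt : ∀ {T : Over S} (x y : T ⟶ E), (lift x y ≫ ct) ≫ u' = d x y := by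
    intro T x y
    rw [Category.assoc, hct, hd_comp, lift_fst, lift_snd]
  have hu'_inj : ∀ {T : Over S} (a b : T ⟶ G), a ≫ u' = b ≫ u' → a = b := by
    intro T a b hab
    have h2 : (a * b⁻¹) ≫ u' = 1 := by
      rw [MonObj.mul_comp, GrpObj.inv_comp, hab, _root_.mul_inv_cancel]
    have h3 := eq_one_of_comp_eq_one u' v' hpb' _ h2
    exact mul_inv_eq_one.mp h3
  -- effective epimorphisms
  have hsec : secSieve (Over.mk v.left : Over P.left) ∈ Scheme.fpqcTopology P.left :=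
    (isLocallyTrivialFor_iff _).mp hloc
  haveI hvv : EffectiveEpi (v ⊗ₘ v).left :=
    effectiveEpi_left_of_secSieve _ (secSieve_tensor v v hsec hsec)
  haveI hve : EffectiveEpi v.left := effectiveEpi_left_of_secSieve _ hsec
  haveI : Epi v := epi_of_effectiveEpi_left v
  haveI : Epi (v ⊗ₘ v) := epi_of_effectiveEpi_left (v ⊗ₘ v)
  obtain ⟨c, hc⟩ := exists_desc_of_effectiveEpi (v ⊗ₘ v) ct (by
    intro T a₁ a₂ ha
    have hx : (a₁ ≫ fst E E) ≫ v = (a₂ ≫ fst E E) ≫ v := by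
      have := congrArg (fun k => k ≫ fst P P) ha
      simpa only [Category.assoc, tensorHom_fst] using this
    have hy : (a₁ ≫ snd E E) ≫ v = (a₂ ≫ snd E E) ≫ v := by
      have := congrArg (fun k => k ≫ snd P P) ha
      simpa only [Category.assoc, tensorHom_snd] using this
    obtain ⟨g, hg, -⟩ := existsUnique_of_exact u v hpb _ _ hx
    obtain ⟨h, hh, -⟩ := existsUnique_of_exact u v hpb _ _ hy
    apply hu'_inj
    rw [Category.assoc, Category.assoc, hct, hd_comp, hd_comp, ← hg, ← hh, hd_inv])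
  have hc1 : c = 1 := by
    apply hPP
    · rw [← cancel_epi v, MonObj.comp_one]
      have e : v ≫ lift (𝟙 P) (toUnit P ≫ η[P]) = lift (𝟙 E) (1 : E ⟶ E) ≫ (v ⊗ₘ v) := by
        rw [lift_map, comp_lift, Category.id_comp, Category.comp_id, MonObj.one_comp, Hom.one_def,
          ← Category.assoc, toUnit_unique (v ≫ toUnit P) (toUnit E)]
      rw [← Category.assoc, e, Category.assoc, hc]
      apply hu'_inj
      rw [hct_pt, hd_def, MonObj.one_comp u', _root_.mul_one, hf1, _root_.mul_one,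
        _root_.mul_inv_cancel]
    · rw [← cancel_epi v, MonObj.comp_one]
      have e : v ≫ lift (toUnit P ≫ η[P]) (𝟙 P) = lift (1 : E ⟶ E) (𝟙 E) ≫ (v ⊗ₘ v) := by
        rw [lift_map, comp_lift, Category.id_comp, Category.comp_id, MonObj.one_comp, Hom.one_def,
          ← Category.assoc, toUnit_unique (v ≫ toUnit P) (toUnit E)]
      rw [← Category.assoc, e, Category.assoc, hc]
      apply hu'_inj
      rw [hct_pt, hd_def, MonObj.one_comp u', _root_.one_mul, hf1, _root_.one_mul,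
        _root_.mul_inv_cancel]
  have hct1 : ct = 1 := by
    rw [← hc, hc1, MonObj.comp_one]
  have hmul : (fst E E * snd E E) ≫ f = (fst E E ≫ f) * (snd E E ≫ f) := by
    have h2 : d (fst E E) (snd E E) = 1 := by
      rw [← hct, hct1, MonObj.one_comp]
    rw [hd_def] at h2
    exact mul_inv_eq_one.mp h2
  refine ⟨h1, ?_⟩
  have e1 : fst E E * snd E E = μ[E] := by
    rw [Hom.mul_def, lift_fst_snd, Category.id_comp]
  have e2 : (fst E E ≫ f) * (snd E E ≫ f) = (f ⊗ₘ f) ≫ μ[E'] := by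
    rw [Hom.mul_def, lift_fst_comp_snd_comp]
  rw [← e1, ← e2, hmul]

end Groth.Agent.Lib.Helper5.ExtRigid
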