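import Groth.Agent.Lib.Helper23.ImmQuot
import Groth.Agent.Lib.Helper62.AlgSpMono

/-!
# Fixed points of a finite group acting on a separated sheaf form a closed subsheaf (helper5)
-/

set_option autoImplicit false
universe u
open CategoryTheory CategoryTheory.Limits AlgebraicGeometry Opposite

namespace Groth.Agent.Lib.Helper5.FixedClosed

open AlgSp

variable {S : Scheme.{u}}

/-- The intersection of the equalizers of `𝟙` and `ρ g`, `g ∈ L`, as a closed subsheaf. -/
theorem exists_fixed_list (F : Sp S) (hsep : IsSeparatedSp F) {G : Type u} [Group G]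
    (ρ : G →* Aut F) (L : List G) :
    ∃ (E : Sp S) (m : E ⟶ F), RepWith @IsClosedImmersion m ∧ (∀ g ∈ L, m ≫ (ρ g).hom = m) ∧
      ∀ (W : Sp S) (x : W ⟶ F), (∀ g ∈ L, x ≫ (ρ g).hom = x) → ∃ z : W ⟶ E, z ≫ m = x := by
  induction L with
  | nil =>
    exact ⟨F, 𝟙 F, (RepWith @IsClosedImmersion).id_mem F, fun g hg => by simp at hg,
      fun W x _ => ⟨x, Category.comp_id x⟩⟩
  | cons g L ih =>
    obtain ⟨E, m, hm, hinv, huniv⟩ := ih
    have pbg := IsPullback.of_hasPullback (Limits.diag F) (prod.lift (𝟙 F) (ρ g).hom)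
    have hsnd : RepWith @IsClosedImmersion (pullback.snd (Limits.diag F)
        (prod.lift (𝟙 F) (ρ g).hom)) :=
      MorphismProperty.of_isPullback (P := RepWith @IsClosedImmersion) pbg hsep
    have hdf : Limits.diag F ≫ prod.fst = 𝟙 F := prod.lift_fst _ _
    have hds : Limits.diag F ≫ prod.snd = 𝟙 F := prod.lift_snd _ _
    have hlf : prod.lift (𝟙 F) (ρ g).hom ≫ prod.fst = 𝟙 F := prod.lift_fst _ _
    have hls : prod.lift (𝟙 F) (ρ g).hom ≫ prod.snd = (ρ g).hom := prod.lift_snd _ _
    have hfs : pullback.snd (Limits.diag F) (prod.lift (𝟙 F) (ρ g).hom) =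
        pullback.fst (Limits.diag F) (prod.lift (𝟙 F) (ρ g).hom) := by
      have := congrArg (· ≫ prod.fst) pbg.w
      simp only [Category.assoc] at this
      rw [hdf, hlf, Category.comp_id, Category.comp_id] at this
      exact this.symm
    have hsg : pullback.snd (Limits.diag F) (prod.lift (𝟙 F) (ρ g).hom) ≫ (ρ g).hom =
        pullback.snd (Limits.diag F) (prod.lift (𝟙 F) (ρ g).hom) := by
      have := congrArg (· ≫ prod.snd) pbg.w
      simp only [Category.assoc] at this
      rw [hds, hls, Category.comp_id] at this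
      rw [← this, hfs]
    set sg := pullback.snd (Limits.diag F) (prod.lift (𝟙 F) (ρ g).hom) with hsgdef
    have pb2 := IsPullback.of_hasPullback m sg
    have hfst : RepWith @IsClosedImmersion (pullback.fst m sg) :=
      MorphismProperty.of_isPullback (P := RepWith @IsClosedImmersion) pb2.flip hsnd
    refine ⟨pullback m sg, pullback.fst m sg ≫ m,
      (RepWith @IsClosedImmersion).comp_mem _ _ hfst hm, ?_, ?_⟩
    · intro g' hg'
      rcases List.mem_cons.1 hg' with rfl | hg'
      · rw [pb2.w, Category.assoc, hsg]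
      · rw [Category.assoc, hinv g' hg']
    · intro W x hx
      obtain ⟨z₁, hz₁⟩ := huniv W x fun g' hg' => hx g' (List.mem_cons_of_mem _ hg')
      have hxg := hx g (List.mem_cons_self)
      have hw : x ≫ Limits.diag F = x ≫ prod.lift (𝟙 F) (ρ g).hom := by
        apply Limits.prod.hom_ext
        · rw [Category.assoc, Category.assoc, hdf, hlf]
        · rw [Category.assoc, Category.assoc, hds, hls, Category.comp_id, hxg]
      have hz₂ : pullback.lift x x hw ≫ sg = x := pullback.lift_snd _ _ _
      refine ⟨pullback.lift z₁ (pullback.lift x x hw) (by rw [hz₁, hz₂]), ?_⟩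
      rw [← Category.assoc, pullback.lift_fst, hz₁]

/-- **Fixed points of a finite group** acting on a separated algebraic space form a closed
subspace. -/
theorem fixed_closed (F : Sp S) (hF : IsAlgSpace F) (hsep : IsSeparatedSp F) (G : Type u)
    [Group G] [Finite G] (ρ : G →* Aut F) (Z : Sp S) (i : Z ⟶ F)
    (hi : ∀ g : G, i ≫ (ρ g).hom = i)
    (huniv : ∀ (W : Sp S) (x : W ⟶ F), (∀ g : G, x ≫ (ρ g).hom = x) → ∃! z : W ⟶ Z, z ≫ i = x) :
    IsAlgSpace Z ∧ RepWith @IsClosedImmersion i := by
  obtain ⟨L, -, hL⟩ := Finite.exists_univ_list G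
  obtain ⟨E, m, hm, hinv, hE⟩ := exists_fixed_list F hsep ρ L
  haveI : Mono m := Groth.Agent.Lib.Helper62.mono_of_repWith @IsClosedImmersion
    (fun f hf => by haveI := hf; infer_instance) m hm
  obtain ⟨z, hz, -⟩ := huniv E m fun g => hinv g (hL g)
  obtain ⟨z', hz'⟩ := hE Z i fun g _ => hi g
  have h1 : z' ≫ z = 𝟙 Z := by
    refine (huniv Z i hi).unique ?_ (Category.id_comp _)
    rw [Category.assoc, hz, hz']
  have h2 : z ≫ z' = 𝟙 E := by
    rw [← cancel_mono m, Category.assoc, hz', hz, Category.id_comp]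
  haveI : IsIso z' := ⟨z, h1, h2⟩
  have hci : RepWith @IsClosedImmersion i := by
    rw [← hz']
    exact ((RepWith @IsClosedImmersion).cancel_left_of_respectsIso z' m).2 hm
  exact ⟨Groth.Agent.Lib.Helper23.ClosedDescent.isAlgSpace_of_representable i hci.rep hF, hci⟩

end Groth.Agent.Lib.Helper5.FixedClosed
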