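import Mathlib
import Groth.Prelude.Def_Magnet3
import Groth.Prelude.Def_Desc
import Groth.Agent.Lib.Helper5.DescAffineFppf
import Groth.Agent.Lib.Helper23.FppfDescent

/-!
# Descent of the fixed-point locus along a fixed-point-reflecting étale atlas (helper5)
-/

set_option autoImplicit false
universe u
open CategoryTheory CategoryTheory.Limits MonoidalCategory CartesianMonoidalCategory MonObj
  AlgebraicGeometry Opposite Desc
open Magnet

namespace Groth.Agent.Lib.Helper5.FixedDescent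

variable {S : Scheme.{u}} {A X U : Over S} [MonObj A] (aX : MonAct A X) (aU : MonAct A U)
  (f : U ⟶ X) (hf : MonAct.IsEquivariant aU aX f)

/-- the predicate "is a fixed point" -/
def IsFixed {Y : Over S} (a : MonAct A Y) {T : Over S} (x : T ⟶ Y) : Prop :=
  ∀ (T' : Over S) (t : T' ⟶ T) (g : T' ⟶ A), lift g (t ≫ x) ≫ a.act = t ≫ x

lemma IsFixed.comp {Y : Over S} {a : MonAct A Y} {T T₁ : Over S} {x : T ⟶ Y} (hx : IsFixed a x)
    (s : T₁ ⟶ T) : IsFixed a (s ≫ x) := by
  intro T' t g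
  rw [← Category.assoc]
  exact hx T' (t ≫ s) g

include hf in
lemma IsFixed.map {T : Over S} {u : T ⟶ U} (hu : IsFixed aU u) : IsFixed aX (u ≫ f) :=
  ((MonAct.fixedPsh.map f hf).app (op T) ⟨u, hu⟩).2

section fpr

variable (hfpr : IsPullback (MonAct.fixedPsh.map f hf) (MonAct.fixedPshι aU) (MonAct.fixedPshι aX)
  (yoneda.map f))

include hfpr in
/-- fixed-point reflection on points -/
lemma isFixed_of_map {T : Over S} (u : T ⟶ U) (hu : IsFixed aX (u ≫ f)) : IsFixed aU u := by
  let s₁ : yoneda.obj T ⟶ MonAct.fixedPsh aX := yonedaEquiv.symm ⟨u ≫ f, hu⟩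
  have hs : s₁ ≫ MonAct.fixedPshι aX = yoneda.map u ≫ yoneda.map f := by
    apply yonedaEquiv.injective
    rw [yonedaEquiv_comp, Equiv.apply_symm_apply, ← Functor.map_comp, yonedaEquiv_yoneda_map]
    rfl
  let l := hfpr.lift s₁ (yoneda.map u) hs
  have hl : l ≫ MonAct.fixedPshι aU = yoneda.map u := hfpr.lift_snd _ _ _
  have h2 := congrArg yonedaEquiv hl
  rw [yonedaEquiv_comp, yonedaEquiv_yoneda_map] at h2
  have h3 : (yonedaEquiv l).1 = u := h2
  rw [← h3]
  exact (yonedaEquiv l).2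

end fpr

section rep

variable {W' : Over S} (i' : W' ⟶ U) (e' : (MonAct.fixedPsh aU).RepresentableBy W')
  (he' : ∀ (T : Over S) (w : T ⟶ W'),
    (MonAct.fixedPshι aU).app (op T) (e'.homEquiv w) = w ≫ i')

include he' in
lemma isFixed_comp_i' {T : Over S} (w : T ⟶ W') : IsFixed aU (w ≫ i') := by
  rw [← he' T w]
  exact (e'.homEquiv w).2

include he' in
lemma exists_factor_of_isFixed {T : Over S} (u : T ⟶ U) (hu : IsFixed aU u) :
    ∃ w : T ⟶ W', w ≫ i' = u := by
  refine ⟨e'.homEquiv.symm ⟨u, hu⟩, ?_⟩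
  rw [← he' T, Equiv.apply_symm_apply]
  rfl

end rep

section dd

variable {S : Scheme.{u}} {A X U : Over S} [MonObj A] (aX : MonAct A X) (aU : MonAct A U)
  (f : U ⟶ X) (hf : MonAct.IsEquivariant aU aX f)
  (hfpr : IsPullback (MonAct.fixedPsh.map f hf) (MonAct.fixedPshι aU) (MonAct.fixedPshι aX)
    (yoneda.map f))
  {W' : Over S} (i' : W' ⟶ U) (e' : (MonAct.fixedPsh aU).RepresentableBy W')
  (he' : ∀ (T : Over S) (w : T ⟶ W'),
    (MonAct.fixedPshι aU).app (op T) (e'.homEquiv w) = w ≫ i')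

include hfpr he' in
/-- transport of lifts along the equivalence relation -/
lemma exists_lift {T : Scheme.{u}} (x₀ x₁ : T ⟶ U.left) (h : x₀ ≫ f.left = x₁ ≫ f.left)
    (v : T ⟶ W'.left) (hv : v ≫ i'.left = x₀) : ∃ v₁ : T ⟶ W'.left, v₁ ≫ i'.left = x₁ := by
  let T₀ : Over S := Over.mk (x₀ ≫ U.hom)
  have hW : v ≫ W'.hom = x₀ ≫ U.hom := by
    rw [← Over.w i', ← Category.assoc, hv]
  let vO : T₀ ⟶ W' := Over.homMk v hW
  have hU : x₁ ≫ U.hom = x₀ ≫ U.hom := by
    rw [← Over.w f, ← Category.assoc, ← h, Category.assoc]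
  let x₁O : T₀ ⟶ U := Over.homMk x₁ hU
  have e1 : x₁O ≫ f = (vO ≫ i') ≫ f := by
    ext1
    change x₁ ≫ f.left = (v ≫ i'.left) ≫ f.left
    rw [hv, h]
  have h1 : IsFixed aX (x₁O ≫ f) := by
    rw [e1]
    exact IsFixed.map aX aU f hf (isFixed_comp_i' aU i' e' he' vO)
  have h2 : IsFixed aU x₁O := isFixed_of_map aX aU f hf hfpr x₁O h1
  obtain ⟨w, hw⟩ := exists_factor_of_isFixed aU i' e' he' x₁O h2
  exact ⟨w.left, congrArg (fun m => m.left) hw⟩

/-- the transported lift -/
noncomputable def trLift {T : Scheme.{u}} (x₀ x₁ : T ⟶ U.left) (h : x₀ ≫ f.left = x₁ ≫ f.left)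
    (v : Lifts (Over.mk i'.left) x₀) : Lifts (Over.mk i'.left) x₁ :=
  ⟨(exists_lift aX aU f hf hfpr i' e' he' x₀ x₁ h v.1 v.2).choose,
    (exists_lift aX aU f hf hfpr i' e' he' x₀ x₁ h v.1 v.2).choose_spec⟩

variable [IsClosedImmersion i'.left]

omit [MonObj A] in
lemma lifts_ext {T : Scheme.{u}} {x : T ⟶ U.left} (v w : Lifts (Over.mk i'.left) x) : v = w :=
  Subtype.ext ((cancel_mono i'.left).1 (v.2.trans w.2.symm))

omit [MonObj A] in
lemma lifts_val_ext {T : Scheme.{u}} {x x' : T ⟶ U.left} (v : Lifts (Over.mk i'.left) x)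
    (w : Lifts (Over.mk i'.left) x') (h : x = x') : v.1 = w.1 :=
  (cancel_mono i'.left).1 (v.2.trans (h.trans w.2.symm))

/-- the descent datum on the fixed locus of `U` relative to `f` -/
noncomputable def descData : SchDD f.left where
  obj := Over.mk i'.left
  φ T x₀ x₁ h :=
    { toFun := trLift aX aU f hf hfpr i' e' he' x₀ x₁ h
      invFun := trLift aX aU f hf hfpr i' e' he' x₁ x₀ h.symm
      left_inv := fun v => lifts_ext i' _ _
      right_inv := fun v => lifts_ext i' _ _ }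
  φ_natural T T' g x₀ x₁ h h' v v' hv := by
    refine (cancel_mono i'.left).1 ?_
    refine (trLift aX aU f hf hfpr i' e' he' (g ≫ x₀) (g ≫ x₁) h' v').2.trans ?_
    rw [Category.assoc]
    exact (congrArg (fun m => g ≫ m) (trLift aX aU f hf hfpr i' e' he' x₀ x₁ h v).2).symm
  φ_self T x v := lifts_ext i' _ _
  φ_comp T x₀ x₁ x₂ h₀₁ h₁₂ v := lifts_ext i' _ _

end dd

section main

variable {S : Scheme.{u}} {A X U : Over S} [MonObj A] (aX : MonAct A X) (aU : MonAct A U)
  (f : U ⟶ X) (hf : MonAct.IsEquivariant aU aX f)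
  (hfpr : IsPullback (MonAct.fixedPsh.map f hf) (MonAct.fixedPshι aU) (MonAct.fixedPshι aX)
    (yoneda.map f))
  {W' : Over S} (i' : W' ⟶ U) (e' : (MonAct.fixedPsh aU).RepresentableBy W')
  (he' : ∀ (T : Over S) (w : T ⟶ W'),
    (MonAct.fixedPshι aU).app (op T) (e'.homEquiv w) = w ≫ i')
  [IsClosedImmersion i'.left]
  (W₀ : Over X.left) (θ : (toDD f.left).obj W₀ ≅ descData aX aU f hf hfpr i' e' he')

/-- the descended object over `S` -/
abbrev WW : Over S := Over.mk (W₀.hom ≫ X.hom)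

/-- its inclusion -/
def ii : WW W₀ ⟶ X := Over.homMk W₀.hom rfl

variable {aX aU f hf hfpr i' e' he' W₀}

/-- the comparison isomorphism -/
noncomputable abbrev kap : pullback f.left W₀.hom ⟶ W'.left := θ.hom.hom.left

/-- its inverse -/
noncomputable abbrev kapInv : W'.left ⟶ pullback f.left W₀.hom := θ.inv.hom.left

lemma kap_i' : kap θ ≫ i'.left = pullback.fst f.left W₀.hom := Over.w θ.hom.hom

lemma kapInv_fst : kapInv θ ≫ pullback.fst f.left W₀.hom = i'.left := Over.w θ.inv.hom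

lemma kap_kapInv : kap θ ≫ kapInv θ = 𝟙 _ := congrArg (fun m => m.hom.left) θ.hom_inv_id

lemma kapInv_kap : kapInv θ ≫ kap θ = 𝟙 _ := congrArg (fun m => m.hom.left) θ.inv_hom_id

variable [Etale f.left] [Surjective f.left]

include θ in
/-- the descended closed subscheme is fixed -/
lemma isFixed_ii : IsFixed aX (ii W₀) := by
  intro T' t g
  -- the cover of `T'`
  let c : pullback (pullback.snd f.left W₀.hom) t.left ⟶ T'.left := pullback.snd _ _
  haveI : Epi c := Flat.epi_of_flat_of_surjective c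
  let PO : Over S := Over.mk (c ≫ T'.hom)
  let cO : PO ⟶ T' := Over.homMk c rfl
  have key : ∀ m₁ m₂ : T' ⟶ X, cO ≫ m₁ = cO ≫ m₂ → m₁ = m₂ := fun m₁ m₂ h =>
    Over.OverMorphism.ext ((cancel_epi c).1 (congrArg (fun m => m.left) h))
  apply key
  have ht : t.left ≫ W₀.hom ≫ X.hom = T'.hom := Over.w t
  have hw' : (pullback.fst (pullback.snd f.left W₀.hom) t.left ≫ kap θ) ≫ W'.hom = c ≫ T'.hom := by
    rw [← Over.w i', ← Over.w f, ← ht]
    simp only [Category.assoc]
    rw [reassoc_of% (kap_i' θ), pullback.condition_assoc, pullback.condition_assoc]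
  let w' : PO ⟶ W' := Over.homMk (pullback.fst (pullback.snd f.left W₀.hom) t.left ≫ kap θ) hw'
  have e1 : cO ≫ t ≫ ii W₀ = (w' ≫ i') ≫ f := by
    ext1
    change c ≫ t.left ≫ W₀.hom =
      ((pullback.fst (pullback.snd f.left W₀.hom) t.left ≫ kap θ) ≫ i'.left) ≫ f.left
    simp only [Category.assoc]
    rw [reassoc_of% (kap_i' θ), pullback.condition, pullback.condition_assoc]
  have hfix : IsFixed aX ((w' ≫ i') ≫ f) :=
    IsFixed.map aX aU f hf (isFixed_comp_i' aU i' e' he' w')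
  have h1 := hfix PO (𝟙 _) (cO ≫ g)
  rw [Category.id_comp] at h1
  rw [comp_lift_assoc, e1]
  exact h1

include θ in
/-- the descended morphism is a closed immersion -/
lemma isClosedImmersion_hom : IsClosedImmersion W₀.hom := by
  have hsq : IsPullback (pullback.fst f.left W₀.hom) (pullback.snd f.left W₀.hom) f.left W₀.hom :=
    IsPullback.of_hasPullback _ _
  have h1 : IsClosedImmersion (pullback.fst f.left W₀.hom) := by
    rw [← kap_i' θ]
    haveI : IsIso (kap θ) := ⟨kapInv θ, kap_kapInv θ, kapInv_kap θ⟩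
    infer_instance
  exact MorphismProperty.of_isPullback_of_descendsAlong (P := @IsClosedImmersion)
    (Q := @Surjective ⊓ @Flat ⊓ @LocallyOfFinitePresentation) hsq
    ⟨⟨inferInstance, inferInstance⟩, inferInstance⟩ h1

include hfpr θ in
/-- a fixed point of `X` factors through the descended closed subscheme -/
lemma exists_factor {T : Over S} (x : T ⟶ X) (hx : IsFixed aX x) :
    ∃ w : T ⟶ WW W₀, w ≫ ii W₀ = x := by
  let c : pullback f.left x.left ⟶ T.left := pullback.snd _ _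
  let u : pullback f.left x.left ⟶ U.left := pullback.fst _ _
  haveI : Epi c := Flat.epi_of_flat_of_surjective c
  haveI : EffectiveEpi c := inferInstance
  haveI : IsClosedImmersion W₀.hom := isClosedImmersion_hom θ
  haveI : Mono W₀.hom := inferInstance
  let PO : Over S := Over.mk (c ≫ T.hom)
  let cO : PO ⟶ T := Over.homMk c rfl
  have hx' : x.left ≫ X.hom = T.hom := Over.w x
  have hu : u ≫ U.hom = c ≫ T.hom := by
    rw [← Over.w f, ← hx', pullback.condition_assoc]
  let uO : PO ⟶ U := Over.homMk u hu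
  have e1 : uO ≫ f = cO ≫ x := by
    ext1
    exact pullback.condition
  have h1 : IsFixed aX (uO ≫ f) := by
    rw [e1]
    exact hx.comp cO
  have h2 : IsFixed aU uO := isFixed_of_map aX aU f hf hfpr uO h1
  obtain ⟨w', hw'⟩ := exists_factor_of_isFixed aU i' e' he' uO h2
  have hw'l : w'.left ≫ i'.left = u := congrArg (fun m => m.left) hw'
  obtain ⟨y, hy⟩ : ∃ y : pullback f.left x.left ⟶ W₀.left, y ≫ W₀.hom = c ≫ x.left := by
    refine ⟨w'.left ≫ kapInv θ ≫ pullback.snd f.left W₀.hom, ?_⟩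
    simp only [Category.assoc]
    rw [← pullback.condition, reassoc_of% (kapInv_fst θ), reassoc_of% hw'l]
    exact pullback.condition
  have hcompat : ∀ {Z : Scheme.{u}} (g₁ g₂ : Z ⟶ pullback f.left x.left),
      g₁ ≫ c = g₂ ≫ c → g₁ ≫ y = g₂ ≫ y := by
    intro Z g₁ g₂ hg
    rw [← cancel_mono W₀.hom, Category.assoc, Category.assoc, hy, reassoc_of% hg]
  let w₀ : T.left ⟶ W₀.left := EffectiveEpi.desc c y hcompat
  have hw₀ : c ≫ w₀ = y := EffectiveEpi.fac c y hcompat
  have hw₀x : w₀ ≫ W₀.hom = x.left := by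
    rw [← cancel_epi c, reassoc_of% hw₀, hy]
  refine ⟨Over.homMk w₀ (by
    change w₀ ≫ W₀.hom ≫ X.hom = T.hom
    rw [reassoc_of% hw₀x, hx']), ?_⟩
  ext1
  exact hw₀x

variable (aX aU f hf)

/-- **Descent of the fixed locus along a fixed-point-reflecting étale atlas.** -/
theorem exists_fixed_rep
    (hfpr : IsPullback (MonAct.fixedPsh.map f hf) (MonAct.fixedPshι aU) (MonAct.fixedPshι aX)
      (yoneda.map f))
    (hU : ∃ (W' : Over S) (i' : W' ⟶ U) (e' : (MonAct.fixedPsh aU).RepresentableBy W'),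
      IsClosedImmersion i'.left ∧ ∀ (T : Over S) (w : T ⟶ W'),
        (MonAct.fixedPshι aU).app (op T) (e'.homEquiv w) = w ≫ i') :
    ∃ (W : Over S) (i : W ⟶ X) (e : (MonAct.fixedPsh aX).RepresentableBy W),
      IsClosedImmersion i.left ∧ ∀ (T : Over S) (w : T ⟶ W),
        (MonAct.fixedPshι aX).app (op T) (e.homEquiv w) = w ≫ i := by
  obtain ⟨W', i', e', hcl, he'⟩ := hU
  haveI := hcl
  haveI : IsAffineHom (descData aX aU f hf hfpr i' e' he').obj.hom :=
    inferInstanceAs (IsAffineHom i'.left)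
  obtain ⟨W₀, ⟨θ⟩⟩ := DescAffineFppf.effective_of_isAffineHom f.left
    (descData aX aU f hf hfpr i' e' he')
  haveI hclW : IsClosedImmersion W₀.hom := isClosedImmersion_hom θ
  have hinj : ∀ {T : Over S} (w₁ w₂ : T ⟶ WW W₀), w₁ ≫ ii W₀ = w₂ ≫ ii W₀ → w₁ = w₂ := by
    intro T w₁ w₂ h
    ext1
    exact (cancel_mono W₀.hom).1 (congrArg (fun m => m.left) h)
  refine ⟨WW W₀, ii W₀,
    { homEquiv := fun {T} => Equiv.ofBijective
        (fun w => (⟨w ≫ ii W₀, (isFixed_ii θ).comp w⟩ : (MonAct.fixedPsh aX).obj (op T)))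
        ⟨fun w₁ w₂ h => hinj w₁ w₂ (congrArg Subtype.val h), fun x => by
          obtain ⟨w, hw⟩ := exists_factor θ x.1 x.2
          exact ⟨w, Subtype.ext hw⟩⟩
      homEquiv_comp := fun {T T'} g w => Subtype.ext (Category.assoc _ _ _) },
    hclW, fun T w => rfl⟩

end main

end Groth.Agent.Lib.Helper5.FixedDescent
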