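import Mathlib.RingTheory.GradedAlgebra.Homogeneous.Maps
import Mathlib.RingTheory.GradedAlgebra.Basic
import Mathlib.RingTheory.Ideal.Quotient.Operations

set_option autoImplicit false
universe u
open DirectSum

namespace Groth.Agent.Lib.Helper5

section GradedQuotient

variable {ι : Type*} [DecidableEq ι] [AddMonoid ι]
variable {R A : Type*} [CommRing R] [CommRing A] [Algebra R A]
variable (𝒜 : ι → Submodule R A) [GradedAlgebra 𝒜] (I : Ideal A)

def quotGrading (i : ι) : Submodule R (A ⧸ I) :=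
  (𝒜 i).map (Ideal.Quotient.mkₐ R I).toLinearMap

theorem mk_mem_quotGrading {i : ι} {a : A} (ha : a ∈ 𝒜 i) :
    Ideal.Quotient.mk I a ∈ quotGrading 𝒜 I i :=
  ⟨a, ha, rfl⟩

theorem exists_of_mem_quotGrading {i : ι} {b : A ⧸ I} (hb : b ∈ quotGrading 𝒜 I i) :
    ∃ a ∈ 𝒜 i, Ideal.Quotient.mk I a = b := by
  obtain ⟨a, ha, rfl⟩ := hb
  exact ⟨a, ha, rfl⟩

instance quotGrading_gradedMonoid : SetLike.GradedMonoid (quotGrading 𝒜 I) where
  one_mem := ⟨1, SetLike.GradedOne.one_mem, map_one (Ideal.Quotient.mk I)⟩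
  mul_mem := by
    rintro i j _ _ ⟨a, ha, rfl⟩ ⟨b, hb, rfl⟩
    exact ⟨a * b, SetLike.GradedMul.mul_mem ha hb, map_mul (Ideal.Quotient.mk I) a b⟩

def quotGradingRestrict (i : ι) : 𝒜 i →ₗ[R] quotGrading 𝒜 I i :=
  ((Ideal.Quotient.mkₐ R I).toLinearMap.domRestrict (𝒜 i)).codRestrict _
    fun a => ⟨a, a.2, rfl⟩

@[simp] theorem coe_quotGradingRestrict (i : ι) (a : 𝒜 i) :
    ((quotGradingRestrict 𝒜 I i a : quotGrading 𝒜 I i) : A ⧸ I) = Ideal.Quotient.mk I (a : A) :=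
  rfl

noncomputable def quotDecomposeAux₀ : (⨁ i, 𝒜 i) →ₐ[R] ⨁ i, quotGrading 𝒜 I i :=
  DirectSum.toAlgebra R (fun i => 𝒜 i)
    (fun i => (DirectSum.lof R ι (fun i => quotGrading 𝒜 I i) i).comp (quotGradingRestrict 𝒜 I i))
    (by
      change DirectSum.of _ 0 _ = 1
      rfl)
    (by
      intro i j ai aj
      change DirectSum.of _ (i + j) _ = DirectSum.of _ i _ * DirectSum.of _ j _
      rw [DirectSum.of_mul_of]
      congr 1)

theorem quotDecomposeAux₀_of (i : ι) (x : 𝒜 i) :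
    quotDecomposeAux₀ 𝒜 I (DirectSum.of (fun i => 𝒜 i) i x) =
      DirectSum.of (fun i => quotGrading 𝒜 I i) i (quotGradingRestrict 𝒜 I i x) := by
  rw [quotDecomposeAux₀, DirectSum.toAlgebra_apply, DirectSum.toSemiring_of]
  rfl

noncomputable def quotDecomposeAux : A →ₐ[R] ⨁ i, quotGrading 𝒜 I i :=
  (quotDecomposeAux₀ 𝒜 I).comp (DirectSum.decomposeAlgEquiv 𝒜).toAlgHom

theorem quotDecomposeAux_of_mem {i : ι} {a : A} (ha : a ∈ 𝒜 i) :
    quotDecomposeAux 𝒜 I a =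
      DirectSum.of (fun i => quotGrading 𝒜 I i) i ⟨Ideal.Quotient.mk I a, mk_mem_quotGrading 𝒜 I ha⟩ := by
  change quotDecomposeAux₀ 𝒜 I (DirectSum.decompose 𝒜 a) = _
  rw [DirectSum.decompose_of_mem 𝒜 ha, quotDecomposeAux₀_of]
  rfl

variable {I}

theorem quotDecomposeAux_eq_zero (hI : I.IsHomogeneous 𝒜) {a : A} (ha : a ∈ I) :
    quotDecomposeAux 𝒜 I a = 0 := by
  classical
  rw [← DirectSum.sum_support_decompose 𝒜 a, map_sum]
  refine Finset.sum_eq_zero fun i _ => ?_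
  rw [quotDecomposeAux_of_mem 𝒜 I (SetLike.coe_mem _)]
  have : Ideal.Quotient.mk I (DirectSum.decompose 𝒜 a i : A) = 0 :=
    Ideal.Quotient.eq_zero_iff_mem.mpr (hI i ha)
  have h0 : (⟨Ideal.Quotient.mk I (DirectSum.decompose 𝒜 a i : A),
      mk_mem_quotGrading 𝒜 I (SetLike.coe_mem _)⟩ : quotGrading 𝒜 I i) = 0 :=
    Subtype.ext this
  rw [h0, map_zero]

noncomputable def quotDecompose (hI : I.IsHomogeneous 𝒜) : (A ⧸ I) →ₐ[R] ⨁ i, quotGrading 𝒜 I i :=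
  Ideal.Quotient.liftₐ I (quotDecomposeAux 𝒜 I) fun _ ha => quotDecomposeAux_eq_zero 𝒜 hI ha

theorem quotDecompose_mk (hI : I.IsHomogeneous 𝒜) (a : A) :
    quotDecompose 𝒜 hI (Ideal.Quotient.mk I a) = quotDecomposeAux 𝒜 I a :=
  rfl

@[reducible] noncomputable def quotGradedAlgebra (hI : I.IsHomogeneous 𝒜) : GradedAlgebra (quotGrading 𝒜 I) :=
  GradedAlgebra.ofAlgHom (quotGrading 𝒜 I) (quotDecompose 𝒜 hI)
    (by
      apply Ideal.Quotient.algHom_ext
      ext a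
      change DirectSum.coeAlgHom (quotGrading 𝒜 I) (quotDecomposeAux 𝒜 I a) = Ideal.Quotient.mk I a
      classical
      rw [← DirectSum.sum_support_decompose 𝒜 a, map_sum, map_sum, map_sum]
      refine Finset.sum_congr rfl fun i _ => ?_
      rw [quotDecomposeAux_of_mem 𝒜 I (SetLike.coe_mem _), DirectSum.coeAlgHom_of])
    (by
      rintro i ⟨b, hb⟩
      obtain ⟨a, ha, rfl⟩ := exists_of_mem_quotGrading 𝒜 I hb
      exact quotDecomposeAux_of_mem 𝒜 I ha)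

def quotGradedRingHom (hI : I.IsHomogeneous 𝒜) :
    letI := quotGradedAlgebra 𝒜 hI
    𝒜 →+*ᵍ quotGrading 𝒜 I :=
  letI := quotGradedAlgebra 𝒜 hI
  { toRingHom := Ideal.Quotient.mk I
    map_mem := fun hx => mk_mem_quotGrading 𝒜 I hx }

end GradedQuotient

end Groth.Agent.Lib.Helper5
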