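import Mathlib
import Groth.Prelude.Def_AlgSpGpd
import Groth.Agent.Lib.Helper5.SheafQuot

/-!
# T-point calculus for actions of group sheaves over a base sheaf (helper5)
-/

set_option autoImplicit false
universe u
open CategoryTheory CategoryTheory.Limits AlgebraicGeometry Opposite MonoidalCategory CartesianMonoidalCategory MonObj

namespace Groth.Agent.Lib.Helper5.GroupAct
open AlgSp

variable {S : Scheme.{u}} {B : Sp S} {G X : Over B} [GrpObj G] (a : GAction G X)

/-- The action on `T`-points. -/
noncomputable def smul {T : Over B} (g : T ⟶ G) (x : T ⟶ X) : T ⟶ X := lift g x ≫ a.act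

theorem one_smul {T : Over B} (x : T ⟶ X) : smul a (1 : T ⟶ G) x = x := by
  unfold smul
  rw [Hom.one_def]
  have h1 : lift (toUnit T ≫ η[G]) x = lift (toUnit T) x ≫ (η[G] ▷ X) := by
    apply CartesianMonoidalCategory.hom_ext <;> simp
  rw [h1, Category.assoc, a.one_act]
  simp

theorem mul_smul {T : Over B} (g h : T ⟶ G) (x : T ⟶ X) :
    smul a (g * h) x = smul a g (smul a h x) := by
  unfold smul
  rw [Hom.mul_def]
  have h1 : lift (lift g h ≫ μ[G]) x = lift (lift g h) x ≫ (μ[G] ▷ X) := by
    apply CartesianMonoidalCategory.hom_ext <;> simp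
  rw [h1, Category.assoc, a.mul_act]
  have h2 : lift (lift g h) x ≫ (α_ G G X).hom ≫ (G ◁ a.act) = lift g (lift h x ≫ a.act) := by
    apply CartesianMonoidalCategory.hom_ext <;> simp
  rw [← Category.assoc, ← Category.assoc, Category.assoc _ (α_ G G X).hom, h2]

theorem mono_of_free (ha : a.IsFree) : Mono (lift a.act (snd G X)).left := by
  apply Groth.Agent.Lib.Helper5.SheafQuot.mono_of_yon_cancel
  intro T p q hpq
  let β : (yon S).obj T ⟶ B := p ≫ (G ⊗ X).hom
  have hβq : q ≫ (G ⊗ X).hom = β := by
    have := Over.w (lift a.act (snd G X))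
    rw [← this, ← Category.assoc, ← hpq, Category.assoc, this]
  let p' : Over.mk β ⟶ G ⊗ X := Over.homMk p rfl
  let q' : Over.mk β ⟶ G ⊗ X := Over.homMk q hβq
  have hpq' : p' ≫ lift a.act (snd G X) = q' ≫ lift a.act (snd G X) := by
    apply Over.OverMorphism.ext
    exact hpq
  have hx : p' ≫ snd G X = q' ≫ snd G X := by
    have := congrArg (· ≫ snd X X) hpq'
    simpa only [Category.assoc, lift_snd] using this
  have hp' : p' = lift (p' ≫ fst G X) (p' ≫ snd G X) := by
    apply CartesianMonoidalCategory.hom_ext <;> simp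
  have hq' : q' = lift (q' ≫ fst G X) (q' ≫ snd G X) := by
    apply CartesianMonoidalCategory.hom_ext <;> simp
  have hact : smul a (p' ≫ fst G X) (p' ≫ snd G X) = smul a (q' ≫ fst G X) (q' ≫ snd G X) := by
    have := congrArg (· ≫ fst X X) hpq'
    simp only [Category.assoc, lift_fst] at this
    unfold smul
    rw [← hp', ← hq']
    exact this
  have hfix : smul a ((q' ≫ fst G X)⁻¹ * (p' ≫ fst G X)) (p' ≫ snd G X) = p' ≫ snd G X := by
    rw [mul_smul, hact, ← mul_smul, inv_mul_cancel, one_smul, hx]
  have h1 := ha β _ _ hfix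
  have hg : p' ≫ fst G X = q' ≫ fst G X := by
    rw [← Hom.one_def] at h1
    exact (inv_mul_eq_one.1 h1).symm
  have h2 : p' = q' := CartesianMonoidalCategory.hom_ext _ _ hg hx
  exact congrArg (fun z => z.left) h2

end Groth.Agent.Lib.Helper5.GroupAct
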