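import Mathlib
import Groth.Prelude.Def_AlgSpGpd
import Groth.Agent.Lib.Helper46.LocPChart
import Groth.Agent.Lib.Helper30.EtLocalInst
import Groth.Agent.Lib.Helper23.AlgSpMor4

/-!
# Restriction of a groupoid in algebraic spaces: properties of `s'`, `t'` (helper5)

`s' : R' ⟶ U'` is the composite of a base change of `g : U' ⟶ U` and a base change of `s`.
-/

set_option autoImplicit false
universe u
open CategoryTheory CategoryTheory.Limits AlgebraicGeometry
open AlgSp AlgSp.GroupoidSp

namespace Groth.Agent.Lib.Helper5.GroupoidRestr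

open Groth.Agent.Lib.Helper46 Groth.Agent.Lib.Helper46.LocPChart

variable {S : Scheme.{u}} {B : AlgSp.Sp S} {G G' : AlgSp.GroupoidSp B} (φ : AlgSp.GroupoidSp.Hom G' G)

/-- The square exhibiting `R' ⟶ R ×_{s,U} U'` as a base change of `g`. -/
theorem isPullback_s (hφ : φ.IsRestriction) :
    IsPullback G'.t (pullback.lift φ.fR G'.s φ.comm_s : G'.R ⟶ pullback G.s φ.fU) φ.fU
      (pullback.fst G.s φ.fU ≫ G.t) := by
  have key : ∀ {T : AlgSp.Sp S} (a : T ⟶ G'.U) (m : T ⟶ pullback G.s φ.fU)
      (h : a ≫ φ.fU = m ≫ pullback.fst G.s φ.fU ≫ G.t),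
      ∃ ρ : T ⟶ G'.R, ρ ≫ φ.fR = m ≫ pullback.fst _ _ ∧ ρ ≫ G'.t = a ∧
        ρ ≫ G'.s = m ≫ pullback.snd _ _ := by
    intro T a m h
    have h1 : a ≫ G'.pU = (m ≫ pullback.snd _ _) ≫ G'.pU := by
      rw [← φ.fU_over, ← Category.assoc, h]
      have hc := pullback.condition (f := G.s) (g := φ.fU)
      simp only [Category.assoc, G.t_over]
      rw [← reassoc_of% hc, G.s_over]
    have h2 : (m ≫ pullback.fst _ _) ≫ G.j =
        pullback.lift a (m ≫ pullback.snd _ _) h1 ≫ φ.prodMap := by
      apply pullback.hom_ext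
      · simp only [Category.assoc, G.j_fst, Hom.prodMap, pullback.lift_fst_assoc, pullback.map,
          pullback.lift_fst]
        exact h.symm
      · simp only [Category.assoc, G.j_snd, Hom.prodMap, pullback.lift_snd_assoc, pullback.map,
          pullback.lift_snd]
        rw [pullback.condition]
    refine ⟨hφ.lift _ _ h2, hφ.lift_fst _ _ h2, ?_, ?_⟩
    · have := congrArg (· ≫ pullback.fst _ _) (hφ.lift_snd _ _ h2)
      simpa only [Category.assoc, G'.j_fst, pullback.lift_fst] using this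
    · have := congrArg (· ≫ pullback.snd _ _) (hφ.lift_snd _ _ h2)
      simpa only [Category.assoc, G'.j_snd, pullback.lift_snd] using this
  refine IsPullback.mk ⟨?_⟩ ⟨PullbackCone.IsLimit.mk _ (fun c => (key c.fst c.snd c.condition).choose)
    (fun c => ?_) (fun c => ?_) (fun c m h1 h2 => ?_)⟩
  · rw [← Category.assoc, pullback.lift_fst, φ.comm_t]
  · exact (key c.fst c.snd c.condition).choose_spec.2.1
  · obtain ⟨e1, e2, e3⟩ := (key c.fst c.snd c.condition).choose_spec
    apply pullback.hom_ext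
    · rw [Category.assoc, pullback.lift_fst, e1]
    · rw [Category.assoc, pullback.lift_snd, e3]
  · obtain ⟨e1, e2, e3⟩ := (key c.fst c.snd c.condition).choose_spec
    apply hφ.hom_ext
    · rw [e1, ← h2, Category.assoc, pullback.lift_fst]
    · apply pullback.hom_ext
      · rw [Category.assoc, Category.assoc, G'.j_fst, h1, e2]
      · rw [Category.assoc, Category.assoc, G'.j_snd, e3, ← h2, Category.assoc, pullback.lift_snd]

/-- The square exhibiting `R' ⟶ R ×_{t,U} U'` as a base change of `g`. -/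
theorem isPullback_t (hφ : φ.IsRestriction) :
    IsPullback G'.s (pullback.lift φ.fR G'.t φ.comm_t : G'.R ⟶ pullback G.t φ.fU) φ.fU
      (pullback.fst G.t φ.fU ≫ G.s) := by
  have key : ∀ {T : AlgSp.Sp S} (a : T ⟶ G'.U) (m : T ⟶ pullback G.t φ.fU)
      (h : a ≫ φ.fU = m ≫ pullback.fst G.t φ.fU ≫ G.s),
      ∃ ρ : T ⟶ G'.R, ρ ≫ φ.fR = m ≫ pullback.fst _ _ ∧ ρ ≫ G'.s = a ∧
        ρ ≫ G'.t = m ≫ pullback.snd _ _ := by
    intro T a m h
    have h1 : (m ≫ pullback.snd _ _) ≫ G'.pU = a ≫ G'.pU := by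
      rw [← φ.fU_over, ← Category.assoc a, h]
      have hc := pullback.condition (f := G.t) (g := φ.fU)
      simp only [Category.assoc, G.s_over]
      rw [← reassoc_of% hc, G.t_over]
    have h2 : (m ≫ pullback.fst _ _) ≫ G.j =
        pullback.lift (m ≫ pullback.snd _ _) a h1 ≫ φ.prodMap := by
      apply pullback.hom_ext
      · simp only [Category.assoc, G.j_fst, Hom.prodMap, pullback.lift_fst_assoc, pullback.map,
          pullback.lift_fst]
        rw [pullback.condition]
      · simp only [Category.assoc, G.j_snd, Hom.prodMap, pullback.lift_snd_assoc, pullback.map,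
          pullback.lift_snd]
        exact h.symm
    refine ⟨hφ.lift _ _ h2, hφ.lift_fst _ _ h2, ?_, ?_⟩
    · have := congrArg (· ≫ pullback.snd _ _) (hφ.lift_snd _ _ h2)
      simpa only [Category.assoc, G'.j_snd, pullback.lift_snd] using this
    · have := congrArg (· ≫ pullback.fst _ _) (hφ.lift_snd _ _ h2)
      simpa only [Category.assoc, G'.j_fst, pullback.lift_fst] using this
  refine IsPullback.mk ⟨?_⟩ ⟨PullbackCone.IsLimit.mk _ (fun c => (key c.fst c.snd c.condition).choose)
    (fun c => ?_) (fun c => ?_) (fun c m h1 h2 => ?_)⟩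
  · rw [← Category.assoc, pullback.lift_fst, φ.comm_s]
  · exact (key c.fst c.snd c.condition).choose_spec.2.1
  · obtain ⟨e1, e2, e3⟩ := (key c.fst c.snd c.condition).choose_spec
    apply pullback.hom_ext
    · rw [Category.assoc, pullback.lift_fst, e1]
    · rw [Category.assoc, pullback.lift_snd, e3]
  · obtain ⟨e1, e2, e3⟩ := (key c.fst c.snd c.condition).choose_spec
    apply hφ.hom_ext
    · rw [e1, ← h2, Category.assoc, pullback.lift_fst]
    · apply pullback.hom_ext
      · rw [Category.assoc, Category.assoc, G'.j_fst, e3, ← h2, Category.assoc, pullback.lift_snd]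
      · rw [Category.assoc, Category.assoc, G'.j_snd, h1, e2]

theorem main {Q : MorphismProperty Scheme.{u}} (hQ : EtLocal Q) [Q.IsStableUnderComposition]
    (hB : AlgSp.IsAlgSpace B)
    (hU : AlgSp.IsAlgSpace G.U) (hR : AlgSp.IsAlgSpace G.R)
    (hU' : AlgSp.IsAlgSpace G'.U) (hR' : AlgSp.IsAlgSpace G'.R)
    (hφ : φ.IsRestriction) (hs : AlgSp.LocP Q G.s) (ht : AlgSp.LocP Q G.t)
    (hg : AlgSp.LocP Q φ.fU) : AlgSp.LocP Q G'.s ∧ AlgSp.LocP Q G'.t := by
  have hM : IsAlgSpace (pullback G.s φ.fU) :=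
    Groth.Agent.Lib.Helper23.AlgSpMor.isAlgSpace_of_isPullback hR hU' hU.diag (IsPullback.of_hasPullback _ _)
  have hM' : IsAlgSpace (pullback G.t φ.fU) :=
    Groth.Agent.Lib.Helper23.AlgSpMor.isAlgSpace_of_isPullback hR hU' hU.diag (IsPullback.of_hasPullback _ _)
  constructor
  · have h1 : LocP Q (pullback.snd G.s φ.fU) :=
      locP_of_isPullback hQ hR hU hM hU' (IsPullback.of_hasPullback G.s φ.fU) hs
    have h2 : LocP Q (pullback.lift φ.fR G'.s φ.comm_s : G'.R ⟶ pullback G.s φ.fU) :=
      locP_of_isPullback hQ hU' hU hR' hM (isPullback_s φ hφ) hg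
    have := locP_comp hQ hR' hM hU' _ _ h2 h1
    rwa [pullback.lift_snd] at this
  · have h1 : LocP Q (pullback.snd G.t φ.fU) :=
      locP_of_isPullback hQ hR hU hM' hU' (IsPullback.of_hasPullback G.t φ.fU) ht
    have h2 : LocP Q (pullback.lift φ.fR G'.t φ.comm_t : G'.R ⟶ pullback G.t φ.fU) :=
      locP_of_isPullback hQ hU' hU hR' hM' (isPullback_t φ hφ) hg
    have := locP_comp hQ hR' hM' hU' _ _ h2 h1
    rwa [pullback.lift_snd] at this

end Groth.Agent.Lib.Helper5.GroupoidRestr
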