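import Mathlib
import Groth.Prelude.Def_AlgSpCov
import Groth.Agent.Lib.Helper5.WidePB
import Groth.Agent.Lib.Helper5.FieldBase
import Groth.Agent.Lib.Helper23.AlgSpNoeth2
import Groth.Agent.Lib.Helper46.LocPChart
import Groth.Agent.Lib.Helper30.EtLocalInst
import Groth.Agent.S9961
import Groth.Agent.Lib.Helper46.IsoFpqc
import Groth.Agent.Lib.Helper37.AlgSpPoints

/-!
# The induction principle for algebraic spaces (helper5)

Iterated fibre products of covers by representable maps from schemes are schemes; three levels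
(affine, separated schemes, schemes, algebraic spaces).
-/

set_option autoImplicit false
universe u
open CategoryTheory CategoryTheory.Limits AlgebraicGeometry Opposite

namespace Groth.Agent.Lib.Helper5.InductionPrinciple

open AlgSp Groth.Agent.Lib.Helper5.WidePB Groth.Agent.Lib.Helper46 Groth.Agent.Lib.Helper46.LocPChart
  Groth.Agent.Lib.Helper23.AlgSpMor

variable {S : Scheme.{u}}

/-- Iterated fibre products of a cover by representable morphisms from schemes are schemes. -/
theorem exists_rep_widePB (Q : MorphismProperty Scheme.{u}) (hQfl : Q ≤ @Flat)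
    (hQfp : Q ≤ @LocallyOfFinitePresentation) (ℬ : Over S → Prop)
    (hℬ : ∀ ⦃T T' : Over S⦄ (f : T' ⟶ T), Q f.left → ℬ T → ℬ T')
    {U : Sp S} (hU : IsAlgSpace U) {ι : Type u} (Ui : ι → Sp S) (g : ∀ i, Ui i ⟶ U)
    (hg : ∀ i, RepWith Q (g i)) (Ti : ι → Over S) (e : ∀ i, Ui i ≅ (yon S).obj (Ti i))
    (hTi : ∀ i, ℬ (Ti i)) (n : ℕ) (c : Fin (n + 1) → ι) :
    ∃ (T : Over S) (b : (yon S).obj T ⟶ U) (π : ∀ k, (yon S).obj T ⟶ Ui (c k)),
      IsWidePB (fun k => g (c k)) b π ∧ ℬ T ∧ LocP @Flat b ∧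
        LocP @LocallyOfFinitePresentation b := by
  have hgfl : ∀ i, LocP @Flat (g i) := fun i =>
    Groth.Agent.S9961.locP_of_repWith etLocal_flat hQfl hU (g i) (hg i)
  have hgfp : ∀ i, LocP @LocallyOfFinitePresentation (g i) := fun i =>
    Groth.Agent.S9961.locP_of_repWith Groth.Agent.Lib.Helper30.EtLocalInst.etLocal_lfp hQfp hU
      (g i) (hg i)
  induction n with
  | zero =>
    refine ⟨Ti (c (Fin.last 0)), (e (c (Fin.last 0))).inv ≫ g (c (Fin.last 0)),
      Fin.lastCases (motive := fun k => (yon S).obj (Ti (c (Fin.last 0))) ⟶ Ui (c k))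
        (e (c (Fin.last 0))).inv (fun k => k.elim0), ?_, hTi _, ?_, ?_⟩
    · haveI : IsIso (Fin.lastCases (motive := fun k => (yon S).obj (Ti (c (Fin.last 0))) ⟶ Ui (c k))
          (e (c (Fin.last 0))).inv (fun k => k.elim0) (Fin.last 0)) := by
        rw [Fin.lastCases_last]
        infer_instance
      refine isWidePB_one _ _ _ ?_
      intro k
      obtain rfl : k = Fin.last 0 := Subsingleton.elim _ _
      rw [Fin.lastCases_last]
    · exact FieldBase.locP_iso_comp (e (c (Fin.last 0))).symm _ (hgfl _)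
    · exact FieldBase.locP_iso_comp (e (c (Fin.last 0))).symm _ (hgfp _)
  | succ n ih =>
    obtain ⟨T', b', π', h', hℬ', hfl', hfp'⟩ := ih (fun k => c k.castSucc)
    have hrep := (hg (c (Fin.last (n + 1)))).rep
    have sq := hrep.isPullback b'
    have hQf : Q (hrep.snd b').left := (hg (c (Fin.last (n + 1)))).property_snd b'
    refine ⟨hrep.pullback b', (yon S).map (hrep.snd b') ≫ b',
      Fin.lastCases (motive := fun k => (yon S).obj (hrep.pullback b') ⟶ Ui (c k))
        (hrep.fst b') (fun k => (yon S).map (hrep.snd b') ≫ π' k), ?_, hℬ _ hQf hℬ', ?_, ?_⟩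
    · exact isWidePB_succ (fun k => g (c k)) b' π' h' ((yon S).map (hrep.snd b')) (hrep.fst b') sq
    · exact locP_comp etLocal_flat (IsAlgSpace.yon_obj _) (IsAlgSpace.yon_obj _) hU _ _
        (locP_yon_map_of etLocal_flat _ (hQfl _ hQf)) hfl'
    · exact locP_comp Groth.Agent.Lib.Helper30.EtLocalInst.etLocal_lfp (IsAlgSpace.yon_obj _)
        (IsAlgSpace.yon_obj _) hU _ _
        (locP_yon_map_of Groth.Agent.Lib.Helper30.EtLocalInst.etLocal_lfp _ (hQfp _ hQf)) hfp'

/-- The affine open cover of a scheme, as a cover of a sheaf isomorphic to it. -/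
theorem exists_affine_cover {U : Sp S} (T : Over S) (e : U ≅ (yon S).obj T) :
    ∃ (ι : Type u) (Ti : ι → Over S) (j : ∀ i, Ti i ⟶ T), (∀ i, IsAffine (Ti i).left) ∧
      (∀ i, IsOpenImmersion (j i).left) ∧
      ∀ x : Points U, ∃ i, x ∈ Set.range (Points.map ((yon S).map (j i) ≫ e.inv)) := by
  let 𝒰 := T.left.affineCover
  refine ⟨𝒰.I₀, fun i => Over.mk (𝒰.f i ≫ T.hom), fun i => Over.homMk (𝒰.f i) rfl,
    fun i => by dsimp; infer_instance,
    fun i => by change IsOpenImmersion (𝒰.f i); infer_instance, ?_⟩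
  intro x
  obtain ⟨t, ht⟩ := (Points.schemeEquiv T).surjective (Points.map e.hom x)
  obtain ⟨i, y, hy⟩ := 𝒰.exists_eq t
  refine ⟨i, Points.ofScheme _ y, ?_⟩
  rw [Points.map_ofPt, Category.id_comp, ← Points.map_ofPt,
    Groth.Agent.Lib.Helper37.AlgSpPoints.ofPt_yon_map]
  have h1 : Points.ofScheme T ((Over.homMk (𝒰.f i) rfl : Over.mk (𝒰.f i ≫ T.hom) ⟶ T).left y) =
      Points.map e.hom x := by
    rw [← ht]
    change Points.ofScheme T (𝒰.f i y) = _
    rw [hy]
    rfl
  rw [h1, ← Points.map_comp, e.hom_inv_id, Points.map_id]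

section Main

variable {X : Sp S}
  (P : ∀ ⦃U : Sp S⦄, (U ⟶ X) → Prop)
  (hP : ∀ ⦃U : Sp S⦄ (a : U ⟶ X), IsAlgSpace U →
    ∀ ⦃ι : Type u⦄ (Ui : ι → Sp S) (g : ∀ i, Ui i ⟶ U), (∀ i, IsAlgSpace (Ui i)) →
    IsFppfCover Ui g →
    (∀ (n : ℕ) (c : Fin (n + 1) → ι),
      P (WidePullback.base (fun k : Fin (n + 1) => g (c k)) ≫ a)) → P a)

include hP in
/-- One level of the induction principle. -/
theorem ind_step (hX : IsAlgSpace X) (Q : MorphismProperty Scheme.{u}) (hQfl : Q ≤ @Flat)
    (hQfp : Q ≤ @LocallyOfFinitePresentation) (ℬ : Over S → Prop)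
    (hℬ : ∀ ⦃T T' : Over S⦄ (f : T' ⟶ T), Q f.left → ℬ T → ℬ T')
    (Hℬ : ∀ ⦃W : Sp S⦄ (b : W ⟶ X) (T : Over S) (_ : W ≅ (yon S).obj T), ℬ T →
      LocP @Flat b → LocP @LocallyOfFinitePresentation b → P b)
    {U : Sp S} (a : U ⟶ X) (hU : IsAlgSpace U) (ha1 : LocP @Flat a)
    (ha2 : LocP @LocallyOfFinitePresentation a) {ι : Type u} (Ui : ι → Sp S) (g : ∀ i, Ui i ⟶ U)
    (hg : ∀ i, RepWith Q (g i)) (Ti : ι → Over S) (e : ∀ i, Ui i ≅ (yon S).obj (Ti i))
    (hTi : ∀ i, ℬ (Ti i)) (hsurj : ∀ x : Points U, ∃ i, x ∈ Set.range (Points.map (g i))) :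
    P a := by
  have hUi : ∀ i, IsAlgSpace (Ui i) := fun i => (IsAlgSpace.yon_obj _).of_iso (e i).symm
  refine hP a hU Ui g hUi ⟨fun i => ⟨?_, ?_⟩, hsurj⟩ ?_
  · exact Groth.Agent.S9961.locP_of_repWith etLocal_flat hQfl hU (g i) (hg i)
  · exact Groth.Agent.S9961.locP_of_repWith Groth.Agent.Lib.Helper30.EtLocalInst.etLocal_lfp hQfp hU
      (g i) (hg i)
  · intro n c
    obtain ⟨T, b, π, hW, hℬT, hfl, hfp⟩ :=
      exists_rep_widePB Q hQfl hQfp ℬ hℬ hU Ui g hg Ti e hTi n c
    obtain ⟨ε, hε, -⟩ := hW.exists_iso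
    rw [← hε, Category.assoc]
    refine Hℬ _ T ε hℬT ?_ ?_
    · exact FieldBase.locP_iso_comp ε _
        (locP_comp etLocal_flat (IsAlgSpace.yon_obj _) hU hX _ _ hfl ha1)
    · exact FieldBase.locP_iso_comp ε _
        (locP_comp Groth.Agent.Lib.Helper30.EtLocalInst.etLocal_lfp (IsAlgSpace.yon_obj _) hU hX _ _
          hfp ha2)

include hP in
/-- **The induction principle.** -/
theorem induction_principle (hX : IsAlgSpace X)
    (haff : ∀ ⦃U : Sp S⦄ (a : U ⟶ X) (T : Over S) (_ : U ≅ (yon S).obj T), IsAffine T.left →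
      LocP @Flat a → LocP @LocallyOfFinitePresentation a → P a) :
    P (𝟙 X) := by
  -- separated schemes
  have H1 : ∀ ⦃W : Sp S⦄ (b : W ⟶ X) (T : Over S) (_ : W ≅ (yon S).obj T), T.left.IsSeparated →
      LocP @Flat b → LocP @LocallyOfFinitePresentation b → P b := by
    intro W b T e hT hb1 hb2
    obtain ⟨ι, Ti, j, hTi, hj, hsurj⟩ := exists_affine_cover T e
    refine ind_step P hP hX (@IsOpenImmersion ⊓ @IsAffineHom) ?_ ?_ (fun T => IsAffine T.left) ?_
      haff b ((IsAlgSpace.yon_obj T).of_iso e.symm) hb1 hb2 (fun i => (yon S).obj (Ti i))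
      (fun i => (yon S).map (j i) ≫ e.inv) ?_ Ti (fun i => Iso.refl _) hTi hsurj
    · intro A B f hf
      have := hf.1
      exact (inferInstance : Flat f)
    · intro A B f hf
      have := hf.1
      exact (inferInstance : LocallyOfFinitePresentation f)
    · intro A B f hf hA
      have : IsAffineHom f.left := hf.2
      have : IsAffine A.left := hA
      exact isAffine_of_isAffineHom f.left
    · intro i
      refine MorphismProperty.RespectsIso.postcomp _ e.inv _ ?_
      rw [repWith_yon_map_iff]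
      refine ⟨hj i, ?_⟩
      have := hTi i
      have : IsAffineHom ((j i).left ≫ terminal.from T.left) := inferInstance
      exact IsAffineHom.of_comp (f := (j i).left) (g := terminal.from T.left)
  -- all schemes
  have H2 : ∀ ⦃W : Sp S⦄ (b : W ⟶ X) (T : Over S) (_ : W ≅ (yon S).obj T), True →
      LocP @Flat b → LocP @LocallyOfFinitePresentation b → P b := by
    intro W b T e _ hb1 hb2
    obtain ⟨ι, Ti, j, hTi, hj, hsurj⟩ := exists_affine_cover T e
    refine ind_step P hP hX @IsOpenImmersion ?_ ?_ (fun T => T.left.IsSeparated) ?_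
      H1 b ((IsAlgSpace.yon_obj T).of_iso e.symm) hb1 hb2 (fun i => (yon S).obj (Ti i))
      (fun i => (yon S).map (j i) ≫ e.inv) ?_ Ti (fun i => Iso.refl _)
      (fun i => by have := hTi i; infer_instance) hsurj
    · intro A B f hf
      have : IsOpenImmersion f := hf
      exact (inferInstance : Flat f)
    · intro A B f hf
      have : IsOpenImmersion f := hf
      exact (inferInstance : LocallyOfFinitePresentation f)
    · intro A B f hf hA
      have : IsOpenImmersion f.left := hf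
      have : A.left.IsSeparated := hA
      rw [Scheme.isSeparated_iff, ← terminal.comp_from f.left]
      infer_instance
    · intro i
      refine MorphismProperty.RespectsIso.postcomp _ e.inv _ ?_
      rw [repWith_yon_map_iff]
      exact hj i
  -- the algebraic space
  obtain ⟨V, p, hpe, hps⟩ := hX.atlas
  refine ind_step P hP hX @Etale ?_ ?_ (fun _ => True) (fun _ _ _ _ _ => trivial)
    H2 (𝟙 X) hX ?_ ?_ (fun _ : PUnit.{u + 1} => (yon S).obj V)
    (fun _ => p) (fun _ => hpe) (fun _ => V) (fun _ => Iso.refl _) (fun _ => trivial) ?_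
  · intro A B f hf
    have : Etale f := hf
    exact (inferInstance : Flat f)
  · intro A B f hf
    have : Etale f := hf
    exact (inferInstance : LocallyOfFinitePresentation f)
  · exact Groth.Agent.Lib.Helper46.IsoFpqc.locP_of_isIso @Flat
      (fun h hh => by have := hh; infer_instance) (𝟙 X)
  · exact Groth.Agent.Lib.Helper46.IsoFpqc.locP_of_isIso @LocallyOfFinitePresentation
      (fun h hh => by have := hh; infer_instance) (𝟙 X)
  · intro x
    obtain ⟨v, hv⟩ := Groth.Agent.Lib.Helper37.AlgSpPoints.ofPt_surjective p hps x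
    refine ⟨PUnit.unit, Points.ofScheme V v, ?_⟩
    rw [Points.map_ofPt, Category.id_comp, hv]

end Main

end Groth.Agent.Lib.Helper5.InductionPrinciple
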