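import Groth.Agent.Lib.Helper5.DSPts
import Groth.Agent.Lib.Helper5.TorsorExact
import Mathlib.RingTheory.AdjoinRoot
import Mathlib.Data.ZMod.Basic
import Mathlib.RingTheory.RingHom.FaithfullyFlat

/-! # The Kummer sequence is exact (helper5) -/

set_option autoImplicit false
universe u

open CategoryTheory CategoryTheory.Limits MonoidalCategory CartesianMonoidalCategory MonObj GrpObj
  AlgebraicGeometry

noncomputable section

namespace Groth.Agent.Lib.Helper5.Kummer

open Groth.Agent.Lib.Helper5.DSPts Groth.Agent.Lib.Helper5.TorsorExact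
  Groth.Agent.Lib.Helper5.TorsorPush

variable {S : Scheme.{u}}

instance isMonHom_DSmap {M N : Type} [AddCommGroup M] [AddCommGroup N] (φ : M →+ N) :
    IsMonHom (Red.DSmap S φ) :=
  isMonHom_of_points _ (by
    intro T x y
    apply charOfPt_injective
    rw [charOfPt_DSmap, charOfPt_mul, charOfPt_mul, charOfPt_DSmap, charOfPt_DSmap]
    rfl)

theorem DSmap_zero {M N : Type} [AddCommGroup M] [AddCommGroup N] :
    Red.DSmap S (0 : M →+ N) = 1 := by
  apply charOfPt_injective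
  have h := charOfPt_DSmap (S := S) (0 : M →+ N) (𝟙 (Red.DS S N))
  rw [Category.id_comp] at h
  rw [h, charOfPt_one]
  refine MonoidHom.ext fun k => ?_
  exact map_one (charOfPt (𝟙 (Red.DS S N)))

theorem DSmap_comp {M N P : Type} [AddCommGroup M] [AddCommGroup N] [AddCommGroup P]
    (φ : M →+ N) (ψ : N →+ P) : Red.DSmap S ψ ≫ Red.DSmap S φ = Red.DSmap S (ψ.comp φ) := by
  apply charOfPt_injective
  have h1 := charOfPt_DSmap (S := S) (ψ.comp φ) (𝟙 (Red.DS S P))
  rw [Category.id_comp] at h1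
  have h2 := charOfPt_DSmap (S := S) ψ (𝟙 (Red.DS S P))
  rw [Category.id_comp] at h2
  rw [charOfPt_DSmap, h1, h2]
  rfl

section zmod

variable {R : Type*} [CommRing R] (n : ℕ)

/-- The character of `ℤ/n` with value `z` at `1`, for `z` an `n`-th root of unity. -/
def zetaHom (z : Rˣ) (hz : z ^ n = 1) : Multiplicative (ZMod n) →* R :=
  (Units.coeHom R).comp (AddMonoidHom.toMultiplicativeLeft
    (ZMod.lift n ⟨zmultiplesHom (Additive Rˣ) (Additive.ofMul z), by
      show (n : ℤ) • Additive.ofMul z = 0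
      rw [natCast_zsmul, ← ofMul_pow, hz]
      rfl⟩))

theorem zetaHom_one (z : Rˣ) (hz : z ^ n = 1) :
    zetaHom n z hz (Multiplicative.ofAdd 1) = z := by
  have h1 : ((1 : ℤ) : ZMod n) = 1 := Int.cast_one
  unfold zetaHom
  simp only [MonoidHom.coe_comp, Function.comp_apply, AddMonoidHom.toMultiplicativeLeft_apply_apply,
    toAdd_ofAdd, Units.coeHom_apply]
  rw [← h1, ZMod.lift_coe]
  simp

theorem zmodChar_ext [NeZero n] {R' : Type*} [Monoid R'] (f g : Multiplicative (ZMod n) →* R')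
    (h : f (Multiplicative.ofAdd 1) = g (Multiplicative.ofAdd 1)) : f = g := by
  refine MonoidHom.ext fun k => ?_
  have : k = (Multiplicative.ofAdd (1 : ZMod n)) ^ (Multiplicative.toAdd k).val := by
    rw [← ofAdd_nsmul, nsmul_one, ZMod.natCast_zmod_val]
    rfl
  rw [this, map_pow, map_pow, h]

end zmod

section kummer

variable (n : ℕ) [NeZero n]

/-- `μ_n ⟶ G_m`. -/
abbrev ku : Red.DS S (ZMod n) ⟶ Red.DS S ℤ := Red.DSmap S (Int.castAddHom (ZMod n))

/-- The `n`-th power map of `G_m`. -/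
abbrev kv : Red.DS S ℤ ⟶ Red.DS S ℤ := Red.DSmap S (zmultiplesHom ℤ (n : ℤ))

theorem ku_kv : ku (S := S) n ≫ kv n = 1 := by
  rw [DSmap_comp]
  have : (Int.castAddHom (ZMod n)).comp (zmultiplesHom ℤ (n : ℤ)) = 0 := by
    ext
    simp
  rw [this, DSmap_zero]

theorem charOfPt_kv_one {T : Over S} (x : T ⟶ Red.DS S ℤ) :
    charOfPt (x ≫ kv n) (Multiplicative.ofAdd 1) = charOfPt x (Multiplicative.ofAdd 1) ^ n := by
  rw [charOfPt_DSmap]
  show charOfPt x (Multiplicative.ofAdd ((zmultiplesHom ℤ (n : ℤ)) 1)) = _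
  have : (zmultiplesHom ℤ (n : ℤ)) 1 = n • (1 : ℤ) := by simp
  rw [this, ofAdd_nsmul, map_pow]

theorem charOfPt_ku_one {T : Over S} (g' : T ⟶ Red.DS S (ZMod n)) :
    charOfPt (g' ≫ ku n) (Multiplicative.ofAdd 1) = charOfPt g' (Multiplicative.ofAdd 1) := by
  rw [charOfPt_DSmap]
  show charOfPt g' (Multiplicative.ofAdd ((Int.castAddHom (ZMod n)) 1)) = _
  simp

theorem existsUnique_kummer {T : Over S} (x₁ x₂ : T ⟶ Red.DS S ℤ)
    (h : x₁ ≫ kv n = x₂ ≫ kv n) :
    ∃! g' : T ⟶ Red.DS S (ZMod n), x₁ * (g' ≫ ku n) = x₂ := by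
  obtain ⟨w₁, hw₁⟩ := isUnit_charOfPt x₁ (Multiplicative.ofAdd 1)
  obtain ⟨w₂, hw₂⟩ := isUnit_charOfPt x₂ (Multiplicative.ofAdd 1)
  have hpow : w₁ ^ n = w₂ ^ n := by
    apply Units.ext
    rw [Units.val_pow_eq_pow_val, Units.val_pow_eq_pow_val, hw₁, hw₂, ← charOfPt_kv_one,
      ← charOfPt_kv_one, h]
  have hz : (w₁⁻¹ * w₂) ^ n = 1 := by
    rw [mul_pow, inv_pow, hpow, inv_mul_cancel]
  have crit : ∀ g' : T ⟶ Red.DS S (ZMod n), x₁ * (g' ≫ ku n) = x₂ ↔
      charOfPt g' (Multiplicative.ofAdd 1) = ((w₁⁻¹ * w₂ : (Γ(T.left, ⊤))ˣ) : Γ(T.left, ⊤)) := by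
    intro g'
    constructor
    · intro hg
      have := congrArg (fun x => charOfPt x (Multiplicative.ofAdd (1 : ℤ))) hg
      rw [charOfPt_mul, MonoidHom.mul_apply, charOfPt_ku_one, ← hw₁, ← hw₂] at this
      rw [Units.val_mul, ← this, ← _root_.mul_assoc, ← Units.val_mul, inv_mul_cancel, Units.val_one,
        _root_.one_mul]
    · intro hg
      apply charOfPt_injective
      apply MonoidHom.ext_mint
      rw [charOfPt_mul, MonoidHom.mul_apply, charOfPt_ku_one, hg, ← hw₁, ← hw₂, ← Units.val_mul,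
        mul_inv_cancel_left]
  refine ⟨ptOfChar (zetaHom n (w₁⁻¹ * w₂) hz), (crit _).mpr ?_, ?_⟩
  · rw [charOfPt_ptOfChar, zetaHom_one]
  · intro g' hg'
    apply charOfPt_injective
    rw [charOfPt_ptOfChar]
    apply zmodChar_ext
    rw [zetaHom_one]
    exact (crit g').mp hg'

theorem isPullback_kummer :
    IsPullback (fst (Red.DS S ℤ) (Red.DS S (ZMod n)))
      ((Red.DS S ℤ ◁ ku n) ≫ μ[Red.DS S ℤ]) (kv n) (kv n) :=
  isPullback_of_existsUnique (ku n) (kv n) (ku_kv n) (existsUnique_kummer n)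

end kummer

section cover

variable (n : ℕ) [NeZero n]

/-- `ℤ[t, t⁻¹]`. -/
abbrev A : Type u := CoordM.{u} ℤ

/-- `Xⁿ - t`. -/
def poly : Polynomial A.{u} := Polynomial.X ^ n - Polynomial.C (mono ℤ 1)

theorem monic_poly : (poly.{u} n).Monic := Polynomial.monic_X_pow_sub_C _ (NeZero.ne n)

/-- `ℤ[t, t⁻¹][X]/(Xⁿ - t)`. -/
abbrev B : Type u := AdjoinRoot (poly.{u} n)

instance : Module.Free A.{u} (B.{u} n) := (monic_poly n).free_adjoinRoot

instance : Nontrivial (B.{u} n) := by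
  refine Ideal.Quotient.nontrivial_iff.mpr ?_
  rw [Ne, Ideal.span_singleton_eq_top, (monic_poly n).isUnit_iff]
  intro h
  have h1 := congrArg Polynomial.natDegree h
  rw [poly, Polynomial.natDegree_X_pow_sub_C, Polynomial.natDegree_one] at h1
  exact NeZero.ne n h1

theorem root_pow : (AdjoinRoot.root (poly.{u} n)) ^ n = algebraMap A.{u} (B.{u} n) (mono ℤ 1) := by
  have h := AdjoinRoot.eval₂_root (poly.{u} n)
  rw [poly, Polynomial.eval₂_sub, Polynomial.eval₂_pow, Polynomial.eval₂_X, Polynomial.eval₂_C,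
    sub_eq_zero] at h
  exact h

/-- `Spec B ⟶ Spec A`. -/
def qAB : Spec (CommRingCat.of (B.{u} n)) ⟶ Spec (CommRingCat.of A.{u}) :=
  Spec.map (CommRingCat.ofHom (algebraMap A.{u} (B.{u} n)))

theorem flat_surj_qAB : Flat (qAB.{u} n) ∧ Surjective (qAB.{u} n) := by
  rw [qAB, AlgebraicGeometry.flat_and_surjective_SpecMap_iff]
  show (algebraMap A.{u} (B.{u} n)).FaithfullyFlat
  rw [RingHom.faithfullyFlat_algebraMap_iff]
  infer_instance

instance : Flat (qAB.{u} n) := (flat_surj_qAB n).1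
instance : Surjective (qAB.{u} n) := (flat_surj_qAB n).2

instance : LocallyOfFinitePresentation (qAB.{u} n) := by
  rw [qAB, LocallyOfFinitePresentation.SpecMap_iff]
  show (algebraMap A.{u} (B.{u} n)).FinitePresentation
  rw [RingHom.finitePresentation_algebraMap]
  infer_instance

variable (S)

/-- The projection `G_m ⟶ Spec ℤ[t, t⁻¹]`. -/
abbrev p₁ : (Red.DS S ℤ).left ⟶ Spec (CommRingCat.of A.{u}) :=
  pullback.fst (DZ ℤ).hom (GmPts.toBaseZ S)

/-- The covering of `G_m` extracting an `n`-th root of the coordinate. -/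
abbrev cov : pullback (p₁ S) (qAB.{u} n) ⟶ (Red.DS S ℤ).left := pullback.fst (p₁ S) (qAB.{u} n)

/-- The source of the covering as an object over `S`. -/
abbrev covT : Over S := Over.mk (cov S n ≫ (Red.DS S ℤ).hom)

/-- The tautological point. -/
abbrev covPt : covT S n ⟶ Red.DS S ℤ := Over.homMk (cov S n) rfl

/-- The `n`-th root. -/
def rho₀ : Γ((covT S n).left, ⊤) :=
  (pullback.snd (p₁ S) (qAB.{u} n)).appTop
    ((Scheme.ΓSpecIso (CommRingCat.of (B.{u} n))).inv (AdjoinRoot.root (poly.{u} n)))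

theorem rho₀_pow : rho₀ S n ^ n = charOfPt (covPt S n) (Multiplicative.ofAdd 1) := by
  have h1 : specPt (covPt S n) = pullback.snd (p₁ S) (qAB.{u} n) ≫ qAB.{u} n :=
    pullback.condition
  have h2 : charOfPt (covPt S n) (Multiplicative.ofAdd 1) =
      (specPt (covPt S n)).appTop ((coordIsoM ℤ).inv (mono ℤ 1)) := rfl
  rw [h2, h1, GmPts.appTop_comp_apply]
  unfold qAB
  rw [specMap_appTop_coordIso_inv]
  show _ = (pullback.snd (p₁ S) (qAB.{u} n)).appTop
    ((Scheme.ΓSpecIso (CommRingCat.of (B.{u} n))).inv (algebraMap A.{u} (B.{u} n) (mono ℤ 1)))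
  rw [← root_pow, map_pow, map_pow]
  rfl

theorem isUnit_rho₀ : IsUnit (rho₀ S n) := by
  rw [← isUnit_pow_iff (NeZero.ne n), rho₀_pow]
  exact isUnit_charOfPt _ _

/-- The section over the covering. -/
def covSec : covT S n ⟶ Red.DS S ℤ :=
  ptOfChar ((Units.coeHom _).comp (zpowersHom _ (isUnit_rho₀ S n).unit))

theorem covSec_kv : covSec S n ≫ kv n = covPt S n := by
  apply charOfPt_injective
  apply MonoidHom.ext_mint
  rw [charOfPt_kv_one, covSec, charOfPt_ptOfChar, ← rho₀_pow]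
  simp

theorem isLocallyTrivialFor_kv_fppf :
    NonAbH1.IsLocallyTrivialFor Scheme.fppfPrecoverage
      (Over.mk (kv (S := S) n).left : Over (Red.DS S ℤ).left) :=
  ⟨Presieve.singleton (cov S n), (cov S n).singleton_mem_fppfPrecoverage, by
    rintro S' f ⟨⟩
    exact ⟨(covSec S n).left, congrArg Over.Hom.left (covSec_kv S n)⟩⟩

theorem isLocallyTrivialFor_kv_fpqc :
    NonAbH1.IsLocallyTrivialFor Scheme.fpqcPrecoverage
      (Over.mk (kv (S := S) n).left : Over (Red.DS S ℤ).left) :=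
  ⟨Presieve.singleton (cov S n),
    Scheme.fppfPrecoverage_le_fpqcPrecoverage _ (cov S n).singleton_mem_fppfPrecoverage, by
    rintro S' f ⟨⟩
    exact ⟨(covSec S n).left, congrArg Over.Hom.left (covSec_kv S n)⟩⟩

theorem isExactSeq_kummer_fppf :
    NonAbH1.IsExactSeq Scheme.fppfPrecoverage (ku (S := S) n) (kv n) :=
  ⟨inferInstance, inferInstance, ku_kv n, isPullback_kummer n, isLocallyTrivialFor_kv_fppf S n⟩

theorem isExactSeq_kummer_fpqc :
    NonAbH1.IsExactSeq Scheme.fpqcPrecoverage (ku (S := S) n) (kv n) :=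
  ⟨inferInstance, inferInstance, ku_kv n, isPullback_kummer n, isLocallyTrivialFor_kv_fpqc S n⟩

end cover

end Groth.Agent.Lib.Helper5.Kummer

end
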