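import Mathlib.Algebra.Group.Subgroup.Ker
import Mathlib.Algebra.Group.Subgroup.Lattice
import Mathlib.Tactic

set_option autoImplicit false
universe u

namespace Groth.Agent.Lib.Helper5

section
variable {G : ℕ → Type u} [∀ k, AddCommGroup (G k)] (t : ∀ {p k : ℕ}, p ≤ k → G k →+ G p)
  (t_comp : ∀ {p q k : ℕ} (h1 : p ≤ q) (h2 : q ≤ k) (x : G k), t h1 (t h2 x) = t (h1.trans h2) x)

include t_comp

theorem ml_range_anti {p k k' : ℕ} (h : p ≤ k) (h' : k ≤ k') :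
    (t (h.trans h')).range ≤ (t h).range := by
  rintro _ ⟨y, rfl⟩
  exact ⟨t h' y, t_comp h h' y⟩

omit t_comp in
theorem ml_stable_of_le {p k₀ : ℕ} (h₀ : p ≤ k₀)
    (hst : ∀ k (hk : k₀ ≤ k), (t (h₀.trans hk)).range = (t h₀).range)
    {k₁ : ℕ} (h01 : k₀ ≤ k₁) :
    ∀ k (hk : k₁ ≤ k), (t ((h₀.trans h01).trans hk)).range = (t (h₀.trans h01)).range := by
  intro k hk
  rw [hst k (h01.trans hk), hst k₁ h01]

theorem ml_core :
    (∀ p, ∃ k₀, ∃ h₀ : p ≤ k₀, ∀ k (hk : k₀ ≤ k), (t (h₀.trans hk)).range = (t h₀).range) ↔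
    ((∃ k₀, ∀ k (_ : k₀ ≤ k), (t (Nat.zero_le k)).range = (t (Nat.zero_le k₀)).range) ∧
     ∀ p, ∃ k₀, ∃ h₀ : p + 1 ≤ k₀, ∀ k (hk : k₀ ≤ k),
       (t (h₀.trans hk)).range ⊓ (t (Nat.le_succ p)).ker =
         (t h₀).range ⊓ (t (Nat.le_succ p)).ker) := by
  constructor
  · intro h
    refine ⟨?_, fun p => ?_⟩
    · obtain ⟨k₀, h₀, hk₀⟩ := h 0
      exact ⟨k₀, fun k hk => hk₀ k hk⟩
    · obtain ⟨k₀, h₀, hk₀⟩ := h (p + 1)
      exact ⟨k₀, h₀, fun k hk => by rw [hk₀ k hk]⟩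
  · rintro ⟨h1, h2⟩ p
    induction p with
    | zero =>
      obtain ⟨k₀, hk₀⟩ := h1
      exact ⟨k₀, Nat.zero_le _, fun k hk => hk₀ k hk⟩
    | succ p ih =>
      obtain ⟨k₁, h₁, hk₁⟩ := ih
      obtain ⟨k₂, h₂, hk₂⟩ := h2 p
      have h23 : k₂ ≤ max k₁ k₂ := le_max_right _ _
      have h13 : k₁ ≤ max k₁ k₂ := le_max_left _ _
      refine ⟨max k₁ k₂, h₂.trans h23, fun k hk => ?_⟩
      apply le_antisymm
      · exact ml_range_anti t t_comp _ hk
      · rintro _ ⟨y, rfl⟩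
        have hxp : t (Nat.le_succ p) (t (h₂.trans h23) y) ∈ (t (h₁.trans (h13.trans hk))).range := by
          rw [hk₁ k (h13.trans hk), ← hk₁ _ h13, t_comp]
          exact ⟨y, rfl⟩
        obtain ⟨z, hz⟩ := hxp
        have hx' : t (h₂.trans (h23.trans hk)) z ∈ (t (h₂.trans (h23.trans hk))).range := ⟨z, rfl⟩
        have hdiff : t (h₂.trans h23) y - t (h₂.trans (h23.trans hk)) z ∈
            (t (h₂.trans (h23.trans hk))).range ⊓ (t (Nat.le_succ p)).ker := by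
          rw [hk₂ k (h23.trans hk), ← hk₂ _ h23]
          refine AddSubgroup.mem_inf.mpr
            ⟨sub_mem ⟨y, rfl⟩ (ml_range_anti t t_comp _ hk hx'), ?_⟩
          rw [AddMonoidHom.mem_ker, map_sub, t_comp, t_comp, sub_eq_zero]
          rw [t_comp] at hz
          exact hz.symm
        have := add_mem (AddSubgroup.mem_inf.mp hdiff).1 hx'
        rwa [sub_add_cancel] at this

end

end Groth.Agent.Lib.Helper5
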