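import Mathlib
import Groth.Agent.Lib.Helper14.QuotStRep
import Groth.Agent.Lib.Helper14.QuotStGeom

/-!
# The fibre of `[X/G]` over a base `T`: morphisms between the objects `a(x)` (helper5)

For `x y : T ⟶ X`, the morphisms `a(x) ⟶ a(y)` in the fibre category of `[X/G]` over `T` are in
bijection with the `g : T ⟶ G` such that `g · y = x`; all morphisms of the fibre are isomorphisms;
an object with a section of its torsor is isomorphic to some `a(x)`.
-/

set_option autoImplicit false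
set_option linter.style.haveILetI false
universe u

open CategoryTheory CategoryTheory.Limits MonoidalCategory CartesianMonoidalCategory MonObj GrpObj
  AlgebraicGeometry AlgSt

namespace Groth.Agent.Lib.Helper5.MassStack

open Groth.Agent.Lib.Helper14.QuotStRep

variable {S : Scheme.{u}} {K : Precoverage Scheme.{u}} [K.HasIsos] {G : Over S} [GrpObj G]
  {X : Over S} {aX : AlgGrp.Action G X}

/-- all morphisms of a fibre of `[X/G]` are isomorphisms -/
theorem isIso_fiber {T : Over S} {ξ ζ : (QuotSt K G aX).p.Fiber T} (f : ξ ⟶ ζ) : IsIso f := by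
  have hl : (QuotObj.forget K G aX).IsHomLift (𝟙 T) f.1 := f.2
  have hb : f.1.base = eqToHom (ξ.2.trans ζ.2.symm) := by
    have h1 := IsHomLift.fac' (QuotObj.forget K G aX) (𝟙 T) f.1
    have h2 : f.1.base = eqToHom ξ.2 ≫ 𝟙 T ≫ eqToHom ζ.2.symm := h1
    rw [h2, Category.id_comp, eqToHom_trans]
  haveI : IsIso f.1 := isIso_of_base_eqToHom f.1 _ hb
  haveI : (QuotObj.forget K G aX).IsHomLift (𝟙 T) (inv f.1) := inferInstance
  refine ⟨⟨Functor.Fiber.homMk _ T (inv f.1), ?_, ?_⟩⟩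
  · apply Functor.Fiber.hom_ext
    change f.1 ≫ inv f.1 = 𝟙 _
    simp
  · apply Functor.Fiber.hom_ext
    change inv f.1 ≫ f.1 = 𝟙 _
    simp

variable (K aX) in
/-- the underlying object of `a(x)` -/
noncomputable def aq {T : Over S} (x : T ⟶ X) : QuotObj K G aX :=
  (quotMap K G aX).obj (⟨T, ⟨x⟩⟩ : (ofSch X).obj)

variable (K aX) in
/-- the object `a(x)` of the fibre over `T` -/
noncomputable def ax {T : Over S} (x : T ⟶ X) : (QuotSt K G aX).p.Fiber T :=
  ⟨aq K aX x, rfl⟩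

/-- the underlying morphism -/
noncomputable def under {T : Over S} {x : T ⟶ X} {A : QuotObj K G aX}
    (θ : aq K aX x ⟶ A) :
    (quotMap K G aX).obj (⟨T, ⟨x⟩⟩ : (ofSch X).obj) ⟶ A := θ

/-- the point of `G ⊗ T` attached to a morphism `a(x) ⟶ a(y)` -/
noncomputable def pt {T : Over S} {x y : T ⟶ X} (θ : aq K aX x ⟶ aq K aX y) : T ⟶ G ⊗ T :=
  ptOf (under θ)

theorem pt_snd {T : Over S} {x y : T ⟶ X} (θ : aq K aX x ⟶ aq K aX y) :
    pt θ ≫ snd G T = θ.base :=
  ptOf_π (under θ)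

theorem pt_act {T : Over S} {x y : T ⟶ X} (θ : aq K aX x ⟶ aq K aX y) :
    pt θ ≫ (G ◁ y) ≫ aX.act = x :=
  ptOf_φ (under θ)

theorem ext_pt {T : Over S} {x y : T ⟶ X} (θ θ' : aq K aX x ⟶ aq K aX y) (h : pt θ = pt θ') :
    θ = θ' :=
  hom_ext_pt (under θ) (under θ') h

/-- the morphism `a(x) ⟶ a(y)` attached to a point `t` of `G ⊗ T` with `t · y = x` -/
noncomputable def homOfPt {T : Over S} {x y : T ⟶ X} (t : T ⟶ G ⊗ T)
    (ht : t ≫ (G ◁ y) ≫ aX.act = x) : aq K aX x ⟶ aq K aX y :=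
  (quotMap K G aX).map
    (⟨𝟙 T, by
      change (⟨𝟙 T ≫ t ≫ (G ◁ y) ≫ aX.act⟩ : ULift (T ⟶ X)) = ⟨x⟩
      rw [Category.id_comp, ht]⟩ :
      (⟨T, ⟨x⟩⟩ : (ofSch X).obj) ⟶ ⟨T, ⟨t ≫ (aq K aX y).φ⟩⟩) ≫ canon (aq K aX y) t

theorem pt_homOfPt {T : Over S} {x y : T ⟶ X} (t : T ⟶ G ⊗ T)
    (ht : t ≫ (G ◁ y) ≫ aX.act = x) : pt (homOfPt (K := K) t ht) = t := by
  unfold pt homOfPt under
  refine (ptOf_map _ _).trans ?_
  refine (congrArg (fun k => _ ≫ k) (ptOf_canon (aq K aX y) t)).trans ?_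
  exact Category.id_comp _

theorem homOfPt_base {T : Over S} {x y : T ⟶ X} (t : T ⟶ G ⊗ T)
    (ht : t ≫ (G ◁ y) ≫ aX.act = x) : (homOfPt (K := K) t ht).base = t ≫ snd G T := by
  rw [← pt_snd, pt_homOfPt]


theorem base_eq {T : Over S} {x y : T ⟶ X} (θ : ax K aX x ⟶ ax K aX y) :
    (θ.1 : aq K aX x ⟶ aq K aX y).base = 𝟙 T := by
  have hl : (QuotObj.forget K G aX).IsHomLift (𝟙 T) θ.1 := θ.2
  have h1 := IsHomLift.fac' (QuotObj.forget K G aX) (𝟙 T) θ.1
  have h2 : (θ.1 : aq K aX x ⟶ aq K aX y).base = eqToHom rfl ≫ 𝟙 T ≫ eqToHom rfl := h1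
  simpa using h2

theorem lift_eq_of_snd {T : Over S} (t : T ⟶ G ⊗ T) (ht : t ≫ snd G T = 𝟙 T) (y : T ⟶ X) :
    lift (t ≫ fst G T) y = t ≫ (G ◁ y) := by
  apply CartesianMonoidalCategory.hom_ext
  · simp only [lift_fst, Category.assoc, whiskerLeft_fst]
  · simp only [lift_snd, Category.assoc, whiskerLeft_snd]
    rw [← Category.assoc, ht, Category.id_comp]

theorem lift_id_whisker {T : Over S} (g : T ⟶ G) (y : T ⟶ X) :
    lift g (𝟙 T) ≫ (G ◁ y) = lift g y := by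
  apply CartesianMonoidalCategory.hom_ext
  · simp only [lift_fst, Category.assoc, whiskerLeft_fst]
  · simp only [lift_snd, Category.assoc, whiskerLeft_snd]
    rw [← Category.assoc, lift_snd, Category.id_comp]

/-- a morphism of `[X/G]` between objects over `T` whose base is the identity, as a morphism of
the fibre -/
noncomputable def fiberHom {T : Over S} {A B : QuotObj K G aX} (hA : A.base = T) (hB : B.base = T)
    (θ : A ⟶ B) (hθ : θ.base = eqToHom (hA.trans hB.symm)) :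
    (Functor.Fiber.mk (p := (QuotSt K G aX).p) hA) ⟶ (Functor.Fiber.mk (p := (QuotSt K G aX).p) hB) :=
  ⟨θ, IsHomLift.of_fac' (p := QuotObj.forget K G aX) (𝟙 T) θ hA hB (by
    change θ.base = eqToHom hA ≫ 𝟙 T ≫ eqToHom hB.symm
    rw [hθ, Category.id_comp, eqToHom_trans])⟩

/-- `Hom(a(x), a(y))` in the fibre over `T` is the transporter `{g | g · y = x}` -/
noncomputable def homEquiv {T : Over S} (x y : T ⟶ X) :
    (ax K aX x ⟶ ax K aX y) ≃ {g : T ⟶ G // lift g y ≫ aX.act = x} := by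
  refine Equiv.ofBijective (fun θ => ⟨pt θ.1 ≫ fst G T, ?_⟩) ⟨?_, ?_⟩
  · have hs : pt θ.1 ≫ snd G T = 𝟙 T := (pt_snd _).trans (base_eq θ)
    rw [lift_eq_of_snd _ hs, Category.assoc, pt_act]
  · intro θ θ' h
    have h1 : pt θ.1 ≫ fst G T = pt θ'.1 ≫ fst G T := congrArg Subtype.val h
    have hs : pt θ.1 ≫ snd G T = 𝟙 T := (pt_snd _).trans (base_eq θ)
    have hs' : pt θ'.1 ≫ snd G T = 𝟙 T := (pt_snd _).trans (base_eq θ')
    have h2 : pt θ.1 = pt θ'.1 := by
      apply CartesianMonoidalCategory.hom_ext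
      · exact h1
      · rw [hs, hs']
    apply Functor.Fiber.hom_ext
    exact ext_pt _ _ h2
  · rintro ⟨g, hg⟩
    have ht : lift g (𝟙 T) ≫ (G ◁ y) ≫ aX.act = x := by
      rw [← Category.assoc, lift_id_whisker, hg]
    have hb : (homOfPt (K := K) (lift g (𝟙 T)) ht).base = eqToHom rfl := by
      rw [homOfPt_base, lift_snd, eqToHom_refl]
      rfl
    refine ⟨fiberHom (A := aq K aX x) (B := aq K aX y) rfl rfl
      (homOfPt (K := K) (lift g (𝟙 T)) ht) hb, ?_⟩
    apply Subtype.ext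
    change pt (homOfPt (K := K) (lift g (𝟙 T)) ht) ≫ fst G T = g
    rw [pt_homOfPt, lift_fst]

/-- an object of the fibre over `T` whose torsor has a section is isomorphic to some `a(x)` -/
theorem exists_iso_ax {T : Over S} (ξ : (QuotSt K G aX).p.Fiber T) (s : T ⟶ ξ.1.P)
    (hs : s ≫ ξ.1.π = eqToHom ξ.2.symm) : ∃ x : T ⟶ X, Nonempty (ξ ≅ ax K aX x) := by
  obtain ⟨A, hA⟩ := ξ
  refine ⟨s ≫ A.φ, ?_⟩
  have hb : (canon A s).base = eqToHom ((rfl : (aq K aX (s ≫ A.φ)).base = T).trans hA.symm) := by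
    rw [canon_base]
    exact hs
  let f : ax K aX (s ≫ A.φ) ⟶ Functor.Fiber.mk (p := (QuotSt K G aX).p) hA :=
    fiberHom (A := aq K aX (s ≫ A.φ)) (B := A) rfl hA (canon A s) hb
  haveI : IsIso f := isIso_fiber f
  exact ⟨(asIso f).symm⟩

end Groth.Agent.Lib.Helper5.MassStack
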