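import Mathlib
import Groth.Agent.Lib.Helper5.MassStack
import Groth.Agent.S3935

/-!
# Objects of `[X/G]` over a finite field are of the form `a(x)` (helper5)

Lang's theorem (S3935): a torsor under a smooth affine connected group over a finite field is trivial.
-/

set_option autoImplicit false
set_option linter.style.haveILetI false
universe u

open CategoryTheory CategoryTheory.Limits MonoidalCategory CartesianMonoidalCategory MonObj GrpObj
  AlgebraicGeometry AlgSt

namespace Groth.Agent.Lib.Helper5.MassLang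

open Groth.Agent.Lib.Helper5.MassStack

theorem isPullback_of_isTerminal {C : Type*} [Category C] [CartesianMonoidalCategory C] {P B : C}
    (hB : IsTerminal B) (π : P ⟶ B) : IsPullback (fst P P) (snd P P) π π :=
  IsPullback.of_isLimit' ⟨hB.hom_ext _ _⟩
    (PullbackCone.IsLimit.mk _ (fun s => lift s.fst s.snd) (fun s => lift_fst _ _)
      (fun s => lift_snd _ _) (fun s m h1 h2 => by
        apply CartesianMonoidalCategory.hom_ext
        · rw [lift_fst]; exact h1
        · rw [lift_snd]; exact h2))

variable {S : Scheme.{u}} {G : Over S} [GrpObj G] {X : Over S} {aX : AlgGrp.Action G X}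

theorem isIso_shear (A : QuotObj Scheme.fppfPrecoverage G aX) (hB : IsTerminal A.base) :
    IsIso (lift A.act.act (snd G A.P)) := by
  have h2 := isPullback_of_isTerminal hB A.π
  let e := A.cart.isoIsPullback _ _ h2
  have he : e.hom = lift A.act.act (snd G A.P) := by
    apply CartesianMonoidalCategory.hom_ext
    · rw [lift_fst]; exact A.cart.isoIsPullback_hom_fst _ _ h2
    · rw [lift_snd]; exact A.cart.isoIsPullback_hom_snd _ _ h2
  rw [← he]
  infer_instance

theorem lft_P [LocallyOfFiniteType G.hom] (A : QuotObj Scheme.fppfPrecoverage G aX) (T : Over S)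
    (hA : A.base = T) (hT : LocallyOfFiniteType T.hom) : LocallyOfFiniteType A.P.hom := by
  subst hA
  haveI : LocallyOfFiniteType A.π.left :=
    Groth.Agent.Lib.Helper14.QuotStGeom.pi_prop @LocallyOfFiniteType inferInstance A
  rw [← Over.w A.π]
  infer_instance

theorem nonempty_P (A : QuotObj Scheme.fppfPrecoverage G aX) (T : Over S)
    (hA : A.base = T) (hT : Nonempty T.left) : Nonempty A.P.left := by
  subst hA
  obtain ⟨t⟩ := hT
  obtain ⟨p, -⟩ := Groth.Agent.Lib.Helper14.QuotStGeom.pi_surj A t
  exact ⟨p⟩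

theorem exists_iso_ax_lang {F : Type u} [Field F] [Finite F]
    (X G : Over (Spec (CommRingCat.of F))) [GrpObj G] (aX : AlgGrp.Action G X)
    [Smooth G.hom] [IsAffineHom G.hom] [ConnectedSpace ↥G.left]
    (ξ : (QuotSt Scheme.fppfPrecoverage G aX).p.Fiber (Over.mk (𝟙 (Spec (CommRingCat.of F))))) :
    ∃ x : Over.mk (𝟙 (Spec (CommRingCat.of F))) ⟶ X,
      Nonempty (ξ ≅ ax Scheme.fppfPrecoverage aX x) := by
  have hA : ξ.1.base = Over.mk (𝟙 (Spec (CommRingCat.of F))) := ξ.2
  have hterm : IsTerminal ξ.1.base := by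
    rw [hA]
    exact Over.mkIdTerminal
  haveI : IsAffine G.left := isAffine_of_isAffineHom G.hom
  haveI : LocallyOfFiniteType ξ.1.P.hom :=
    lft_P ξ.1 _ hA (inferInstanceAs (LocallyOfFiniteType (𝟙 (Spec (CommRingCat.of F)))))
  haveI : Nonempty ξ.1.P.left :=
    nonempty_P ξ.1 _ hA (inferInstanceAs (Nonempty (Spec (CommRingCat.of F))))
  obtain ⟨s⟩ := Groth.Agent.S3935.result F G ξ.1.P ξ.1.act (isIso_shear ξ.1 hterm)
  let s' : Over.mk (𝟙 (Spec (CommRingCat.of F))) ⟶ ξ.1.P := s
  exact exists_iso_ax ξ s' (hterm.hom_ext _ _)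

end Groth.Agent.Lib.Helper5.MassLang
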