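import Mathlib
import Groth.Prelude.Def_Desc
import Groth.Prelude.Def_NonAbH2
import Groth.Agent.Lib.Helper5.TorsorPush
import Groth.Agent.Lib.Helper5.PrincDesc
import Groth.Agent.Lib.Helper5.DescAffineHom
import Groth.Agent.Lib.Helper5.DescProps

/-!
# Existence of associated bundles with affine fibre (helper5)

For a principal `G`-bundle `f : X ⟶ Y` over `B` (flat, surjective, quasi-compact, with cartesian
action square) and a `G`-scheme `Z` affine over `B`, the descent datum `PrincDesc.assocDD` is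
effective, and the descended scheme is the associated bundle `X ×^G Z`.
-/

set_option autoImplicit false
universe u
open CategoryTheory CategoryTheory.Limits MonoidalCategory CartesianMonoidalCategory MonObj GrpObj
  AlgebraicGeometry Desc

namespace Groth.Agent.Lib.Helper5.PrincAssoc

open Groth.Agent.Lib.Helper5.TorsorPush Groth.Agent.Lib.Helper5.PrincDesc
  Groth.Agent.Lib.Helper5.DescProps

variable {B : Scheme.{u}} {G X Y Z : Over B} [GrpObj G] (a : AlgGrp.Action G X) (f : X ⟶ Y)
  (hsq : IsPullback a.act.left (snd G X).left f.left f.left) (b : AlgGrp.Action G Z)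

/-- The associated bundle from an effectiveness isomorphism for `assocDD`. -/
theorem exists_assoc_of_iso (W₀ : Over Y.left)
    (θ : (toDD f.left).obj W₀ ≅ assocDD a f hsq b) :
    ∃ φ : X ⊗ Z ⟶ Over.mk (W₀.hom ≫ Y.hom),
      lift ((G ◁ fst X Z) ≫ a.act) ((G ◁ snd X Z) ≫ b.act) ≫ φ = snd G (X ⊗ Z) ≫ φ ∧
      IsPullback (fst X Z).left φ.left f.left W₀.hom := by
  let D : SchDD f.left := assocDD a f hsq b
  let W : Over B := Over.mk (W₀.hom ≫ Y.hom)
  let ψ : W ⟶ Y := Over.homMk W₀.hom rfl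
  let θl : (X ⊗ Z).left ⟶ pullback f.left W₀.hom := θ.inv.hom.left
  have hθw : θl ≫ pullback.fst f.left W₀.hom = (fst X Z).left := Over.w θ.inv.hom
  let φ₀ : (X ⊗ Z).left ⟶ W₀.left := θl ≫ pullback.snd f.left W₀.hom
  have hφ₀ : φ₀ ≫ W.hom = (X ⊗ Z).hom := by
    change (θl ≫ pullback.snd f.left W₀.hom) ≫ W₀.hom ≫ Y.hom = _
    rw [Category.assoc, ← pullback.condition_assoc, ← Category.assoc, hθw, Over.w f,
      Over.w (fst X Z)]
  let φ : X ⊗ Z ⟶ W := Over.homMk φ₀ hφ₀
  refine ⟨φ, ?_, ?_⟩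
  · -- invariance under the diagonal action
    let g : G ⊗ (X ⊗ Z) ⟶ G := fst G (X ⊗ Z)
    let x : G ⊗ (X ⊗ Z) ⟶ X := snd G (X ⊗ Z) ≫ fst X Z
    let z : G ⊗ (X ⊗ Z) ⟶ Z := snd G (X ⊗ Z) ≫ snd X Z
    have e₀ : lift ((G ◁ fst X Z) ≫ a.act) ((G ◁ snd X Z) ≫ b.act) =
        lift (smul a g x) (smul b g z) := by
      have h1 : G ◁ fst X Z = lift g x := by
        apply CartesianMonoidalCategory.hom_ext <;> simp [g, x]
      have h2 : G ◁ snd X Z = lift g z := by
        apply CartesianMonoidalCategory.hom_ext <;> simp [g, z]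
      unfold smul
      rw [h1, h2]
    have e₁ : snd G (X ⊗ Z) = lift x z := by
      apply CartesianMonoidalCategory.hom_ext <;> simp [x, z]
    rw [e₀, e₁]
    have hΦ := Φ_act a f hsq b g x z
    have hD := assocDD_φ a f hsq b (G ⊗ (X ⊗ Z)) (smul a g x) x (smul_comp_f a f hsq g x)
      (lift (smul a g x) (smul b g z)) (lift_fst _ _)
    rw [hΦ] at hD
    have hc := θ.inv.comm (smul a g x).left x.left
      (by rw [← Over.comp_left, smul_comp_f a f hsq g x, Over.comp_left])
      ⟨(lift (smul a g x) (smul b g z)).left, by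
        change (lift (smul a g x) (smul b g z)).left ≫ (fst X Z).left = (smul a g x).left
        rw [← Over.comp_left, lift_fst]⟩
      ⟨(lift (smul a g x) (smul b g z)).left ≫ θl, by
        change ((lift (smul a g x) (smul b g z)).left ≫ θl) ≫ pullback.fst f.left W₀.hom = _
        rw [Category.assoc, hθw, ← Over.comp_left, lift_fst]⟩ rfl
    rw [hD] at hc
    ext
    change (lift (smul a g x) (smul b g z)).left ≫ θl ≫ pullback.snd f.left W₀.hom =
      (lift x z).left ≫ θl ≫ pullback.snd f.left W₀.hom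
    have hc' := congrArg (fun m => m ≫ pullback.snd f.left W₀.hom) hc
    refine (Category.assoc _ _ _).symm.trans (Eq.trans ?_ (hc'.trans (Category.assoc _ _ _)))
    exact (pullback.lift_snd _ _ _).symm
  · -- the cartesian square
    have hpb : IsPullback (pullback.fst f.left W₀.hom) (pullback.snd f.left W₀.hom) f.left W₀.hom :=
      IsPullback.of_hasPullback _ _
    let e : pullback f.left W₀.hom ≅ (X ⊗ Z).left :=
      ⟨θ.hom.hom.left, θl, hom_inv_left θ, inv_hom_left θ⟩
    refine hpb.of_iso e (Iso.refl _) (Iso.refl _) (Iso.refl _) ?_ ?_ ?_ ?_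
    · have hw : θ.hom.hom.left ≫ (fst X Z).left = pullback.fst f.left W₀.hom := Over.w θ.hom.hom
      simp only [Iso.refl_hom, Category.comp_id, e]
      exact hw.symm
    · change pullback.snd f.left W₀.hom ≫ 𝟙 _ = θ.hom.hom.left ≫ θl ≫ pullback.snd f.left W₀.hom
      rw [Category.comp_id, ← Category.assoc]
      have h3 : (θ.hom.hom.left : pullback f.left W₀.hom ⟶ (X ⊗ Z).left) ≫ θl =
        𝟙 (pullback f.left W₀.hom) := hom_inv_left θ
      rw [h3]
      exact (Category.id_comp _).symm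
    · simp
    · simp [ψ]

include hsq in
theorem exists_assoc [Flat f.left] [Surjective f.left] [QuasiCompact f.left]
    [IsAffineHom Z.hom] :
    ∃ (W : Over B) (φ : X ⊗ Z ⟶ W) (ψ : W ⟶ Y),
      (∀ (P : MorphismProperty Scheme.{u}) [P.RespectsIso] [P.DescendsAlong fpqc.{u}],
        P (fst X Z).left → P ψ.left) ∧
      lift ((G ◁ fst X Z) ≫ a.act) ((G ◁ snd X Z) ≫ b.act) ≫ φ = snd G (X ⊗ Z) ≫ φ ∧
      IsPullback (fst X Z).left φ.left f.left ψ.left := by
  let D : SchDD f.left := assocDD a f hsq b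
  have hfst : (fst X Z).left = pullback.fst X.hom Z.hom := rfl
  haveI : IsAffineHom D.obj.hom := by
    change IsAffineHom (fst X Z).left
    rw [hfst]
    exact MorphismProperty.pullback_fst (P := @IsAffineHom) _ _ inferInstance
  obtain ⟨W₀, ⟨θ⟩⟩ := DescAffineHom.effective_of_isAffineHom f.left D
  obtain ⟨φ, hinv, hpb⟩ := exists_assoc_of_iso a f hsq b W₀ θ
  refine ⟨Over.mk (W₀.hom ≫ Y.hom), φ, Over.homMk W₀.hom rfl, ?_, hinv, hpb⟩
  intro P _ _ hP
  exact of_iso_toDD P θ hP

end Groth.Agent.Lib.Helper5.PrincAssoc
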