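import Mathlib.AlgebraicGeometry.ProjectiveSpectrum.Functor
import Mathlib.RingTheory.GradedAlgebra.Radical

set_option autoImplicit false
universe u
open CategoryTheory CategoryTheory.Limits AlgebraicGeometry

namespace Groth.Agent.Lib.Helper5

variable {σ : Type*} {A : Type u} [CommRing A] [SetLike σ A] [AddSubgroupClass σ A]
variable (𝒜 : ℕ → σ) [GradedRing 𝒜]

theorem exists_point_of_not_mem_radical {I : Ideal A} (hI : I.IsHomogeneous 𝒜) {f : A}
    (hf : f ∈ (HomogeneousIdeal.irrelevant 𝒜).toIdeal) (hfI : f ∉ I.radical) :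
    ∃ x : Proj 𝒜, I ≤ x.asHomogeneousIdeal.toIdeal ∧ f ∉ x.asHomogeneousIdeal := by
  rw [hI.radical_eq, Ideal.mem_sInf] at hfI
  push Not at hfI
  obtain ⟨J, ⟨hJh, hIJ, hJp⟩, hfJ⟩ := hfI
  refine ⟨⟨⟨J, hJh⟩, hJp, fun hle => hfJ (hle hf)⟩, hIJ, hfJ⟩

theorem basicOpen_eq_bot_iff {f : A} (hf : f ∈ (HomogeneousIdeal.irrelevant 𝒜).toIdeal) :
    Proj.basicOpen 𝒜 f = ⊥ ↔ IsNilpotent f := by
  constructor
  · intro h
    by_contra hn
    have hfI : f ∉ (⊥ : Ideal A).radical := by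
      intro h'
      exact hn (mem_nilradical.mp h')
    obtain ⟨x, -, hx⟩ := exists_point_of_not_mem_radical 𝒜 (Ideal.IsHomogeneous.bot 𝒜) hf hfI
    have : x ∈ Proj.basicOpen 𝒜 f := (Proj.mem_basicOpen 𝒜 f x).mpr hx
    rw [h] at this
    exact this
  · intro h
    ext x
    simp only [TopologicalSpace.Opens.coe_bot, Set.mem_empty_iff_false, iff_false,
      SetLike.mem_coe, Proj.mem_basicOpen, not_not]
    obtain ⟨n, hn⟩ := h
    exact x.isPrime.mem_of_pow_mem n (hn ▸ Ideal.zero_mem _)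

theorem isEmpty_iff_irrelevant_nilpotent :
    IsEmpty (Proj 𝒜) ↔ ∀ f ∈ (HomogeneousIdeal.irrelevant 𝒜).toIdeal, IsNilpotent f := by
  constructor
  · intro h f hf
    rw [← basicOpen_eq_bot_iff 𝒜 hf]
    ext x
    exact (h.false x).elim
  · intro h
    refine ⟨fun x => x.not_irrelevant_le fun f hf => ?_⟩
    obtain ⟨n, hn⟩ := h f hf
    exact x.isPrime.mem_of_pow_mem n (hn ▸ Ideal.zero_mem _)

end Groth.Agent.Lib.Helper5

namespace Groth.Agent.Lib.Helper5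

variable {σ : Type*} {A : Type u} [CommRing A] [SetLike σ A] [AddSubgroupClass σ A]
variable (𝒜 : ℕ → σ) [GradedRing 𝒜]

theorem iSup_basicOpen_eq_top_iff {ι : Type*} (f : ι → A) (hf : ∀ i, ∃ d : ℕ, f i ∈ 𝒜 d) :
    (⨆ i, Proj.basicOpen 𝒜 (f i)) = ⊤ ↔
      (HomogeneousIdeal.irrelevant 𝒜).toIdeal ≤ (Ideal.span (Set.range f)).radical := by
  have hI : (Ideal.span (Set.range f)).IsHomogeneous 𝒜 := by
    apply Ideal.homogeneous_span
    rintro _ ⟨i, rfl⟩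
    obtain ⟨d, hd⟩ := hf i
    exact ⟨d, hd⟩
  constructor
  · intro h g hg
    by_contra hgI
    obtain ⟨x, hx, -⟩ := exists_point_of_not_mem_radical 𝒜 hI hg hgI
    have hx' : x ∈ (⨆ i, Proj.basicOpen 𝒜 (f i)) := by rw [h]; trivial
    obtain ⟨i, hi⟩ := TopologicalSpace.Opens.mem_iSup.mp hx'
    exact ((Proj.mem_basicOpen 𝒜 _ x).mp hi) (hx (Ideal.subset_span ⟨i, rfl⟩))
  · intro h
    refine top_le_iff.mp fun x _ => TopologicalSpace.Opens.mem_iSup.mpr ?_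
    by_contra! H
    simp only [Proj.mem_basicOpen, not_not] at H
    refine x.not_irrelevant_le (h.trans ?_)
    rw [x.isPrime.radical_le_iff, Ideal.span_le, Set.range_subset_iff]
    exact H

end Groth.Agent.Lib.Helper5

namespace Groth.Agent.Lib.Helper5

section

variable {σ τ : Type u} {A B : Type u} [CommRing A] [SetLike σ A] [AddSubgroupClass σ A]
  [CommRing B] [SetLike τ B] [AddSubgroupClass τ B]
variable {𝒜 : ℕ → σ} {ℬ : ℕ → τ} [GradedRing 𝒜] [GradedRing ℬ]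

theorem map_mem_irrelevant (φ : 𝒜 →+*ᵍ ℬ) {a : A}
    (ha : a ∈ (HomogeneousIdeal.irrelevant 𝒜).toIdeal) :
    φ a ∈ (HomogeneousIdeal.irrelevant ℬ).toIdeal := by
  change a ∈ HomogeneousIdeal.irrelevant 𝒜 at ha
  change φ a ∈ HomogeneousIdeal.irrelevant ℬ
  rw [HomogeneousIdeal.mem_irrelevant_iff, GradedRing.proj_apply] at ha ⊢
  have := GradedRingHom.map_directSumDecompose 𝒜 ℬ φ (x := a) (i := 0)
  rw [← this, ha, map_zero]

theorem denseRange_map (φ : 𝒜 →+*ᵍ ℬ)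
    (hφ : HomogeneousIdeal.irrelevant ℬ ≤ (HomogeneousIdeal.irrelevant 𝒜).map φ)
    (hker : ∀ a : A, φ a = 0 → IsNilpotent a) :
    DenseRange (Proj.map φ hφ).base := by
  rw [DenseRange, dense_iff_inter_open]
  rintro U hU ⟨x, hxU⟩
  obtain ⟨_, ⟨_, ⟨a, rfl⟩, rfl⟩, hxa, haU⟩ :=
    (Proj.isBasis_basicOpen 𝒜).exists_subset_of_mem_open hxU hU
  obtain ⟨s, hs, hsx⟩ := Set.not_subset.mp x.not_irrelevant_le
  have hasx : a * s ∉ x.asHomogeneousIdeal := by
    intro h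
    rcases x.isPrime.mem_or_mem h with h | h
    · exact hxa h
    · exact hsx h
  have hasirr : a * s ∈ (HomogeneousIdeal.irrelevant 𝒜).toIdeal := Ideal.mul_mem_left _ _ hs
  have hnil : ¬ IsNilpotent (a * s) := by
    rw [← basicOpen_eq_bot_iff 𝒜 hasirr]
    intro h
    have : x ∈ Proj.basicOpen 𝒜 (a * s) := (Proj.mem_basicOpen 𝒜 _ x).mpr hasx
    rw [h] at this
    exact this
  have hnil' : ¬ IsNilpotent (φ (a * s)) := by
    rintro ⟨n, hn⟩
    rw [← map_pow] at hn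
    obtain ⟨m, hm⟩ := hker _ hn
    exact hnil ⟨n * m, by rw [pow_mul, hm]⟩
  rw [← basicOpen_eq_bot_iff ℬ (map_mem_irrelevant φ hasirr)] at hnil'
  obtain ⟨y, hy⟩ : ∃ y, y ∈ Proj.basicOpen ℬ (φ (a * s)) := by
    by_contra! H
    apply hnil'
    ext y
    simpa using H y
  rw [← Proj.map_preimage_basicOpen φ hφ] at hy
  refine ⟨(Proj.map φ hφ).base y, haU ?_, y, rfl⟩
  exact (Proj.basicOpen_mono 𝒜 a (a * s) ⟨s, rfl⟩) hy

end

end Groth.Agent.Lib.Helper5
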