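import Groth.Agent.Lib.Helper5.ProjClosed
import Groth.Agent.Lib.Helper5.GradedQuotient
import Groth.Agent.Lib.Helper5.Dehomog
import Mathlib.AlgebraicGeometry.IdealSheaf.Basic

set_option autoImplicit false
universe u
open CategoryTheory CategoryTheory.Limits AlgebraicGeometry HomogeneousLocalization

namespace Groth.Agent.Lib.Helper5

section

variable {R A : Type u} [CommRing R] [CommRing A] [Algebra R A]
variable (𝒜 : ℕ → Submodule R A) [GradedAlgebra 𝒜]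

/-- `D₊(t)` as an affine open. -/
def projAffineOpen {t : A} {m : ℕ} (ht : t ∈ 𝒜 m) (hm : 0 < m) : (Proj 𝒜).affineOpens :=
  ⟨Proj.basicOpen 𝒜 t, Proj.isAffineOpen_basicOpen 𝒜 t ht hm⟩

theorem awayToSection_bijective {t : A} {m : ℕ} (ht : t ∈ 𝒜 m) (hm : 0 < m) :
    Function.Bijective (Proj.awayToSection 𝒜 t).hom := by
  have : IsIso (Proj.awayToSection 𝒜 t) := by
    rw [← Proj.basicOpenIsoAway_hom 𝒜 t ht hm]
    infer_instance
  exact ConcreteCategory.bijective_of_isIso (Proj.awayToSection 𝒜 t)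

variable (𝓘 : (Proj 𝒜).IdealSheafData)

/-- The ideal of `(A_t)₀` corresponding to `𝓘(D₊(t))`. -/
def awayIdeal {t : A} {m : ℕ} (ht : t ∈ 𝒜 m) (hm : 0 < m) : Ideal (Away 𝒜 t) :=
  (𝓘.ideal (projAffineOpen 𝒜 ht hm)).comap (Proj.awayToSection 𝒜 t).hom

theorem map_awayToSection_awayIdeal {t : A} {m : ℕ} (ht : t ∈ 𝒜 m) (hm : 0 < m) :
    (awayIdeal 𝒜 𝓘 ht hm).map (Proj.awayToSection 𝒜 t).hom = 𝓘.ideal (projAffineOpen 𝒜 ht hm) :=
  Ideal.map_comap_of_surjective _ (awayToSection_bijective 𝒜 ht hm).2 _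

theorem awayIdeal_map_awayMap {f g x : A} {m m' : ℕ} (hf : f ∈ 𝒜 m) (hm : 0 < m)
    (hg : g ∈ 𝒜 m') (hx : x = f * g) :
    (awayIdeal 𝒜 𝓘 hf hm).map (awayMap 𝒜 hg hx) =
      awayIdeal 𝒜 𝓘 (hx ▸ SetLike.mul_mem_graded hf hg : x ∈ 𝒜 (m + m'))
        (Nat.add_pos_left hm m') := by
  have hxdeg : x ∈ 𝒜 (m + m') := hx ▸ SetLike.mul_mem_graded hf hg
  have hpos : 0 < m + m' := Nat.add_pos_left hm m'
  have hle : projAffineOpen 𝒜 hxdeg hpos ≤ projAffineOpen 𝒜 hf hm :=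
    Proj.basicOpen_mono 𝒜 f x ⟨g, hx⟩
  have hcomm : (Proj.awayToSection 𝒜 x).hom.comp (awayMap 𝒜 hg hx) =
      ((Proj 𝒜).presheaf.map (homOfLE hle).op).hom.comp (Proj.awayToSection 𝒜 f).hom := by
    have := Proj.awayMap_awayToSection 𝒜 (f := f) hg hx
    exact congrArg CommRingCat.Hom.hom this
  have hbij := awayToSection_bijective 𝒜 hxdeg hpos
  apply le_antisymm
  · rw [Ideal.map_le_iff_le_comap]
    intro y hy
    change (Proj.awayToSection 𝒜 x).hom (awayMap 𝒜 hg hx y) ∈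
      𝓘.ideal (projAffineOpen 𝒜 hxdeg hpos)
    rw [← RingHom.comp_apply, hcomm, ← 𝓘.map_ideal hle]
    exact Ideal.mem_map_of_mem _ hy
  · intro y hy
    have key : 𝓘.ideal (projAffineOpen 𝒜 hxdeg hpos) =
        Ideal.map (Proj.awayToSection 𝒜 x).hom
          (Ideal.map (awayMap 𝒜 hg hx) (awayIdeal 𝒜 𝓘 hf hm)) := by
      calc 𝓘.ideal (projAffineOpen 𝒜 hxdeg hpos)
          = Ideal.map ((Proj 𝒜).presheaf.map (homOfLE hle).op).hom
              (𝓘.ideal (projAffineOpen 𝒜 hf hm)) := (𝓘.map_ideal hle).symm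
        _ = Ideal.map ((Proj 𝒜).presheaf.map (homOfLE hle).op).hom
              (Ideal.map (Proj.awayToSection 𝒜 f).hom (awayIdeal 𝒜 𝓘 hf hm)) :=
            congrArg _ (map_awayToSection_awayIdeal 𝒜 𝓘 hf hm).symm
        _ = Ideal.map (((Proj 𝒜).presheaf.map (homOfLE hle).op).hom.comp
              (Proj.awayToSection 𝒜 f).hom) (awayIdeal 𝒜 𝓘 hf hm) := Ideal.map_map _ _
        _ = Ideal.map ((Proj.awayToSection 𝒜 x).hom.comp (awayMap 𝒜 hg hx))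
              (awayIdeal 𝒜 𝓘 hf hm) := by rw [hcomm]
        _ = _ := (Ideal.map_map _ _).symm
    have hy' : (Proj.awayToSection 𝒜 x).hom y ∈ Ideal.map (Proj.awayToSection 𝒜 x).hom
          (Ideal.map (awayMap 𝒜 hg hx) (awayIdeal 𝒜 𝓘 hf hm)) := by
      rw [← key]
      exact hy
    rw [Ideal.mem_map_iff_of_surjective _ hbij.2] at hy'
    obtain ⟨z, hz, hzy⟩ := hy'
    rwa [← hbij.1 hzy]

theorem mem_pow_mul {f : A} (hf : f ∈ 𝒜 1) {d : ℕ} {a : A} (ha : a ∈ 𝒜 d) (n : ℕ) :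
    f ^ n * a ∈ 𝒜 (n + d) := by
  have := SetLike.mul_mem_graded (SetLike.pow_mem_graded n hf) ha
  simpa using this

theorem exists_pow_mem_awayIdeal {f g : A} (hf : f ∈ 𝒜 1) (hg : g ∈ 𝒜 1) {d : ℕ} {a : A}
    (ha : a ∈ 𝒜 d) (h : awayMkOne 𝒜 hf d a ha ∈ awayIdeal 𝒜 𝓘 hf one_pos) :
    ∃ n, awayMkOne 𝒜 hg (n + d) (f ^ n * a) (mem_pow_mul 𝒜 hf ha n) ∈
      awayIdeal 𝒜 𝓘 hg one_pos := by
  have hx : f * g = f * g := rfl
  have hx' : f * g = g * f := mul_comm _ _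
  have hxdeg : f * g ∈ 𝒜 (1 + 1) := SetLike.mul_mem_graded hf hg
  have h1 : awayMap 𝒜 hg hx (awayMkOne 𝒜 hf d a ha) ∈ awayIdeal 𝒜 𝓘 hxdeg (by norm_num) := by
    rw [← awayIdeal_map_awayMap 𝒜 𝓘 hf one_pos hg hx]
    exact Ideal.mem_map_of_mem _ h
  have h2 : awayIdeal 𝒜 𝓘 hxdeg (by norm_num) =
      (awayIdeal 𝒜 𝓘 hg one_pos).map (awayMap 𝒜 hf hx') :=
    (awayIdeal_map_awayMap 𝒜 𝓘 hg one_pos hf hx').symm
  let u : Away 𝒜 (f * g) := Away.mk 𝒜 hxdeg d (f ^ (2 * d)) (by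
    have := SetLike.pow_mem_graded (2 * d) hf
    simpa [mul_comm] using this)
  have h3 : awayMap 𝒜 hf hx' (awayMkOne 𝒜 hg d a ha) =
      awayMap 𝒜 hg hx (awayMkOne 𝒜 hf d a ha) * u := by
    apply HomogeneousLocalization.val_injective
    rw [HomogeneousLocalization.val_mul]
    simp only [awayMkOne, awayMap_mk, Away.val_mk, u, Localization.mk_mul]
    rw [Localization.mk_eq_mk_iff, Localization.r_iff_exists]
    refine ⟨1, ?_⟩
    simp only [OneMemClass.coe_one, one_mul, Submonoid.coe_mul]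
    ring
  have h4 : awayMap 𝒜 hf hx' (awayMkOne 𝒜 hg d a ha) ∈
      (awayIdeal 𝒜 𝓘 hg one_pos).map (awayMap 𝒜 hf hx') := by
    rw [h3, ← h2]
    exact Ideal.mul_mem_right _ _ h1
  letI := (awayMap 𝒜 hf hx').toAlgebra
  have hloc : IsLocalization.Away (Away.isLocalizationElem hg hf) (Away 𝒜 (f * g)) :=
    Away.isLocalization_mul hg hf hx' one_ne_zero
  have h5 := (IsLocalization.algebraMap_mem_map_algebraMap_iff
    (Submonoid.powers (Away.isLocalizationElem hg hf)) (Away 𝒜 (f * g))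
    (awayIdeal 𝒜 𝓘 hg one_pos) (awayMkOne 𝒜 hg d a ha)).mp h4
  obtain ⟨_, ⟨n, rfl⟩, hn⟩ := h5
  refine ⟨n, ?_⟩
  convert hn using 1
  apply HomogeneousLocalization.val_injective
  rw [HomogeneousLocalization.val_mul, HomogeneousLocalization.val_pow]
  simp only [awayMkOne, Away.val_mk, Localization.mk_pow, Localization.mk_mul]
  rw [Localization.mk_eq_mk_iff, Localization.r_iff_exists]
  refine ⟨1, ?_⟩
  simp only [OneMemClass.coe_one, one_mul, Submonoid.coe_mul, SubmonoidClass.coe_pow, pow_one]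
  ring

theorem awayMkOne_pow_mul_mem_of_le {f g : A} (hf : f ∈ 𝒜 1) (hg : g ∈ 𝒜 1) {d : ℕ} {a : A}
    (ha : a ∈ 𝒜 d) (J : Ideal (Away 𝒜 g)) {n n' : ℕ} (hnn' : n ≤ n')
    (h : awayMkOne 𝒜 hg (n + d) (f ^ n * a) (mem_pow_mul 𝒜 hf ha n) ∈ J) :
    awayMkOne 𝒜 hg (n' + d) (f ^ n' * a) (mem_pow_mul 𝒜 hf ha n') ∈ J := by
  obtain ⟨k, rfl⟩ := Nat.exists_eq_add_of_le hnn'
  have hk : f ^ k ∈ 𝒜 k := by simpa using SetLike.pow_mem_graded k hf
  have : awayMkOne 𝒜 hg (n + k + d) (f ^ (n + k) * a) (mem_pow_mul 𝒜 hf ha (n + k)) =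
      awayMkOne 𝒜 hg k (f ^ k) hk *
        awayMkOne 𝒜 hg (n + d) (f ^ n * a) (mem_pow_mul 𝒜 hf ha n) := by
    apply HomogeneousLocalization.val_injective
    rw [HomogeneousLocalization.val_mul]
    simp only [awayMkOne, Away.val_mk, Localization.mk_mul]
    rw [Localization.mk_eq_mk_iff, Localization.r_iff_exists]
    refine ⟨1, ?_⟩
    simp only [OneMemClass.coe_one, one_mul, Submonoid.coe_mul]
    ring
  rw [this]
  exact Ideal.mul_mem_left _ _ h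

variable (s : Finset A) (hs1 : ∀ f ∈ s, f ∈ 𝒜 1)

/-- The homogeneous ideal of `A` attached to an ideal sheaf on `Proj A` (relative to a finite set
`s` of degree-one elements). -/
noncomputable def sheafIdeal : Ideal A :=
  ((⨅ f : s, (awayIdeal 𝒜 𝓘 (hs1 f.1 f.2) one_pos).comap
    (dehomog 𝒜 (hs1 f.1 f.2))).homogeneousCore 𝒜).toIdeal

theorem sheafIdeal_isHomogeneous : (sheafIdeal 𝒜 𝓘 s hs1).IsHomogeneous 𝒜 :=
  (Ideal.homogeneousCore 𝒜 _).isHomogeneous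

theorem mem_sheafIdeal_iff {d : ℕ} {a : A} (ha : a ∈ 𝒜 d) :
    a ∈ sheafIdeal 𝒜 𝓘 s hs1 ↔
      ∀ (f : A) (hf : f ∈ s), awayMkOne 𝒜 (hs1 f hf) d a ha ∈ awayIdeal 𝒜 𝓘 (hs1 f hf) one_pos := by
  constructor
  · intro h f hf
    have h' := Ideal.toIdeal_homogeneousCore_le 𝒜 _ h
    rw [Ideal.mem_iInf] at h'
    have := h' ⟨f, hf⟩
    rwa [Ideal.mem_comap, dehomog_of_mem 𝒜 (hs1 f hf) ha] at this
  · intro h
    apply Ideal.mem_homogeneousCore_of_homogeneous_of_mem ⟨d, ha⟩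
    rw [Ideal.mem_iInf]
    rintro ⟨f, hf⟩
    rw [Ideal.mem_comap, dehomog_of_mem 𝒜 (hs1 f hf) ha]
    exact h f hf

theorem exists_pow_mul_mem_sheafIdeal {f : A} (hf : f ∈ s) {d : ℕ} {a : A} (ha : a ∈ 𝒜 d)
    (h : awayMkOne 𝒜 (hs1 f hf) d a ha ∈ awayIdeal 𝒜 𝓘 (hs1 f hf) one_pos) :
    ∃ n, f ^ n * a ∈ sheafIdeal 𝒜 𝓘 s hs1 := by
  have key : ∀ g : s, ∃ n, awayMkOne 𝒜 (hs1 g.1 g.2) (n + d) (f ^ n * a)
      (mem_pow_mul 𝒜 (hs1 f hf) ha n) ∈ awayIdeal 𝒜 𝓘 (hs1 g.1 g.2) one_pos :=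
    fun g => exists_pow_mem_awayIdeal 𝒜 𝓘 (hs1 f hf) (hs1 g.1 g.2) ha h
  choose N hN using key
  refine ⟨Finset.univ.sup N, ?_⟩
  rw [mem_sheafIdeal_iff 𝒜 𝓘 s hs1 (mem_pow_mul 𝒜 (hs1 f hf) ha _)]
  intro g hg
  exact awayMkOne_pow_mul_mem_of_le 𝒜 (hs1 f hf) (hs1 g hg) ha _
    (Finset.le_sup (f := N) (Finset.mem_univ ⟨g, hg⟩)) (hN ⟨g, hg⟩)

end

end Groth.Agent.Lib.Helper5
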