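import Groth.Agent.Lib.Helper5.ProjBasic
import Mathlib.RingTheory.Noetherian.Nilpotent

set_option autoImplicit false
universe u
open CategoryTheory CategoryTheory.Limits AlgebraicGeometry DirectSum

namespace Groth.Agent.Lib.Helper5

variable {σ : Type*} {A : Type u} [CommRing A] [SetLike σ A] [AddSubgroupClass σ A]
variable (𝒜 : ℕ → σ) [GradedRing 𝒜]

theorem mem_irrelevant_pow_of_degree_gt (T : Set A) (D : ℕ)
    (hT : ∀ t ∈ T, ∃ d, d ≤ D ∧ t ∈ 𝒜 d)
    (hspan : (HomogeneousIdeal.irrelevant 𝒜).toIdeal = Ideal.span T) :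
    ∀ m k : ℕ, m * D < k → ∀ a ∈ 𝒜 k, a ∈ (HomogeneousIdeal.irrelevant 𝒜).toIdeal ^ (m + 1) := by
  intro m
  induction m with
  | zero =>
    intro k hk a ha
    rw [zero_add, pow_one]
    exact HomogeneousIdeal.mem_irrelevant_of_mem 𝒜 (by omega) ha
  | succ m ih =>
    intro k hk a ha
    have hairr : a ∈ (HomogeneousIdeal.irrelevant 𝒜).toIdeal :=
      HomogeneousIdeal.mem_irrelevant_of_mem 𝒜 (by omega) ha
    have key : ∀ x ∈ Ideal.span T,
        (decompose 𝒜 x k : A) ∈ (HomogeneousIdeal.irrelevant 𝒜).toIdeal ^ (m + 1 + 1) := by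
      intro x hx
      induction hx using Submodule.closure_induction with
      | zero => simp
      | add x y _ _ hx hy =>
        rw [decompose_add, DirectSum.add_apply, AddMemClass.coe_add]
        exact Ideal.add_mem _ hx hy
      | smul_mem r t ht =>
        obtain ⟨d, hdD, htd⟩ := hT t ht
        have hDk : D < k := by
          have : D ≤ (m + 1) * D := Nat.le_mul_of_pos_left D (Nat.succ_pos m)
          omega
        have hdk : d ≤ k := by omega
        rw [smul_eq_mul, coe_decompose_mul_of_right_mem_of_le 𝒜 htd hdk, pow_succ]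
        refine Ideal.mul_mem_mul (ih (k - d) ?_ _ (SetLike.coe_mem _)) ?_
        · have : (m + 1) * D = m * D + D := by ring
          omega
        · rw [hspan]
          exact Ideal.subset_span ht
    have := key a (hspan ▸ hairr)
    rwa [decompose_of_mem_same 𝒜 ha] at this

theorem exists_homogeneous_generators
    (hfg : (HomogeneousIdeal.irrelevant 𝒜).toIdeal.FG) :
    ∃ (T : Set A) (D : ℕ), (∀ t ∈ T, ∃ d, d ≤ D ∧ t ∈ 𝒜 d) ∧
      (HomogeneousIdeal.irrelevant 𝒜).toIdeal = Ideal.span T := by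
  classical
  obtain ⟨s, hs⟩ := hfg
  let D : ℕ := s.sup fun g => (decompose 𝒜 g).support.sup id
  refine ⟨{t | ∃ g ∈ s, ∃ i, t = (decompose 𝒜 g i : A)}, D, ?_, ?_⟩
  · rintro t ⟨g, hg, i, rfl⟩
    by_cases hi : i ∈ (decompose 𝒜 g).support
    · refine ⟨i, ?_, SetLike.coe_mem _⟩
      calc i ≤ (decompose 𝒜 g).support.sup id := Finset.le_sup (f := id) hi
        _ ≤ D := Finset.le_sup (f := fun g => (decompose 𝒜 g).support.sup id) hg
    · refine ⟨0, Nat.zero_le _, ?_⟩
      rw [DFinsupp.mem_support_iff, not_not] at hi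
      rw [hi]
      exact zero_mem _
  · apply le_antisymm
    · rw [← hs, Ideal.span_le]
      intro g hg
      rw [SetLike.mem_coe, ← sum_support_decompose 𝒜 g]
      exact Ideal.sum_mem _ fun i _ => Ideal.subset_span ⟨g, hg, i, rfl⟩
    · rw [Ideal.span_le]
      rintro t ⟨g, hg, i, rfl⟩
      apply (HomogeneousIdeal.irrelevant 𝒜).isHomogeneous i
      rw [← hs]
      exact Ideal.subset_span hg

theorem isEmpty_iff_eventually_zero
    (hfg : (HomogeneousIdeal.irrelevant 𝒜).toIdeal.FG) :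
    IsEmpty (Proj 𝒜) ↔ ∃ n : ℕ, ∀ k : ℕ, n ≤ k → ∀ a ∈ 𝒜 k, a = 0 := by
  rw [isEmpty_iff_irrelevant_nilpotent]
  constructor
  · intro h
    have hle : (HomogeneousIdeal.irrelevant 𝒜).toIdeal ≤ nilradical A :=
      fun f hf => mem_nilradical.mpr (h f hf)
    obtain ⟨N, hN⟩ := hfg.isNilpotent_iff_le_nilradical.mpr hle
    obtain ⟨T, D, hT, hspan⟩ := exists_homogeneous_generators 𝒜 hfg
    refine ⟨N * D + 1, fun k hk a ha => ?_⟩
    have h1 := mem_irrelevant_pow_of_degree_gt 𝒜 T D hT hspan N k (by omega) a ha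
    have h2 := Ideal.pow_le_pow_right (I := (HomogeneousIdeal.irrelevant 𝒜).toIdeal)
      (Nat.le_succ N) h1
    rw [hN] at h2
    exact h2
  · rintro ⟨n, hn⟩ f hf
    rw [← mem_nilradical]
    revert f
    change (HomogeneousIdeal.irrelevant 𝒜).toIdeal ≤ nilradical A
    rw [HomogeneousIdeal.irrelevant_eq_span, Ideal.span_le]
    intro a ha
    simp only [Set.mem_iUnion, SetLike.mem_coe, exists_prop] at ha
    obtain ⟨i, hi, hai⟩ := ha
    rw [SetLike.mem_coe, mem_nilradical]
    refine ⟨n, hn (n • i) ?_ _ (SetLike.pow_mem_graded n hai)⟩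
    rw [smul_eq_mul]
    exact Nat.le_mul_of_pos_right n hi

end Groth.Agent.Lib.Helper5
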