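import Groth.Agent.Lib.Helper5.ProjClosedSub
import Groth.Agent.Lib.Helper5.ProjReduced

set_option autoImplicit false
universe u
open CategoryTheory CategoryTheory.Limits AlgebraicGeometry HomogeneousLocalization

namespace Groth.Agent.Lib.Helper5

section

theorem appLE_apply_eq_zero_iff {X Y : Scheme.{u}} (f : X ⟶ Y) (U : Y.Opens) (V : X.Opens)
    (hV : f ⁻¹ᵁ U = V) (x : Γ(Y, U)) :
    (f.appLE U V hV.ge).hom x = 0 ↔ (f.app U).hom x = 0 := by
  subst hV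
  rw [Scheme.Hom.appLE_eq_app]

variable {R A : Type u} [CommRing R] [CommRing A] [Algebra R A]
variable (𝒜 : ℕ → Submodule R A) [GradedAlgebra 𝒜]
variable {B : Type u} [CommRing B] [Algebra R B] (ℬ : ℕ → Submodule R B) [GradedAlgebra ℬ]

theorem irrelevant_le_map_of_surjective (φ : 𝒜 →+*ᵍ ℬ) (hsurj : Function.Surjective φ) :
    HomogeneousIdeal.irrelevant ℬ ≤ (HomogeneousIdeal.irrelevant 𝒜).map φ := by
  rw [HomogeneousIdeal.irrelevant_le]
  intro i hi b hb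
  obtain ⟨a, ha, rfl⟩ := exists_mem_graded_map_eq φ hsurj hb
  change φ a ∈ ((HomogeneousIdeal.irrelevant 𝒜).map φ).toIdeal
  rw [HomogeneousIdeal.toIdeal_map]
  exact Ideal.mem_map_of_mem _ (HomogeneousIdeal.mem_irrelevant_of_mem _ hi ha)

theorem awayIdeal_ker_map (φ : 𝒜 →+*ᵍ ℬ) (hsurj : Function.Surjective φ)
    (hφ : HomogeneousIdeal.irrelevant ℬ ≤ (HomogeneousIdeal.irrelevant 𝒜).map φ)
    {t : A} {m : ℕ} (ht : t ∈ 𝒜 m) (hm : 0 < m) :
    awayIdeal 𝒜 (Proj.map φ hφ).ker ht hm = RingHom.ker (Away.map φ t) := by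
  have : IsClosedImmersion (Proj.map φ hφ) := isClosedImmersion_map φ hsurj hφ
  ext y
  rw [awayIdeal, Ideal.mem_comap, Scheme.Hom.ker_apply, RingHom.mem_ker, RingHom.mem_ker]
  have h := Proj.awayToSection_comp_appLE φ hφ ht
  have h' := congrArg (fun g => g.hom y) h
  simp only [CommRingCat.hom_comp, RingHom.comp_apply, CommRingCat.hom_ofHom] at h'
  have hV : (Proj.map φ hφ) ⁻¹ᵁ (Proj.basicOpen 𝒜 t) = Proj.basicOpen ℬ (φ t) :=
    Proj.map_preimage_basicOpen φ hφ t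
  have h1 := appLE_apply_eq_zero_iff (Proj.map φ hφ) (Proj.basicOpen 𝒜 t) (Proj.basicOpen ℬ (φ t))
    hV ((Proj.awayToSection 𝒜 t).hom y)
  change (Scheme.Hom.app (Proj.map φ hφ) (Proj.basicOpen 𝒜 t)).hom
    ((Proj.awayToSection 𝒜 t).hom y) = 0 ↔ _
  rw [← h1, h']
  exact map_eq_zero_iff _ (awayToSection_bijective ℬ (φ.2 ht) hm).1

end

end Groth.Agent.Lib.Helper5

namespace Groth.Agent.Lib.Helper5

section

variable {R A : Type u} [CommRing R] [CommRing A] [Algebra R A]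
variable (𝒜 : ℕ → Submodule R A) [GradedAlgebra 𝒜]
variable (𝓘 : (Proj 𝒜).IdealSheafData) (s : Finset A) (hs1 : ∀ f ∈ s, f ∈ 𝒜 1)

theorem ker_awayMap_quot {f : A} (hf : f ∈ s) :
    letI := quotGradedAlgebra 𝒜 (sheafIdeal_isHomogeneous 𝒜 𝓘 s hs1)
    RingHom.ker (Away.map (quotGradedRingHom 𝒜 (sheafIdeal_isHomogeneous 𝒜 𝓘 s hs1)) f) =
      awayIdeal 𝒜 𝓘 (hs1 f hf) one_pos := by
  letI := quotGradedAlgebra 𝒜 (sheafIdeal_isHomogeneous 𝒜 𝓘 s hs1)
  ext y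
  obtain ⟨d, a, ha, rfl⟩ := Away.mk_surjective 𝒜 (hs1 f hf) y
  have ha' : a ∈ 𝒜 d := by simpa using ha
  rw [RingHom.mem_ker, Away.map_mk, away_mk_eq_zero_iff]
  change (∃ m : ℕ, (Ideal.Quotient.mk _ f) ^ m * Ideal.Quotient.mk _ a = 0) ↔
    awayMkOne 𝒜 (hs1 f hf) d a ha' ∈ _
  constructor
  · rintro ⟨m, hm⟩
    have hmem : f ^ m * a ∈ sheafIdeal 𝒜 𝓘 s hs1 := by
      rw [← Ideal.Quotient.eq_zero_iff_mem, map_mul, map_pow]
      exact hm
    rw [mem_sheafIdeal_iff 𝒜 𝓘 s hs1 (mem_pow_mul 𝒜 (hs1 f hf) ha' m)] at hmem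
    have := hmem f hf
    convert this using 1
    apply HomogeneousLocalization.val_injective
    simp only [awayMkOne, Away.val_mk]
    rw [Localization.mk_eq_mk_iff, Localization.r_iff_exists]
    refine ⟨1, ?_⟩
    simp only [OneMemClass.coe_one, one_mul]
    ring
  · intro h
    obtain ⟨n, hn⟩ := exists_pow_mul_mem_sheafIdeal 𝒜 𝓘 s hs1 hf ha' h
    refine ⟨n, ?_⟩
    rw [← map_pow, ← map_mul]
    exact Ideal.Quotient.eq_zero_iff_mem.mpr hn

include hs1 in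
theorem exists_proj_quot_iso
    (hs : (HomogeneousIdeal.irrelevant 𝒜).toIdeal = Ideal.span (s : Set A))
    {Z : Scheme.{u}} (i : Z ⟶ Proj 𝒜) [IsClosedImmersion i] :
    ∃ (B : Type u) (_ : CommRing B) (_ : Algebra R B) (ℬ : ℕ → Submodule R B) (_ : GradedAlgebra ℬ)
      (φ : 𝒜 →+*ᵍ ℬ) (_ : Function.Surjective φ)
      (hφ : HomogeneousIdeal.irrelevant ℬ ≤ (HomogeneousIdeal.irrelevant 𝒜).map φ)
      (e : Z ≅ Proj ℬ), e.hom ≫ Proj.map φ hφ = i := by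
  let I := sheafIdeal 𝒜 i.ker s hs1
  have hI : I.IsHomogeneous 𝒜 := sheafIdeal_isHomogeneous 𝒜 i.ker s hs1
  letI := quotGradedAlgebra 𝒜 hI
  let φ : 𝒜 →+*ᵍ quotGrading 𝒜 I := quotGradedRingHom 𝒜 hI
  have hsurj : Function.Surjective φ := Ideal.Quotient.mk_surjective
  have hφ := irrelevant_le_map_of_surjective 𝒜 (quotGrading 𝒜 I) φ hsurj
  have hcl : IsClosedImmersion (Proj.map φ hφ) := isClosedImmersion_map φ hsurj hφ
  have hker : (Proj.map φ hφ).ker = i.ker := by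
    refine Scheme.IdealSheafData.ext_of_iSup_eq_top
      (fun f : s => projAffineOpen 𝒜 (hs1 f.1 f.2) one_pos) ?_ ?_
    · apply Proj.iSup_basicOpen_eq_top 𝒜 (fun f : s => (f : A))
      rw [hs]
      apply Ideal.span_mono
      intro x hx
      exact ⟨⟨x, hx⟩, rfl⟩
    · rintro ⟨f, hf⟩
      have h1 := awayIdeal_ker_map 𝒜 (quotGrading 𝒜 I) φ hsurj hφ (hs1 f hf) one_pos
      have h2 := ker_awayMap_quot 𝒜 i.ker s hs1 hf
      have h3 : awayIdeal 𝒜 (Proj.map φ hφ).ker (hs1 f hf) one_pos =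
          awayIdeal 𝒜 i.ker (hs1 f hf) one_pos := h1.trans h2
      rw [← map_awayToSection_awayIdeal 𝒜 _ (hs1 f hf) one_pos,
        ← map_awayToSection_awayIdeal 𝒜 i.ker (hs1 f hf) one_pos, h3]
  have hiso : IsIso (IsClosedImmersion.lift (Proj.map φ hφ) i hker.le) :=
    IsClosedImmersion.isIso_lift _ _ hker
  exact ⟨A ⧸ I, inferInstance, inferInstance, quotGrading 𝒜 I, inferInstance, φ, hsurj, hφ,
    asIso (IsClosedImmersion.lift (Proj.map φ hφ) i hker.le),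
    IsClosedImmersion.lift_fac _ _ _⟩

end

end Groth.Agent.Lib.Helper5
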