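import Mathlib
import Groth.Agent.Lib.Helper5.OpenLocal
import Groth.Agent.Lib.Helper5.QuotSchemes

/-!
# The quotient of a restricted fppf equivalence relation is an open subsheaf (helper5)

For an fppf equivalence relation `s, t : R ⇉ U` of schemes over `S`, a flat locally finitely presented `g : U' ⟶ U`
and the restriction `R'` of `R` to `U'`, the map `U'/R' ⟶ U/R` is representable by open immersions.
-/

set_option autoImplicit false
universe u
open CategoryTheory CategoryTheory.Limits AlgebraicGeometry Opposite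

namespace Groth.Agent.Lib.Helper5.QuotOpen

open AlgSp Groth.Agent.Lib.Helper5.SheafQuot Groth.Agent.Lib.Helper5 Groth.Agent.Lib.Helper5.OpenLocal
  Groth.Agent.Lib.Helper5.QuotSchemes

variable {S : Scheme.{u}} {R U R' U' : Over S} (s t : R ⟶ U) (g : U' ⟶ U) (s' t' : R' ⟶ U')
  (r : R' ⟶ R)

/-- The comparison map on `yon`. -/
lemma quotπ'_comp (φ : QuotSh.quot Scheme.fppfPrecoverage s' t' ⟶ QuotSh.quot Scheme.fppfPrecoverage s t)
    (hφ : QuotSh.quotπ Scheme.fppfPrecoverage s' t' ≫ φ =
      QuotSh.repMap Scheme.fppfPrecoverage g ≫ QuotSh.quotπ Scheme.fppfPrecoverage s t) :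
    quotπ' s' t' ≫ φ = (yon S).map g ≫ quotπ' s t := by
  calc quotπ' s' t' ≫ φ
      = (QuotSh.repIsoUliftYoneda Scheme.fppfPrecoverage U').inv ≫
          (QuotSh.quotπ Scheme.fppfPrecoverage s' t' ≫ φ) := Category.assoc _ _ _
    _ = (QuotSh.repIsoUliftYoneda Scheme.fppfPrecoverage U').inv ≫
          (QuotSh.repMap Scheme.fppfPrecoverage g ≫ QuotSh.quotπ Scheme.fppfPrecoverage s t) :=
        congrArg (fun z => (QuotSh.repIsoUliftYoneda Scheme.fppfPrecoverage U').inv ≫ z) hφ
    _ = ((QuotSh.repIsoUliftYoneda Scheme.fppfPrecoverage U').inv ≫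
          QuotSh.repMap Scheme.fppfPrecoverage g) ≫ QuotSh.quotπ Scheme.fppfPrecoverage s t :=
        (Category.assoc _ _ _).symm
    _ = ((yon S).map g ≫ (QuotSh.repIsoUliftYoneda Scheme.fppfPrecoverage U).inv) ≫
          QuotSh.quotπ Scheme.fppfPrecoverage s t :=
        congrArg (fun z => z ≫ QuotSh.quotπ Scheme.fppfPrecoverage s t) (repIso_inv_comp_repMap g)
    _ = (yon S).map g ≫ quotπ' s t := Category.assoc _ _ _

instance epi_quotπ' : Epi (quotπ' s t) := by
  unfold quotπ'
  haveI : Epi (QuotSh.quotπ Scheme.fppfPrecoverage s t) := by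
    unfold QuotSh.quotπ
    exact coequalizer.π_epi
  exact epi_comp _ _

variable {s t g s' t' r}

/-- Points of `U'` whose images in `U` are `R`-related are `R'`-related. -/
lemma exists_rel' (hsq : IsPullback (prod.lift t' s') r (prod.map g g) (prod.lift t s))
    {T : Over S} (a b : T ⟶ U') (ρ : T ⟶ R) (h1 : ρ ≫ t = a ≫ g) (h2 : ρ ≫ s = b ≫ g) :
    ∃ ρ' : T ⟶ R', ρ' ≫ t' = a ∧ ρ' ≫ s' = b := by
  have w : prod.lift a b ≫ prod.map g g = ρ ≫ prod.lift t s := by
    apply Limits.prod.hom_ext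
    · rw [Category.assoc, Category.assoc, prod.map_fst, prod.lift_fst, prod.lift_fst_assoc, h1]
    · rw [Category.assoc, Category.assoc, prod.map_snd, prod.lift_snd, prod.lift_snd_assoc, h2]
  refine ⟨hsq.lift (prod.lift a b) ρ w, ?_, ?_⟩
  · have := congrArg (· ≫ prod.fst) (hsq.lift_fst (prod.lift a b) ρ w)
    simpa only [Category.assoc, prod.lift_fst] using this
  · have := congrArg (· ≫ prod.snd) (hsq.lift_fst (prod.lift a b) ρ w)
    simpa only [Category.assoc, prod.lift_snd] using this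

/-- The map of quotient sheaves induced by a restriction is a monomorphism. -/
theorem mono_of_restriction (hsq : IsPullback (prod.lift t' s') r (prod.map g g) (prod.lift t s))
    (hR : AlgSp.IsEqvRel s t)
    (φ : QuotSh.quot Scheme.fppfPrecoverage s' t' ⟶ QuotSh.quot Scheme.fppfPrecoverage s t)
    (hφ : quotπ' s' t' ≫ φ = (yon S).map g ≫ quotπ' s t) : Mono φ := by
  apply mono_of_yon_cancel
  intro T x y hxy
  obtain ⟨R₁, hR₁, h1⟩ := exists_local_lift_of_epi (quotπ' s' t') x
  obtain ⟨R₂, hR₂, h2⟩ := exists_local_lift_of_epi (quotπ' s' t') y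
  refine eq_of_locally_eq x y (R₁ ⊓ R₂) ((J S).intersection_covering hR₁ hR₂) ?_
  rintro T' f ⟨hf1, hf2⟩
  obtain ⟨a, ha⟩ := h1 f hf1
  obtain ⟨b, hb⟩ := h2 f hf2
  obtain ⟨a₀, rfl⟩ := (yon S).map_surjective a
  obtain ⟨b₀, rfl⟩ := (yon S).map_surjective b
  have hab : (yon S).map (a₀ ≫ g) ≫ quotπ' s t = (yon S).map (b₀ ≫ g) ≫ quotπ' s t := by
    rw [Functor.map_comp, Functor.map_comp, Category.assoc, Category.assoc, ← hφ,
      ← Category.assoc, ← Category.assoc, ha, hb, Category.assoc, Category.assoc, hxy]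
  have hk := isPullback_quotπ' s t hR
  obtain ⟨ρ₀, hρ₀⟩ := (yon S).map_surjective (hk.lift _ _ hab)
  have hρ1 : ρ₀ ≫ t = a₀ ≫ g := by
    apply (yon S).map_injective
    rw [Functor.map_comp, hρ₀]
    exact hk.lift_fst _ _ hab
  have hρ2 : ρ₀ ≫ s = b₀ ≫ g := by
    apply (yon S).map_injective
    rw [Functor.map_comp, hρ₀]
    exact hk.lift_snd _ _ hab
  obtain ⟨ρ', hρ'1, hρ'2⟩ := exists_rel' hsq a₀ b₀ ρ₀ hρ1 hρ2
  rw [← ha, ← hb, ← hρ'1, ← hρ'2, Functor.map_comp, Functor.map_comp, Category.assoc,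
    Category.assoc, quotπ'_condition]

/-- **Level 1**: the pullback of `U'/R' ⟶ U/R` along `h_U ⟶ U/R` is the open saturation of the image of `g`. -/
theorem exists_isPullback_atlas (hsq : IsPullback (prod.lift t' s') r (prod.map g g) (prod.lift t s))
    (hR : AlgSp.IsEqvRel s t) [Flat t.left] [LocallyOfFinitePresentation t.left]
    [Flat g.left] [LocallyOfFinitePresentation g.left]
    (φ : QuotSh.quot Scheme.fppfPrecoverage s' t' ⟶ QuotSh.quot Scheme.fppfPrecoverage s t)
    (hφ : quotπ' s' t' ≫ φ = (yon S).map g ≫ quotπ' s t) :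
    ∃ (W : Over S) (ιW : W ⟶ U) (ρ : (yon S).obj W ⟶ QuotSh.quot Scheme.fppfPrecoverage s' t'),
      IsOpenImmersion ιW.left ∧ IsPullback ρ ((yon S).map ιW) φ (quotπ' s t) := by
  haveI : Mono φ := mono_of_restriction hsq hR φ hφ
  -- the open saturation
  let h₀ : pullback g.left s.left ⟶ U.left := pullback.snd g.left s.left ≫ t.left
  let W₀ : U.left.Opens := ⟨Set.range h₀, h₀.isOpenMap.isOpen_range⟩
  let W : Over S := Over.mk (W₀.ι ≫ U.hom)
  let ιW : W ⟶ U := Over.homMk W₀.ι rfl
  have hιW : IsOpenImmersion ιW.left := by change IsOpenImmersion W₀.ι; infer_instance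
  haveI : Mono ιW.left := by change Mono W₀.ι; infer_instance
  have hrW : Set.range W₀.ι = Set.range h₀ := Scheme.Opens.range_ι W₀
  let Q : Over S := Over.mk (h₀ ≫ U.hom)
  have hcond : pullback.fst g.left s.left ≫ U'.hom = h₀ ≫ U.hom := by
    change _ = (pullback.snd g.left s.left ≫ t.left) ≫ U.hom
    rw [← Over.w g, pullback.condition_assoc, Over.w s, Category.assoc, Over.w t]
  let qU' : Q ⟶ U' := Over.homMk (pullback.fst g.left s.left) hcond
  let qR : Q ⟶ R := Over.homMk (pullback.snd g.left s.left) (by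
    change pullback.snd g.left s.left ≫ R.hom = (pullback.snd g.left s.left ≫ t.left) ≫ U.hom
    rw [Category.assoc, Over.w t])
  have hq1 : qU' ≫ g = qR ≫ s := by
    apply Over.OverMorphism.ext
    exact pullback.condition
  let h₁ : pullback g.left s.left ⟶ (W₀ : Scheme.{u}) := IsOpenImmersion.lift W₀.ι h₀ hrW.ge
  have hh₁ : h₁ ≫ W₀.ι = h₀ := IsOpenImmersion.lift_fac _ _ _
  let h : Q ⟶ W := Over.homMk h₁ (by
    change h₁ ≫ W₀.ι ≫ U.hom = h₀ ≫ U.hom
    rw [← Category.assoc, hh₁])
  have hq2 : h ≫ ιW = qR ≫ t := by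
    apply Over.OverMorphism.ext
    exact hh₁
  haveI : Flat h.left := by
    refine MorphismProperty.of_postcomp (W := @Flat) (W' := MorphismProperty.monomorphisms _)
      h₁ W₀.ι (inferInstance : Mono W₀.ι) ?_
    rw [hh₁]
    infer_instance
  haveI : LocallyOfFinitePresentation h.left := by
    refine MorphismProperty.of_postcomp (W := @LocallyOfFinitePresentation)
      (W' := MorphismProperty.monomorphisms _) h₁ W₀.ι (inferInstance : Mono W₀.ι) ?_
    rw [hh₁]
    infer_instance
  haveI : Surjective h.left := by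
    refine ⟨fun w => ?_⟩
    have hw : W₀.ι w ∈ Set.range h₀ := by rw [← hrW]; exact ⟨w, rfl⟩
    obtain ⟨q, hq⟩ := hw
    refine ⟨q, ?_⟩
    apply W₀.ι.isOpenEmbedding.injective
    rw [← hq, ← hh₁]
    rfl
  -- the map `h_W ⟶ U'/R'`
  obtain ⟨ρ, hρ⟩ := exists_lift_of_locally_lift_mono φ ((yon S).map ιW ≫ quotπ' s t)
    (Sieve.generate (Presieve.singleton h)) (generate_singleton_mem_J h) (by
      rintro T' _ ⟨_, k, _, ⟨⟩, rfl⟩
      refine ⟨(yon S).map (k ≫ qU') ≫ quotπ' s' t', ?_⟩
      rw [Category.assoc, hφ, ← Category.assoc, ← Functor.map_comp, Category.assoc, hq1,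
        Functor.map_comp, Functor.map_comp, Category.assoc, Category.assoc, quotπ'_condition,
        ← Category.assoc, ← Category.assoc, ← Category.assoc, ← Functor.map_comp,
        ← Functor.map_comp, ← Functor.map_comp, Category.assoc, ← hq2, Category.assoc])
  refine ⟨W, ιW, ρ, hιW, ?_⟩
  refine sheaf_isPullback_of_yon.{u, u + 1, u + 1} (J S) _ _ _ _ hρ ?_ ?_
  · intro T'' z z' _ h2
    obtain ⟨z₀, rfl⟩ := (yon S).map_surjective z
    obtain ⟨z₀', rfl⟩ := (yon S).map_surjective z'
    rw [← Functor.map_comp, ← Functor.map_comp] at h2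
    have h3 := (yon S).map_injective h2
    congr 1
    apply Over.OverMorphism.ext
    have h4 := congrArg (fun k => k.left) h3
    simp only [Over.comp_left] at h4
    exact (cancel_mono ιW.left).1 h4
  · intro T y x hxy
    obtain ⟨x₀, rfl⟩ := (yon S).map_surjective x
    have hk := isPullback_quotπ' s t hR
    have hx₀ : Set.range x₀.left ⊆ Set.range W₀.ι := by
      rw [hrW]
      rintro _ ⟨x'', rfl⟩
      obtain ⟨R₁, hR₁, hl⟩ := exists_local_lift_of_epi (quotπ' s' t') y
      obtain ⟨ι, Vi, c, hcR, -, -, hcs⟩ := QuotFlat.exists_fppf_family_of_mem_J R₁ hR₁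
      obtain ⟨i, v, hv⟩ := hcs x''
      obtain ⟨a, ha⟩ := hl (c i) (hcR i)
      obtain ⟨a₀, rfl⟩ := (yon S).map_surjective a
      have hab : (yon S).map (c i ≫ x₀) ≫ quotπ' s t = (yon S).map (a₀ ≫ g) ≫ quotπ' s t := by
        rw [Functor.map_comp, Functor.map_comp, Category.assoc, Category.assoc, ← hφ, ← hxy,
          ← Category.assoc, ← Category.assoc, ha]
      obtain ⟨r₁, hr₁⟩ := (yon S).map_surjective (hk.lift _ _ hab)
      have hr1 : r₁ ≫ t = c i ≫ x₀ := by
        apply (yon S).map_injective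
        rw [Functor.map_comp, hr₁]
        exact hk.lift_fst _ _ hab
      have hr2 : r₁ ≫ s = a₀ ≫ g := by
        apply (yon S).map_injective
        rw [Functor.map_comp, hr₁]
        exact hk.lift_snd _ _ hab
      have hr2' : a₀.left ≫ g.left = r₁.left ≫ s.left := by
        have := congrArg (fun k => k.left) hr2
        simpa only [Over.comp_left] using this.symm
      have hr1' : r₁.left ≫ t.left = (c i).left ≫ x₀.left := by
        have := congrArg (fun k => k.left) hr1
        simpa only [Over.comp_left] using this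
      refine ⟨pullback.lift a₀.left r₁.left hr2' v, ?_⟩
      change (pullback.lift a₀.left r₁.left hr2' ≫ pullback.snd g.left s.left ≫ t.left) v = _
      rw [pullback.lift_snd_assoc, hr1', ← hv]
      rfl
    let x₁ : T ⟶ W := Over.homMk (IsOpenImmersion.lift W₀.ι x₀.left hx₀) (by
      change IsOpenImmersion.lift W₀.ι x₀.left hx₀ ≫ W₀.ι ≫ U.hom = T.hom
      rw [← Category.assoc, IsOpenImmersion.lift_fac, Over.w])
    have hx₁ : x₁ ≫ ιW = x₀ := by
      apply Over.OverMorphism.ext
      exact IsOpenImmersion.lift_fac _ _ _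
    refine ⟨(yon S).map x₁, ?_, ?_⟩
    · rw [← cancel_mono φ, Category.assoc, hρ, ← Category.assoc, ← Functor.map_comp, hx₁, hxy]
    · rw [← Functor.map_comp, hx₁]

/-- The restriction of an open subscheme along a morphism, as a pullback square of representable sheaves. -/
theorem exists_isPullback_preimage {W U T : Over S} (ιW : W ⟶ U) (hιW : IsOpenImmersion ιW.left)
    (a : T ⟶ U) :
    ∃ (V : Over S) (j : V ⟶ T) (a' : V ⟶ W), IsOpenImmersion j.left ∧
      IsPullback ((yon S).map a') ((yon S).map j) ((yon S).map ιW) ((yon S).map a) := by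
  haveI := hιW
  let V₀ : T.left.Opens := a.left ⁻¹ᵁ ιW.left.opensRange
  let V : Over S := Over.mk (V₀.ι ≫ T.hom)
  let j : V ⟶ T := Over.homMk V₀.ι rfl
  have hj : IsOpenImmersion j.left := by change IsOpenImmersion V₀.ι; infer_instance
  haveI : Mono j.left := by change Mono V₀.ι; infer_instance
  haveI : Mono ιW.left := inferInstance
  have hrange : Set.range (V₀.ι ≫ a.left) ⊆ Set.range ιW.left := by
    rintro _ ⟨v, rfl⟩
    exact v.2
  let a₀ : (V₀ : Scheme.{u}) ⟶ W.left := IsOpenImmersion.lift ιW.left (V₀.ι ≫ a.left) hrange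
  have ha₀ : a₀ ≫ ιW.left = V₀.ι ≫ a.left := IsOpenImmersion.lift_fac _ _ _
  let a' : V ⟶ W := Over.homMk a₀ (by
    change a₀ ≫ W.hom = V₀.ι ≫ T.hom
    rw [← Over.w ιW, ← Category.assoc, ha₀, Category.assoc, Over.w])
  have hw : a' ≫ ιW = j ≫ a := by
    apply Over.OverMorphism.ext
    exact ha₀
  refine ⟨V, j, a', hj, ?_⟩
  refine sheaf_isPullback_of_yon.{u, u + 1, u + 1} (J S) _ _ _ _
    (by rw [← Functor.map_comp, ← Functor.map_comp, hw]) ?_ ?_
  · intro T'' z z' _ h2
    obtain ⟨z₀, rfl⟩ := (yon S).map_surjective z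
    obtain ⟨z₀', rfl⟩ := (yon S).map_surjective z'
    rw [← Functor.map_comp, ← Functor.map_comp] at h2
    have h3 := (yon S).map_injective h2
    congr 1
    apply Over.OverMorphism.ext
    have h4 := congrArg (fun k => k.left) h3
    simp only [Over.comp_left] at h4
    exact (cancel_mono j.left).1 h4
  · intro T'' x y hxy
    obtain ⟨x₀, rfl⟩ := (yon S).map_surjective x
    obtain ⟨y₀, rfl⟩ := (yon S).map_surjective y
    rw [← Functor.map_comp, ← Functor.map_comp] at hxy
    have hxy' : x₀ ≫ ιW = y₀ ≫ a := (yon S).map_injective hxy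
    have hxy'' : x₀.left ≫ ιW.left = y₀.left ≫ a.left := by
      have := congrArg (fun k => k.left) hxy'
      simpa only [Over.comp_left] using this
    have hy₀ : Set.range y₀.left ⊆ Set.range V₀.ι := by
      rw [Scheme.Opens.range_ι]
      rintro _ ⟨p, rfl⟩
      change a.left (y₀.left p) ∈ Set.range ιW.left
      refine ⟨x₀.left p, ?_⟩
      change (x₀.left ≫ ιW.left) p = _
      rw [hxy'']
      rfl
    let z₀ : T'' ⟶ V := Over.homMk (IsOpenImmersion.lift V₀.ι y₀.left hy₀) (by
      change IsOpenImmersion.lift V₀.ι y₀.left hy₀ ≫ V₀.ι ≫ T.hom = T''.hom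
      rw [← Category.assoc, IsOpenImmersion.lift_fac, Over.w])
    have hz₀ : z₀ ≫ j = y₀ := by
      apply Over.OverMorphism.ext
      exact IsOpenImmersion.lift_fac _ _ _
    refine ⟨(yon S).map z₀, ?_, ?_⟩
    · rw [← Functor.map_comp]
      congr 1
      apply Over.OverMorphism.ext
      rw [← cancel_mono ιW.left]
      have h5 := congrArg (fun k => k.left) hw
      have h6 := congrArg (fun k => k.left) hz₀
      simp only [Over.comp_left] at h5 h6 ⊢
      rw [Category.assoc, h5, ← Category.assoc, h6, hxy'']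
    · rw [← Functor.map_comp, hz₀]

/-- **The quotient of a restriction is an open subsheaf**: `U'/R' ⟶ U/R` is representable by open
immersions. -/
theorem repWith_isOpenImmersion_of_restriction
    (hsq : IsPullback (prod.lift t' s') r (prod.map g g) (prod.lift t s))
    (hR : AlgSp.IsEqvRel s t) [Flat t.left] [LocallyOfFinitePresentation t.left]
    [Flat g.left] [LocallyOfFinitePresentation g.left]
    (φ : QuotSh.quot Scheme.fppfPrecoverage s' t' ⟶ QuotSh.quot Scheme.fppfPrecoverage s t)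
    (hφ : quotπ' s' t' ≫ φ = (yon S).map g ≫ quotπ' s t) :
    RepWith @IsOpenImmersion φ := by
  haveI : Mono φ := mono_of_restriction hsq hR φ hφ
  obtain ⟨W, ιW, ρ, hιW, sqW⟩ := exists_isPullback_atlas hsq hR φ hφ
  apply MorphismProperty.relative.of_exists
  intro T ξ
  obtain ⟨R₁, hR₁, hl⟩ := exists_local_lift_of_epi (quotπ' s t) ξ
  obtain ⟨ι, Ti, f, hfR, hfl, hfp, hfs⟩ := QuotFlat.exists_fppf_family_of_mem_J R₁ hR₁
  choose a ha using fun i => hl (f i) (hfR i)
  choose a₀ ha₀ using fun i => (yon S).map_surjective (a i)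
  choose V j a' hj hpb using fun i => exists_isPullback_preimage ιW hιW (a₀ i)
  have hsqi : ∀ i, IsPullback ((yon S).map (a' i) ≫ ρ) ((yon S).map (j i)) φ
      ((yon S).map (f i) ≫ ξ) := by
    intro i
    have h1 := (hpb i).paste_horiz sqW
    rw [ha₀ i, ha i] at h1
    exact h1
  obtain ⟨T₀, j₀, p₀, hj₀, hsq₀⟩ := exists_isPullback_open_of_local φ ξ Ti f hfl hfp hfs V j hj
    (fun i => (yon S).map (a' i) ≫ ρ) hsqi
  exact ⟨T₀, p₀, j₀, hsq₀, hj₀⟩

end Groth.Agent.Lib.Helper5.QuotOpen
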