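import Groth.Agent.Lib.Helper5.QuotShBasic
import Groth.Agent.Lib.Helper5.SheafQuot
import Mathlib.CategoryTheory.Sites.LocallyBijective

/-! # Points of `U` with the same image in `U/R` are locally `R`-related, for a pre-equivalence relation (helper5) -/

set_option autoImplicit false
universe u

open CategoryTheory CategoryTheory.Limits AlgebraicGeometry Opposite

namespace Groth.Agent.Lib.Helper5.QuotShPre

open AlgSp Groth.Agent.Lib.Helper5

variable {S : Scheme.{u}} {R U : Over S} (s t : R ⟶ U)
  (h : ∀ (T : Over S), Equivalence (fun a b : T ⟶ U => ∃ r : T ⟶ R, r ≫ t = a ∧ r ≫ s = b))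

/-- The setoid on `Z`-points of `U` given by the pre-equivalence relation. -/
def ptSetoid (Z : Over S) : Setoid (ULift.{u + 1} (Z ⟶ U)) where
  r x y := ∃ r : Z ⟶ R, r ≫ t = x.down ∧ r ≫ s = y.down
  iseqv := ⟨fun x => (h Z).refl x.down, fun hxy => (h Z).symm hxy,
    fun h1 h2 => (h Z).trans h1 h2⟩

/-- The presheaf quotient `Z ↦ U(Z)/R(Z)`. -/
def quotPresheaf : (Over S)ᵒᵖ ⥤ Type (u + 1) where
  obj Z := Quotient (ptSetoid s t h Z.unop)
  map {Z W} f := ↾(Quotient.map' (s₁ := ptSetoid s t h Z.unop) (s₂ := ptSetoid s t h W.unop)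
    (fun x => ⟨f.unop ≫ x.down⟩) (by
      rintro x y ⟨r, h1, h2⟩
      exact ⟨f.unop ≫ r, by rw [Category.assoc, h1], by rw [Category.assoc, h2]⟩))
  map_id Z := by
    ext x
    induction x using Quotient.inductionOn with
    | h x =>
      apply Quotient.sound'
      simp only [unop_id, Category.id_comp]
      exact (ptSetoid s t h Z.unop).refl _
  map_comp {X Y Z} f g := by
    ext x
    induction x using Quotient.inductionOn with
    | h x =>
      apply Quotient.sound'
      simp only [unop_comp, Category.assoc]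
      exact (ptSetoid s t h Z.unop).refl _

/-- The natural map `h_U ⟶ U(-)/R(-)` of presheaves. -/
def toQuotPresheaf : ((yon S).obj U).obj ⟶ quotPresheaf s t h where
  app Z := ↾(fun x => Quotient.mk (ptSetoid s t h Z.unop) x)
  naturality := by
    intro Z W f
    rfl

/-- The map `h_U ⟶ (U(-)/R(-))^sh` of sheaves. -/
noncomputable def toQuotSheaf :
    (yon S).obj U ⟶ (presheafToSheaf (J S) (Type (u + 1))).obj (quotPresheaf s t h) :=
  ⟨toQuotPresheaf s t h ≫ toSheafify (J S) (quotPresheaf s t h)⟩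

lemma toQuotSheaf_condition :
    (yon S).map s ≫ toQuotSheaf s t h = (yon S).map t ≫ toQuotSheaf s t h := by
  apply Sheaf.hom_ext
  change ((yon S).map s).hom ≫ toQuotPresheaf s t h ≫ toSheafify (J S) (quotPresheaf s t h) =
    ((yon S).map t).hom ≫ toQuotPresheaf s t h ≫ toSheafify (J S) (quotPresheaf s t h)
  rw [← Category.assoc, ← Category.assoc]
  congr 1
  ext Z r
  apply Quotient.sound
  exact (ptSetoid s t h Z.unop).symm ⟨r.down, rfl, rfl⟩

include h in
/-- Two points of `U` with the same image in `U/R` are locally `R`-equivalent. -/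
theorem exists_local_rel {T : Over S} (a b : T ⟶ U)
    (hab : (yon S).map a ≫ quotπ' s t = (yon S).map b ≫ quotπ' s t) :
    ∃ R₀ ∈ J S T, ∀ ⦃T' : Over S⦄ (f : T' ⟶ T), R₀ f →
      ∃ ρ : T' ⟶ R, ρ ≫ t = f ≫ a ∧ ρ ≫ s = f ≫ b := by
  let d := (quotIsColimit s t).desc (Cofork.ofπ (toQuotSheaf s t h) (toQuotSheaf_condition s t h))
  have hd : quotπ' s t ≫ d = toQuotSheaf s t h :=
    (quotIsColimit s t).fac (Cofork.ofπ (toQuotSheaf s t h) (toQuotSheaf_condition s t h))
      WalkingParallelPair.one
  have h0 : (yon S).map a ≫ toQuotSheaf s t h = (yon S).map b ≫ toQuotSheaf s t h := by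
    rw [← hd, ← Category.assoc, hab, Category.assoc]
  let x : ((yon S).obj U).obj.obj (op T) := ⟨a⟩
  let y : ((yon S).obj U).obj.obj (op T) := ⟨b⟩
  have h1 : (toQuotSheaf s t h).hom.app (op T) x = (toQuotSheaf s t h).hom.app (op T) y := by
    have h2 := congrArg (fun k => (J S).uliftYonedaEquiv k) h0
    simp only [GrothendieckTopology.uliftYonedaEquiv_comp] at h2
    rw [GrothendieckTopology.uliftYonedaEquiv_uliftYoneda_map,
      GrothendieckTopology.uliftYonedaEquiv_uliftYoneda_map] at h2
    exact h2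
  have hS : Presheaf.equalizerSieve (F := quotPresheaf s t h)
      ((toQuotPresheaf s t h).app (op T) x) ((toQuotPresheaf s t h).app (op T) y) ∈ J S T :=
    Presheaf.equalizerSieve_mem (J S) (toSheafify (J S) (quotPresheaf s t h)) _ _ h1
  refine ⟨_, hS, ?_⟩
  intro W f hf
  exact Quotient.exact hf

end Groth.Agent.Lib.Helper5.QuotShPre
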