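import Mathlib
import Groth.Agent.Lib.Helper5.QuotOpen
import Groth.Agent.Lib.Helper5.QuotShPre
import Groth.Agent.Lib.Helper36.OpenSubspace
import Groth.Prelude.Def_Grpd

/-!
# The quotient of a restricted pre-equivalence relation is an open subsheaf (helper5)

Version of `Lib/Helper5/QuotOpen` for pre-equivalence relations (e.g. groupoid schemes), with the open saturation `W`
of the image of `g : U' ⟶ U` given, together with local lifting of its points.
-/

set_option autoImplicit false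
universe u
open CategoryTheory CategoryTheory.Limits AlgebraicGeometry Opposite

namespace Groth.Agent.Lib.Helper5.QuotOpenPre

open AlgSp Groth.Agent.Lib.Helper5.SheafQuot Groth.Agent.Lib.Helper5 Groth.Agent.Lib.Helper5.OpenLocal
  Groth.Agent.Lib.Helper5.QuotSchemes Groth.Agent.Lib.Helper5.QuotOpen

variable {S : Scheme.{u}} {R U R' U' : Over S} {s t : R ⟶ U} {g : U' ⟶ U} {s' t' : R' ⟶ U'}
  {r : R' ⟶ R}

/-- The map of quotient sheaves induced by a restriction is a monomorphism (pre-equivalence relations). -/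
theorem mono_of_restriction_pre
    (hsq : IsPullback (prod.lift t' s') r (prod.map g g) (prod.lift t s))
    (hpre : ∀ (T : Over S), Equivalence (fun a b : T ⟶ U => ∃ r : T ⟶ R, r ≫ t = a ∧ r ≫ s = b))
    (φ : QuotSh.quot Scheme.fppfPrecoverage s' t' ⟶ QuotSh.quot Scheme.fppfPrecoverage s t)
    (hφ : quotπ' s' t' ≫ φ = (yon S).map g ≫ quotπ' s t) : Mono φ := by
  apply mono_of_yon_cancel
  intro T x y hxy
  obtain ⟨R₁, hR₁, h1⟩ := exists_local_lift_of_epi (quotπ' s' t') x
  obtain ⟨R₂, hR₂, h2⟩ := exists_local_lift_of_epi (quotπ' s' t') y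
  refine eq_of_locally_eq x y (R₁ ⊓ R₂) ((J S).intersection_covering hR₁ hR₂) ?_
  rintro T' f ⟨hf1, hf2⟩
  obtain ⟨a, ha⟩ := h1 f hf1
  obtain ⟨b, hb⟩ := h2 f hf2
  obtain ⟨a₀, rfl⟩ := (yon S).map_surjective a
  obtain ⟨b₀, rfl⟩ := (yon S).map_surjective b
  have hab : (yon S).map (a₀ ≫ g) ≫ quotπ' s t = (yon S).map (b₀ ≫ g) ≫ quotπ' s t := by
    rw [Functor.map_comp, Functor.map_comp, Category.assoc, Category.assoc, ← hφ,
      ← Category.assoc, ← Category.assoc, ha, hb, Category.assoc, Category.assoc, hxy]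
  obtain ⟨R₃, hR₃, h3⟩ := QuotShPre.exists_local_rel s t hpre (a₀ ≫ g) (b₀ ≫ g) hab
  rw [← ha, ← hb]
  refine eq_of_locally_eq _ _ R₃ hR₃ ?_
  intro T'' k hk
  obtain ⟨ρ₀, hρ1, hρ2⟩ := h3 k hk
  obtain ⟨ρ', hρ'1, hρ'2⟩ := exists_rel' hsq (k ≫ a₀) (k ≫ b₀) ρ₀
    (by rw [hρ1, Category.assoc]) (by rw [hρ2, Category.assoc])
  rw [← Category.assoc, ← Category.assoc, ← Functor.map_comp, ← Functor.map_comp, ← hρ'1, ← hρ'2,
    Functor.map_comp, Functor.map_comp, Category.assoc, Category.assoc, quotπ'_condition]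

/-- **The quotient of a restriction is an open subsheaf** (pre-equivalence relations, with the open
saturation given). -/
theorem repWith_isOpenImmersion_of_restriction_pre
    (hsq : IsPullback (prod.lift t' s') r (prod.map g g) (prod.lift t s))
    (hpre : ∀ (T : Over S), Equivalence (fun a b : T ⟶ U => ∃ r : T ⟶ R, r ≫ t = a ∧ r ≫ s = b))
    {W : Over S} (ιW : W ⟶ U) (hιW : IsOpenImmersion ιW.left)
    (hWrange : ∀ ⦃T : Over S⦄ (a : T ⟶ U') (ρ : T ⟶ R), ρ ≫ t = a ≫ g →
      Set.range (ρ ≫ s).left ⊆ Set.range ιW.left)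
    (hWlift : ∃ R₀ ∈ J S W, ∀ ⦃T' : Over S⦄ (f : T' ⟶ W), R₀ f →
      ∃ (a : T' ⟶ U') (ρ : T' ⟶ R), ρ ≫ t = a ≫ g ∧ ρ ≫ s = f ≫ ιW)
    (φ : QuotSh.quot Scheme.fppfPrecoverage s' t' ⟶ QuotSh.quot Scheme.fppfPrecoverage s t)
    (hφ : quotπ' s' t' ≫ φ = (yon S).map g ≫ quotπ' s t) :
    RepWith @IsOpenImmersion φ := by
  haveI : Mono φ := mono_of_restriction_pre hsq hpre φ hφ
  haveI := hιW
  haveI : Mono ιW.left := inferInstance
  -- the map `h_W ⟶ U'/R'`
  obtain ⟨R₀, hR₀, hl₀⟩ := hWlift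
  obtain ⟨ρW, hρW⟩ := exists_lift_of_locally_lift_mono φ ((yon S).map ιW ≫ quotπ' s t) R₀ hR₀ (by
    intro T' f hf
    obtain ⟨a, ρ, h1, h2⟩ := hl₀ f hf
    refine ⟨(yon S).map a ≫ quotπ' s' t', ?_⟩
    rw [Category.assoc, hφ, ← Category.assoc, ← Functor.map_comp, ← h1, Functor.map_comp,
      Category.assoc, ← quotπ'_condition, ← Category.assoc, ← Functor.map_comp, h2,
      Functor.map_comp, Category.assoc])
  -- level 1
  have sqW : IsPullback ρW ((yon S).map ιW) φ (quotπ' s t) := by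
    refine sheaf_isPullback_of_yon.{u, u + 1, u + 1} (J S) _ _ _ _ hρW ?_ ?_
    · intro T'' z z' _ h2
      obtain ⟨z₀, rfl⟩ := (yon S).map_surjective z
      obtain ⟨z₀', rfl⟩ := (yon S).map_surjective z'
      rw [← Functor.map_comp, ← Functor.map_comp] at h2
      have h3 := (yon S).map_injective h2
      congr 1
      apply Over.OverMorphism.ext
      have h4 := congrArg (fun k => k.left) h3
      simp only [Over.comp_left] at h4
      exact (cancel_mono ιW.left).1 h4
    · intro T y x hxy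
      obtain ⟨x₀, rfl⟩ := (yon S).map_surjective x
      have hx₀ : Set.range x₀.left ⊆ Set.range ιW.left := by
        rintro _ ⟨x'', rfl⟩
        obtain ⟨R₁, hR₁, hl⟩ := exists_local_lift_of_epi (quotπ' s' t') y
        obtain ⟨T₁, c, hc, v, hv⟩ :=
          Groth.Agent.Lib.Helper36.OpenSubspace.exists_mem_of_mem_J R₁ hR₁ x''
        obtain ⟨a, ha⟩ := hl c hc
        obtain ⟨a₀, rfl⟩ := (yon S).map_surjective a
        have hab : (yon S).map (a₀ ≫ g) ≫ quotπ' s t = (yon S).map (c ≫ x₀) ≫ quotπ' s t := by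
          rw [Functor.map_comp, Functor.map_comp, Category.assoc, Category.assoc, ← hφ, ← hxy,
            ← Category.assoc, ← Category.assoc, ha]
        obtain ⟨R₂, hR₂, h2⟩ := QuotShPre.exists_local_rel s t hpre (a₀ ≫ g) (c ≫ x₀) hab
        obtain ⟨T₂, k, hk, v', hv'⟩ :=
          Groth.Agent.Lib.Helper36.OpenSubspace.exists_mem_of_mem_J R₂ hR₂ v
        obtain ⟨ρ, hρ1, hρ2⟩ := h2 k hk
        have h5 := hWrange (k ≫ a₀) ρ (by rw [hρ1, Category.assoc])
        apply h5
        refine ⟨v', ?_⟩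
        rw [hρ2, ← hv, ← hv']
        rfl
      let x₁ : T ⟶ W := Over.homMk (IsOpenImmersion.lift ιW.left x₀.left hx₀) (by
        rw [← Over.w ιW, ← Category.assoc, IsOpenImmersion.lift_fac, Over.w])
      have hx₁ : x₁ ≫ ιW = x₀ := by
        apply Over.OverMorphism.ext
        exact IsOpenImmersion.lift_fac _ _ _
      refine ⟨(yon S).map x₁, ?_, ?_⟩
      · rw [← cancel_mono φ, Category.assoc, hρW, ← Category.assoc, ← Functor.map_comp, hx₁, hxy]
      · rw [← Functor.map_comp, hx₁]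
  -- level 2
  apply MorphismProperty.relative.of_exists
  intro T ξ
  obtain ⟨R₁, hR₁, hl⟩ := exists_local_lift_of_epi (quotπ' s t) ξ
  obtain ⟨ι, Ti, f, hfR, hfl, hfp, hfs⟩ := QuotFlat.exists_fppf_family_of_mem_J R₁ hR₁
  choose a ha using fun i => hl (f i) (hfR i)
  choose a₀ ha₀ using fun i => (yon S).map_surjective (a i)
  choose V j a' hj hpb using fun i => exists_isPullback_preimage ιW hιW (a₀ i)
  have hsqi : ∀ i, IsPullback ((yon S).map (a' i) ≫ ρW) ((yon S).map (j i)) φ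
      ((yon S).map (f i) ≫ ξ) := by
    intro i
    have h1 := (hpb i).paste_horiz sqW
    rw [ha₀ i, ha i] at h1
    exact h1
  obtain ⟨T₀, j₀, p₀, hj₀, hsq₀⟩ := exists_isPullback_open_of_local φ ξ Ti f hfl hfp hfs V j hj
    (fun i => (yon S).map (a' i) ≫ ρW) hsqi
  exact ⟨T₀, p₀, j₀, hsq₀, hj₀⟩

/-- The relation on `T`-points given by a groupoid scheme is an equivalence relation. -/
theorem preEqv_of_groupoid {S : Scheme.{u}} (G : Grpd.GroupoidScheme S) (T : Over S) :
    Equivalence (fun a b : T ⟶ Over.mk G.pU => ∃ r : T ⟶ Over.mk G.pR,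
      r ≫ (Over.homMk G.t G.t_over : Over.mk G.pR ⟶ Over.mk G.pU) = a ∧
      r ≫ (Over.homMk G.s G.s_over : Over.mk G.pR ⟶ Over.mk G.pU) = b) := by
  refine ⟨fun a => ?_, ?_, ?_⟩
  · refine ⟨a ≫ (Over.homMk G.e (by
      change G.e ≫ G.pR = G.pU
      rw [← G.s_over, ← Category.assoc, G.e_s, Category.id_comp]) : Over.mk G.pU ⟶ Over.mk G.pR), ?_, ?_⟩
    · apply Over.OverMorphism.ext
      simp only [Over.comp_left, Over.homMk_left, Category.assoc, G.e_t]
      exact Category.comp_id _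
    · apply Over.OverMorphism.ext
      simp only [Over.comp_left, Over.homMk_left, Category.assoc, G.e_s]
      exact Category.comp_id _
  · rintro a b ⟨r, rfl, rfl⟩
    refine ⟨r ≫ (Over.homMk G.i (by
      change G.i ≫ G.pR = G.pR
      have h1 : G.i ≫ G.pR = G.i ≫ G.s ≫ G.pU := by rw [G.s_over]
      rw [h1, ← Category.assoc, G.i_s, G.t_over]) : Over.mk G.pR ⟶ Over.mk G.pR), ?_, ?_⟩
    · apply Over.OverMorphism.ext
      simp only [Over.comp_left, Over.homMk_left, Category.assoc, G.i_t]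
    · apply Over.OverMorphism.ext
      simp only [Over.comp_left, Over.homMk_left, Category.assoc, G.i_s]
  · rintro a b c ⟨r₁, rfl, rfl⟩ ⟨r₂, h1, rfl⟩
    have hc : r₁.left ≫ G.s = r₂.left ≫ G.t := by
      have := congrArg (fun k => k.left) h1
      simpa only [Over.comp_left, Over.homMk_left] using this.symm
    refine ⟨Over.homMk (pullback.lift r₁.left r₂.left hc ≫ G.c) ?_, ?_, ?_⟩
    · change (pullback.lift r₁.left r₂.left hc ≫ G.c) ≫ G.pR = T.hom
      have h2 : (pullback.lift r₁.left r₂.left hc ≫ G.c) ≫ G.pR =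
          ((pullback.lift r₁.left r₂.left hc ≫ G.c) ≫ G.t) ≫ G.pU := by
        rw [Category.assoc _ G.t, G.t_over]
      rw [h2, G.comp_t, Category.assoc, G.t_over]
      exact Over.w r₁
    · apply Over.OverMorphism.ext
      simp only [Over.comp_left, Over.homMk_left]
      exact G.comp_t _ _ hc
    · apply Over.OverMorphism.ext
      simp only [Over.comp_left, Over.homMk_left]
      exact G.comp_s _ _ hc

end Groth.Agent.Lib.Helper5.QuotOpenPre
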