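import Mathlib

/-!
# Gluing morphisms into an object along covering sieves of a subcanonical topology (helper5)
-/

set_option autoImplicit false
universe v u
open CategoryTheory CategoryTheory.Limits Opposite

namespace Groth.Agent.Lib.Helper5.RepSheafJ

variable {C : Type u} [Category.{v} C] {J' : GrothendieckTopology C} [J'.Subcanonical]

/-- Gluing morphisms into an object along a covering sieve of a subcanonical topology. -/
theorem exists_glue {T W : C} (R : Sieve T) (hR : R ∈ J' T)
    (s : ∀ ⦃T' : C⦄ (f : T' ⟶ T), R f → (T' ⟶ W))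
    (hs : ∀ ⦃T' T'' : C⦄ (f : T' ⟶ T) (g : T'' ⟶ T') (hf : R f),
      s (g ≫ f) (R.downward_closed hf g) = g ≫ s f hf) :
    ∃ σ : T ⟶ W, ∀ ⦃T' : C⦄ (f : T' ⟶ T) (hf : R f), f ≫ σ = s f hf := by
  have hW : Presieve.IsSheaf J' (yoneda.obj W) :=
    GrothendieckTopology.Subcanonical.isSheaf_of_isRepresentable _
  let fam : Presieve.FamilyOfElements (yoneda.obj W) R.arrows := fun T' f hf => s f hf
  have hfam : fam.Compatible := by
    rw [Presieve.compatible_iff_sieveCompatible]
    intro Y Z f g hf
    exact hs f g hf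
  refine ⟨(hW R hR).amalgamate fam hfam, ?_⟩
  intro T' f hf
  exact (hW R hR).valid_glue hfam f hf

/-- Morphisms into an object agreeing on a covering sieve of a subcanonical topology are equal. -/
theorem eq_of_locally_eq' {T W : C} (R : Sieve T) (hR : R ∈ J' T) (σ σ' : T ⟶ W)
    (h : ∀ ⦃T' : C⦄ (f : T' ⟶ T), R f → f ≫ σ = f ≫ σ') : σ = σ' := by
  have hW : Presieve.IsSheaf J' (yoneda.obj W) :=
    GrothendieckTopology.Subcanonical.isSheaf_of_isRepresentable _
  exact (hW R hR).isSeparatedFor.ext (t₁ := (σ : (yoneda.obj W).obj (op T))) (t₂ := σ')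
    (fun T' f hf => h f hf)

end Groth.Agent.Lib.Helper5.RepSheafJ
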