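import Mathlib
import Groth.Agent.Lib.Helper5.QuotStStrict
import Groth.Agent.Lib.Helper5.RepSheafJ

/-!
# Morphisms of `[X/G]` glue along fppf covering sieves (helper5)
-/

set_option autoImplicit false
set_option linter.style.haveILetI false
universe u

open CategoryTheory CategoryTheory.Limits MonoidalCategory CartesianMonoidalCategory MonObj
  AlgebraicGeometry AlgSt

namespace Groth.Agent.Lib.Helper5.QuotStGlueHomJ

open Groth.Agent.Lib.Helper5.QuotStStrict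

variable {S : Scheme.{u}} {K : Precoverage Scheme.{u}} {G : Over S} [GrpObj G] {X : Over S}
  {aX : AlgGrp.Action G X} {U : Over S} {R : Sieve U} {Sg : Sys K G aX R}

section Sec

variable (c c' : ConeData Sg)

/-- the section of `B t` attached to a point of the cone vertex -/
noncomputable def sec {T' : Over S} (g : T' ⟶ c.A.P) (t : T' ⟶ U) (ht : R t)
    (hg : g ≫ c.A.π = t) : T' ⟶ (Sg.B t ht).P :=
  (c.m t ht).cart.lift g (𝟙 T') (by rw [hg, Category.id_comp])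

@[reassoc] lemma sec_top {T' : Over S} (g : T' ⟶ c.A.P) (t : T' ⟶ U) (ht : R t)
    (hg : g ≫ c.A.π = t) : sec c g t ht hg ≫ (c.m t ht).top = g :=
  (c.m t ht).cart.lift_fst _ _ _

@[reassoc] lemma sec_π {T' : Over S} (g : T' ⟶ c.A.P) (t : T' ⟶ U) (ht : R t)
    (hg : g ≫ c.A.π = t) : sec c g t ht hg ≫ (Sg.B t ht).π = 𝟙 T' :=
  (c.m t ht).cart.lift_snd _ _ _

lemma sec_unique {T' : Over S} (g : T' ⟶ c.A.P) (t : T' ⟶ U) (ht : R t)
    (hg : g ≫ c.A.π = t) (σ : T' ⟶ (Sg.B t ht).P) (h1 : σ ≫ (c.m t ht).top = g)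
    (h2 : σ ≫ (Sg.B t ht).π = 𝟙 T') : σ = sec c g t ht hg := by
  apply (c.m t ht).cart.hom_ext
  · rw [h1, sec_top]
  · rw [h2, sec_π]

/-- the transported point of the second cone vertex -/
noncomputable def sVal {T' : Over S} (g : T' ⟶ c.A.P) (t : T' ⟶ U) (ht : R t)
    (hg : g ≫ c.A.π = t) : T' ⟶ c'.A.P :=
  sec c g t ht hg ≫ (c'.m t ht).top

lemma sVal_π {T' : Over S} (g : T' ⟶ c.A.P) (t : T' ⟶ U) (ht : R t)
    (hg : g ≫ c.A.π = t) : sVal c c' g t ht hg ≫ c'.A.π = t := by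
  rw [sVal, Category.assoc, (c'.m t ht).cart.w, sec_π_assoc]

lemma sVal_congr {T' : Over S} (g : T' ⟶ c.A.P) {t t₂ : T' ⟶ U} (e : t = t₂) (ht : R t)
    (ht₂ : R t₂) (hg : g ≫ c.A.π = t) (hg₂ : g ≫ c.A.π = t₂) :
    sVal c c' g t ht hg = sVal c c' g t₂ ht₂ hg₂ := by
  subst e
  rfl

lemma sec_comp {T'' T' : Over S} (h : T'' ⟶ T') (g : T' ⟶ c.A.P) (t : T' ⟶ U) (ht : R t)
    (hg : g ≫ c.A.π = t) (ht' : R (h ≫ t)) (hg' : (h ≫ g) ≫ c.A.π = h ≫ t) :
    sec c (h ≫ g) (h ≫ t) ht' hg' ≫ (Sg.ρ h t (h ≫ t) ht ht' rfl).top = h ≫ sec c g t ht hg := by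
  apply (c.m t ht).cart.hom_ext
  · rw [Category.assoc, c.nat, sec_top, Category.assoc, sec_top]
  · rw [Category.assoc, (Sg.ρ h t (h ≫ t) ht ht' rfl).cart.w, sec_π_assoc, Category.assoc, sec_π,
      Category.comp_id]

lemma sVal_comp {T'' T' : Over S} (h : T'' ⟶ T') (g : T' ⟶ c.A.P) (t : T' ⟶ U) (ht : R t)
    (hg : g ≫ c.A.π = t) (ht' : R (h ≫ t)) (hg' : (h ≫ g) ≫ c.A.π = h ≫ t) :
    sVal c c' (h ≫ g) (h ≫ t) ht' hg' = h ≫ sVal c c' g t ht hg := by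
  rw [sVal, ← c'.nat h t (h ≫ t) ht ht' rfl, ← Category.assoc, sec_comp c h g t ht hg ht' hg',
    Category.assoc, sVal]

lemma sec_act {T' : Over S} (gg : T' ⟶ G) (g : T' ⟶ c.A.P) (t : T' ⟶ U) (ht : R t)
    (hg : g ≫ c.A.π = t) (hg' : (lift gg g ≫ c.A.act.act) ≫ c.A.π = t) :
    sec c (lift gg g ≫ c.A.act.act) t ht hg' =
      lift gg (sec c g t ht hg) ≫ (Sg.B t ht).act.act := by
  symm
  apply sec_unique
  · rw [Category.assoc, (c.m t ht).eqv, lift_whiskerLeft_assoc, sec_top]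
  · rw [Category.assoc, (Sg.B t ht).cart.w, lift_snd_assoc, sec_π]

lemma sVal_act {T' : Over S} (gg : T' ⟶ G) (g : T' ⟶ c.A.P) (t : T' ⟶ U) (ht : R t)
    (hg : g ≫ c.A.π = t) (hg' : (lift gg g ≫ c.A.act.act) ≫ c.A.π = t) :
    sVal c c' (lift gg g ≫ c.A.act.act) t ht hg' =
      lift gg (sVal c c' g t ht hg) ≫ c'.A.act.act := by
  rw [sVal, sec_act c gg g t ht hg hg', Category.assoc, (c'.m t ht).eqv, lift_whiskerLeft_assoc,
    sVal]

lemma sVal_φ {T' : Over S} (g : T' ⟶ c.A.P) (t : T' ⟶ U) (ht : R t)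
    (hg : g ≫ c.A.π = t) : sVal c c' g t ht hg ≫ c'.A.φ = g ≫ c.A.φ := by
  rw [sVal, Category.assoc, (c'.m t ht).wφ, ← (c.m t ht).wφ, sec_top_assoc]

lemma sec_sVal {T' : Over S} (g : T' ⟶ c.A.P) (t : T' ⟶ U) (ht : R t)
    (hg : g ≫ c.A.π = t) :
    sec c' (sVal c c' g t ht hg) t ht (sVal_π c c' g t ht hg) = sec c g t ht hg := by
  symm
  apply sec_unique
  · rfl
  · exact sec_π c g t ht hg

lemma sVal_sVal {T' : Over S} (g : T' ⟶ c.A.P) (t : T' ⟶ U) (ht : R t)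
    (hg : g ≫ c.A.π = t) :
    sVal c' c (sVal c c' g t ht hg) t ht (sVal_π c c' g t ht hg) = g := by
  rw [sVal, sec_sVal, sec_top]

end Sec

section Glue

variable {J' : GrothendieckTopology (Over S)} [J'.Subcanonical] (hR : R ∈ J' U) (c c' : ConeData Sg)

include hR in
lemma exists_glueTop : ∃ φ : c.A.P ⟶ c'.A.P, ∀ ⦃T' : Over S⦄ (g : T' ⟶ c.A.P)
    (hg : R (g ≫ c.A.π)), g ≫ φ = sVal c c' g (g ≫ c.A.π) hg rfl := by
  refine RepSheafJ.exists_glue (R.pullback c.A.π) (J'.pullback_stable c.A.π hR)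
    (fun T' g hg => sVal c c' g (g ≫ c.A.π) hg rfl) ?_
  intro T' T'' g h hg
  have hg' : ((h ≫ g) ≫ c.A.π) = h ≫ (g ≫ c.A.π) := Category.assoc _ _ _
  have ht' : R (h ≫ (g ≫ c.A.π)) := R.downward_closed hg h
  rw [← sVal_comp c c' h g (g ≫ c.A.π) hg rfl ht' hg']
  exact sVal_congr c c' (h ≫ g) hg' _ ht' rfl hg'

/-- the glued morphism of total spaces -/
noncomputable def glueTop : c.A.P ⟶ c'.A.P := (exists_glueTop hR c c').choose

lemma glueTop_spec {T' : Over S} (g : T' ⟶ c.A.P) (t : T' ⟶ U) (ht : R t)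
    (hg : g ≫ c.A.π = t) : g ≫ glueTop hR c c' = sVal c c' g t ht hg := by
  subst hg
  exact (exists_glueTop hR c c').choose_spec g ht

include hR in
lemma locally_eq {W : Over S} (a b : c.A.P ⟶ W)
    (h : ∀ ⦃T' : Over S⦄ (g : T' ⟶ c.A.P) (t : T' ⟶ U) (_ : R t) (_ : g ≫ c.A.π = t),
      g ≫ a = g ≫ b) : a = b :=
  RepSheafJ.eq_of_locally_eq' (R.pullback c.A.π) (J'.pullback_stable c.A.π hR) a b
    (fun _ g hg => h g (g ≫ c.A.π) hg rfl)

lemma glueTop_π : glueTop hR c c' ≫ c'.A.π = c.A.π := by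
  apply locally_eq hR c
  intro T' g t ht hg
  rw [← Category.assoc, glueTop_spec hR c c' g t ht hg, sVal_π, hg]

lemma glueTop_glueTop : glueTop hR c c' ≫ glueTop hR c' c = 𝟙 _ := by
  apply locally_eq hR c
  intro T' g t ht hg
  rw [← Category.assoc, glueTop_spec hR c c' g t ht hg,
    glueTop_spec hR c' c _ t ht (sVal_π c c' g t ht hg), sVal_sVal, Category.comp_id]

lemma isIso_glueTop : IsIso (glueTop hR c c') :=
  ⟨⟨glueTop hR c' c, glueTop_glueTop hR c c', glueTop_glueTop hR c' c⟩⟩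

lemma m_glueTop {T : Over S} (t : T ⟶ U) (ht : R t) :
    (c.m t ht).top ≫ glueTop hR c c' = (c'.m t ht).top := by
  have ht₂ : R ((Sg.B t ht).π ≫ t) := R.downward_closed ht _
  have hg : (c.m t ht).top ≫ c.A.π = (Sg.B t ht).π ≫ t := (c.m t ht).cart.w
  rw [glueTop_spec hR c c' _ _ ht₂ hg, sVal]
  have key : sec c (c.m t ht).top _ ht₂ hg ≫
      (Sg.ρ (Sg.B t ht).π t ((Sg.B t ht).π ≫ t) ht ht₂ rfl).top = 𝟙 _ := by
    apply (c.m t ht).cart.hom_ext
    · rw [Category.assoc, c.nat, sec_top, Category.id_comp]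
    · rw [Category.assoc, (Sg.ρ (Sg.B t ht).π t ((Sg.B t ht).π ≫ t) ht ht₂ rfl).cart.w,
        sec_π_assoc, Category.id_comp]
  rw [← c'.nat (Sg.B t ht).π t ((Sg.B t ht).π ≫ t) ht ht₂ rfl, ← Category.assoc, key,
    Category.id_comp]

lemma glueTop_eqv :
    c.A.act.act ≫ glueTop hR c c' = (G ◁ glueTop hR c c') ≫ c'.A.act.act := by
  apply RepSheafJ.eq_of_locally_eq' (R.pullback (snd G c.A.P ≫ c.A.π))
    (J'.pullback_stable _ hR)
  intro T' g' hg'
  have hR' : R ((g' ≫ snd G c.A.P) ≫ c.A.π) := by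
    have : R (g' ≫ snd G c.A.P ≫ c.A.π) := hg'
    rwa [← Category.assoc] at this
  have e : g' = lift (g' ≫ fst G c.A.P) (g' ≫ snd G c.A.P) := (lift_comp_fst_snd g').symm
  have hact : (lift (g' ≫ fst G c.A.P) (g' ≫ snd G c.A.P) ≫ c.A.act.act) ≫ c.A.π =
      (g' ≫ snd G c.A.P) ≫ c.A.π := by
    rw [Category.assoc, c.A.cart.w, lift_snd_assoc]
  rw [e, ← Category.assoc, glueTop_spec hR c c' _ _ hR' hact,
    sVal_act c c' _ _ _ hR' rfl hact, lift_whiskerLeft_assoc,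
    glueTop_spec hR c c' _ _ hR' rfl]

lemma glueTop_φ : glueTop hR c c' ≫ c'.A.φ = c.A.φ := by
  apply locally_eq hR c
  intro T' g t ht hg
  rw [← Category.assoc, glueTop_spec hR c c' g t ht hg, sVal_φ]

/-- the glued morphism of cone vertices -/
noncomputable def glueHom : TorsHom c.A c'.A (𝟙 U) where
  top := glueTop hR c c'
  eqv := glueTop_eqv hR c c'
  cart := by
    haveI := isIso_glueTop hR c c'
    exact IsPullback.of_horiz_isIso ⟨by rw [glueTop_π, Category.comp_id]⟩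
  wφ := glueTop_φ hR c c'

include hR in
/-- **Morphisms glue**: existence and uniqueness of the morphism of cone vertices. -/
theorem existsUnique_glueHom :
    ∃! ψ : TorsHom c.A c'.A (𝟙 U), ∀ ⦃T : Over S⦄ (t : T ⟶ U) (ht : R t),
      (c.m t ht).top ≫ ψ.top = (c'.m t ht).top := by
  refine ⟨glueHom hR c c', fun T t ht => m_glueTop hR c c' t ht, ?_⟩
  intro ψ₂ h₂
  apply TorsHom.ext'
  change ψ₂.top = glueTop hR c c'
  apply locally_eq hR c
  intro T' g t ht hg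
  rw [glueTop_spec hR c c' g t ht hg, sVal, ← h₂ t ht, sec_top_assoc]

end Glue

end Groth.Agent.Lib.Helper5.QuotStGlueHomJ
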