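import Mathlib
import Groth.Agent.Lib.Helper5.QuotStGlueObjJ
import Groth.Agent.Lib.Helper5.QuotStGlueHomJ
import Groth.Agent.Lib.Helper5.QuotStStack
import Groth.Agent.Lib.Helper5.FpqcLocal
import Groth.Agent.Lib.Helper62.StkRefine

/-!
# `[X/G]` is an fpqc stack for affine `G` (helper5)

Port of `QuotStStack` (fppf) to the fpqc topology: the gluing of objects and morphisms only uses
that the topology is subcanonical, and effectivity of descent for affine morphisms along fpqc
covering families.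
-/

set_option autoImplicit false
set_option linter.style.haveILetI false
universe u

open CategoryTheory CategoryTheory.Limits MonoidalCategory CartesianMonoidalCategory MonObj
  AlgebraicGeometry AlgSt

namespace Groth.Agent.Lib.Helper5.QuotStStackQ

open Groth.Agent.Lib.Helper5.QuotStStrict Groth.Agent.Lib.Helper5.QuotStDD
  Groth.Agent.Lib.Helper62.StkCone

variable {S : Scheme.{u}} {G : Over S} [GrpObj G] {X : Over S} {aX : AlgGrp.Action G X}
  {U : Over S}

/-- the structure morphism of an fpqc torsor under an affine group is affine -/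
theorem pi_affine [IsAffineHom G.hom] (A : QuotObj Scheme.fpqcPrecoverage G aX) :
    IsAffineHom A.π.left := by
  obtain ⟨R, hR, hsec⟩ := A.loc
  haveI : MorphismProperty.DescendsAlong @IsAffineHom
      (@Surjective ⊓ @Flat ⊓ @QuasiCompact : MorphismProperty Scheme.{u}) :=
    Groth.Agent.S0082.result
  refine Groth.Agent.Lib.Helper5.of_mem_fpqcPrecoverage @IsAffineHom A.π.left R hR ?_
  intro T' g hg
  obtain ⟨s, hs⟩ := hsec g hg
  let To : Over S := Over.mk (g ≫ A.base.hom)
  have hw : s ≫ A.P.hom = To.hom := by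
    have h3 : A.π.left ≫ A.base.hom = A.P.hom := Over.w A.π
    change s ≫ A.P.hom = g ≫ A.base.hom
    rw [← h3, ← Category.assoc]
    exact congrArg (· ≫ A.base.hom) hs
  let so : To ⟶ A.P := Over.homMk s hw
  have sqO : IsPullback ((G ◁ so) ≫ A.act.act) (snd G To) A.π (so ≫ A.π) :=
    (AlgSt.isPullback_whiskerLeft (G := G) so).paste_horiz A.cart
  have sqS : IsPullback ((G ◁ so) ≫ A.act.act).left (snd G To).left A.π.left (so ≫ A.π).left :=
    sqO.map (Over.forget S)
  have e : (so ≫ A.π).left = g := hs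
  rw [e] at sqS
  have sq2 : IsPullback (fst G To).left (snd G To).left (toUnit G).left (toUnit To).left :=
    (AlgSt.isPullback_fst_snd G To).map (Over.forget S)
  have h1 : IsAffineHom (snd G To).left :=
    MorphismProperty.of_isPullback (P := @IsAffineHom) sq2 (inferInstanceAs (IsAffineHom G.hom))
  have h2 : sqS.isoPullback.hom ≫ pullback.snd A.π.left g = (snd G To).left :=
    sqS.isoPullback_hom_snd
  rw [← MorphismProperty.cancel_left_of_respectsIso @IsAffineHom sqS.isoPullback.hom, h2]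
  exact h1

section family

variable {κ : Type u} {Tj : κ → Over S} (f : ∀ j, Tj j ⟶ U)
  (hK : Presieve.ofArrows (fun j => (Tj j).left) (fun j => (f j).left) ∈
    Scheme.fpqcPrecoverage U.left)

include hK in
omit [GrpObj G] in
lemma ofArrows_mem_J : Sieve.ofArrows Tj f ∈ QuotSh.J Scheme.fpqcPrecoverage S U := by
  rw [GrothendieckTopology.mem_over_iff, Sieve.overEquiv_ofArrows]
  exact Precoverage.generate_mem_toGrothendieck hK

include hK in
theorem exists_glueBaseQ [IsAffineHom G.hom]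
    (Sf : Sys Scheme.fpqcPrecoverage G aX (Sieve.ofArrows Tj f)) : Nonempty (GlueBase f Sf) := by
  have hD : ∀ j, IsAffineHom ((dd f Sf).obj j).hom := fun j => pi_affine (Bj f Sf j).toQuot
  obtain ⟨W₀, ⟨θ⟩⟩ := Groth.Agent.Lib.Helper5.DescFamAffine.isEffective_of_isAffineHom
    (fun j => (f j).left) hK (dd f Sf) hD
  exact ⟨glueBaseOf f Sf θ⟩

include hK in
theorem nonempty_coneData [IsAffineHom G.hom]
    (Sf : Sys Scheme.fpqcPrecoverage G aX (Sieve.ofArrows Tj f)) : Nonempty (ConeData Sf) := by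
  have hRJ := ofArrows_mem_J f hK
  obtain ⟨gb⟩ := exists_glueBaseQ f hK Sf
  have hloc : NonAbH1.IsLocallyTrivialFor Scheme.fpqcPrecoverage
      (Over.mk gb.toPreCone.π.left : Over U.left) :=
    Groth.Agent.Lib.Helper5.QuotStStack.isLocallyTrivialFor_of_cover Scheme.fpqcPrecoverage
      (Over.mk gb.π.left : Over U.left)
      (fun j => (f j).left) hK (fun j => (Bj f Sf j).P.left) (fun j => (Bj f Sf j).π.left)
      (fun j => (gb.ch j).left) (fun j => congrArg CommaMorphism.left (gb.cart j).w)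
      (fun j => (Bj f Sf j).loc)
  exact ⟨Groth.Agent.Lib.Helper5.QuotStGlueObjJ.coneData gb.toPreCone hRJ hloc⟩

include hK in
theorem isStackFor_family [IsAffineHom G.hom] :
    Stk.IsStackFor (Sieve.ofArrows Tj f) (QuotSt Scheme.fpqcPrecoverage G aX) := by
  have h𝒳 := Groth.Agent.Lib.Helper5.QuotStFib.isFibGrpd Scheme.fpqcPrecoverage G aX
  have hRJ := ofArrows_mem_J f hK
  rw [isStackFor_iff_cones h𝒳]
  refine ⟨fun D => ?_, fun D c c' => ?_⟩
  · obtain ⟨d⟩ := nonempty_coneData f hK (sysOf D)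
    exact ⟨coneOfData D d⟩
  · exact existsUnique_hom_of_data D c c'
      (Groth.Agent.Lib.Helper5.QuotStGlueHomJ.existsUnique_glueHom hRJ (coneDataOf D c)
        (coneDataOf D c'))

end family

theorem isPrestackFor_of_mem (K : Precoverage Scheme.{u}) [K.IsStableUnderBaseChange]
    (R' : Sieve U) (hR' : R' ∈ QuotSh.J Scheme.fpqcPrecoverage S U) :
    Stk.IsPrestackFor R' (QuotSt K G aX) := by
  have h𝒳 := Groth.Agent.Lib.Helper5.QuotStFib.isFibGrpd K G aX
  have H : ∀ (D : Stk.sieveCat R' ⥤ᵇ QuotSt K G aX) (c c' : Cone D),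
      ∃! φ : c.pt ⟶ c'.pt, (QuotSt K G aX).p.IsHomLift (𝟙 U) φ ∧ ∀ a, c.π a ≫ φ = c'.π a :=
    fun D c c' => existsUnique_hom_of_data D c c'
      (Groth.Agent.Lib.Helper5.QuotStGlueHomJ.existsUnique_glueHom hR' (coneDataOf D c)
        (coneDataOf D c'))
  refine ⟨full_of_cones h𝒳 (fun D c c' => (H D c c').exists),
    faithful_of_cones h𝒳 (fun D c c' φ₁ φ₂ h₁ h₂ e₁ e₂ => (H D c c').unique ⟨h₁, e₁⟩ ⟨h₂, e₂⟩)⟩

/-- A covering sieve of the fpqc topology over `S` contains an fpqc covering family indexed by a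
small type. -/
theorem exists_fpqc_family_of_mem_J {V : Over S} (R₀ : Sieve V)
    (hR₀ : R₀ ∈ QuotSh.J Scheme.fpqcPrecoverage S V) :
    ∃ (κ : Type u) (Vi : κ → Over S) (c : ∀ i, Vi i ⟶ V), (∀ i, R₀ (c i)) ∧
      Presieve.ofArrows (fun i => (Vi i).left) (fun i => (c i).left) ∈
        Scheme.fpqcPrecoverage V.left := by
  rw [GrothendieckTopology.mem_over_iff] at hR₀
  obtain ⟨R, hR, hle⟩ := Precoverage.mem_toGrothendieck_iff_of_isStableUnderComposition.1 hR₀
  obtain ⟨E, rfl⟩ := Precoverage.mem_iff_exists_zeroHypercover.mp hR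
  haveI : Precoverage.Small.{u} Scheme.fpqcPrecoverage.{u} :=
    inferInstanceAs (Precoverage.Small.{u} (Scheme.propQCPrecoverage @Flat))
  let E' := E.restrictIndexOfSmall.{u}
  refine ⟨E'.I₀, fun i => Over.mk (E'.f i ≫ V.hom), fun i => Over.homMk (E'.f i) rfl, fun i => ?_,
    E'.mem₀⟩
  have h1 : Sieve.overEquiv V R₀ (E'.f i) :=
    hle _ _ (Presieve.ofArrows.mk (Precoverage.ZeroHypercover.Small.restrictFun E i))
  rw [Sieve.overEquiv_iff] at h1
  exact h1

theorem isStackFor_of_mem [IsAffineHom G.hom] (R : Sieve U)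
    (hR : R ∈ QuotSh.J Scheme.fpqcPrecoverage S U) :
    Stk.IsStackFor R (QuotSt Scheme.fpqcPrecoverage G aX) := by
  have h𝒳 := Groth.Agent.Lib.Helper5.QuotStFib.isFibGrpd Scheme.fpqcPrecoverage G aX
  obtain ⟨κ, Tj, f, hfR, hK⟩ := exists_fpqc_family_of_mem_J R hR
  have hle : Sieve.ofArrows Tj f ≤ R := by
    rw [Sieve.ofArrows, Sieve.generate_le_iff]
    rintro _ _ ⟨j⟩
    exact hfR j
  have hRJ := ofArrows_mem_J f hK
  exact Groth.Agent.Lib.Helper62.StkRefine.isStackFor_of_le h𝒳 hle
    (isStackFor_family f hK)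
    (fun V g _ => isPrestackFor_of_mem Scheme.fpqcPrecoverage _
      ((QuotSh.J Scheme.fpqcPrecoverage S).pullback_stable g hRJ))

/-- **`[X/G]` is a stack in groupoids for the fpqc topology** when `G ⟶ S` is affine. -/
theorem isStack [IsAffineHom G.hom] :
    Stk.IsStack (QuotSh.J Scheme.fpqcPrecoverage S) (QuotSt Scheme.fpqcPrecoverage G aX) :=
  ⟨Groth.Agent.Lib.Helper5.QuotStFib.isFibGrpd Scheme.fpqcPrecoverage G aX,
    fun _ R hR => isStackFor_of_mem R hR⟩

end Groth.Agent.Lib.Helper5.QuotStStackQ
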