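import Mathlib
import Groth.Agent.Lib.Helper5.QuotStStack
import Groth.Agent.Lib.Helper5.QuotStStackQ
import Groth.Agent.Lib.Helper5.IsomSchC
import Groth.Agent.Lib.Helper14.QuotStGeom

/-!
# `[X/G]` is an etale stack for affine `G` (helper5)

Port of `QuotStStack` (fppf) to the big etale topology: an etale covering family is an fppf
covering family, so the gluing of objects and morphisms along the (subcanonical) fppf topology
applies verbatim, and local triviality for the etale precoverage is preserved by the gluing.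
-/

set_option autoImplicit false
set_option linter.style.haveILetI false
universe u

open CategoryTheory CategoryTheory.Limits MonoidalCategory CartesianMonoidalCategory MonObj
  AlgebraicGeometry AlgSt

namespace Groth.Agent.Lib.Helper5.QuotStStackE

open Groth.Agent.Lib.Helper5.QuotStStrict Groth.Agent.Lib.Helper5.QuotStDD
  Groth.Agent.Lib.Helper5.QuotStGlueObj Groth.Agent.Lib.Helper5.QuotStGlueHom
  Groth.Agent.Lib.Helper62.StkCone Groth.Agent.Lib.Helper5.IsomSch

theorem etStableComp : Scheme.etalePrecoverage.{u}.IsStableUnderComposition := by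
  unfold Scheme.etalePrecoverage; infer_instance

theorem etStableBC : Scheme.etalePrecoverage.{u}.IsStableUnderBaseChange := by
  unfold Scheme.etalePrecoverage; infer_instance

attribute [local instance] etStableComp etStableBC

variable {S : Scheme.{u}} {G : Over S} [GrpObj G] {X : Over S} {aX : AlgGrp.Action G X}
  {U : Over S}

/-- the structure morphism of an etale-locally trivial torsor under an affine group is affine -/
theorem pi_affine [IsAffineHom G.hom] (A : QuotObj Scheme.etalePrecoverage G aX) :
    IsAffineHom A.π.left := by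
  haveI : MorphismProperty.DescendsAlong @IsAffineHom
      (@Surjective ⊓ @Flat ⊓ @QuasiCompact : MorphismProperty Scheme.{u}) :=
    Groth.Agent.S0082.result
  haveI : MorphismProperty.DescendsAlong @IsAffineHom
      (@Surjective ⊓ @Flat ⊓ @LocallyOfFinitePresentation : MorphismProperty Scheme.{u}) :=
    inferInstance
  exact Groth.Agent.Lib.Helper14.QuotStGeom.pi_prop @IsAffineHom inferInstance
    (toFppf etale_le_fppf A)

section family

variable {κ : Type u} {Tj : κ → Over S} (f : ∀ j, Tj j ⟶ U)
  (hK : Presieve.ofArrows (fun j => (Tj j).left) (fun j => (f j).left) ∈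
    Scheme.etalePrecoverage U.left)

include hK in
omit [GrpObj G] in
lemma ofArrows_mem_J : Sieve.ofArrows Tj f ∈ AlgSp.J S U := by
  rw [GrothendieckTopology.mem_over_iff, Sieve.overEquiv_ofArrows]
  exact Precoverage.generate_mem_toGrothendieck (etale_le_fppf _ hK)

include hK in
theorem exists_glueBaseE [IsAffineHom G.hom]
    (Sf : Sys Scheme.etalePrecoverage G aX (Sieve.ofArrows Tj f)) : Nonempty (GlueBase f Sf) := by
  have hD : ∀ j, IsAffineHom ((dd f Sf).obj j).hom := fun j => pi_affine (Bj f Sf j).toQuot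
  have hK' : Presieve.ofArrows (fun j => (Tj j).left) (fun j => (f j).left) ∈
      Scheme.fpqcPrecoverage U.left :=
    Scheme.fppfPrecoverage_le_fpqcPrecoverage _ (etale_le_fppf _ hK)
  obtain ⟨W₀, ⟨θ⟩⟩ := Groth.Agent.Lib.Helper5.DescFamAffine.isEffective_of_isAffineHom
    (fun j => (f j).left) hK' (dd f Sf) hD
  exact ⟨glueBaseOf f Sf θ⟩

include hK in
theorem nonempty_coneData [IsAffineHom G.hom]
    (Sf : Sys Scheme.etalePrecoverage G aX (Sieve.ofArrows Tj f)) : Nonempty (ConeData Sf) := by
  have hRJ := ofArrows_mem_J f hK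
  obtain ⟨gb⟩ := exists_glueBaseE f hK Sf
  have hloc : NonAbH1.IsLocallyTrivialFor Scheme.etalePrecoverage
      (Over.mk gb.toPreCone.π.left : Over U.left) :=
    Groth.Agent.Lib.Helper5.QuotStStack.isLocallyTrivialFor_of_cover Scheme.etalePrecoverage
      (Over.mk gb.π.left : Over U.left)
      (fun j => (f j).left) hK (fun j => (Bj f Sf j).P.left) (fun j => (Bj f Sf j).π.left)
      (fun j => (gb.ch j).left) (fun j => congrArg CommaMorphism.left (gb.cart j).w)
      (fun j => (Bj f Sf j).loc)
  exact ⟨coneData gb.toPreCone hRJ hloc⟩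

include hK in
theorem isStackFor_family [IsAffineHom G.hom] :
    Stk.IsStackFor (Sieve.ofArrows Tj f) (QuotSt Scheme.etalePrecoverage G aX) := by
  have h𝒳 := Groth.Agent.Lib.Helper5.QuotStFib.isFibGrpd Scheme.etalePrecoverage G aX
  have hRJ := ofArrows_mem_J f hK
  rw [isStackFor_iff_cones h𝒳]
  refine ⟨fun D => ?_, fun D c c' => ?_⟩
  · obtain ⟨d⟩ := nonempty_coneData f hK (sysOf D)
    exact ⟨coneOfData D d⟩
  · exact existsUnique_hom_of_data D c c'
      (existsUnique_glueHom hRJ (coneDataOf D c) (coneDataOf D c'))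

end family

/-- A covering sieve of the etale topology over `S` contains an etale covering family indexed by a
small type. -/
theorem exists_etale_family_of_mem_J {V : Over S} (R₀ : Sieve V)
    (hR₀ : R₀ ∈ QuotSh.J Scheme.etalePrecoverage S V) :
    ∃ (κ : Type u) (Vi : κ → Over S) (c : ∀ i, Vi i ⟶ V), (∀ i, R₀ (c i)) ∧
      Presieve.ofArrows (fun i => (Vi i).left) (fun i => (c i).left) ∈
        Scheme.etalePrecoverage V.left := by
  rw [GrothendieckTopology.mem_over_iff] at hR₀
  obtain ⟨R, hR, hle⟩ := Precoverage.mem_toGrothendieck_iff_of_isStableUnderComposition.1 hR₀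
  obtain ⟨E, rfl⟩ := Precoverage.mem_iff_exists_zeroHypercover.mp hR
  haveI : Precoverage.Small.{u} Scheme.etalePrecoverage.{u} :=
    inferInstanceAs (Precoverage.Small.{u} (Scheme.precoverage @Etale))
  let E' := E.restrictIndexOfSmall.{u}
  refine ⟨E'.I₀, fun i => Over.mk (E'.f i ≫ V.hom), fun i => Over.homMk (E'.f i) rfl, fun i => ?_,
    E'.mem₀⟩
  have h1 : Sieve.overEquiv V R₀ (E'.f i) :=
    hle _ _ (Presieve.ofArrows.mk (Precoverage.ZeroHypercover.Small.restrictFun E i))
  rw [Sieve.overEquiv_iff] at h1
  exact h1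

theorem isStackFor_of_mem [IsAffineHom G.hom] (R : Sieve U)
    (hR : R ∈ QuotSh.J Scheme.etalePrecoverage S U) :
    Stk.IsStackFor R (QuotSt Scheme.etalePrecoverage G aX) := by
  have h𝒳 := Groth.Agent.Lib.Helper5.QuotStFib.isFibGrpd Scheme.etalePrecoverage G aX
  obtain ⟨κ, Tj, f, hfR, hK⟩ := exists_etale_family_of_mem_J R hR
  have hle : Sieve.ofArrows Tj f ≤ R := by
    rw [Sieve.ofArrows, Sieve.generate_le_iff]
    rintro _ _ ⟨j⟩
    exact hfR j
  have hRJ := ofArrows_mem_J f hK
  exact Groth.Agent.Lib.Helper62.StkRefine.isStackFor_of_le h𝒳 hle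
    (isStackFor_family f hK)
    (fun V g _ => Groth.Agent.Lib.Helper5.QuotStStack.isPrestackFor_of_mem
      Scheme.etalePrecoverage _ ((AlgSp.J S).pullback_stable g hRJ))

/-- **`[X/G]` is a stack in groupoids for the big etale topology** when `G ⟶ S` is affine. -/
theorem isStack [IsAffineHom G.hom] :
    Stk.IsStack (QuotSh.J Scheme.etalePrecoverage S) (QuotSt Scheme.etalePrecoverage G aX) :=
  ⟨Groth.Agent.Lib.Helper5.QuotStFib.isFibGrpd Scheme.etalePrecoverage G aX,
    fun _ R hR => isStackFor_of_mem R hR⟩

end Groth.Agent.Lib.Helper5.QuotStStackE
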