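import Mathlib
import Groth.Agent.Lib.Helper5.QuotStStackE
import Groth.Agent.Lib.Helper14.QuotStGeom

/-!
# `X ⟶ [X/G]` for the etale quotient stack is representable, smooth, surjective, affine (helper5)

Port of helper14's `QuotStGeom.rep_of` (fppf) to the etale quotient stack; the representability
construction `QuotStRep` is generic in the precoverage.
-/

set_option autoImplicit false
universe u

open CategoryTheory CategoryTheory.Limits AlgebraicGeometry MorphismProperty Opposite

namespace Groth.Agent.Lib.Helper5.QuotStRepE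

open AlgSt Groth.Agent.Lib.Helper14.QuotStRep Groth.Agent.Lib.Helper5.IsomSch

variable {S : Scheme.{u}} {G : Over S} [GrpObj G] {X : Over S} {aX : AlgGrp.Action G X}

theorem prop_pi0 (P : MorphismProperty (AlgSp.Sp S))
    (hP : ∀ (A : QuotObj Scheme.etalePrecoverage G aX), P ((AlgSp.yon S).map A.π))
    (A : QuotObj Scheme.etalePrecoverage G aX) (U : Over S) (h : A.base = U) :
    P ((AlgSp.yon S).map (A.π ≫ eqToHom h)) := by
  subst h
  rw [eqToHom_refl, Category.comp_id]
  exact hP A

theorem rep_of (P : MorphismProperty (AlgSp.Sp S))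
    (hP : ∀ (A : QuotObj Scheme.etalePrecoverage G aX), P ((AlgSp.yon S).map A.π)) :
    AlgSt.RepByAlgSpWith P (fX Scheme.etalePrecoverage G aX) := by
  intro U y
  refine ⟨⟨(AlgSp.yon S).obj (A0 y).P, AlgSp.IsAlgSpace.yon_obj _⟩, eF y, eF_isEquivOver y, ?_⟩
  rw [eF_fst, spMap_aF]
  exact prop_pi0 P hP (A0 y) U (hA0 y)

theorem rep_smooth [Smooth G.hom] :
    AlgSt.RepByAlgSpWith (AlgSp.LocP @Smooth) (fX Scheme.etalePrecoverage G aX) := by
  refine rep_of _ (fun A => ?_)
  refine Groth.Agent.Lib.Helper14.QuotStGeom.locP_yon_map_of_prop @Smooth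
    (fun _ _ _ a m ha hm => ?_) A.π
    (Groth.Agent.Lib.Helper14.QuotStGeom.pi_prop @Smooth (inferInstance : Smooth G.hom)
      (toFppf etale_le_fppf A))
  have : Etale a := ha
  have : Smooth m := hm
  exact (inferInstance : Smooth (a ≫ m))

theorem rep_surj :
    AlgSt.RepByAlgSpWith AlgSp.IsSurjectiveMor (fX Scheme.etalePrecoverage G aX) :=
  rep_of _ (fun A => Groth.Agent.Lib.Helper14.QuotStGeom.isSurjectiveMor_yon_map A.π
    (Groth.Agent.Lib.Helper14.QuotStGeom.pi_surj (toFppf etale_le_fppf A)))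

theorem rep_affine [IsAffineHom G.hom] :
    AlgSt.RepByAlgSpWith AlgSp.IsAffineMor (fX Scheme.etalePrecoverage G aX) :=
  rep_of _ (fun A => isAffineMor_yon_map A.π
    (Groth.Agent.Lib.Helper5.QuotStStackE.pi_affine A))

end Groth.Agent.Lib.Helper5.QuotStRepE
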