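import Mathlib
import Groth.Prelude.Def_CInt
import Groth.Prelude.Def_AlgSp

set_option autoImplicit false

universe u

open CategoryTheory CategoryTheory.Limits AlgebraicGeometry

namespace Groth.Agent.Lib.Helper5.SDD3

/-- Key fact: given a cartesian square exhibiting `h_W` (for an open `W` of `V.left`) as the pullback of
`j : U ⟶ X` along `φ : h_V ⟶ X`, a map `t : T' ⟶ V` lands in `W` iff `h_t ≫ φ` factors through `j`. -/
theorem key {S : Scheme.{u}} {U X : AlgSp.Sp S} (j : U ⟶ X) {V : Over S}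
    (φ : (AlgSp.yon S).obj V ⟶ X) (W : V.left.Opens)
    (fst : (AlgSp.yon S).obj (Over.mk (W.ι ≫ V.hom)) ⟶ U)
    (sq : IsPullback fst
      ((AlgSp.yon S).map (Over.homMk W.ι rfl : Over.mk (W.ι ≫ V.hom) ⟶ V)) j φ)
    {T' : Over S} (t : T' ⟶ V) :
    (∃ u : (AlgSp.yon S).obj T' ⟶ U, u ≫ j = (AlgSp.yon S).map t ≫ φ) ↔
      Set.range t.left ⊆ (W : Set V.left) := by
  constructor
  · rintro ⟨u, hu⟩
    obtain ⟨t', ht'⟩ := (AlgSp.yon S).map_surjective (sq.lift u ((AlgSp.yon S).map t) hu)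
    have h2 : t' ≫ (Over.homMk W.ι rfl : Over.mk (W.ι ≫ V.hom) ⟶ V) = t := by
      apply (AlgSp.yon S).map_injective
      rw [Functor.map_comp, ht', sq.lift_snd]
    have h3 : t'.left ≫ W.ι = t.left := by
      have := congrArg CommaMorphism.left h2
      simpa using this
    rintro _ ⟨x, rfl⟩
    rw [← h3]
    exact (t'.left x).2
  · intro hr
    have hr' : Set.range t.left ⊆ Set.range W.ι := by
      simpa using hr
    let t'l : T'.left ⟶ (W : Scheme) := IsOpenImmersion.lift W.ι t.left hr'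
    have hfac : t'l ≫ W.ι = t.left := IsOpenImmersion.lift_fac _ _ _
    let t' : T' ⟶ Over.mk (W.ι ≫ V.hom) := Over.homMk t'l (by
      simp only [Over.mk_hom]
      rw [← Category.assoc, hfac, Over.w t])
    have h2 : t' ≫ (Over.homMk W.ι rfl : Over.mk (W.ι ≫ V.hom) ⟶ V) = t := by
      ext
      simpa [t'] using hfac
    refine ⟨(AlgSp.yon S).map t' ≫ fst, ?_⟩
    rw [Category.assoc, sq.w, ← Category.assoc, ← Functor.map_comp, h2]

theorem D3 {S : Scheme.{u}} {U X : AlgSp.Sp S} (j : U ⟶ X) {V : Over S} (φ : (AlgSp.yon S).obj V ⟶ X) (W : V.left.Opens) (fst : (AlgSp.yon S).obj (Over.mk (W.ι ≫ V.hom)) ⟶ U) (sq : IsPullback fst ((AlgSp.yon S).map (Over.homMk W.ι rfl : Over.mk (W.ι ≫ V.hom) ⟶ V)) j φ) {V₀ : Over S} (φ₀ : (AlgSp.yon S).obj V₀ ⟶ X) (W₀ : V₀.left.Opens) (fst₀ : (AlgSp.yon S).obj (Over.mk (W₀.ι ≫ V₀.hom)) ⟶ U) (sq₀ : IsPullback fst₀ ((AlgSp.yon S).map (Over.homMk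 W₀.ι rfl : Over.mk (W₀.ι ≫ V₀.hom) ⟶ V₀)) j φ₀) {T : Over S} (p : T ⟶ V) (q : T ⟶ V₀) (h : (AlgSp.yon S).map p ≫ φ = (AlgSp.yon S).map q ≫ φ₀) : p.left ⁻¹ᵁ W = q.left ⁻¹ᵁ W₀ := by
  -- one inclusion, in a symmetric form
  have one : ∀ {V V₀ : Over S} (φ : (AlgSp.yon S).obj V ⟶ X) (W : V.left.Opens)
      (fst : (AlgSp.yon S).obj (Over.mk (W.ι ≫ V.hom)) ⟶ U)
      (_ : IsPullback fst
        ((AlgSp.yon S).map (Over.homMk W.ι rfl : Over.mk (W.ι ≫ V.hom) ⟶ V)) j φ)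
      (φ₀ : (AlgSp.yon S).obj V₀ ⟶ X) (W₀ : V₀.left.Opens)
      (fst₀ : (AlgSp.yon S).obj (Over.mk (W₀.ι ≫ V₀.hom)) ⟶ U)
      (_ : IsPullback fst₀
        ((AlgSp.yon S).map (Over.homMk W₀.ι rfl : Over.mk (W₀.ι ≫ V₀.hom) ⟶ V₀)) j φ₀)
      (p : T ⟶ V) (q : T ⟶ V₀)
      (_ : (AlgSp.yon S).map p ≫ φ = (AlgSp.yon S).map q ≫ φ₀),
      p.left ⁻¹ᵁ W ≤ q.left ⁻¹ᵁ W₀ := by
    intro V V₀ φ W fst sq φ₀ W₀ fst₀ sq₀ p q h
    set O : T.left.Opens := p.left ⁻¹ᵁ W with hO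
    let i : Over.mk (O.ι ≫ T.hom) ⟶ T := Over.homMk O.ι rfl
    have h1 : Set.range (i ≫ p).left ⊆ (W : Set V.left) := by
      rintro _ ⟨x, rfl⟩
      have hx : (O.ι x) ∈ O := by simp
      have : (i ≫ p).left = O.ι ≫ p.left := by simp [i]
      rw [this]
      exact hx
    obtain ⟨u, hu⟩ := (key j φ W fst sq (i ≫ p)).2 h1
    have hu' : u ≫ j = (AlgSp.yon S).map (i ≫ q) ≫ φ₀ := by
      rw [hu, Functor.map_comp, Category.assoc, h, ← Category.assoc, ← Functor.map_comp]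
    have h2 := (key j φ₀ W₀ fst₀ sq₀ (i ≫ q)).1 ⟨u, hu'⟩
    intro x hx
    have hx' : x ∈ Set.range O.ι := by
      simpa using hx
    obtain ⟨y, rfl⟩ := hx'
    have : (i ≫ q).left = O.ι ≫ q.left := by simp [i]
    have h3 := h2 ⟨y, rfl⟩
    rw [this] at h3
    simpa using h3
  exact le_antisymm (one φ W fst sq φ₀ W₀ fst₀ sq₀ p q h) (one φ₀ W₀ fst₀ sq₀ φ W fst sq q p h.symm)

end Groth.Agent.Lib.Helper5.SDD3
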