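import Groth.Agent.Lib.Helper5.TorsTwist7
import Groth.Agent.Lib.Helper5.MagnetAux
import Groth.Prelude.Def_ChGrp

/-!
# Torsors under a group extension (helper5)

For `1 → N → G → Q → 1` and a principal `G`-bundle `X ⟶ Y` with push-forward `W` along `G ⟶ Q`,
the map `X ⟶ W` is a principal `N`-bundle.  Zariski-local triviality is transitive.
-/

set_option autoImplicit false
universe u
open CategoryTheory CategoryTheory.Limits MonoidalCategory CartesianMonoidalCategory MonObj GrpObj
  AlgebraicGeometry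

namespace Groth.Agent.Lib.Helper5.SpecialExt

open Groth.Agent.Lib.Helper5.TorsorPush Groth.Agent.Lib.Helper5.PrincDesc
  Groth.Agent.Lib.Helper5.TorsTwist

/-- In a cartesian monoidal category, `f ▷ A` is the base change of `f` along the projection. -/
lemma isPullback_whiskerRight_fst {C : Type*} [Category C] [CartesianMonoidalCategory C] (A : C)
    {X Y : C} (f : X ⟶ Y) : IsPullback (f ▷ A) (fst X A) (fst Y A) f := by
  refine ⟨⟨by simp⟩, ⟨PullbackCone.IsLimit.mk _ (fun s => lift s.snd (s.fst ≫ snd Y A)) ?_ ?_ ?_⟩⟩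
  · intro s
    apply CartesianMonoidalCategory.hom_ext
    · simp only [Category.assoc, whiskerRight_fst, lift_fst_assoc]
      exact s.condition.symm
    · simp
  · intro s
    simp
  · intro s m h1 h2
    apply CartesianMonoidalCategory.hom_ext
    · rw [lift_fst, h2]
    · rw [lift_snd, ← h1, Category.assoc, whiskerRight_snd]

variable {B : Scheme.{u}} {G N Q X Y W : Over B} [GrpObj G] [GrpObj N] [GrpObj Q]
  (a : AlgGrp.Action G X) (φ : X ⟶ Y) (hcart : IsPullback a.act (snd G X) φ φ)

include hcart in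
/-- The trivialisation square over a section. -/
lemma isPullback_section {Z : Over B} (σ : Z ⟶ X) :
    IsPullback ((G ◁ σ) ≫ a.act) (snd G Z) φ (σ ≫ φ) :=
  (Groth.Agent.Lib.Helper5.isPullback_whiskerLeft_snd G σ).paste_horiz hcart

variable (iN : N ⟶ G) [IsMonHom iN] (q : G ⟶ Q) [IsMonHom q] (hker : AlgGrp.IsKernel iN q)
  (a' : AlgGrp.Action Q W) (ψ : W ⟶ Y) (hpb : IsPullback a'.act (snd Q W) ψ ψ)
  (kk : X ⟶ W) (hkψ : kk ≫ ψ = φ)
  (hequiv : a.act ≫ kk = lift (fst G X ≫ q) (snd G X ≫ kk) ≫ a'.act)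

include hpb in
lemma eq_one_of_smul_eq {T : Over B} (g : T ⟶ Q) (w : T ⟶ W) (h : smul a' g w = w) : g = 1 := by
  have e : lift g w = lift 1 w := by
    apply hpb.hom_ext
    · exact h.trans (TorsorPush.one_smul a' w).symm
    · rw [lift_snd, lift_snd]
  have := congrArg (fun m => m ≫ fst Q W) e
  simpa using this

include hker in
lemma iN_q {T : Over B} (n : T ⟶ N) : (n ≫ iN) ≫ q = 1 := by
  have hw : iN ≫ q = toUnit N ≫ η[Q] := hker.w
  rw [Category.assoc, hw, ← Category.assoc, Hom.one_def]
  congr 1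
  exact toUnit_unique _ _

include hcart hker hpb hkψ hequiv in
/-- The map to the push-forward along the quotient is a principal bundle under the kernel. -/
theorem isPullback_restrict :
    IsPullback (a.restrict iN).act (snd N X) kk kk := by
  have hsq : IsPullback a.act.left (snd G X).left φ.left φ.left := hcart.map (Over.forget B)
  have hpt : ∀ {T : Over B} (n : T ⟶ N) (x : T ⟶ X),
      lift n x ≫ (a.restrict iN).act = smul a (n ≫ iN) x := by
    intro T n x
    unfold smul
    rw [AlgGrp.Action.restrict_act, ← Category.assoc]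
    congr 1
    apply CartesianMonoidalCategory.hom_ext <;> simp
  have hinvpt : ∀ {T : Over B} (n : T ⟶ N) (x : T ⟶ X), smul a (n ≫ iN) x ≫ kk = x ≫ kk := by
    intro T n x
    rw [smul_comp_of_equivariant a a' q kk hequiv, iN_q iN q hker, TorsorPush.one_smul]
  have hw : (a.restrict iN).act ≫ kk = snd N X ≫ kk := by
    have h1 := hpt (fst N X) (snd N X)
    rw [lift_fst_snd, Category.id_comp] at h1
    rw [h1, hinvpt]
  apply isPullback_of_existsUnique _ _ _ _ hw
  intro T p p' hpp
  have hφ : p ≫ φ = p' ≫ φ := by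
    rw [← hkψ, ← Category.assoc, hpp, Category.assoc]
  let gm : T ⟶ G := divY a φ hsq p p' hφ
  have hgm : smul a gm p' = p := divY_smul a φ hsq p p' hφ
  have hgmq : gm ≫ q = 1 := by
    apply eq_one_of_smul_eq a' ψ hpb (gm ≫ q) (p' ≫ kk)
    rw [← smul_comp_of_equivariant a a' q kk hequiv, hgm, hpp]
  have hgmq' : gm ≫ q = toUnit T ≫ η[Q] := by rw [hgmq, Hom.one_def]
  let n : T ⟶ N := hker.lift gm (toUnit T) hgmq'
  have hn : n ≫ iN = gm := hker.lift_fst _ _ _
  refine ⟨lift n p', ⟨?_, lift_snd _ _⟩, ?_⟩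
  · rw [hpt, hn, hgm]
  · rintro t ⟨ht₁, ht₂⟩
    have ht : t = lift (t ≫ fst N X) p' := by
      apply CartesianMonoidalCategory.hom_ext
      · rw [lift_fst]
      · rw [lift_snd, ht₂]
    rw [ht]
    congr 1
    apply hker.hom_ext
    · rw [hn]
      apply eq_divY
      rw [← hpt, ← ht, ht₁]
    · exact toUnit_unique _ _

end Groth.Agent.Lib.Helper5.SpecialExt
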