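import Groth.Agent.Lib.Helper5.SpecialExt

/-!
# Local triviality of the map to the push-forward; transitivity of Zariski-local triviality
-/

set_option autoImplicit false
universe u
open CategoryTheory CategoryTheory.Limits MonoidalCategory CartesianMonoidalCategory MonObj GrpObj
  AlgebraicGeometry

namespace Groth.Agent.Lib.Helper5.SpecialExt

open Groth.Agent.Lib.Helper5.TorsorPush Groth.Agent.Lib.Helper5.PrincDesc
  Groth.Agent.Lib.Helper5.TorsTwist

variable {B : Scheme.{u}} {G Q X Y W : Over B} [GrpObj G] [GrpObj Q]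
  (a : AlgGrp.Action G X) (φ : X ⟶ Y)
  (q : G ⟶ Q) [IsMonHom q]
  (a' : AlgGrp.Action Q W) (ψ : W ⟶ Y) (hpb : IsPullback a'.act (snd Q W) ψ ψ)
  (kk : X ⟶ W) (hkψ : kk ≫ ψ = φ)
  (hequiv : a.act ≫ kk = lift (fst G X ≫ q) (snd G X ≫ kk) ≫ a'.act)
  {Ix : Type u} {U : Ix → Scheme.{u}} (c : ∀ i, U i ⟶ Y.left) (s : ∀ i, U i ⟶ X.left)
  (hs : ∀ i, s i ≫ φ.left = c i)
  (hc : Presieve.ofArrows U c ∈ Scheme.fpqcPrecoverage Y.left)

include hpb hkψ hequiv hs hc in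
/-- The map to the push-forward along a flat surjective quasi-compact homomorphism acquires
sections on an fpqc covering family of the push-forward. -/
theorem isLocallyTrivialFor_map [Flat q.left] [Surjective q.left] [QuasiCompact q.left] :
    NonAbH1.IsLocallyTrivialFor Scheme.fpqcPrecoverage (Over.mk kk.left : Over W.left) := by
  let Z : Ix → Over B := fun i => Over.mk (c i ≫ Y.hom)
  let σ : ∀ i, Z i ⟶ X := fun i => Over.homMk (s i) (hsX φ c s hs i)
  let topX : ∀ i, G ⊗ Z i ⟶ X := fun i => (G ◁ σ i) ≫ a.act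
  let topW : ∀ i, Q ⊗ Z i ⟶ W := fun i => (Q ◁ (σ i ≫ kk)) ≫ a'.act
  have hB : ∀ i, IsPullback (topW i).left (snd Q (Z i)).left ψ.left (c i) := by
    intro i
    have h1 := (isPullback_section a' ψ hpb (σ i ≫ kk)).map (Over.forget B)
    have e : (Over.forget B).map ((σ i ≫ kk) ≫ ψ) = c i := by
      change (s i ≫ kk.left) ≫ ψ.left = c i
      rw [Category.assoc, ← Over.comp_left, hkψ]
      exact hs i
    rw [e] at h1
    exact h1
  have hF₁ : Presieve.ofArrows (fun i => (Q ⊗ Z i).left) (fun i => (topW i).left) ∈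
      Scheme.fpqcPrecoverage W.left :=
    Precoverage.mem_coverings_of_isPullback c hc ψ.left _ (fun i => (snd Q (Z i)).left) hB
  have hq : ∀ i, Presieve.ofArrows (fun _ : PUnit.{u + 1} => (G ⊗ Z i).left)
      (fun _ => (q ▷ Z i).left) ∈ Scheme.fpqcPrecoverage (Q ⊗ Z i).left := by
    intro i
    rw [Presieve.ofArrows_pUnit]
    have hsq := (isPullback_whiskerRight_fst (Z i) q).map (Over.forget B)
    have h1 : Flat (q ▷ Z i).left :=
      MorphismProperty.of_isPullback (P := @Flat) hsq.flip (inferInstanceAs (Flat q.left))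
    have h2 : Surjective (q ▷ Z i).left :=
      MorphismProperty.of_isPullback (P := @Surjective) hsq.flip (inferInstanceAs (Surjective q.left))
    have h3 : QuasiCompact (q ▷ Z i).left :=
      MorphismProperty.of_isPullback (P := @QuasiCompact) hsq.flip (inferInstanceAs (QuasiCompact q.left))
    exact Scheme.Hom.singleton_mem_fpqcPrecoverage _
  have hF := Precoverage.comp_mem_coverings (J := Scheme.fpqcPrecoverage)
    (fun i => (topW i).left) hF₁ (σ := fun _ => PUnit.{u + 1})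
    (Y := fun i _ => (G ⊗ Z i).left) (fun i _ => (q ▷ Z i).left) hq
  refine ⟨_, hF, ?_⟩
  rintro _ _ ⟨p⟩
  refine ⟨(topX p.1).left, ?_⟩
  change (topX p.1).left ≫ kk.left = (q ▷ Z p.1).left ≫ (topW p.1).left
  rw [← Over.comp_left, ← Over.comp_left]
  congr 1
  change ((G ◁ σ p.1) ≫ a.act) ≫ kk = (q ▷ Z p.1) ≫ (Q ◁ (σ p.1 ≫ kk)) ≫ a'.act
  rw [Category.assoc, hequiv, ← Category.assoc, ← Category.assoc]
  congr 1
  apply CartesianMonoidalCategory.hom_ext <;> simp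

/-- Zariski-local triviality is transitive. -/
theorem isLocallyTrivialFor_zariski_comp {Y' W' X' : Scheme.{u}} (ψ' : W' ⟶ Y') (κ : X' ⟶ W')
    (h₁ : NonAbH1.IsLocallyTrivialFor Scheme.zariskiPrecoverage (Over.mk ψ' : Over Y'))
    (h₂ : NonAbH1.IsLocallyTrivialFor Scheme.zariskiPrecoverage (Over.mk κ : Over W')) :
    NonAbH1.IsLocallyTrivialFor Scheme.zariskiPrecoverage (Over.mk (κ ≫ ψ') : Over Y') := by
  obtain ⟨R₁, hR₁, hsec₁⟩ := h₁
  obtain ⟨R₂, hR₂, hsec₂⟩ := h₂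
  obtain ⟨𝒰, rfl⟩ := Precoverage.mem_iff_exists_zeroHypercover.mp hR₁
  obtain ⟨𝒱, rfl⟩ := Precoverage.mem_iff_exists_zeroHypercover.mp hR₂
  have h𝒰 := 𝒰.mem₀
  have h𝒱 := 𝒱.mem₀
  rw [Scheme.presieve₀_mem_precoverage_iff] at h𝒰 h𝒱
  choose σ hσ using fun i => hsec₁ (𝒰.f i) (Presieve.ofArrows.mk i)
  choose τ hτ using fun l => hsec₂ (𝒱.f l) (Presieve.ofArrows.mk l)
  have hoi₁ : ∀ i, IsOpenImmersion (𝒰.f i) := h𝒰.2
  have hoi₂ : ∀ l, IsOpenImmersion (𝒱.f l) := h𝒱.2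
  refine ⟨Presieve.ofArrows (fun p : 𝒰.I₀ × 𝒱.I₀ => pullback (σ p.1) (𝒱.f p.2))
    (fun p => pullback.fst (σ p.1) (𝒱.f p.2) ≫ 𝒰.f p.1), ?_, ?_⟩
  · change _ ∈ Scheme.precoverage @IsOpenImmersion Y'
    rw [Scheme.ofArrows_mem_precoverage_iff]
    refine ⟨fun y => ?_, fun p => ?_⟩
    · obtain ⟨i, v, hv⟩ := h𝒰.1 y
      obtain ⟨l, v', hv'⟩ := h𝒱.1 ((σ i) v)
      obtain ⟨z, hz1, hz2⟩ := Scheme.Pullback.exists_preimage_pullback (f := σ i) (g := 𝒱.f l)
        v v' hv'.symm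
      refine ⟨(i, l), z, ?_⟩
      rw [Scheme.Hom.comp_apply, hz1]
      exact hv
    · haveI := hoi₁ p.1
      haveI := hoi₂ p.2
      infer_instance
  · rintro _ _ ⟨p⟩
    refine ⟨pullback.snd (σ p.1) (𝒱.f p.2) ≫ τ p.2, ?_⟩
    have e₁ : τ p.2 ≫ κ = 𝒱.f p.2 := hτ p.2
    have e₂ : σ p.1 ≫ ψ' = 𝒰.f p.1 := hσ p.1
    change (pullback.snd (σ p.1) (𝒱.f p.2) ≫ τ p.2) ≫ κ ≫ ψ' = _
    rw [Category.assoc, reassoc_of% e₁, ← pullback.condition_assoc, e₂]

end Groth.Agent.Lib.Helper5.SpecialExt
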