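import Groth.Agent.Lib.Helper5.TorsTwist3
import Groth.Agent.Lib.Helper5.TorsorExact

/-!
# The push-forward torsor: action, torsor square and the equivariant map (helper5)
-/

set_option backward.isDefEq.respectTransparency false
set_option backward.isDefEq.respectTransparency.types false
set_option autoImplicit false
universe u
open CategoryTheory CategoryTheory.Limits MonoidalCategory CartesianMonoidalCategory MonObj GrpObj
  AlgebraicGeometry Desc

namespace Groth.Agent.Lib.Helper5.TorsTwist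

open Groth.Agent.Lib.Helper5.TorsorPush Groth.Agent.Lib.Helper5.PrincDesc
  Groth.Agent.Lib.Helper5.DescCoord Groth.Agent.Lib.Helper64.DescFam

/-- A square is cartesian if it has the universal property on points. -/
lemma isPullback_of_existsUnique {C : Type*} [Category C] {P A₁ A₂ Z : C} (p₁ : P ⟶ A₁)
    (p₂ : P ⟶ A₂) (f₁ : A₁ ⟶ Z) (f₂ : A₂ ⟶ Z) (w : p₁ ≫ f₁ = p₂ ≫ f₂)
    (h : ∀ {T : C} (x : T ⟶ A₁) (y : T ⟶ A₂), x ≫ f₁ = y ≫ f₂ →
      ∃! t : T ⟶ P, t ≫ p₁ = x ∧ t ≫ p₂ = y) : IsPullback p₁ p₂ f₁ f₂ :=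
  ⟨⟨w⟩, ⟨PullbackCone.IsLimit.mk _ (fun s => (h s.fst s.snd s.condition).exists.choose)
    (fun s => (h s.fst s.snd s.condition).exists.choose_spec.1)
    (fun s => (h s.fst s.snd s.condition).exists.choose_spec.2)
    (fun s m h₁ h₂ => (h s.fst s.snd s.condition).unique ⟨h₁, h₂⟩
      (h s.fst s.snd s.condition).exists.choose_spec)⟩⟩

variable {B : Scheme.{u}} {Y : Over B} {Ix : Type u} {U : Ix → Scheme.{u}} {c : ∀ i, U i ⟶ Y.left}
  (hc : Presieve.ofArrows U c ∈ Scheme.fpqcPrecoverage Y.left)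

section cov

include hc in
/-- Morphisms of `B`-schemes are determined locally on the charts. -/
theorem ext_cov {T Z : Over B} (y : T ⟶ Y) (g₁ g₂ : T ⟶ Z)
    (H : ∀ (T' : Over B) (m : T' ⟶ T) ⦃i : Ix⦄ (x : T'.left ⟶ U i),
      (m ≫ y).left = x ≫ c i → m ≫ g₁ = m ≫ g₂) : g₁ = g₂ := by
  apply Over.OverMorphism.ext
  apply ext_of_covering (factSieve c y.left) (factSieve_mem_of_ofArrows_mem c hc _)
  rintro T'' t ⟨i, x, hx⟩
  have := H (Over.mk (t ≫ T.hom)) (Over.homMk t rfl) x hx.symm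
  exact congrArg (fun z => z.left) this

include hc in
/-- Morphisms of `B`-schemes can be glued along the charts. -/
theorem glue_cov {T Z : Over B} (y : T ⟶ Y)
    (e : ∀ (T' : Over B) (m : T' ⟶ T) ⦃i : Ix⦄ (x : T'.left ⟶ U i),
      (m ≫ y).left = x ≫ c i → (T' ⟶ Z))
    (e_nat : ∀ (T' T'' : Over B) (k : T'' ⟶ T') (m : T' ⟶ T) ⦃i : Ix⦄ (x : T'.left ⟶ U i)
      (hm : (m ≫ y).left = x ≫ c i) (hm' : ((k ≫ m) ≫ y).left = (k.left ≫ x) ≫ c i),
      k ≫ e T' m x hm = e T'' (k ≫ m) (k.left ≫ x) hm')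
    (e_indep : ∀ (T' : Over B) (m : T' ⟶ T) ⦃i j : Ix⦄ (x₀ : T'.left ⟶ U i) (x₁ : T'.left ⟶ U j)
      (hm₀ : (m ≫ y).left = x₀ ≫ c i) (hm₁ : (m ≫ y).left = x₁ ≫ c j),
      e T' m x₀ hm₀ = e T' m x₁ hm₁) :
    ∃ g : T ⟶ Z, ∀ (T' : Over B) (m : T' ⟶ T) ⦃i : Ix⦄ (x : T'.left ⟶ U i)
      (hm : (m ≫ y).left = x ≫ c i), m ≫ g = e T' m x hm := by
  have e_congr : ∀ (T' : Over B) (m m' : T' ⟶ T) ⦃i : Ix⦄ (x x' : T'.left ⟶ U i)
      (hm : (m ≫ y).left = x ≫ c i) (hm' : (m' ≫ y).left = x' ≫ c i), m = m' → x = x' →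
      e T' m x hm = e T' m' x' hm' := by
    intro T' m m' i x x' hm hm' em ex
    subst em ex; rfl
  have hcov := factSieve_mem_of_ofArrows_mem c hc y.left
  let TO : ∀ {T' : Scheme.{u}} (t : T' ⟶ T.left), Over B := fun t => Over.mk (t ≫ T.hom)
  let mO : ∀ {T' : Scheme.{u}} (t : T' ⟶ T.left), TO t ⟶ T := fun t => Over.homMk t rfl
  obtain ⟨b, hb⟩ := glue_of_covering (W' := Z.left) (factSieve c y.left) hcov
    (fun T' t ht => (e (TO t) (mO t) ht.choose_spec.choose ht.choose_spec.choose_spec.symm).left)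
    (by
      intro T' T'' t g ht
      have hx := ht.choose_spec.choose_spec
      let k : TO (g ≫ t) ⟶ TO t := Over.homMk g (Category.assoc _ _ _).symm
      have hm' : ((k ≫ mO t) ≫ y).left = (k.left ≫ ht.choose_spec.choose) ≫ c ht.choose := by
        change (g ≫ t) ≫ y.left = (g ≫ ht.choose_spec.choose) ≫ c ht.choose
        rw [Category.assoc, Category.assoc, hx]
      have e1 := e_nat (TO t) (TO (g ≫ t)) k (mO t) ht.choose_spec.choose hx.symm hm'
      have e2 := congrArg (fun z => z.left) e1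
      simp only [Over.comp_left] at e2
      refine Eq.trans ?_ e2.symm
      refine congrArg (fun z : TO (g ≫ t) ⟶ Z => z.left) ?_
      have hm'' : (mO (g ≫ t) ≫ y).left = (k.left ≫ ht.choose_spec.choose) ≫ c ht.choose := hm'
      refine (e_indep _ _ _ _ _ hm'').trans (e_congr _ _ _ _ _ hm'' hm' ?_ rfl)
      ext
      rfl)
  have hbZ : b ≫ Z.hom = T.hom := by
    apply ext_of_covering _ hcov
    rintro T' t ⟨i, x, hx⟩
    rw [← Category.assoc, hb t ⟨i, x, hx⟩]
    exact Over.w _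
  refine ⟨Over.homMk b hbZ, ?_⟩
  intro T' m i x hm
  ext
  have hmem : factSieve c y.left m.left := ⟨i, x, hm.symm⟩
  rw [Over.comp_left]
  change m.left ≫ b = _
  rw [hb m.left hmem]
  let k : T' ⟶ TO m.left := Over.homMk (𝟙 _) (by rw [Category.id_comp]; exact Over.w m)
  have hm' : ((k ≫ mO m.left) ≫ y).left =
      (k.left ≫ hmem.choose_spec.choose) ≫ c hmem.choose := by
    change (𝟙 _ ≫ m.left) ≫ y.left = (𝟙 _ ≫ hmem.choose_spec.choose) ≫ c hmem.choose
    rw [Category.id_comp, Category.id_comp]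
    exact hmem.choose_spec.choose_spec.symm
  have e2 := e_nat (TO m.left) T' k (mO m.left) hmem.choose_spec.choose
    hmem.choose_spec.choose_spec.symm hm'
  have e3 : e T' (k ≫ mO m.left) (k.left ≫ hmem.choose_spec.choose) hm' = e T' m x hm := by
    have hm'' : (m ≫ y).left = (k.left ≫ hmem.choose_spec.choose) ≫ c hmem.choose := by
      change m.left ≫ y.left = (𝟙 _ ≫ hmem.choose_spec.choose) ≫ c hmem.choose
      rw [Category.id_comp]
      exact hmem.choose_spec.choose_spec.symm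
    refine (e_congr T' _ m _ _ hm' hm'' ?_ rfl).trans (e_indep _ _ _ _ _ _)
    ext
    exact Category.id_comp _
  have e4 := congrArg (fun z => z.left) (e2.trans e3)
  simp only [Over.comp_left] at e4
  refine Eq.trans ?_ e4
  exact (Category.id_comp _).symm

end cov

end Groth.Agent.Lib.Helper5.TorsTwist
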