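import Groth.Agent.Lib.Helper78.GrpQuot2
import Groth.Agent.Lib.Helper46.FppfSourceSch
import Groth.Agent.Lib.Helper46.EtLocal
import Groth.Agent.Lib.Helper5.TorsTwist4

/-!
# The third isomorphism theorem for fppf quotients of group schemes (helper5)
-/

set_option autoImplicit false
set_option linter.style.haveILetI false
set_option linter.unusedSectionVars false
universe u
open CategoryTheory CategoryTheory.Limits AlgebraicGeometry MonoidalCategory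
open MonObj GrpObj CartesianMonoidalCategory

namespace Groth.Agent.Lib.Helper5.ThirdIso

open Groth.Agent.Lib.Helper78.GrpQuot

variable {S : Scheme.{u}}

/-- an fppf covering morphism of `S`-schemes -/
def Fppf {A B : Over S} (p : A ⟶ B) : Prop :=
  Surjective p.left ∧ Flat p.left ∧ LocallyOfFinitePresentation p.left

lemma Fppf.epi {A B : Over S} {p : A ⟶ B} (hp : Fppf p) : Epi p := epi_of_fppf_left p hp

lemma Fppf.comp {A B C : Over S} {p : A ⟶ B} {p' : B ⟶ C} (hp : Fppf p) (hp' : Fppf p') :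
    Fppf (p ≫ p') := by
  haveI := hp.1; haveI := hp.2.1; haveI := hp.2.2
  haveI := hp'.1; haveI := hp'.2.1; haveI := hp'.2.2
  refine ⟨?_, ?_, ?_⟩ <;> (rw [Over.comp_left]; infer_instance)

/-- local lifting along an fppf covering -/
lemma exists_lift_fppf {A B W : Over S} (q : A ⟶ B) (hq : Fppf q) (x : W ⟶ B) :
    ∃ (W' : Over S) (p : W' ⟶ W) (y : W' ⟶ A), Fppf p ∧ y ≫ q = p ≫ x := by
  haveI := hq.1; haveI := hq.2.1; haveI := hq.2.2
  refine ⟨Over.mk (pullback.fst x.left q.left ≫ W.hom),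
    Over.homMk (pullback.fst x.left q.left) rfl,
    Over.homMk (pullback.snd x.left q.left) ?_, ⟨?_, ?_, ?_⟩, ?_⟩
  · change pullback.snd x.left q.left ≫ A.hom = pullback.fst x.left q.left ≫ W.hom
    rw [← Over.w q, ← Category.assoc, ← pullback.condition, Category.assoc, Over.w x]
  · change Surjective (pullback.fst x.left q.left); infer_instance
  · change Flat (pullback.fst x.left q.left); infer_instance
  · change LocallyOfFinitePresentation (pullback.fst x.left q.left); infer_instance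
  · ext1
    exact pullback.condition.symm

section setup

variable {H K G QH Kb : Over S} [GrpObj H] [GrpObj K] [GrpObj G]
  (h : H ⟶ K) (k : K ⟶ G) [Mono k] [IsMonHom k]
  (qH : G ⟶ QH) (hqH : RedSub.IsQuotient (h ≫ k) qH)
  (qKb : K ⟶ Kb) (hqKb : RedSub.IsQuotient h qKb)
  (act : QH ⊗ Kb ⟶ QH) (hact : (qH ⊗ₘ qKb) ≫ act = (G ◁ k) ≫ μ[G] ≫ qH)

lemma lift_whisker_mul {Z : Over S} (g : Z ⟶ G) (κ : Z ⟶ K) :
    lift g κ ≫ (G ◁ k) ≫ μ[G] = g * (κ ≫ k) := by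
  rw [lift_whiskerLeft_assoc, Hom.mul_def]

include hact in
lemma act_lift {Z : Over S} (g : Z ⟶ G) (κ : Z ⟶ K) :
    lift (g ≫ qH) (κ ≫ qKb) ≫ act = (g * (κ ≫ k)) ≫ qH := by
  have : lift (g ≫ qH) (κ ≫ qKb) = lift g κ ≫ (qH ⊗ₘ qKb) := by
    rw [lift_map]
  rw [this, Category.assoc, hact, ← lift_whisker_mul k g κ, Category.assoc, Category.assoc]

include hqH hqKb hact in
/-- uniqueness, with lifts given -/
lemma unique_aux {W : Over S} (g : W ⟶ G) (k₁ k₂ : W ⟶ K)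
    (e : (g * (k₁ ≫ k)) ≫ qH = (g * (k₂ ≫ k)) ≫ qH) : k₁ ≫ qKb = k₂ ≫ qKb := by
  obtain ⟨h', hh'⟩ := exists_of_comp_eq (h ≫ k) qH hqH _ _ e
  have e1 : k₂ ≫ k = (k₁ * (h' ≫ h)) ≫ k := by
    rw [MonObj.mul_comp, Category.assoc]
    rw [_root_.mul_assoc] at hh'
    exact mul_left_cancel hh'
  have e2 : k₂ = k₁ * (h' ≫ h) := (cancel_mono k).1 e1
  rw [e2, mul_comp_q h qKb hqKb]

include hqH hqKb hact in
/-- uniqueness of the translating point -/
lemma unique_pt {W : Over S} (x : W ⟶ QH) (κ₁ κ₂ : W ⟶ Kb)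
    (e : lift x κ₁ ≫ act = lift x κ₂ ≫ act) : κ₁ = κ₂ := by
  obtain ⟨W₁, p₁, g, hp₁, hg⟩ := exists_lift_fppf qH (fppf_q _ _ hqH) x
  obtain ⟨W₂, p₂, k₁, hp₂, hk₁⟩ := exists_lift_fppf qKb (fppf_q _ _ hqKb) (p₁ ≫ κ₁)
  obtain ⟨W₃, p₃, k₂, hp₃, hk₂⟩ := exists_lift_fppf qKb (fppf_q _ _ hqKb) (p₂ ≫ p₁ ≫ κ₂)
  haveI := (hp₃.comp (hp₂.comp hp₁)).epi
  rw [← cancel_epi (p₃ ≫ p₂ ≫ p₁)]
  have hg' : (p₃ ≫ p₂ ≫ g) ≫ qH = (p₃ ≫ p₂ ≫ p₁) ≫ x := by
    simp only [Category.assoc, hg]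
  have hk₁' : (p₃ ≫ k₁) ≫ qKb = (p₃ ≫ p₂ ≫ p₁) ≫ κ₁ := by
    simp only [Category.assoc, hk₁]
  have hk₂' : k₂ ≫ qKb = (p₃ ≫ p₂ ≫ p₁) ≫ κ₂ := by
    simp only [Category.assoc, hk₂]
  rw [← hk₁', ← hk₂']
  apply unique_aux h k qH hqH qKb hqKb act hact (p₃ ≫ p₂ ≫ g)
  rw [← act_lift k qH qKb act hact, ← act_lift k qH qKb act hact, hg', hk₁', hk₂', ← comp_lift,
    ← comp_lift]
  simp only [Category.assoc, e]

section partOne

variable {QK : Over S} (qK : G ⟶ QK) (hqK : RedSub.IsQuotient k qK) (qbar : QH ⟶ QK)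
  (hbar : qH ≫ qbar = qK)

include hqH hqKb hact hqK hbar in
/-- existence of the translating point -/
lemma exists_pt {Z : Over S} (a b : Z ⟶ QH) (hab : a ≫ qbar = b ≫ qbar) :
    ∃ κ : Z ⟶ Kb, lift a κ ≫ act = b := by
  obtain ⟨Z₁, p₁, ga, hp₁, hga⟩ := exists_lift_fppf qH (fppf_q _ _ hqH) a
  obtain ⟨Z₂, p₂, gb, hp₂, hgb⟩ := exists_lift_fppf qH (fppf_q _ _ hqH) (p₁ ≫ b)
  have hP := hp₂.comp hp₁
  haveI := hP.epi
  have hga' : (p₂ ≫ ga) ≫ qH = (p₂ ≫ p₁) ≫ a := by simp only [Category.assoc, hga]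
  have hgb' : gb ≫ qH = (p₂ ≫ p₁) ≫ b := by simp only [Category.assoc, hgb]
  have e1 : (p₂ ≫ ga) ≫ qK = gb ≫ qK := by
    rw [← hbar, ← Category.assoc, hga', ← Category.assoc gb, hgb', Category.assoc, hab,
      Category.assoc]
    simp only [Category.assoc]
  obtain ⟨κt, hκt⟩ := exists_of_comp_eq k qK hqK _ _ e1
  -- the local point
  have hloc : lift ((p₂ ≫ p₁) ≫ a) (κt ≫ qKb) ≫ act = (p₂ ≫ p₁) ≫ b := by
    rw [← hga', act_lift k qH qKb act hact, ← hκt, hgb']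
  obtain ⟨κ, hκ⟩ := exists_desc_of_fppf (p₂ ≫ p₁) hP (κt ≫ qKb) (by
    intro W g₁ g₂ h12
    apply unique_pt h k qH hqH qKb hqKb act hact (g₁ ≫ (p₂ ≫ p₁) ≫ a)
    have e₁ : lift (g₁ ≫ (p₂ ≫ p₁) ≫ a) (g₁ ≫ κt ≫ qKb) ≫ act = g₁ ≫ (p₂ ≫ p₁) ≫ b := by
      rw [← comp_lift, Category.assoc, hloc]
    have e₂ : lift (g₁ ≫ (p₂ ≫ p₁) ≫ a) (g₂ ≫ κt ≫ qKb) ≫ act = g₁ ≫ (p₂ ≫ p₁) ≫ b := by
      have : g₁ ≫ (p₂ ≫ p₁) ≫ a = g₂ ≫ (p₂ ≫ p₁) ≫ a := by
        rw [← Category.assoc, h12, Category.assoc]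
      rw [this, ← comp_lift, Category.assoc, hloc, ← Category.assoc, ← h12, Category.assoc]
    rw [e₁, e₂])
  refine ⟨κ, ?_⟩
  rw [← cancel_epi (p₂ ≫ p₁), ← Category.assoc, comp_lift, hκ, hloc]

include hqH hqKb hact hqK hbar in
theorem isPullback_one : IsPullback (fst QH Kb) act qbar qbar := by
  have hepi : Epi (qH ⊗ₘ qKb) :=
    epi_of_fppf_left _ (fppf_tensorHom_left qH qKb (fppf_q _ _ hqH) (fppf_q _ _ hqKb))
  have w : fst QH Kb ≫ qbar = act ≫ qbar := by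
    rw [← cancel_epi (qH ⊗ₘ qKb), ← Category.assoc, tensorHom_fst, ← Category.assoc, hact]
    simp only [Category.assoc, hbar]
    exact hqK.2.2.2.w
  refine Groth.Agent.Lib.Helper5.TorsTwist.isPullback_of_existsUnique _ _ _ _ w ?_
  intro Z a b hab
  obtain ⟨κ, hκ⟩ := exists_pt h k qH hqH qKb hqKb act hact qK hqK qbar hbar a b hab
  refine ⟨lift a κ, ⟨lift_fst _ _, hκ⟩, ?_⟩
  rintro t ⟨ht₁, ht₂⟩
  have ht : t = lift a (t ≫ snd QH Kb) := by
    apply CartesianMonoidalCategory.hom_ext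
    · rw [lift_fst, ht₁]
    · rw [lift_snd]
  rw [ht]
  congr 1
  apply unique_pt h k qH hqH qKb hqKb act hact a
  rw [← ht, ht₂, hκ]

include hqH hqK hbar in
theorem fppf_qbar : Fppf qbar := by
  have hH := fppf_q _ _ hqH
  have hK := fppf_q _ _ hqK
  haveI := hH.1; haveI := hH.2.1; haveI := hH.2.2
  have e : qH.left ≫ qbar.left = qK.left := by rw [← Over.comp_left, hbar]
  haveI : Surjective (qH.left ≫ qbar.left) := e ▸ hK.1
  haveI : Flat (qH.left ≫ qbar.left) := e ▸ hK.2.1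
  haveI : LocallyOfFinitePresentation (qH.left ≫ qbar.left) := e ▸ hK.2.2
  refine ⟨?_, ?_, ?_⟩
  · exact Surjective.of_comp qH.left qbar.left
  · refine Groth.Agent.Lib.Helper46.flat_of_family qbar.left fun y => ?_
    obtain ⟨x, rfl⟩ := (inferInstance : Surjective qH.left).surj y
    exact ⟨_, qH.left, inferInstance, inferInstance, x, rfl⟩
  · exact Groth.Agent.Lib.Helper46.FppfSourceSch.locallyOfFinitePresentation_of_fppf_surjective_comp
      qH.left qbar.left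

end partOne

section partTwo

variable {Y : Over S} (p : QH ⟶ Y) (hp : Fppf p) (hpb : IsPullback (fst QH Kb) act p p)

include hqH hqKb hact hpb in
/-- existence of the translating point of `K` -/
lemma exists_pt_two {Z : Over S} (x y : Z ⟶ G) (hxy : x ≫ qH ≫ p = y ≫ qH ≫ p) :
    ∃ κ : Z ⟶ K, x * (κ ≫ k) = y := by
  obtain ⟨t, ht₁, ht₂⟩ := hpb.exists_lift (x ≫ qH) (y ≫ qH)
    (by simpa only [Category.assoc] using hxy)
  have ht : t = lift (x ≫ qH) (t ≫ snd QH Kb) := by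
    apply CartesianMonoidalCategory.hom_ext
    · rw [lift_fst, ht₁]
    · rw [lift_snd]
  rw [ht] at ht₂
  obtain ⟨Z₁, P, κt, hP, hκt⟩ := exists_lift_fppf qKb (fppf_q _ _ hqKb) (t ≫ snd QH Kb)
  haveI := hP.epi
  have e1 : ((P ≫ x) * (κt ≫ k)) ≫ qH = (P ≫ y) ≫ qH := by
    rw [← act_lift k qH qKb act hact, hκt, Category.assoc, ← comp_lift, Category.assoc, ht₂,
      Category.assoc]
  obtain ⟨h', hh'⟩ := exists_of_comp_eq (h ≫ k) qH hqH _ _ e1
  have e2 : (P ≫ x) * ((κt * (h' ≫ h)) ≫ k) = P ≫ y := by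
    rw [hh', MonObj.mul_comp, Category.assoc, _root_.mul_assoc]
  obtain ⟨κ, hκ⟩ := exists_desc_of_fppf P hP (κt * (h' ≫ h)) (by
    intro W g₁ g₂ h12
    rw [← cancel_mono k]
    have a₁ : (g₁ ≫ P ≫ x) * ((g₁ ≫ (κt * (h' ≫ h))) ≫ k) = g₁ ≫ P ≫ y := by
      rw [Category.assoc, ← MonObj.comp_mul, e2]
    have a₂ : (g₁ ≫ P ≫ x) * ((g₂ ≫ (κt * (h' ≫ h))) ≫ k) = g₁ ≫ P ≫ y := by
      have e3 : g₁ ≫ P ≫ x = g₂ ≫ P ≫ x := by rw [← Category.assoc, h12, Category.assoc]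
      have e4 : g₁ ≫ P ≫ y = g₂ ≫ P ≫ y := by rw [← Category.assoc, h12, Category.assoc]
      rw [e3, e4, Category.assoc, ← MonObj.comp_mul, e2]
    exact mul_left_cancel (a₁.trans a₂.symm))
  refine ⟨κ, ?_⟩
  rw [← cancel_epi P, MonObj.comp_mul, ← Category.assoc, hκ, e2]

include hqH hqKb hact hp hpb in
theorem isQuotient_two : RedSub.IsQuotient k (qH ≫ p) := by
  have hH : Fppf qH := fppf_q _ _ hqH
  have hc := hH.comp hp
  refine ⟨hc.1, hc.2.1, hc.2.2, ?_⟩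
  have w : fst G K ≫ qH ≫ p = ((G ◁ k) ≫ μ[G]) ≫ qH ≫ p := by
    have e : ((G ◁ k) ≫ μ[G]) ≫ qH ≫ p = (qH ⊗ₘ qKb) ≫ act ≫ p := by
      rw [← Category.assoc (qH ⊗ₘ qKb), hact]
      simp only [Category.assoc]
    rw [e, ← hpb.w, ← Category.assoc (qH ⊗ₘ qKb), tensorHom_fst, Category.assoc]
  refine Groth.Agent.Lib.Helper5.TorsTwist.isPullback_of_existsUnique _ _ _ _ w ?_
  intro Z x y hxy
  obtain ⟨κ, hκ⟩ := exists_pt_two h k qH hqH qKb hqKb act hact p hpb x y hxy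
  refine ⟨lift x κ, ⟨lift_fst _ _, ?_⟩, ?_⟩
  · rw [lift_whisker_mul k x κ, hκ]
  · rintro t ⟨ht₁, ht₂⟩
    have ht : t = lift x (t ≫ snd G K) := by
      apply CartesianMonoidalCategory.hom_ext
      · rw [lift_fst, ht₁]
      · rw [lift_snd]
    rw [ht]
    congr 1
    rw [← cancel_mono k]
    apply mul_left_cancel (a := x)
    rw [hκ, ← lift_whisker_mul k x (t ≫ snd G K), ← ht, ← ht₂]

end partTwo

end setup

end Groth.Agent.Lib.Helper5.ThirdIso
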