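import Mathlib
import Groth.Prelude.Def_CAlg
import Groth.Agent.Lib.Helper58.HartogsQC
import Groth.Agent.Lib.Helper77.RegularCM
import Groth.Agent.Lib.Helper67.Depth
import Groth.Prelude.Def_NonAbH2
import Groth.Prelude.Def_ActBC
import Groth.Agent.Lib.Helper14.QuotStGeom
import Groth.Agent.Lib.Lead.TorsorFinite
import Groth.Agent.Lib.Helper5.FppfLocal

/-!
# Extension of morphisms from a flat scheme to an affine one across a regular locus of codimension ≥ 2
-/

set_option autoImplicit false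
set_option linter.style.haveILetI false
universe u

namespace Groth.Agent.Lib.Helper5.TorsExt

open AlgebraicGeometry CategoryTheory CategoryTheory.Limits IsLocalRing
open Groth.Agent.Lib.Helper64.HartogsRing

theorem exists_weaklyRegular_pair (R : Type u) [CommRing R] [IsRegularLocalRing R]
    (h : (2 : WithBot ℕ∞) ≤ ringKrullDim R) :
    ∃ a ∈ maximalIdeal R, ∃ b ∈ maximalIdeal R,
      RingTheory.Sequence.IsWeaklyRegular R [a, b] := by
  have h1 := Groth.Agent.Lib.Helper77.RegularCM.depth_eq_dim R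
  rw [← h1] at h
  have h2 : ((2 : ℕ) : ℕ∞) ≤ LocCoh.depth R R := by
    have h' : (((2 : ℕ∞)) : WithBot ℕ∞) ≤ ((LocCoh.depth R R : ℕ∞) : WithBot ℕ∞) := h
    exact_mod_cast WithBot.coe_le_coe.1 h'
  unfold LocCoh.depth at h2
  rw [Groth.Agent.Lib.Helper67.le_idealDepth_iff] at h2
  rcases h2 with h2 | ⟨rs, hlen, hreg, hmem⟩
  · exfalso
    have h3 : (1 : R) ∈ maximalIdeal R := by
      have : (1 : R) ∈ (maximalIdeal R • (⊤ : Submodule R R)) := by rw [h2]; trivial
      rwa [Ideal.smul_top_eq_map, Algebra.algebraMap_self, Ideal.map_id] at this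
    exact (Ideal.ne_top_iff_one _).1 (IsLocalRing.maximalIdeal.isMaximal R).ne_top h3
  · match rs, hlen with
    | [a, b], _ => exact ⟨a, hmem a (by simp), b, hmem b (by simp), hreg⟩

theorem hasRegPair_of_flat_local {R S : Type u} [CommRing R] [CommRing S] [IsLocalRing R]
    [IsLocalRing S] (φ : R →+* S) (hφ : φ.Flat) [IsLocalHom φ] {a b : R}
    (ha : a ∈ maximalIdeal R) (hb : b ∈ maximalIdeal R)
    (h : RingTheory.Sequence.IsWeaklyRegular R [a, b]) : HasRegPair S := by
  algebraize [φ]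
  have h1 := h.of_flat (S := S)
  simp only [List.map_cons, List.map_nil] at h1
  refine hasRegPair_of_isWeaklyRegular ?_ ?_ h1
  · exact fun hu => ha (isUnit_of_map_unit φ a hu)
  · exact fun hu => hb (isUnit_of_map_unit φ b hu)

theorem hasRegPair_stalk_of_flat {X T : Scheme.{u}} (f : T ⟶ X) [Flat f] (x : T)
    (h : IsRegularLocalRing (X.presheaf.stalk (f x)))
    (h2 : (2 : WithBot ℕ∞) ≤ ringKrullDim (X.presheaf.stalk (f x))) :
    HasRegPair (T.presheaf.stalk x) := by
  obtain ⟨a, ha, b, hb, hab⟩ := exists_weaklyRegular_pair _ h2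
  exact hasRegPair_of_flat_local (f.stalkMap x).hom (Flat.stalkMap f x) ha hb hab

/-- **Extension lemma**: `T` flat over `X`, `Y` affine over `X`, `U ⊆ X` a quasi-compact open
whose complement consists of regular points of dimension `≥ 2`.  Every `X`-morphism
`T ×_X U ⟶ Y` extends uniquely to an `X`-morphism `T ⟶ Y`. -/
theorem existsUnique_ext {X : Scheme.{u}} (U : X.Opens) [QuasiCompact U.ι]
    (hZ : ∀ z : X, z ∉ U → IsRegularLocalRing (X.presheaf.stalk z) ∧
      (2 : WithBot ℕ∞) ≤ ringKrullDim (X.presheaf.stalk z))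
    (T Y : Over X) [Flat T.hom] [IsAffineHom Y.hom]
    (t' : pullback T.hom U.ι ⟶ Y.left) (ht' : t' ≫ Y.hom = pullback.fst T.hom U.ι ≫ T.hom) :
    ∃! t : T ⟶ Y, pullback.fst T.hom U.ι ≫ t.left = t' := by
  let V : T.left.Opens := T.hom ⁻¹ᵁ U
  let e := pullbackRestrictIsoRestrict T.hom U
  have he1 : e.inv ≫ pullback.fst T.hom U.ι = V.ι := pullbackRestrictIsoRestrict_inv_fst T.hom U
  have he2 : e.hom ≫ V.ι = pullback.fst T.hom U.ι := pullbackRestrictIsoRestrict_hom_ι T.hom U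
  haveI : QuasiCompact V.ι := by rw [← he1]; infer_instance
  have hreg : ∀ x : T.left, x ∉ V → HasRegPair (T.left.presheaf.stalk x) := by
    intro x hx
    have hx' : T.hom x ∉ U := hx
    exact hasRegPair_stalk_of_flat T.hom x (hZ _ hx').1 (hZ _ hx').2
  obtain ⟨φ, ⟨hφ1, hφ2⟩, huniq⟩ :=
    Groth.Agent.Lib.Helper58.HartogsQC.existsUnique_extension_of_isAffineHom V hreg
      T.hom Y.hom (e.inv ≫ t') (by rw [Category.assoc, ht', ← Category.assoc, he1])
  refine ⟨Over.homMk φ hφ1, ?_, ?_⟩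
  · show pullback.fst T.hom U.ι ≫ φ = t'
    rw [← he2, Category.assoc, hφ2, Iso.hom_inv_id_assoc]
  · intro t ht
    ext
    show t.left = φ
    apply huniq
    refine ⟨Over.w t, ?_⟩
    rw [← he1, Category.assoc, ht]

/-- uniqueness half, in a convenient form -/
theorem ext_unique {X : Scheme.{u}} (U : X.Opens) [QuasiCompact U.ι]
    (hZ : ∀ z : X, z ∉ U → IsRegularLocalRing (X.presheaf.stalk z) ∧
      (2 : WithBot ℕ∞) ≤ ringKrullDim (X.presheaf.stalk z))
    (T Y : Over X) [Flat T.hom] [IsAffineHom Y.hom] (m₁ m₂ : T ⟶ Y)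
    (h : pullback.fst T.hom U.ι ≫ m₁.left = pullback.fst T.hom U.ι ≫ m₂.left) : m₁ = m₂ := by
  obtain ⟨t, -, huniq⟩ := existsUnique_ext U hZ T Y (pullback.fst T.hom U.ι ≫ m₁.left)
    (by rw [Category.assoc, Over.w m₁])
  rw [huniq m₁ rfl, huniq m₂ h.symm]

theorem pb_map_eq_iff {X U' : Scheme.{u}} (g : U' ⟶ X) {T Y : Over X} (m : T ⟶ Y)
    (t'' : (Over.pullback g).obj T ⟶ (Over.pullback g).obj Y) :
    (Over.pullback g).map m = t'' ↔
      pullback.fst T.hom g ≫ m.left = t''.left ≫ pullback.fst Y.hom g := by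
  constructor
  · rintro rfl
    exact (ActBC.pullback_map_left_fst g m).symm
  · intro h
    ext
    apply pullback.hom_ext
    · rw [ActBC.pullback_map_left_fst, h]
    · exact (Over.w ((Over.pullback g).map m)).trans (Over.w t'').symm

open MonoidalCategory in
/-- **Full faithfulness of restriction of torsors across a regular locus of codimension ≥ 2.** -/
theorem torsor_restrict_fullyFaithful {X : Scheme.{u}} (G : Over X) [GrpObj G]
    [IsFinite G.hom] [Flat G.hom] [LocallyOfFinitePresentation G.hom]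
    (U : X.Opens) [QuasiCompact U.ι]
    (hZ : ∀ z : X, z ∉ U → IsRegularLocalRing (X.presheaf.stalk z) ∧
      (2 : WithBot ℕ∞) ≤ ringKrullDim (X.presheaf.stalk z))
    (Q₁ Q₂ : Over X) (a₁ : AlgGrp.Action G Q₁) (a₂ : AlgGrp.Action G Q₂)
    (h₁ : NonAbH1.IsTorsorFor Scheme.fppfPrecoverage a₁)
    (h₂ : NonAbH1.IsTorsorFor Scheme.fppfPrecoverage a₂)
    (h' : (Over.pullback U.ι).obj Q₁ ⟶ (Over.pullback U.ι).obj Q₂)
    (hh' : (Functor.LaxMonoidal.μ (Over.pullback U.ι) G Q₁ ≫ (Over.pullback U.ι).map a₁.act) ≫ h' =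
      ((Over.pullback U.ι).obj G ◁ h') ≫
        (Functor.LaxMonoidal.μ (Over.pullback U.ι) G Q₂ ≫ (Over.pullback U.ι).map a₂.act)) :
    ∃! h : Q₁ ⟶ Q₂, a₁.act ≫ h = (G ◁ h) ≫ a₂.act ∧ (Over.pullback U.ι).map h = h' := by
  haveI : MorphismProperty.DescendsAlong @Flat
      (@Surjective ⊓ @Flat ⊓ @LocallyOfFinitePresentation : MorphismProperty Scheme.{u}) :=
    Groth.Agent.Lib.Helper14.QuotStGeom.flat_descendsAlong_fppf
  haveI : MorphismProperty.IsLocalAtTarget (@Flat : MorphismProperty Scheme.{u})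
      Scheme.fppfPrecoverage.{u} := Groth.Agent.Lib.Helper5.isLocalAtTarget_fppf _
  haveI hQ₁flat : Flat Q₁.hom :=
    Groth.Agent.Lib.Lead.TorsorFinite.prop_of_isTorsorFor @Flat Scheme.fppfPrecoverage a₁ h₁
      inferInstance
  haveI hQ₂fin : IsFinite Q₂.hom := Groth.Agent.Lib.Lead.TorsorFinite.isFinite_of_isTorsorFor a₂ h₂
  haveI : IsAffineHom Q₂.hom := inferInstance
  haveI : Flat (G ⊗ Q₁).hom := by
    rw [Over.tensorObj_hom]; infer_instance
  have ht'₀ : (h'.left ≫ pullback.fst Q₂.hom U.ι) ≫ Q₂.hom =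
      pullback.fst Q₁.hom U.ι ≫ Q₁.hom := by
    have hw : h'.left ≫ pullback.snd Q₂.hom U.ι = pullback.snd Q₁.hom U.ι := Over.w h'
    rw [Category.assoc, pullback.condition, ← Category.assoc, hw, pullback.condition]
  obtain ⟨h, hh, huniq⟩ := existsUnique_ext U hZ Q₁ Q₂ _ ht'₀
  have hres : (Over.pullback U.ι).map h = h' := (pb_map_eq_iff U.ι h h').2 hh
  refine ⟨h, ⟨?_, hres⟩, ?_⟩
  · apply ext_unique U hZ (G ⊗ Q₁) Q₂
    have key : (Over.pullback U.ι).map (a₁.act ≫ h) =
        (Over.pullback U.ι).map ((G ◁ h) ≫ a₂.act) := by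
      rw [← cancel_epi (Functor.LaxMonoidal.μ (Over.pullback U.ι) G Q₁), Functor.map_comp,
        Functor.map_comp, hres, ← Category.assoc, hh',
        ← Functor.LaxMonoidal.μ_natural_right_assoc, hres]
    have := congrArg (fun m => m.left ≫ pullback.fst Q₂.hom U.ι) key
    simpa only [ActBC.pullback_map_left_fst] using this
  · rintro h₂' ⟨-, h2⟩
    exact huniq h₂' ((pb_map_eq_iff U.ι h₂' h').1 h2)

end Groth.Agent.Lib.Helper5.TorsExt
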