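import Mathlib
import Groth.Prelude.Def_DescFam
import Groth.Prelude.Def_NonAbH2
import Groth.Agent.Lib.Helper5.TorsorPush
import Groth.Agent.Lib.Helper5.PrincDesc
import Groth.Agent.Lib.Helper5.DescCoord

/-!
# The descent datum of the push-forward of a torsor (helper5)

For a principal `G`-bundle `f : X ⟶ Y` over `B` with sections `s i` over the members of a family
`c i : U i ⟶ Y`, and a homomorphism `u : G ⟶ G'`, the schemes `G' ×_B U i` carry a descent datum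
relative to the family: over a pair of charts `x₀, x₁` with `s(x₀) = γ • s(x₁)` a point `v` of `G'`
goes to `v * u(γ)`.
-/

set_option backward.isDefEq.respectTransparency false
set_option backward.isDefEq.respectTransparency.types false
set_option autoImplicit false
universe u
open CategoryTheory CategoryTheory.Limits MonoidalCategory CartesianMonoidalCategory MonObj GrpObj
  AlgebraicGeometry Desc

namespace Groth.Agent.Lib.Helper5.TorsTwist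

open Groth.Agent.Lib.Helper5.TorsorPush Groth.Agent.Lib.Helper5.PrincDesc

variable {B : Scheme.{u}} {G G' X Y : Over B} [GrpObj G] [GrpObj G'] (a : AlgGrp.Action G X)
  (f : X ⟶ Y) (hsq : IsPullback a.act.left (snd G X).left f.left f.left) (u : G ⟶ G') [IsMonHom u]
  {Ix : Type u} {U : Ix → Scheme.{u}} (c : ∀ i, U i ⟶ Y.left) (s : ∀ i, U i ⟶ X.left)
  (hs : ∀ i, s i ≫ f.left = c i)

include hs in
lemma hsX (i : Ix) : s i ≫ X.hom = c i ≫ Y.hom := by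
  rw [← hs i, Category.assoc, Over.w f]

section pts

variable {T : Over B}

/-- the point of `X` given by a chart -/
noncomputable def sp {i : Ix} (x : T.left ⟶ U i) (hx : x ≫ c i ≫ Y.hom = T.hom) : T ⟶ X :=
  Over.homMk (x ≫ s i) (by rw [Category.assoc, hsX f c s hs i, hx])

lemma sp_left {i : Ix} (x : T.left ⟶ U i) (hx : x ≫ c i ≫ Y.hom = T.hom) :
    (sp f c s hs x hx).left = x ≫ s i := rfl

lemma sp_f {i j : Ix} (x₀ : T.left ⟶ U i) (x₁ : T.left ⟶ U j) (h : x₀ ≫ c i = x₁ ≫ c j)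
    (hx₀ : x₀ ≫ c i ≫ Y.hom = T.hom) (hx₁ : x₁ ≫ c j ≫ Y.hom = T.hom) :
    sp f c s hs x₀ hx₀ ≫ f = sp f c s hs x₁ hx₁ ≫ f := by
  ext
  rw [Over.comp_left, Over.comp_left, sp_left, sp_left, Category.assoc, Category.assoc, hs, hs, h]

lemma comp_sp {T' : Over B} (k : T' ⟶ T) {i : Ix} (x : T.left ⟶ U i)
    (hx : x ≫ c i ≫ Y.hom = T.hom) (hx' : (k.left ≫ x) ≫ c i ≫ Y.hom = T'.hom) :
    k ≫ sp f c s hs x hx = sp f c s hs (k.left ≫ x) hx' := by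
  ext
  rw [Over.comp_left, sp_left, sp_left, Category.assoc]

/-- the transition element `u(γ)` with `s(x₀) = γ • s(x₁)` -/
noncomputable def tw {i j : Ix} (x₀ : T.left ⟶ U i) (x₁ : T.left ⟶ U j) (h : x₀ ≫ c i = x₁ ≫ c j)
    (hx₀ : x₀ ≫ c i ≫ Y.hom = T.hom) (hx₁ : x₁ ≫ c j ≫ Y.hom = T.hom) : T ⟶ G' :=
  divY a f hsq (sp f c s hs x₀ hx₀) (sp f c s hs x₁ hx₁) (sp_f f c s hs x₀ x₁ h hx₀ hx₁) ≫ u

lemma tw_self {i : Ix} (x : T.left ⟶ U i) (hx : x ≫ c i ≫ Y.hom = T.hom) :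
    tw a f hsq u c s hs x x rfl hx hx = 1 := by
  unfold tw
  rw [divY_self, MonObj.one_comp]

lemma tw_mul {i j k : Ix} (x₀ : T.left ⟶ U i) (x₁ : T.left ⟶ U j) (x₂ : T.left ⟶ U k)
    (h₀₁ : x₀ ≫ c i = x₁ ≫ c j) (h₁₂ : x₁ ≫ c j = x₂ ≫ c k)
    (hx₀ : x₀ ≫ c i ≫ Y.hom = T.hom) (hx₁ : x₁ ≫ c j ≫ Y.hom = T.hom)
    (hx₂ : x₂ ≫ c k ≫ Y.hom = T.hom) :
    tw a f hsq u c s hs x₀ x₂ (h₀₁.trans h₁₂) hx₀ hx₂ =
      tw a f hsq u c s hs x₀ x₁ h₀₁ hx₀ hx₁ * tw a f hsq u c s hs x₁ x₂ h₁₂ hx₁ hx₂ := by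
  unfold tw
  rw [← MonObj.mul_comp, ← divY_mul]

lemma comp_tw {T' : Over B} (k : T' ⟶ T) {i j : Ix} (x₀ : T.left ⟶ U i) (x₁ : T.left ⟶ U j)
    (h : x₀ ≫ c i = x₁ ≫ c j) (hx₀ : x₀ ≫ c i ≫ Y.hom = T.hom) (hx₁ : x₁ ≫ c j ≫ Y.hom = T.hom)
    (h' : (k.left ≫ x₀) ≫ c i = (k.left ≫ x₁) ≫ c j)
    (hx₀' : (k.left ≫ x₀) ≫ c i ≫ Y.hom = T'.hom) (hx₁' : (k.left ≫ x₁) ≫ c j ≫ Y.hom = T'.hom) :
    k ≫ tw a f hsq u c s hs x₀ x₁ h hx₀ hx₁ =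
      tw a f hsq u c s hs (k.left ≫ x₀) (k.left ≫ x₁) h' hx₀' hx₁' := by
  unfold tw
  rw [← Category.assoc]
  congr 1
  have e := comp_divY a f hsq k (sp f c s hs x₀ hx₀) (sp f c s hs x₁ hx₁)
    (sp_f f c s hs x₀ x₁ h hx₀ hx₁) (by
      rw [Category.assoc, Category.assoc, sp_f f c s hs x₀ x₁ h hx₀ hx₁])
  rw [e]
  congr 1 <;> first | exact comp_sp f c s hs k x₀ hx₀ hx₀' | exact comp_sp f c s hs k x₁ hx₁ hx₁' | rfl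

end pts

section sch

variable {T : Scheme.{u}}

/-- the gluing map on scheme-level points of `G'` -/
noncomputable def ψS (t : T ⟶ B) {i j : Ix} (x₀ : T ⟶ U i) (x₁ : T ⟶ U j)
    (h : x₀ ≫ c i = x₁ ≫ c j) (hx₀ : x₀ ≫ c i ≫ Y.hom = t) (hx₁ : x₁ ≫ c j ≫ Y.hom = t)
    (v : T ⟶ G'.left) (hv : v ≫ G'.hom = t) : T ⟶ G'.left :=
  ((Over.homMk v hv : Over.mk t ⟶ G') *
    tw a f hsq u c s hs (T := Over.mk t) x₀ x₁ h hx₀ hx₁).left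

lemma ψS_congr {t t' : T ⟶ B} (e : t = t') {i j : Ix} (x₀ : T ⟶ U i) (x₁ : T ⟶ U j)
    (h : x₀ ≫ c i = x₁ ≫ c j) (hx₀ : x₀ ≫ c i ≫ Y.hom = t) (hx₁ : x₁ ≫ c j ≫ Y.hom = t)
    (v : T ⟶ G'.left) (hv : v ≫ G'.hom = t) :
    ψS a f hsq u c s hs t x₀ x₁ h hx₀ hx₁ v hv =
      ψS a f hsq u c s hs t' x₀ x₁ h (hx₀.trans e) (hx₁.trans e) v (hv.trans e) := by
  subst e; rfl

lemma ψS_hom (t : T ⟶ B) {i j : Ix} (x₀ : T ⟶ U i) (x₁ : T ⟶ U j)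
    (h : x₀ ≫ c i = x₁ ≫ c j) (hx₀ : x₀ ≫ c i ≫ Y.hom = t) (hx₁ : x₁ ≫ c j ≫ Y.hom = t)
    (v : T ⟶ G'.left) (hv : v ≫ G'.hom = t) :
    ψS a f hsq u c s hs t x₀ x₁ h hx₀ hx₁ v hv ≫ G'.hom = t :=
  Over.w ((Over.homMk v hv : Over.mk t ⟶ G') * tw a f hsq u c s hs (T := Over.mk t) x₀ x₁ h hx₀ hx₁)

lemma ψS_nat {T' : Scheme.{u}} (g : T' ⟶ T) (t : T ⟶ B) {i j : Ix} (x₀ : T ⟶ U i) (x₁ : T ⟶ U j)
    (h : x₀ ≫ c i = x₁ ≫ c j) (hx₀ : x₀ ≫ c i ≫ Y.hom = t) (hx₁ : x₁ ≫ c j ≫ Y.hom = t)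
    (v : T ⟶ G'.left) (hv : v ≫ G'.hom = t) :
    g ≫ ψS a f hsq u c s hs t x₀ x₁ h hx₀ hx₁ v hv =
      ψS a f hsq u c s hs (g ≫ t) (g ≫ x₀) (g ≫ x₁) (by rw [Category.assoc, Category.assoc, h])
        (by rw [Category.assoc, hx₀]) (by rw [Category.assoc, hx₁]) (g ≫ v)
        (by rw [Category.assoc, hv]) := by
  unfold ψS
  let k : Over.mk (g ≫ t) ⟶ Over.mk t := Over.homMk g rfl
  have h' : (g ≫ x₀) ≫ c i = (g ≫ x₁) ≫ c j := by rw [Category.assoc, Category.assoc, h]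
  have hx₀' : (g ≫ x₀) ≫ c i ≫ Y.hom = g ≫ t := by rw [Category.assoc, hx₀]
  have hx₁' : (g ≫ x₁) ≫ c j ≫ Y.hom = g ≫ t := by rw [Category.assoc, hx₁]
  have hv' : (g ≫ v) ≫ G'.hom = g ≫ t := by rw [Category.assoc, hv]
  have e1 : k ≫ ((Over.homMk v hv : Over.mk t ⟶ G') *
      tw a f hsq u c s hs (T := Over.mk t) x₀ x₁ h hx₀ hx₁) =
      (Over.homMk (g ≫ v) hv' : Over.mk (g ≫ t) ⟶ G') *
        tw a f hsq u c s hs (T := Over.mk (g ≫ t)) (g ≫ x₀) (g ≫ x₁) h' hx₀' hx₁' := by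
    rw [MonObj.comp_mul]
    congr 1
    exact comp_tw a f hsq u c s hs k x₀ x₁ h hx₀ hx₁ h' hx₀' hx₁'
  have e2 := congrArg (fun m => m.left) e1
  simp only [Over.comp_left] at e2
  exact e2

lemma ψS_self (t : T ⟶ B) {i : Ix} (x : T ⟶ U i) (hx : x ≫ c i ≫ Y.hom = t)
    (v : T ⟶ G'.left) (hv : v ≫ G'.hom = t) :
    ψS a f hsq u c s hs t x x rfl hx hx v hv = v := by
  unfold ψS
  rw [tw_self, _root_.mul_one]
  rfl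

lemma ψS_comp (t : T ⟶ B) {i j k : Ix} (x₀ : T ⟶ U i) (x₁ : T ⟶ U j) (x₂ : T ⟶ U k)
    (h₀₁ : x₀ ≫ c i = x₁ ≫ c j) (h₁₂ : x₁ ≫ c j = x₂ ≫ c k)
    (hx₀ : x₀ ≫ c i ≫ Y.hom = t) (hx₁ : x₁ ≫ c j ≫ Y.hom = t) (hx₂ : x₂ ≫ c k ≫ Y.hom = t)
    (v : T ⟶ G'.left) (hv : v ≫ G'.hom = t) :
    ψS a f hsq u c s hs t x₁ x₂ h₁₂ hx₁ hx₂ (ψS a f hsq u c s hs t x₀ x₁ h₀₁ hx₀ hx₁ v hv)
        (ψS_hom a f hsq u c s hs t x₀ x₁ h₀₁ hx₀ hx₁ v hv) =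
      ψS a f hsq u c s hs t x₀ x₂ (h₀₁.trans h₁₂) hx₀ hx₂ v hv := by
  unfold ψS
  rw [tw_mul a f hsq u c s hs (T := Over.mk t) x₀ x₁ x₂ h₀₁ h₁₂ hx₀ hx₁ hx₂, ← _root_.mul_assoc]
  rfl

end sch

end Groth.Agent.Lib.Helper5.TorsTwist
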