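import Groth.Agent.Lib.Helper5.TorsTwist

/-!
# The twisted descent datum and its coordinates (helper5)
-/

set_option backward.isDefEq.respectTransparency false
set_option backward.isDefEq.respectTransparency.types false
set_option autoImplicit false
universe u
open CategoryTheory CategoryTheory.Limits MonoidalCategory CartesianMonoidalCategory MonObj GrpObj
  AlgebraicGeometry Desc

namespace Groth.Agent.Lib.Helper5.TorsTwist

open Groth.Agent.Lib.Helper5.TorsorPush Groth.Agent.Lib.Helper5.PrincDesc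

variable {B : Scheme.{u}} {G G' X Y : Over B} [GrpObj G] [GrpObj G'] (a : AlgGrp.Action G X)
  (f : X ⟶ Y) (hsq : IsPullback a.act.left (snd G X).left f.left f.left) (u : G ⟶ G') [IsMonHom u]
  {Ix : Type u} {U : Ix → Scheme.{u}} (c : ∀ i, U i ⟶ Y.left) (s : ∀ i, U i ⟶ X.left)
  (hs : ∀ i, s i ≫ f.left = c i)

section dd

variable {T : Scheme.{u}}

lemma hx_of_h {i j : Ix} (x₀ : T ⟶ U i) (x₁ : T ⟶ U j) (h : x₀ ≫ c i = x₁ ≫ c j) :
    x₁ ≫ c j ≫ Y.hom = x₀ ≫ c i ≫ Y.hom := by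
  rw [← Category.assoc, ← h, Category.assoc]

/-- the gluing bijection on points of `G'` -/
noncomputable def twE {i j : Ix} (x₀ : T ⟶ U i) (x₁ : T ⟶ U j) (h : x₀ ≫ c i = x₁ ≫ c j) :
    Lifts G' (x₀ ≫ c i ≫ Y.hom) ≃ Lifts G' (x₁ ≫ c j ≫ Y.hom) where
  toFun v := ⟨ψS a f hsq u c s hs (x₀ ≫ c i ≫ Y.hom) x₀ x₁ h rfl (hx_of_h c x₀ x₁ h) v.1 v.2,
    (ψS_hom a f hsq u c s hs _ x₀ x₁ h rfl (hx_of_h c x₀ x₁ h) v.1 v.2).trans
      (hx_of_h c x₀ x₁ h).symm⟩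
  invFun w := ⟨ψS a f hsq u c s hs (x₀ ≫ c i ≫ Y.hom) x₁ x₀ h.symm (hx_of_h c x₀ x₁ h) rfl w.1
      (w.2.trans (hx_of_h c x₀ x₁ h)),
    ψS_hom a f hsq u c s hs _ x₁ x₀ h.symm (hx_of_h c x₀ x₁ h) rfl w.1 _⟩
  left_inv v := Subtype.ext (by
    dsimp only
    rw [ψS_comp, ψS_self])
  right_inv w := Subtype.ext (by
    dsimp only
    rw [ψS_comp, ψS_self])

lemma twE_val {i j : Ix} (x₀ : T ⟶ U i) (x₁ : T ⟶ U j) (h : x₀ ≫ c i = x₁ ≫ c j)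
    (v : Lifts G' (x₀ ≫ c i ≫ Y.hom)) :
    (twE a f hsq u c s hs x₀ x₁ h v).1 =
      ψS a f hsq u c s hs (x₀ ≫ c i ≫ Y.hom) x₀ x₁ h rfl (hx_of_h c x₀ x₁ h) v.1 v.2 := rfl

lemma twE_eq (t : T ⟶ B) {i j : Ix} (x₀ : T ⟶ U i) (x₁ : T ⟶ U j) (h : x₀ ≫ c i = x₁ ≫ c j)
    (hx₀ : x₀ ≫ c i ≫ Y.hom = t) (hx₁ : x₁ ≫ c j ≫ Y.hom = t)
    (v : Lifts G' (x₀ ≫ c i ≫ Y.hom)) :
    (twE a f hsq u c s hs x₀ x₁ h v).1 =
      ψS a f hsq u c s hs t x₀ x₁ h hx₀ hx₁ v.1 (v.2.trans hx₀) := by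
  rw [twE_val]
  exact ψS_congr a f hsq u c s hs hx₀ x₀ x₁ h rfl _ v.1 v.2

/-- the twisted descent datum: `G' ×_B U i` over `U i`, glued by right translations -/
noncomputable def twistDD : SchDDFam c where
  obj i := Over.mk (pullback.snd G'.hom (c i ≫ Y.hom))
  φ T i j x₀ x₁ h :=
    (liftsPullbackEquiv G' (c i ≫ Y.hom) x₀).trans
      ((twE a f hsq u c s hs x₀ x₁ h).trans (liftsPullbackEquiv G' (c j ≫ Y.hom) x₁).symm)
  φ_natural T T' g i j x₀ x₁ h y₀ y₁ hy₀ hy₁ h' v v' hv' := by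
    subst hy₀ hy₁
    apply pullback.hom_ext
    · simp only [Equiv.trans_apply, liftsPullbackEquiv, Equiv.coe_fn_mk, Equiv.coe_fn_symm_mk,
        pullback.lift_fst, Category.assoc]
      rw [twE_val, twE_val, ψS_nat]
      have e : (g ≫ x₀) ≫ c i ≫ Y.hom = g ≫ x₀ ≫ c i ≫ Y.hom := Category.assoc _ _ _
      rw [ψS_congr a f hsq u c s hs e]
      congr 1
      simp only [hv', Category.assoc]
    · simp only [Equiv.trans_apply, liftsPullbackEquiv, Equiv.coe_fn_mk, Equiv.coe_fn_symm_mk,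
        pullback.lift_snd, Category.assoc]
  φ_self T i x v := by
    simp only [Equiv.trans_apply]
    have e : twE a f hsq u c s hs x x rfl (liftsPullbackEquiv G' (c i ≫ Y.hom) x v) =
        liftsPullbackEquiv G' (c i ≫ Y.hom) x v := Subtype.ext (by rw [twE_val, ψS_self])
    rw [e, Equiv.symm_apply_apply]
  φ_comp T i j k x₀ x₁ x₂ h₀₁ h₁₂ v := by
    simp only [Equiv.trans_apply, Equiv.apply_symm_apply]
    congr 1
    apply Subtype.ext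
    rw [twE_eq a f hsq u c s hs (x₀ ≫ c i ≫ Y.hom) x₁ x₂ h₁₂ (hx_of_h c x₀ x₁ h₀₁)
      (hx_of_h c x₀ x₂ (h₀₁.trans h₁₂))]
    have := ψS_comp a f hsq u c s hs (x₀ ≫ c i ≫ Y.hom) x₀ x₁ x₂ h₀₁ h₁₂ rfl
      (hx_of_h c x₀ x₁ h₀₁) (hx_of_h c x₀ x₂ (h₀₁.trans h₁₂))
      (liftsPullbackEquiv G' (c i ≫ Y.hom) x₀ v).1 (liftsPullbackEquiv G' (c i ≫ Y.hom) x₀ v).2
    exact this

end dd

end Groth.Agent.Lib.Helper5.TorsTwist
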