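import Groth.Agent.Lib.Helper5.TorsTwist2

/-!
# Group coordinates on the descended push-forward (helper5)
-/

set_option backward.isDefEq.respectTransparency false
set_option backward.isDefEq.respectTransparency.types false
set_option autoImplicit false
universe u
open CategoryTheory CategoryTheory.Limits MonoidalCategory CartesianMonoidalCategory MonObj GrpObj
  AlgebraicGeometry Desc

namespace Groth.Agent.Lib.Helper5.TorsTwist

open Groth.Agent.Lib.Helper5.TorsorPush Groth.Agent.Lib.Helper5.PrincDesc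
  Groth.Agent.Lib.Helper5.DescCoord

variable {B : Scheme.{u}} {G G' X Y : Over B} [GrpObj G] [GrpObj G'] {a : AlgGrp.Action G X}
  {f : X ⟶ Y} {hsq : IsPullback a.act.left (snd G X).left f.left f.left} {u : G ⟶ G'} [IsMonHom u]
  {Ix : Type u} {U : Ix → Scheme.{u}} {c : ∀ i, U i ⟶ Y.left} {s : ∀ i, U i ⟶ X.left}
  {hs : ∀ i, s i ≫ f.left = c i}
  {W₀ : Over Y.left} (θ : (toDDFam c).obj W₀ ≅ twistDD a f hsq u c s hs)

/-- the descended scheme over `B` -/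
abbrev Wt (W₀ : Over Y.left) : Over B := Over.mk (W₀.hom ≫ Y.hom)

/-- its structure morphism to `Y` -/
abbrev ψt (W₀ : Over Y.left) : Wt W₀ ⟶ Y := Over.homMk W₀.hom rfl

section gc

variable {T : Over B}

lemma hx_of {i : Ix} (x : T.left ⟶ U i) (y : T ⟶ Y) (hy : y.left = x ≫ c i) :
    x ≫ c i ≫ Y.hom = T.hom := by
  rw [← Category.assoc, ← hy, Over.w y]

/-- the group coordinate of a point of the descended scheme in a chart -/
noncomputable def gcO {i : Ix} (x : T.left ⟶ U i) (w : T ⟶ Wt W₀)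
    (hw : (w ≫ ψt W₀).left = x ≫ c i) : T ⟶ G' :=
  Over.homMk ((coord θ x w.left hw).1 ≫ pullback.fst G'.hom (c i ≫ Y.hom)) (by
    have e : (coord θ x w.left hw).1 ≫ pullback.snd G'.hom (c i ≫ Y.hom) = x :=
      (coord θ x w.left hw).2
    rw [Category.assoc, pullback.condition, ← Category.assoc, e]
    exact hx_of x (w ≫ ψt W₀) hw)

lemma gcO_left {i : Ix} (x : T.left ⟶ U i) (w : T ⟶ Wt W₀)
    (hw : (w ≫ ψt W₀).left = x ≫ c i) :
    (gcO θ x w hw).left = (coord θ x w.left hw).1 ≫ pullback.fst G'.hom (c i ≫ Y.hom) := rfl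

lemma gcO_congr {i : Ix} {x x' : T.left ⟶ U i} {w w' : T ⟶ Wt W₀}
    (hw : (w ≫ ψt W₀).left = x ≫ c i) (hw' : (w' ≫ ψt W₀).left = x' ≫ c i)
    (ex : x = x') (ew : w = w') : gcO θ x w hw = gcO θ x' w' hw' := by
  subst ex ew; rfl

lemma coord_eq_of_gcO_eq {i : Ix} (x : T.left ⟶ U i) (w w' : T ⟶ Wt W₀)
    (hw : (w ≫ ψt W₀).left = x ≫ c i) (hw' : (w' ≫ ψt W₀).left = x ≫ c i)
    (h : gcO θ x w hw = gcO θ x w' hw') :
    (coord θ x w.left hw).1 = (coord θ x w'.left hw').1 := by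
  apply pullback.hom_ext
  · exact congrArg (fun m => m.left) h
  · exact ((coord θ x w.left hw).2).trans ((coord θ x w'.left hw').2).symm

lemma comp_gcO {T' : Over B} (k : T' ⟶ T) {i : Ix} (x : T.left ⟶ U i) (w : T ⟶ Wt W₀)
    (hw : (w ≫ ψt W₀).left = x ≫ c i) (hw' : ((k ≫ w) ≫ ψt W₀).left = (k.left ≫ x) ≫ c i) :
    k ≫ gcO θ x w hw = gcO θ (k.left ≫ x) (k ≫ w) hw' := by
  ext
  rw [Over.comp_left, gcO_left, gcO_left, ← Category.assoc]
  congr 1
  exact (coord_nat θ k.left x w.left hw hw').symm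

lemma gcO_tw {i j : Ix} (x₀ : T.left ⟶ U i) (x₁ : T.left ⟶ U j) (w : T ⟶ Wt W₀)
    (hw₀ : (w ≫ ψt W₀).left = x₀ ≫ c i) (hw₁ : (w ≫ ψt W₀).left = x₁ ≫ c j) :
    gcO θ x₁ w hw₁ = gcO θ x₀ w hw₀ *
      tw a f hsq u c s hs x₀ x₁ (hw₀.symm.trans hw₁) (hx_of x₀ (w ≫ ψt W₀) hw₀)
        (hx_of x₁ (w ≫ ψt W₀) hw₁) := by
  have h : x₀ ≫ c i = x₁ ≫ c j := hw₀.symm.trans hw₁
  have e := coord_φ θ x₀ x₁ h w.left hw₀ hw₁
  have e1 := congrArg (fun v : Lifts ((twistDD a f hsq u c s hs).obj j) x₁ =>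
    (show T.left ⟶ pullback G'.hom (c j ≫ Y.hom) from v.1) ≫ pullback.fst G'.hom (c j ≫ Y.hom)) e
  ext
  rw [gcO_left]
  refine e1.symm.trans ?_
  change ((liftsPullbackEquiv G' (c j ≫ Y.hom) x₁).symm (twE a f hsq u c s hs x₀ x₁ h
    (liftsPullbackEquiv G' (c i ≫ Y.hom) x₀ (coord θ x₀ w.left hw₀)))).1 ≫ _ = _
  simp only [liftsPullbackEquiv, Equiv.coe_fn_mk, Equiv.coe_fn_symm_mk, pullback.lift_fst]
  rw [twE_eq a f hsq u c s hs T.hom x₀ x₁ h (hx_of x₀ (w ≫ ψt W₀) hw₀) (hx_of x₁ (w ≫ ψt W₀) hw₁)]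
  rfl

end gc

variable (hc : Presieve.ofArrows U c ∈ Scheme.fpqcPrecoverage Y.left)

include hc in
/-- Morphisms into the descended scheme are determined by their group coordinates. -/
theorem ext_gcO {A : Over B} (h₁ h₂ : A ⟶ Wt W₀) (hψ : h₁ ≫ ψt W₀ = h₂ ≫ ψt W₀)
    (H : ∀ (T : Over B) (m : T ⟶ A) ⦃i : Ix⦄ (x : T.left ⟶ U i)
      (hw₁ : ((m ≫ h₁) ≫ ψt W₀).left = x ≫ c i) (hw₂ : ((m ≫ h₂) ≫ ψt W₀).left = x ≫ c i),
      gcO θ x (m ≫ h₁) hw₁ = gcO θ x (m ≫ h₂) hw₂) : h₁ = h₂ := by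
  apply Over.OverMorphism.ext
  have hh : h₁.left ≫ W₀.hom = h₂.left ≫ W₀.hom := congrArg (fun m => m.left) hψ
  apply ext_coord θ hc h₁.left h₂.left hh
  intro T i x m hm₁ hm₂
  exact coord_eq_of_gcO_eq θ (T := Over.mk (m ≫ A.hom)) x
    ((Over.homMk m rfl : Over.mk (m ≫ A.hom) ⟶ A) ≫ h₁)
    ((Over.homMk m rfl : Over.mk (m ≫ A.hom) ⟶ A) ≫ h₂) hm₁ hm₂
    (H (Over.mk (m ≫ A.hom)) (Over.homMk m rfl) x hm₁ hm₂)

include hc in
/-- Construction of a morphism into the descended scheme from compatible group coordinates. -/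
theorem exists_of_gcO {A : Over B} (α : A ⟶ Y)
    (e : ∀ (T : Over B) ⦃i : Ix⦄ (x : T.left ⟶ U i) (m : T ⟶ A), (m ≫ α).left = x ≫ c i → (T ⟶ G'))
    (e_nat : ∀ (T T' : Over B) (k : T' ⟶ T) ⦃i : Ix⦄ (x : T.left ⟶ U i) (m : T ⟶ A)
      (hm : (m ≫ α).left = x ≫ c i) (hm' : ((k ≫ m) ≫ α).left = (k.left ≫ x) ≫ c i),
      k ≫ e T x m hm = e T' (k.left ≫ x) (k ≫ m) hm')
    (e_comm : ∀ (T : Over B) ⦃i j : Ix⦄ (x₀ : T.left ⟶ U i) (x₁ : T.left ⟶ U j) (m : T ⟶ A)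
      (hm₀ : (m ≫ α).left = x₀ ≫ c i) (hm₁ : (m ≫ α).left = x₁ ≫ c j),
      e T x₁ m hm₁ = e T x₀ m hm₀ * tw a f hsq u c s hs x₀ x₁ (hm₀.symm.trans hm₁)
        (hx_of x₀ (m ≫ α) hm₀) (hx_of x₁ (m ≫ α) hm₁)) :
    ∃ h : A ⟶ Wt W₀, h ≫ ψt W₀ = α ∧
      ∀ (T : Over B) ⦃i : Ix⦄ (x : T.left ⟶ U i) (m : T ⟶ A) (hm : (m ≫ α).left = x ≫ c i)
        (hw : ((m ≫ h) ≫ ψt W₀).left = x ≫ c i), gcO θ x (m ≫ h) hw = e T x m hm := by
  have e_congr : ∀ (T : Over B) ⦃i : Ix⦄ (x x' : T.left ⟶ U i) (m m' : T ⟶ A)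
      (hm : (m ≫ α).left = x ≫ c i) (hm' : (m' ≫ α).left = x' ≫ c i), x = x' → m = m' →
      e T x m hm = e T x' m' hm' := by
    intro T i x x' m m' hm hm' ex em
    subst ex em; rfl
  -- scheme-level data
  let TO : ∀ {T : Scheme.{u}} (m : T ⟶ A.left), Over B := fun m => Over.mk (m ≫ A.hom)
  let mO : ∀ {T : Scheme.{u}} (m : T ⟶ A.left), TO m ⟶ A := fun m => Over.homMk m rfl
  have hd : ∀ ⦃T : Scheme.{u}⦄ ⦃i : Ix⦄ (x : T ⟶ U i) (m : T ⟶ A.left) (hm : m ≫ α.left = x ≫ c i),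
      (e (TO m) x (mO m) hm).left ≫ G'.hom = x ≫ c i ≫ Y.hom := by
    intro T i x m hm
    rw [Over.w (e (TO m) x (mO m) hm)]
    change m ≫ A.hom = _
    rw [← Over.w α, ← Category.assoc, hm, Category.assoc]
  obtain ⟨h₀, hh₀, hcoord⟩ := exists_of_coord θ hc (A := A.left) α.left
    (fun T i x m hm => (liftsPullbackEquiv G' (c i ≫ Y.hom) x).symm
      ⟨(e (TO m) x (mO m) hm).left, hd x m hm⟩)
    (by
      intro T T' g i x m hm hm'
      apply pullback.hom_ext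
      · simp only [liftsPullbackEquiv, Equiv.coe_fn_symm_mk, pullback.lift_fst, Category.assoc]
        let k : TO (g ≫ m) ⟶ TO m := Over.homMk g (Category.assoc _ _ _).symm
        have e1 := e_nat (TO m) (TO (g ≫ m)) k x (mO m) hm hm'
        have e2 := congrArg (fun z => z.left) e1
        simp only [Over.comp_left] at e2
        refine Eq.trans ?_ e2.symm
        exact congrArg (fun z => z.left) (e_congr (TO (g ≫ m)) (g ≫ x) (k.left ≫ x) (mO (g ≫ m))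
          (k ≫ mO m) hm' hm' rfl (by ext; rfl))
      · simp only [liftsPullbackEquiv, Equiv.coe_fn_symm_mk, pullback.lift_snd, Category.assoc])
    (by
      intro T i j x₀ x₁ m h₀ h₁
      apply Subtype.ext
      apply pullback.hom_ext
      · change ((liftsPullbackEquiv G' (c j ≫ Y.hom) x₁).symm (twE a f hsq u c s hs x₀ x₁ _
          (liftsPullbackEquiv G' (c i ≫ Y.hom) x₀ _))).1 ≫ _ = _
        simp only [liftsPullbackEquiv, Equiv.coe_fn_mk, Equiv.coe_fn_symm_mk, pullback.lift_fst]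
        rw [twE_eq a f hsq u c s hs (m ≫ A.hom) x₀ x₁ (h₀.symm.trans h₁)
          (hx_of (T := TO m) x₀ (mO m ≫ α) h₀) (hx_of (T := TO m) x₁ (mO m ≫ α) h₁)]
        have e1 := e_comm (TO m) x₀ x₁ (mO m) h₀ h₁
        exact (congrArg (fun z => z.left) e1).symm
      · simp only [liftsPullbackEquiv, Equiv.coe_fn_mk, Equiv.coe_fn_symm_mk, pullback.lift_snd,
          Equiv.trans_apply]
        change ((liftsPullbackEquiv G' (c j ≫ Y.hom) x₁).symm _).1 ≫ _ = _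
        simp only [liftsPullbackEquiv, Equiv.coe_fn_symm_mk, pullback.lift_snd])
  have hhB : h₀ ≫ (Wt W₀).hom = A.hom := by
    change h₀ ≫ W₀.hom ≫ Y.hom = A.hom
    rw [← Category.assoc, hh₀, Over.w α]
  refine ⟨Over.homMk h₀ hhB, ?_, ?_⟩
  · ext
    exact hh₀
  · intro T i x m hm hw
    ext
    rw [gcO_left]
    have e0 := hcoord x m.left hm hw
    have e1 := congrArg (fun v : Lifts ((twistDD a f hsq u c s hs).obj i) x =>
      (show T.left ⟶ pullback G'.hom (c i ≫ Y.hom) from v.1) ≫ pullback.fst G'.hom (c i ≫ Y.hom)) e0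
    refine e1.trans ?_
    simp only [liftsPullbackEquiv, Equiv.coe_fn_symm_mk, pullback.lift_fst]
    -- compare `T` with `TO m.left`
    let k : T ⟶ TO m.left := Over.homMk (𝟙 _) (by rw [Category.id_comp]; exact Over.w m)
    have hm' : ((k ≫ mO m.left) ≫ α).left = (k.left ≫ x) ≫ c i := by
      change (𝟙 _ ≫ m.left) ≫ α.left = (𝟙 _ ≫ x) ≫ c i
      rw [Category.id_comp, Category.id_comp]
      exact hm
    have e2 := e_nat (TO m.left) T k x (mO m.left) hm hm'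
    have e3 : e T (k.left ≫ x) (k ≫ mO m.left) hm' = e T x m hm := by
      apply e_congr
      · exact Category.id_comp _
      · ext
        exact Category.id_comp _
    have e4 := congrArg (fun z => z.left) (e2.trans e3)
    simp only [Over.comp_left] at e4
    refine Eq.trans ?_ e4
    exact (Category.id_comp _).symm

end Groth.Agent.Lib.Helper5.TorsTwist
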