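import Groth.Agent.Lib.Helper5.TorsTwist4
import Groth.Agent.Lib.Helper5.DescFamAffine

/-!
# Existence of the push-forward of a torsor along a homomorphism to an affine group (helper5)
-/

set_option backward.isDefEq.respectTransparency false
set_option backward.isDefEq.respectTransparency.types false
set_option autoImplicit false
universe u
open CategoryTheory CategoryTheory.Limits MonoidalCategory CartesianMonoidalCategory MonObj GrpObj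
  AlgebraicGeometry Desc

namespace Groth.Agent.Lib.Helper5.TorsTwist

open Groth.Agent.Lib.Helper5.TorsorPush Groth.Agent.Lib.Helper5.PrincDesc
  Groth.Agent.Lib.Helper5.DescCoord Groth.Agent.Lib.Helper64.DescFam

variable {B : Scheme.{u}} {G G' X Y : Over B} [GrpObj G] [GrpObj G'] {a : AlgGrp.Action G X}
  {f : X ⟶ Y} {hsq : IsPullback a.act.left (snd G X).left f.left f.left} {u : G ⟶ G'} [IsMonHom u]
  {Ix : Type u} {U : Ix → Scheme.{u}} {c : ∀ i, U i ⟶ Y.left} {s : ∀ i, U i ⟶ X.left}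
  {hs : ∀ i, s i ≫ f.left = c i}
  {W₀ : Over Y.left} (θ : (toDDFam c).obj W₀ ≅ twistDD a f hsq u c s hs)
  (hc : Presieve.ofArrows U c ∈ Scheme.fpqcPrecoverage Y.left)

section action

include hc in
/-- the action morphism, characterised by its group coordinates -/
theorem exists_act : ∃ act : G' ⊗ Wt W₀ ⟶ Wt W₀, act ≫ ψt W₀ = snd G' (Wt W₀) ≫ ψt W₀ ∧
    ∀ (T : Over B) (g : T ⟶ G') (w : T ⟶ Wt W₀) ⦃i : Ix⦄ (x : T.left ⟶ U i)
      (hw : (w ≫ ψt W₀).left = x ≫ c i) (hw' : ((lift g w ≫ act) ≫ ψt W₀).left = x ≫ c i),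
      gcO θ x (lift g w ≫ act) hw' = g * gcO θ x w hw := by
  have hw_of : ∀ (T : Over B) ⦃i : Ix⦄ (x : T.left ⟶ U i) (m : T ⟶ G' ⊗ Wt W₀),
      (m ≫ snd G' (Wt W₀) ≫ ψt W₀).left = x ≫ c i →
      ((m ≫ snd G' (Wt W₀)) ≫ ψt W₀).left = x ≫ c i := by
    intro T i x m hm
    rw [Category.assoc]; exact hm
  obtain ⟨act, hact, hgc⟩ := exists_of_gcO θ hc (A := G' ⊗ Wt W₀) (snd G' (Wt W₀) ≫ ψt W₀)
    (fun T i x m hm => (m ≫ fst G' (Wt W₀)) * gcO θ x (m ≫ snd G' (Wt W₀)) (hw_of T x m hm))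
    (by
      intro T T' k i x m hm hm'
      rw [MonObj.comp_mul, comp_gcO θ k x (m ≫ snd G' (Wt W₀)) (hw_of T x m hm)
        (by rw [← Category.assoc k]; exact hw_of T' (k.left ≫ x) (k ≫ m) hm')]
      congr 1 <;> first | rw [Category.assoc] | exact gcO_congr θ _ _ rfl (Category.assoc _ _ _).symm)
    (by
      intro T i j x₀ x₁ m hm₀ hm₁
      rw [gcO_tw θ x₀ x₁ (m ≫ snd G' (Wt W₀)) (hw_of T x₀ m hm₀) (hw_of T x₁ m hm₁),
        _root_.mul_assoc])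
  refine ⟨act, hact, ?_⟩
  intro T g w i x hw hw'
  have hm : ((lift g w) ≫ snd G' (Wt W₀) ≫ ψt W₀).left = x ≫ c i := by
    rw [lift_snd_assoc]; exact hw
  rw [hgc T x (lift g w) hm hw', lift_fst]
  congr 1
  exact gcO_congr θ _ _ rfl (lift_snd _ _)

end action

section torsor

variable (act : G' ⊗ Wt W₀ ⟶ Wt W₀) (hact : act ≫ ψt W₀ = snd G' (Wt W₀) ≫ ψt W₀)
  (hgc : ∀ (T : Over B) (g : T ⟶ G') (w : T ⟶ Wt W₀) ⦃i : Ix⦄ (x : T.left ⟶ U i)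
      (hw : (w ≫ ψt W₀).left = x ≫ c i) (hw' : ((lift g w ≫ act) ≫ ψt W₀).left = x ≫ c i),
      gcO θ x (lift g w ≫ act) hw' = g * gcO θ x w hw)

include hact in
lemma sm_ψ {T : Over B} (g : T ⟶ G') (w : T ⟶ Wt W₀) :
    (lift g w ≫ act) ≫ ψt W₀ = w ≫ ψt W₀ := by
  rw [Category.assoc, hact, lift_snd_assoc]

lemma comp_sm {T T' : Over B} (k : T' ⟶ T) (g : T ⟶ G') (w : T ⟶ Wt W₀) :
    k ≫ lift g w ≫ act = lift (k ≫ g) (k ≫ w) ≫ act := by
  rw [← Category.assoc, comp_lift]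

include hc hact hgc in
/-- equality of points of the descended scheme via coordinates -/
lemma pt_ext {T : Over B} (w₁ w₂ : T ⟶ Wt W₀) (hψ : w₁ ≫ ψt W₀ = w₂ ≫ ψt W₀)
    (H : ∀ (T' : Over B) (m : T' ⟶ T) ⦃i : Ix⦄ (x : T'.left ⟶ U i)
      (hw₁ : ((m ≫ w₁) ≫ ψt W₀).left = x ≫ c i) (hw₂ : ((m ≫ w₂) ≫ ψt W₀).left = x ≫ c i),
      gcO θ x (m ≫ w₁) hw₁ = gcO θ x (m ≫ w₂) hw₂) : w₁ = w₂ :=
  ext_gcO θ hc w₁ w₂ hψ H

include hc hact hgc in
/-- the action of `G'` on the descended scheme -/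
theorem exists_action : ∃ a' : AlgGrp.Action G' (Wt W₀), a'.act = act := by
  refine ⟨TorsorExact.actionOfPoints act ?_ ?_, rfl⟩
  · intro T x
    apply ext_gcO θ hc _ _ (sm_ψ act hact 1 x)
    intro T' m i x' hw₁ hw₂
    have e : m ≫ lift 1 x ≫ act = lift (m ≫ 1) (m ≫ x) ≫ act := comp_sm act m 1 x
    have hw₃ : ((lift (m ≫ 1) (m ≫ x) ≫ act) ≫ ψt W₀).left = x' ≫ c i := by
      rw [← e]; exact hw₁
    rw [gcO_congr θ hw₁ hw₃ rfl e, hgc T' (m ≫ 1) (m ≫ x) x' hw₂ hw₃, MonObj.comp_one,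
      _root_.one_mul]
  · intro T g h x
    apply ext_gcO θ hc _ _ ((sm_ψ act hact _ x).trans
      ((sm_ψ act hact g _).trans (sm_ψ act hact h x)).symm)
    intro T' m i x' hw₁ hw₂
    have e₁ : m ≫ lift (g * h) x ≫ act = lift (m ≫ (g * h)) (m ≫ x) ≫ act := comp_sm act m _ x
    have e₂ : m ≫ lift g (lift h x ≫ act) ≫ act =
        lift (m ≫ g) (lift (m ≫ h) (m ≫ x) ≫ act) ≫ act := by
      rw [comp_sm act m g, comp_sm act m h]
    have hx' : ((m ≫ x) ≫ ψt W₀).left = x' ≫ c i := by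
      rw [← sm_ψ act hact (m ≫ (g * h)) (m ≫ x), ← e₁]; exact hw₁
    have hw₁' : ((lift (m ≫ (g * h)) (m ≫ x) ≫ act) ≫ ψt W₀).left = x' ≫ c i := by
      rw [← e₁]; exact hw₁
    have hw₂' : ((lift (m ≫ g) (lift (m ≫ h) (m ≫ x) ≫ act) ≫ act) ≫ ψt W₀).left = x' ≫ c i := by
      rw [← e₂]; exact hw₂
    have hmid : ((lift (m ≫ h) (m ≫ x) ≫ act) ≫ ψt W₀).left = x' ≫ c i := by
      rw [sm_ψ act hact]; exact hx'
    rw [gcO_congr θ hw₁ hw₁' rfl e₁, gcO_congr θ hw₂ hw₂' rfl e₂,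
      hgc T' _ _ x' hx' hw₁', hgc T' _ _ x' hmid hw₂', hgc T' _ _ x' hx' hmid,
      MonObj.comp_mul, _root_.mul_assoc]

include hc hact hgc in
/-- the torsor square of the descended scheme -/
theorem isPullback_act : IsPullback act (snd G' (Wt W₀)) (ψt W₀) (ψt W₀) := by
  apply isPullback_of_existsUnique _ _ _ _ hact
  intro T p q hpq
  -- the division point
  have hq_of : ∀ (T' : Over B) (m : T' ⟶ T) ⦃i : Ix⦄ (x : T'.left ⟶ U i),
      (m ≫ p ≫ ψt W₀).left = x ≫ c i → ((m ≫ q) ≫ ψt W₀).left = x ≫ c i := by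
    intro T' m i x hm
    rw [Category.assoc, ← hpq]; exact hm
  have hp_of : ∀ (T' : Over B) (m : T' ⟶ T) ⦃i : Ix⦄ (x : T'.left ⟶ U i),
      (m ≫ p ≫ ψt W₀).left = x ≫ c i → ((m ≫ p) ≫ ψt W₀).left = x ≫ c i := by
    intro T' m i x hm
    rw [Category.assoc]; exact hm
  obtain ⟨δ, hδ⟩ := glue_cov hc (T := T) (Z := G') (p ≫ ψt W₀)
    (fun T' m i x hm => gcO θ x (m ≫ p) (hp_of T' m x hm) * (gcO θ x (m ≫ q) (hq_of T' m x hm))⁻¹)
    (by
      intro T' T'' k m i x hm hm'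
      rw [MonObj.comp_mul, GrpObj.comp_inv, comp_gcO θ k x (m ≫ p) (hp_of T' m x hm)
        (by rw [← Category.assoc k]; exact hp_of T'' (k ≫ m) (k.left ≫ x) hm'),
        comp_gcO θ k x (m ≫ q) (hq_of T' m x hm)
        (by rw [← Category.assoc k]; exact hq_of T'' (k ≫ m) (k.left ≫ x) hm')]
      simp only [Category.assoc])
    (by
      intro T' m i j x₀ x₁ hm₀ hm₁
      rw [gcO_tw θ x₀ x₁ (m ≫ p) (hp_of T' m x₀ hm₀) (hp_of T' m x₁ hm₁),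
        gcO_tw θ x₀ x₁ (m ≫ q) (hq_of T' m x₀ hm₀) (hq_of T' m x₁ hm₁)]
      have htw : tw a f hsq u c s hs x₀ x₁ ((hp_of T' m x₀ hm₀).symm.trans (hp_of T' m x₁ hm₁))
          (hx_of x₀ ((m ≫ p) ≫ ψt W₀) (hp_of T' m x₀ hm₀))
          (hx_of x₁ ((m ≫ p) ≫ ψt W₀) (hp_of T' m x₁ hm₁)) =
          tw a f hsq u c s hs x₀ x₁ ((hq_of T' m x₀ hm₀).symm.trans (hq_of T' m x₁ hm₁))
          (hx_of x₀ ((m ≫ q) ≫ ψt W₀) (hq_of T' m x₀ hm₀))
          (hx_of x₁ ((m ≫ q) ≫ ψt W₀) (hq_of T' m x₁ hm₁)) := rfl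
      rw [htw]
      group)
  have key : lift δ q ≫ act = p := by
    apply ext_gcO θ hc _ _ ((sm_ψ act hact δ q).trans hpq.symm)
    intro T' m i x hw₁ hw₂
    have e : m ≫ lift δ q ≫ act = lift (m ≫ δ) (m ≫ q) ≫ act := comp_sm act m δ q
    have hw₁' : ((lift (m ≫ δ) (m ≫ q) ≫ act) ≫ ψt W₀).left = x ≫ c i := by
      rw [← e]; exact hw₁
    have hmp : (m ≫ p ≫ ψt W₀).left = x ≫ c i := by
      rw [← Category.assoc]; exact hw₂
    rw [gcO_congr θ hw₁ hw₁' rfl e, hgc T' _ _ x (hq_of T' m x hmp) hw₁', hδ T' m x hmp,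
      inv_mul_cancel_right]
  refine ⟨lift δ q, ⟨key, lift_snd _ _⟩, ?_⟩
  rintro t ⟨ht₁, ht₂⟩
  have ht : t = lift (t ≫ fst G' (Wt W₀)) q := by
    apply CartesianMonoidalCategory.hom_ext
    · rw [lift_fst]
    · rw [lift_snd, ht₂]
  rw [ht]
  congr 1
  apply ext_cov hc (p ≫ ψt W₀)
  intro T' m i x hm
  rw [hδ T' m x hm]
  have e : m ≫ p = lift (m ≫ t ≫ fst G' (Wt W₀)) (m ≫ q) ≫ act := by
    rw [← comp_sm act m, ← ht, ht₁]
  have hw' : ((lift (m ≫ t ≫ fst G' (Wt W₀)) (m ≫ q) ≫ act) ≫ ψt W₀).left = x ≫ c i := by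
    rw [← e]; exact hp_of T' m x hm
  rw [gcO_congr θ (hp_of T' m x hm) hw' rfl e, hgc T' _ _ x (hq_of T' m x hm) hw',
    mul_inv_cancel_right]

end torsor

end Groth.Agent.Lib.Helper5.TorsTwist
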