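import Groth.Agent.Lib.Helper5.TorsTwist5

/-!
# The equivariant map to the push-forward and the existence theorem (helper5)
-/

set_option backward.isDefEq.respectTransparency false
set_option backward.isDefEq.respectTransparency.types false
set_option autoImplicit false
universe u
open CategoryTheory CategoryTheory.Limits MonoidalCategory CartesianMonoidalCategory MonObj GrpObj
  AlgebraicGeometry Desc

namespace Groth.Agent.Lib.Helper5.TorsTwist

open Groth.Agent.Lib.Helper5.TorsorPush Groth.Agent.Lib.Helper5.PrincDesc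
  Groth.Agent.Lib.Helper5.DescCoord Groth.Agent.Lib.Helper64.DescFam

variable {B : Scheme.{u}} {G G' X Y : Over B} [GrpObj G] [GrpObj G'] {a : AlgGrp.Action G X}
  {f : X ⟶ Y} {hsq : IsPullback a.act.left (snd G X).left f.left f.left} {u : G ⟶ G'} [IsMonHom u]
  {Ix : Type u} {U : Ix → Scheme.{u}} {c : ∀ i, U i ⟶ Y.left} {s : ∀ i, U i ⟶ X.left}
  {hs : ∀ i, s i ≫ f.left = c i}
  {W₀ : Over Y.left} (θ : (toDDFam c).obj W₀ ≅ twistDD a f hsq u c s hs)
  (hc : Presieve.ofArrows U c ∈ Scheme.fpqcPrecoverage Y.left)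

lemma divY_smul_left {T : Over B} (g : T ⟶ G) (p q : T ⟶ X) (h : p ≫ f = q ≫ f)
    (h' : smul a g p ≫ f = q ≫ f) :
    divY a f hsq (smul a g p) q h' = g * divY a f hsq p q h := by
  symm
  apply eq_divY
  rw [TorsorPush.mul_smul, divY_smul]

lemma m_f_eq {T : Over B} {i : Ix} (x : T.left ⟶ U i) (m : T ⟶ X) (hm : (m ≫ f).left = x ≫ c i) :
    m ≫ f = sp f c s hs x (hx_of x (m ≫ f) hm) ≫ f := by
  ext
  refine hm.trans ?_
  rw [Over.comp_left, sp_left, Category.assoc, hs]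

include hc in
/-- the map from the torsor to its push-forward, characterised by its group coordinates -/
theorem exists_map : ∃ kk : X ⟶ Wt W₀, kk ≫ ψt W₀ = f ∧
    ∀ (T : Over B) ⦃i : Ix⦄ (x : T.left ⟶ U i) (m : T ⟶ X) (hm : (m ≫ f).left = x ≫ c i)
      (hw : ((m ≫ kk) ≫ ψt W₀).left = x ≫ c i),
      gcO θ x (m ≫ kk) hw =
        divY a f hsq m (sp f c s hs x (hx_of x (m ≫ f) hm)) (m_f_eq x m hm) ≫ u := by
  apply exists_of_gcO θ hc (A := X) f
    (fun T i x m hm => divY a f hsq m (sp f c s hs x (hx_of x (m ≫ f) hm)) (m_f_eq x m hm) ≫ u)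
  · intro T T' k i x m hm hm'
    rw [← Category.assoc]
    congr 1
    have e := comp_divY a f hsq k m (sp f c s hs x (hx_of x (m ≫ f) hm)) (m_f_eq x m hm)
      (by rw [Category.assoc, Category.assoc]; exact congrArg (k ≫ ·) (m_f_eq x m hm))
    rw [e]
    congr 1 <;> first | exact comp_sp f c s hs k x _ _ | rfl
  · intro T i j x₀ x₁ m hm₀ hm₁
    unfold tw
    rw [← MonObj.mul_comp]
    congr 1
    exact divY_mul a f hsq m _ _ (m_f_eq x₀ m hm₀) _

section equivariance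

variable (act : G' ⊗ Wt W₀ ⟶ Wt W₀) (hact : act ≫ ψt W₀ = snd G' (Wt W₀) ≫ ψt W₀)
  (hgc : ∀ (T : Over B) (g : T ⟶ G') (w : T ⟶ Wt W₀) ⦃i : Ix⦄ (x : T.left ⟶ U i)
      (hw : (w ≫ ψt W₀).left = x ≫ c i) (hw' : ((lift g w ≫ act) ≫ ψt W₀).left = x ≫ c i),
      gcO θ x (lift g w ≫ act) hw' = g * gcO θ x w hw)
  (kk : X ⟶ Wt W₀) (hkk : kk ≫ ψt W₀ = f)
  (hgk : ∀ (T : Over B) ⦃i : Ix⦄ (x : T.left ⟶ U i) (m : T ⟶ X) (hm : (m ≫ f).left = x ≫ c i)
      (hw : ((m ≫ kk) ≫ ψt W₀).left = x ≫ c i),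
      gcO θ x (m ≫ kk) hw =
        divY a f hsq m (sp f c s hs x (hx_of x (m ≫ f) hm)) (m_f_eq x m hm) ≫ u)

include hc hact hgc hkk hgk in
theorem map_equivariant :
    a.act ≫ kk = lift (fst G X ≫ u) (snd G X ≫ kk) ≫ act := by
  have hinv : a.act ≫ f = snd G X ≫ f := by
    ext
    rw [Over.comp_left, Over.comp_left, hsq.toCommSq.w]
  have hψ : (a.act ≫ kk) ≫ ψt W₀ = (lift (fst G X ≫ u) (snd G X ≫ kk) ≫ act) ≫ ψt W₀ := by
    rw [Category.assoc, hkk, hinv, sm_ψ act hact, Category.assoc, hkk]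
  apply ext_gcO θ hc _ _ hψ
  intro T m i x hw₁ hw₂
  let g : T ⟶ G := m ≫ fst G X
  let p : T ⟶ X := m ≫ snd G X
  have hm_eq : m ≫ a.act = smul a g p := by
    unfold smul
    rw [show lift g p = m from by
      apply CartesianMonoidalCategory.hom_ext <;> simp [g, p]]
  have hpf : (p ≫ f).left = x ≫ c i := by
    have : (m ≫ a.act ≫ kk) ≫ ψt W₀ = p ≫ f := by
      rw [Category.assoc, Category.assoc, hkk, hinv, Category.assoc]
    rw [← this]; exact hw₁
  have hsf : (smul a g p ≫ f).left = x ≫ c i := by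
    rw [smul_comp_f a f hsq]; exact hpf
  -- left hand side
  have e₁ : m ≫ a.act ≫ kk = smul a g p ≫ kk := by rw [← Category.assoc, hm_eq]
  have hw₁' : ((smul a g p ≫ kk) ≫ ψt W₀).left = x ≫ c i := by rw [← e₁]; exact hw₁
  -- right hand side
  have e₂ : m ≫ lift (fst G X ≫ u) (snd G X ≫ kk) ≫ act = lift (g ≫ u) (p ≫ kk) ≫ act := by
    rw [← Category.assoc, comp_lift]
    simp only [g, p, Category.assoc]
  have hw₂' : ((lift (g ≫ u) (p ≫ kk) ≫ act) ≫ ψt W₀).left = x ≫ c i := by rw [← e₂]; exact hw₂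
  have hpk : ((p ≫ kk) ≫ ψt W₀).left = x ≫ c i := by
    rw [Category.assoc, hkk]; exact hpf
  rw [gcO_congr θ hw₁ hw₁' rfl e₁, gcO_congr θ hw₂ hw₂' rfl e₂, hgk T x (smul a g p) hsf hw₁',
    hgc T (g ≫ u) (p ≫ kk) x hpk hw₂', hgk T x p hpf hpk, ← MonObj.mul_comp]
  congr 1
  exact divY_smul_left g p _ (m_f_eq x p hpf) _

end equivariance

section main

variable (a f hsq u c s hs)

include hsq hs hc in
/-- **Push-forward of a torsor.**  For a principal `G`-bundle `f : X ⟶ Y` with sections over the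
members of an fpqc covering family of `Y`, and a homomorphism `u : G ⟶ G'` to a group affine over
the base, there is a principal `G'`-bundle `ψ : W ⟶ Y` with a `u`-equivariant morphism `X ⟶ W`
over `Y`. -/
theorem exists_pushforward [IsAffineHom G'.hom] :
    ∃ (W : Over B) (ψ : W ⟶ Y) (a' : AlgGrp.Action G' W) (k : X ⟶ W),
      IsPullback a'.act (snd G' W) ψ ψ ∧ k ≫ ψ = f ∧
      a.act ≫ k = lift (fst G X ≫ u) (snd G X ≫ k) ≫ a'.act := by
  have haff : ∀ i, IsAffineHom ((twistDD a f hsq u c s hs).obj i).hom := by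
    intro i
    change IsAffineHom (pullback.snd G'.hom (c i ≫ Y.hom))
    exact MorphismProperty.pullback_snd (P := @IsAffineHom) _ _ inferInstance
  obtain ⟨W₀, ⟨θ⟩⟩ := Groth.Agent.Lib.Helper5.DescFamAffine.isEffective_of_isAffineHom c hc
    (twistDD a f hsq u c s hs) haff
  obtain ⟨act, hact, hgc⟩ := exists_act θ hc
  obtain ⟨a', ha'⟩ := exists_action θ hc act hact hgc
  obtain ⟨kk, hkk, hgk⟩ := exists_map θ hc
  refine ⟨Wt W₀, ψt W₀, a', kk, ?_, hkk, ?_⟩
  · rw [ha']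
    exact isPullback_act θ hc act hact hgc
  · rw [ha']
    exact map_equivariant θ hc act hact hgc kk hkk hgk

end main

end Groth.Agent.Lib.Helper5.TorsTwist
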