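import Groth.Agent.Lib.Helper5.TorsTwist6

/-!
# Push-forward of torsors over a base, in `TorsorSch` form (helper5)
-/

set_option autoImplicit false
universe u
open CategoryTheory CategoryTheory.Limits MonoidalCategory CartesianMonoidalCategory MonObj GrpObj
  AlgebraicGeometry

namespace Groth.Agent.Lib.Helper5.TorsTwist

/-- A trivialising fpqc covering family, indexed by a small type, with chosen sections. -/
theorem exists_family_of_isLocallyTrivialFor {S : Scheme.{u}} (V : Over S)
    (h : NonAbH1.IsLocallyTrivialFor Scheme.fpqcPrecoverage V) :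
    ∃ (Ix : Type u) (U : Ix → Scheme.{u}) (c : ∀ i, U i ⟶ S) (s : ∀ i, U i ⟶ V.left),
      Presieve.ofArrows U c ∈ Scheme.fpqcPrecoverage S ∧ ∀ i, s i ≫ V.hom = c i := by
  obtain ⟨R, hR, hsec⟩ := h
  obtain ⟨𝒰, rfl⟩ := Precoverage.mem_iff_exists_zeroHypercover.mp hR
  haveI : Precoverage.Small.{u} Scheme.fpqcPrecoverage.{u} := by
    unfold Scheme.fpqcPrecoverage; infer_instance
  let E := 𝒰.restrictIndexOfSmall.{u}
  have hmem : ∀ i : E.I₀, Presieve.ofArrows 𝒰.X 𝒰.f (E.f i) := fun i => by
    change Presieve.ofArrows 𝒰.X 𝒰.f (𝒰.f _)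
    exact Presieve.ofArrows.mk _
  exact ⟨E.I₀, E.X, E.f, fun i => (hsec (E.f i) (hmem i)).choose, E.mem₀,
    fun i => (hsec (E.f i) (hmem i)).choose_spec⟩

variable {S : Scheme.{u}} {J J' : Over S} [GrpObj J] [GrpObj J']

/-- A pseudo-torsor has a cartesian action square over the terminal object. -/
theorem isPullback_toUnit_of_isPseudoTorsorSch {P : Over S} (a : AlgGrp.Action J P)
    (h : NonAbH1.IsPseudoTorsorSch a) : IsPullback a.act (snd J P) (toUnit P) (toUnit P) := by
  have hprod : IsPullback (fst P P) (snd P P) (toUnit P) (toUnit P) :=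
    IsPullback.of_is_product' (tensorProductIsBinaryProduct P P) isTerminalTensorUnit
  haveI : IsIso (lift a.act (snd J P)) := h
  refine IsPullback.of_iso hprod (asIso (lift a.act (snd J P))).symm (Iso.refl _) (Iso.refl _)
    (Iso.refl _) ?_ ?_ ?_ ?_ <;> simp

/-- A cartesian action square over the terminal object makes a pseudo-torsor. -/
theorem isPseudoTorsorSch_of_isPullback_toUnit {P : Over S} (a : AlgGrp.Action J P)
    (ψ : P ⟶ 𝟙_ (Over S)) (h : IsPullback a.act (snd J P) ψ ψ) : NonAbH1.IsPseudoTorsorSch a := by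
  have hψ : ψ = toUnit P := toUnit_unique _ _
  subst hψ
  have hprod : IsPullback (fst P P) (snd P P) (toUnit P) (toUnit P) :=
    IsPullback.of_is_product' (tensorProductIsBinaryProduct P P) isTerminalTensorUnit
  have e : lift a.act (snd J P) = (h.isoIsPullback _ _ hprod).hom := by
    apply CartesianMonoidalCategory.hom_ext
    · rw [lift_fst]; exact (h.isoIsPullback_hom_fst _ _ hprod).symm
    · rw [lift_snd]; exact (h.isoIsPullback_hom_snd _ _ hprod).symm
  change IsIso (lift a.act (snd J P))
  rw [e]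
  infer_instance

/-- Push-forward of an fpqc torsor along a homomorphism to a group affine over the base. -/
theorem exists_pushforward_torsorSch [IsAffineHom J'.hom] (u : J ⟶ J') [IsMonHom u]
    (P : NonAbH1.TorsorSch J Scheme.fpqcPrecoverage) :
    ∃ P' : NonAbH1.TorsorSch J' Scheme.fpqcPrecoverage,
      NonAbH1.IsPushforwardAlongSch u P.act P'.act := by
  obtain ⟨hps, hloc⟩ := P.isTorsor
  obtain ⟨Ix, U, c, s, hc, hs⟩ := exists_family_of_isLocallyTrivialFor P.X hloc
  have hcart := isPullback_toUnit_of_isPseudoTorsorSch P.act hps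
  have hsq : IsPullback P.act.act.left (snd J P.X).left (toUnit P.X).left (toUnit P.X).left :=
    hcart.map (Over.forget S)
  have hφ : (toUnit P.X).left = P.X.hom := Over.toUnit_left
  obtain ⟨W, ψ, a', k, hpb, hkψ, hequiv⟩ := exists_pushforward (Y := 𝟙_ (Over S)) P.act (toUnit P.X)
    hsq u c s (fun i => by rw [hφ]; exact hs i) hc
  refine ⟨⟨W, a', isPseudoTorsorSch_of_isPullback_toUnit a' ψ hpb,
    Presieve.ofArrows U c, hc, ?_⟩, k, hequiv⟩
  rintro _ _ ⟨i⟩
  exact ⟨s i ≫ k.left, by rw [Category.assoc, Over.w k]; exact hs i⟩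

end Groth.Agent.Lib.Helper5.TorsTwist
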