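import Groth.Agent.Lib.Helper5.UFTMain

/-!
# Etale localization of universal first order thickenings of algebraic spaces (helper5)
-/

set_option autoImplicit false
universe u
open CategoryTheory CategoryTheory.Limits AlgebraicGeometry Opposite

namespace Groth.Agent.Lib.Helper5.UFT

open AlgSp Groth.Agent.Lib.Helper79.AlgSpChart Groth.Agent.Lib.Helper79.AlgSpFormalEtale
open Groth.Agent.Lib.Helper79.AlgSpUnivThick Groth.Agent.Lib.Helper79.AlgSpUnivThickDescent
open Groth.Agent.Lib.Helper79.AlgSpFormalLift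

variable {S : Scheme.{u}}

theorem isEtaleMor_of_repWith_etale {F G : Sp S} {a : F ⟶ G} (ha : RepWith @Etale a) :
    IsEtaleMor a := fun _ _ hφ => (RepWith @Etale).comp_mem _ _ hφ ha

/-- The comparison map between universal first order thickenings over an etale square is etale. -/
theorem isEtaleMor_of_univ {Z X Z' V U V' : Sp S} (hZ : IsAlgSpace Z) (hZ' : IsAlgSpace Z')
    (hV : IsAlgSpace V) (hV' : IsAlgSpace V') (hU : IsAlgSpace U) (hX : IsAlgSpace X)
    (h : Z ⟶ X) (iZ : Z ⟶ Z') (hZ'm : Z' ⟶ X)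
    (HZ : IsUnivFOThick h iZ hZ'm) (v : V ⟶ Z) (w : U ⟶ X) (hv : IsEtaleMor v)
    (hw : IsEtaleMor w) (ψ : V ⟶ U) (c : ψ ≫ w = v ≫ h) (iV : V ⟶ V') (hV'm : V' ⟶ U)
    (HV : IsUnivFOThick ψ iV hV'm) (e' : V' ⟶ Z') (h1 : iV ≫ e' = v ≫ iZ)
    (h2 : e' ≫ hZ'm = hV'm ≫ w) : IsEtaleMor e' := by
  apply Groth.Agent.Lib.Helper30.AlgSpEtaleMor.isEtaleMor_of_locP_etale hZ'
  intro A B a b k ha hb comm
  -- the closed subschemes
  obtain ⟨A₀, fstA, jA, pbA, hjA⟩ := exists_pullback thick HV.1.1 a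
  obtain ⟨B₀, fstB, jB, pbB, hjB⟩ := exists_pullback thick HZ.1.1 b
  have hfoA : MoreMor.IsFirstOrderThickening jA.left :=
    ⟨hjA, sqZero_of_isPullback HV.1 hV' a fstA jA pbA⟩
  have hfoB : MoreMor.IsFirstOrderThickening jB.left :=
    ⟨hjB, sqZero_of_isPullback HZ.1 hZ' b fstB jB pbB⟩
  have hfstA : RepWith @Etale fstA :=
    MorphismProperty.of_isPullback (P := RepWith @Etale) pbA.flip ha
  have hfstB : RepWith @Etale fstB :=
    MorphismProperty.of_isPullback (P := RepWith @Etale) pbB.flip hb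
  obtain ⟨k₀, hk₀⟩ := (yon S).map_surjective (pbB.lift (fstA ≫ v) ((yon S).map jA ≫ (yon S).map k)
    (by rw [Category.assoc, ← h1, ← Category.assoc, pbA.w, Category.assoc, comm, Category.assoc]))
  have hk₀1 : (yon S).map k₀ ≫ fstB = fstA ≫ v := by rw [hk₀, pbB.lift_fst]
  have hk₀2 : (yon S).map k₀ ≫ (yon S).map jB = (yon S).map jA ≫ (yon S).map k := by
    rw [hk₀, pbB.lift_snd]
  have hk₀e : Etale k₀.left :=
    Groth.Agent.Lib.Helper30.AlgSpEtaleMor.locP_etale_of_isEtaleMor v hv fstA fstB k₀ hfstA hfstB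
      hk₀1.symm
  -- universality of `A` over `X`
  have HUA := isUnivFOThick_of_etale (IsAlgSpace.yon_obj A) hV' fstA ψ iV hV'm HV ((yon S).map jA) a
    (isEtaleMor_of_repWith_etale ha) pbA
  have HUA₂ := isUnivFOThick_comp_formallyEtale HUA w (formallyEtaleMor_of_isEtaleMor hU hX w hw)
  -- universality of `B` over `X`
  have HUB := isUnivFOThick_of_etale (IsAlgSpace.yon_obj B) hZ' fstB h iZ hZ'm HZ ((yon S).map jB) b
    (isEtaleMor_of_repWith_etale hb) pbB
  -- the etale lift of `k₀`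
  obtain ⟨A', k', jA', hk'e, -, pbk, hfoA'⟩ := exists_etale_lift_over jB hfoB k₀ hk₀e
  have HUA' := isUnivFOThick_of_etale (IsAlgSpace.yon_obj A') (IsAlgSpace.yon_obj B)
    ((yon S).map k₀) (fstB ≫ h) ((yon S).map jB) (b ≫ hZ'm) HUB ((yon S).map jA') ((yon S).map k')
    ((isEtaleMor_yon_map_iff k').2 hk'e) (pbk.map (yon S)).flip
  have hsame : (yon S).map k₀ ≫ fstB ≫ h = (fstA ≫ ψ) ≫ w := by
    rw [← Category.assoc, hk₀1, Category.assoc, Category.assoc, c]
  rw [hsame] at HUA'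
  obtain ⟨φ, hφ1, hφ2⟩ := exists_iso_of_univ (IsAlgSpace.yon_obj A₀) (IsAlgSpace.yon_obj A)
    (IsAlgSpace.yon_obj A') HUA₂ HUA'
  obtain ⟨φ₀, hφ₀⟩ := (yon S).map_surjective φ.hom
  haveI : IsIso φ₀ := by
    haveI : IsIso ((yon S).map φ₀) := by rw [hφ₀]; infer_instance
    exact isIso_of_fully_faithful (yon S) φ₀
  -- `k = φ₀ ≫ k'`
  have hjAfo : IsFOThickMor ((yon S).map jA) := isFOThickMor_yon_map jA hfoA
  have hcomm₁ : (yon S).map jA ≫ (yon S).map (φ₀ ≫ k') = (yon S).map jA ≫ (yon S).map k := by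
    rw [Functor.map_comp, hφ₀, ← Category.assoc, hφ1, ← hk₀2, ← Functor.map_comp,
      ← Functor.map_comp, pbk.w]
  have hb' : (yon S).map (φ₀ ≫ k') ≫ b = (yon S).map k ≫ b := by
    refine (HZ.2.2 (IsAlgSpace.yon_obj A₀) (IsAlgSpace.yon_obj A) ((yon S).map jA) (fstA ≫ v)
      ((a ≫ hV'm) ≫ w) hjAfo (by
        rw [← Category.assoc, ← Category.assoc, ← pbA.w, Category.assoc, Category.assoc,
          ← Category.assoc iV hV'm w, HV.2.1, c, Category.assoc])).unique ⟨?_, ?_⟩ ⟨?_, ?_⟩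
    · rw [← Category.assoc, hcomm₁, ← hk₀2, Category.assoc, ← pbB.w, ← Category.assoc, hk₀1]
    · rw [Functor.map_comp, hφ₀, Category.assoc, Category.assoc]
      exact hφ2
    · rw [← Category.assoc, ← hk₀2, Category.assoc, ← pbB.w, ← Category.assoc, hk₀1]
    · rw [← comm, Category.assoc, h2, Category.assoc]
  have hkeq : (yon S).map (φ₀ ≫ k') = (yon S).map k :=
    uniq_lift b ((yon S).map jA) ((yon S).map jA ≫ (yon S).map k) ((yon S).map k ≫ b)
      (Groth.Agent.Lib.Helper37.AlgSpFormal.unramified_of_etale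
        (formallyEtaleMor_of_repWith_etale hb)) (IsAlgSpace.yon_obj A) hjAfo _ _ hcomm₁ hb' rfl rfl
  have hkk : φ₀ ≫ k' = k := (yon S).map_injective hkeq
  rw [← hkk, Over.comp_left]
  haveI : IsIso φ₀.left := inferInstanceAs (IsIso ((Over.forget S).map φ₀))
  haveI := hk'e
  infer_instance

end Groth.Agent.Lib.Helper5.UFT
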