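import Groth.Agent.Lib.Helper79.AlgSpUnivThickDescent
import Groth.Agent.Lib.Helper62.AlgSpMono

/-!
# Universal first order thickenings of sheaves: formal lemmas (helper5)
-/

set_option autoImplicit false
universe u
open CategoryTheory CategoryTheory.Limits AlgebraicGeometry Opposite

namespace Groth.Agent.Lib.Helper5.UFT

open AlgSp Groth.Agent.Lib.Helper79.AlgSpFormalLift Groth.Agent.Lib.Helper79.AlgSpFormalEtale
open Groth.Agent.Lib.Helper79.AlgSpUnivThick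

variable {S : Scheme.{u}}

/-- A thickening of sheaves is a monomorphism. -/
theorem mono_of_isThickMor {F G : Sp S} (i : F ⟶ G) (hi : IsThickMor i) : Mono i :=
  Groth.Agent.Lib.Helper62.mono_of_repWith thick (fun f hf => by
    haveI : IsClosedImmersion f := hf.1
    infer_instance) i hi

/-- Postcomposing the structure map of a universal first order thickening with a formally etale
morphism gives a universal first order thickening. -/
theorem isUnivFOThick_comp_formallyEtale {Z Z' X X₁ : Sp S} {h : Z ⟶ X} {i : Z ⟶ Z'} {h' : Z' ⟶ X}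
    (HU : IsUnivFOThick h i h') (p : X ⟶ X₁) (hp : IsFormallyEtaleMor p) :
    IsUnivFOThick (h ≫ p) i (h' ≫ p) := by
  obtain ⟨hi, hcomp, huniv⟩ := HU
  refine ⟨hi, by rw [← Category.assoc, hcomp], ?_⟩
  intro T T' hT hT' j a b hj w
  obtain ⟨c, ⟨hc1, hc2⟩, hcu⟩ := existsUnique_lift p j (a ≫ h) b hp hT' hj (by
    rw [Category.assoc, w])
  obtain ⟨a', ⟨ha1, ha2⟩, hau⟩ := huniv hT hT' j a c hj hc1
  refine ⟨a', ⟨ha1, by rw [← Category.assoc, ha2, hc2]⟩, ?_⟩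
  rintro a'' ⟨h1, h2⟩
  apply hau
  refine ⟨h1, ?_⟩
  apply hcu
  refine ⟨?_, by rw [Category.assoc]; exact h2⟩
  rw [← Category.assoc, h1, Category.assoc, hcomp]

/-- Maps between universal first order thickenings. -/
theorem existsUnique_map {Z₁ Z₂ Z₁' Z₂' X : Sp S} (hZ₁ : IsAlgSpace Z₁) (hZ₁' : IsAlgSpace Z₁')
    {h₁ : Z₁ ⟶ X} {h₂ : Z₂ ⟶ X} {i₁ : Z₁ ⟶ Z₁'} {h₁' : Z₁' ⟶ X} {i₂ : Z₂ ⟶ Z₂'} {h₂' : Z₂' ⟶ X}
    (hu₁ : IsUnivFOThick h₁ i₁ h₁') (hu₂ : IsUnivFOThick h₂ i₂ h₂')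
    (g : Z₁ ⟶ Z₂) (hg : g ≫ h₂ = h₁) :
    ∃! g' : Z₁' ⟶ Z₂', i₁ ≫ g' = g ≫ i₂ ∧ g' ≫ h₂' = h₁' :=
  hu₂.2.2 hZ₁ hZ₁' i₁ g h₁' hu₁.1 (by rw [hu₁.2.1, hg])

/-- Two universal first order thickenings of the same morphism are isomorphic. -/
theorem exists_iso_of_univ {Z Z₁' Z₂' X : Sp S} (hZ : IsAlgSpace Z) (hZ₁' : IsAlgSpace Z₁')
    (hZ₂' : IsAlgSpace Z₂') {h : Z ⟶ X}
    {i₁ : Z ⟶ Z₁'} {h₁' : Z₁' ⟶ X} {i₂ : Z ⟶ Z₂'} {h₂' : Z₂' ⟶ X}
    (hu₁ : IsUnivFOThick h i₁ h₁') (hu₂ : IsUnivFOThick h i₂ h₂') :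
    ∃ φ : Z₁' ≅ Z₂', i₁ ≫ φ.hom = i₂ ∧ φ.hom ≫ h₂' = h₁' := by
  obtain ⟨e, ⟨he1, he2⟩, -⟩ := existsUnique_map hZ hZ₁' hu₁ hu₂ (𝟙 Z) (Category.id_comp _)
  obtain ⟨e', ⟨he'1, he'2⟩, -⟩ := existsUnique_map hZ hZ₂' hu₂ hu₁ (𝟙 Z) (Category.id_comp _)
  rw [Category.id_comp] at he1 he'1
  refine ⟨⟨e, e', ?_, ?_⟩, he1, he2⟩
  · refine (existsUnique_map hZ hZ₁' hu₁ hu₁ (𝟙 Z) (Category.id_comp _)).unique ⟨?_, ?_⟩ ⟨?_, ?_⟩
    · rw [← Category.assoc, he1, he'1, Category.id_comp]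
    · rw [Category.assoc, he'2, he2]
    · rw [Category.comp_id, Category.id_comp]
    · rw [Category.id_comp]
  · refine (existsUnique_map hZ hZ₂' hu₂ hu₂ (𝟙 Z) (Category.id_comp _)).unique ⟨?_, ?_⟩ ⟨?_, ?_⟩
    · rw [← Category.assoc, he'1, he1, Category.id_comp]
    · rw [Category.assoc, he2, he'2]
    · rw [Category.comp_id, Category.id_comp]
    · rw [Category.id_comp]

/-- A universal first order thickening of schemes gives one of the represented sheaves. -/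
theorem isUnivFOThick_yon {V U V' : Over S} (g : V ⟶ U) (iV : V ⟶ V') (gV' : V' ⟶ U)
    (HU : OmegaSh.IsUnivThickening g.left iV.left gV'.left) :
    IsUnivFOThick ((yon S).map g) ((yon S).map iV) ((yon S).map gV') := by
  obtain ⟨hi, hcomp, huniv⟩ := HU
  have hcomp' : iV ≫ gV' = g := by
    apply Over.OverMorphism.ext
    exact hcomp
  refine isUnivFOThick_of_affine_test _ _ _ (isFOThickMor_yon_map iV hi)
    (by rw [← Functor.map_comp, hcomp']) ?_
  intro T T' j hT' hj a b w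
  have hfo : MoreMor.IsFirstOrderThickening j.left :=
    isFirstOrderThickening_of_isFOThickMor_yon_map hT' hj
  obtain ⟨a₀, rfl⟩ := (yon S).map_surjective a
  obtain ⟨b₀, rfl⟩ := (yon S).map_surjective b
  have w₀ : j ≫ b₀ = a₀ ≫ g := by
    apply (yon S).map_injective
    rw [Functor.map_comp, Functor.map_comp]
    exact w
  obtain ⟨a', ⟨h1, h2⟩, hu⟩ := huniv T.left T'.left j.left b₀.left a₀.left hfo (by
    rw [← Over.comp_left, ← Over.comp_left, w₀])
  have ha'w : a' ≫ V'.hom = T'.hom := by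
    rw [← Over.w gV', ← Category.assoc, h2, Over.w b₀]
  refine ⟨(yon S).map (Over.homMk a' ha'w), ⟨?_, ?_⟩, ?_⟩
  · rw [← Functor.map_comp, ← Functor.map_comp]
    congr 1
    apply Over.OverMorphism.ext
    exact h1
  · rw [← Functor.map_comp]
    congr 1
    apply Over.OverMorphism.ext
    exact h2
  · rintro l ⟨hl1, hl2⟩
    obtain ⟨l₀, rfl⟩ := (yon S).map_surjective l
    congr 1
    apply Over.OverMorphism.ext
    change l₀.left = a'
    apply hu
    refine ⟨?_, ?_⟩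
    · rw [← Over.comp_left, ← Over.comp_left]
      congr 1
      apply (yon S).map_injective
      rw [Functor.map_comp, Functor.map_comp]
      exact hl1
    · rw [← Over.comp_left]
      congr 1
      apply (yon S).map_injective
      rw [Functor.map_comp]
      exact hl2

end Groth.Agent.Lib.Helper5.UFT
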