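import Groth.Agent.Lib.Helper5.UFTQuot
import Groth.Agent.Lib.Helper5.QuotShKernel
import Groth.Agent.S9868
import Groth.Agent.S9731
import Groth.Agent.Lib.Helper23.AlgSpMor4
import Mathlib.CategoryTheory.Sites.RegularEpi

/-!
# Existence of universal first order thickenings of algebraic spaces (helper5)
-/

set_option autoImplicit false
universe u
open CategoryTheory CategoryTheory.Limits AlgebraicGeometry Opposite

namespace Groth.Agent.Lib.Helper5.UFT

open AlgSp Groth.Agent.Lib.Helper79.AlgSpChart Groth.Agent.Lib.Helper79.AlgSpFormalEtale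
open Groth.Agent.Lib.Helper79.AlgSpUnivThick Groth.Agent.Lib.Helper79.AlgSpUnivThickDescent
open Groth.Agent.Lib.Helper23.AlgSpMor

variable {S : Scheme.{u}}

/-- Charts for a formally unramified morphism of algebraic spaces. -/
theorem exists_charts {Z X : Sp S} (hZ : IsAlgSpace Z) (hX : IsAlgSpace X) (h : Z ⟶ X)
    (hh : IsFormallyUnramifiedMor h) :
    ∃ (U V : Over S) (p : (yon S).obj U ⟶ X) (e : (yon S).obj V ⟶ Z) (g : V ⟶ U),
      RepWith @Etale p ∧ RepWith @Etale e ∧ RepWith @Surjective e ∧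
      e ≫ h = (yon S).map g ≫ p ∧ FormallyUnramified g.left := by
  obtain ⟨U, p, hpe, hps⟩ := hX.atlas
  have hP : IsAlgSpace (pullback h p) :=
    isAlgSpace_of_isPullback hZ (IsAlgSpace.yon_obj U) hX.diag (IsPullback.of_hasPullback h p)
  obtain ⟨V, d, hde, hds⟩ := hP.atlas
  have hfe : RepWith @Etale (pullback.fst h p) :=
    MorphismProperty.of_isPullback (P := RepWith @Etale) (IsPullback.of_hasPullback h p).flip hpe
  have hfs : RepWith @Surjective (pullback.fst h p) :=
    MorphismProperty.of_isPullback (P := RepWith @Surjective) (IsPullback.of_hasPullback h p).flip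
      hps
  obtain ⟨g, hg⟩ := (yon S).map_surjective (d ≫ pullback.snd h p)
  have he : RepWith @Etale (d ≫ pullback.fst h p) := (RepWith @Etale).comp_mem _ _ hde hfe
  have hes : RepWith @Surjective (d ≫ pullback.fst h p) :=
    (RepWith @Surjective).comp_mem _ _ hds hfs
  have comm : (d ≫ pullback.fst h p) ≫ h = (yon S).map g ≫ p := by
    rw [Category.assoc, pullback.condition, ← Category.assoc, hg]
  exact ⟨U, V, p, d ≫ pullback.fst h p, g, hpe, he, hes, comm,
    Groth.Agent.Lib.Helper79.AlgSpFormalYon.locP_of_formallyUnramifiedMor h hh _ p g he hpe comm⟩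

/-- **Existence of the universal first order thickening** of a formally unramified morphism of
algebraic spaces. -/
theorem exists_isUnivFOThick {Z X : Sp S} (hZ : IsAlgSpace Z) (hX : IsAlgSpace X) (h : Z ⟶ X)
    (hh : IsFormallyUnramifiedMor h) :
    ∃ (Z' : Sp S) (_ : IsAlgSpace Z') (i : Z ⟶ Z') (h' : Z' ⟶ X), IsUnivFOThick h i h' := by
  obtain ⟨U, V, p, e, g, hpe, he, hes, comm, hgu⟩ := exists_charts hZ hX h hh
  haveI := hgu
  -- the scheme case
  obtain ⟨V'₀, i₀, h₀', HU₀⟩ := Groth.Agent.S9731.result g.left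
  let V' : Over S := Over.mk (h₀' ≫ U.hom)
  let iV : V ⟶ V' := Over.homMk i₀ (by
    change i₀ ≫ h₀' ≫ U.hom = V.hom
    rw [← Category.assoc, HU₀.2.1, Over.w g])
  let gV' : V' ⟶ U := Over.homMk h₀' rfl
  have hiV : MoreMor.IsFirstOrderThickening iV.left := HU₀.1
  have HU₁ : IsUnivFOThick ((yon S).map g) ((yon S).map iV) ((yon S).map gV') :=
    isUnivFOThick_yon g iV gV' HU₀
  have HU₂ := isUnivFOThick_comp_formallyEtale HU₁ p (formallyEtaleMor_of_repWith_etale hpe)
  rw [← comm] at HU₂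
  set hV' : (yon S).obj V' ⟶ X := (yon S).map gV' ≫ p with hhV'
  -- the kernel pair of `e`
  obtain ⟨R, fstR, s, pbR, hse⟩ := exists_pullback @Etale he e
  obtain ⟨t, rfl⟩ := (yon S).map_surjective fstR
  have hk : IsPullback ((yon S).map t) ((yon S).map s) e e := pbR
  have hte : Etale t.left := he.property e ((yon S).map s) t pbR.flip
  -- the lifts
  obtain ⟨R', s', iR, hs'e, -, pbs, hiR⟩ := exists_etale_lift_over iV hiV s hse
  obtain ⟨R'', t'', iR'', ht''e, -, pbt, hiR''⟩ := exists_etale_lift_over iV hiV t hte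
  have sqs : IsPullback ((yon S).map s) ((yon S).map iR) ((yon S).map iV) ((yon S).map s') :=
    (pbs.map (yon S)).flip
  have HUR' := isUnivFOThick_of_etale (IsAlgSpace.yon_obj R') (IsAlgSpace.yon_obj V')
    ((yon S).map s) (e ≫ h) ((yon S).map iV) hV' HU₂ ((yon S).map iR) ((yon S).map s')
    ((isEtaleMor_yon_map_iff s').2 hs'e) sqs
  have HUR'' := isUnivFOThick_of_etale (IsAlgSpace.yon_obj R'') (IsAlgSpace.yon_obj V')
    ((yon S).map t) (e ≫ h) ((yon S).map iV) hV' HU₂ ((yon S).map iR'') ((yon S).map t'')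
    ((isEtaleMor_yon_map_iff t'').2 ht''e) (pbt.map (yon S)).flip
  have hst₀ : (yon S).map s ≫ e ≫ h = (yon S).map t ≫ e ≫ h := by
    rw [← Category.assoc, ← hk.w, Category.assoc]
  rw [hst₀] at HUR'
  obtain ⟨φ, hφ1, hφ2⟩ := exists_iso_of_univ (IsAlgSpace.yon_obj R) (IsAlgSpace.yon_obj R')
    (IsAlgSpace.yon_obj R'') HUR' HUR''
  obtain ⟨φ₀, hφ₀⟩ := (yon S).map_surjective φ.hom
  haveI : IsIso φ₀ := by
    haveI : IsIso ((yon S).map φ₀) := by rw [hφ₀]; infer_instance
    exact isIso_of_fully_faithful (yon S) φ₀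
  set t' : R' ⟶ V' := φ₀ ≫ t'' with ht'
  have ht'e : Etale t'.left := by
    haveI : IsIso φ₀.left := inferInstanceAs (IsIso ((Over.forget S).map φ₀))
    haveI := ht''e
    rw [ht', Over.comp_left]
    infer_instance
  have pbt' : IsPullback iR t t' iV := by
    have top : IsPullback iR (𝟙 R) φ₀ iR'' := IsPullback.of_vert_isIso ⟨by
      rw [Category.id_comp]
      apply (yon S).map_injective
      rw [Functor.map_comp, hφ₀, hφ1]⟩
    have := top.paste_vert pbt
    rwa [Category.id_comp] at this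
  have sqt : IsPullback ((yon S).map t) ((yon S).map iR) ((yon S).map iV) ((yon S).map t') :=
    (pbt'.map (yon S)).flip
  have hst : (yon S).map s' ≫ hV' = (yon S).map t' ≫ hV' := by
    rw [ht', Functor.map_comp, hφ₀, Category.assoc]
    exact hφ2.symm
  have hs'fe : IsFormallyEtaleMor ((yon S).map s') :=
    formallyEtaleMor_of_repWith_etale ((repWith_yon_map_iff @Etale s').2 hs'e)
  -- test thickenings
  have hpbx : ∀ {T : Over S} (x : (yon S).obj T ⟶ (yon S).obj V'),
      ∃ (W : Over S) (x₀ : (yon S).obj W ⟶ (yon S).obj V) (jW : W ⟶ T),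
        IsPullback x₀ ((yon S).map jW) ((yon S).map iV) x ∧ IsFOThickMor ((yon S).map jW) := by
    intro T x
    obtain ⟨W, x₀, jW, pbW, -⟩ := exists_pullback thick HU₂.1.1 x
    exact ⟨W, x₀, jW, pbW, isFOThickMor_of_isPullback (IsAlgSpace.yon_obj V') pbW HU₂.1⟩
  -- the equivalence relation
  have heq : IsEqvRel s' t' := by
    refine ⟨?_, fun T => ⟨?_, ?_, ?_⟩⟩
    · intro T r r' h1 h2
      obtain ⟨W, x₀, jW, pbW, hj⟩ := hpbx ((yon S).map r ≫ (yon S).map s')
      apply (yon S).map_injective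
      exact rel_injective hk sqs sqt hs'fe HU₂ (IsAlgSpace.yon_obj T) hj _ _ pbW
        (by rw [← Functor.map_comp, ← Functor.map_comp, h2])
        (by rw [← Functor.map_comp, ← Functor.map_comp, h1])
    · intro x
      obtain ⟨W, x₀, jW, pbW, hj⟩ := hpbx ((yon S).map x)
      obtain ⟨r, hr1, hr2⟩ := rel_refl hk sqs sqt hs'fe HU₂ hst (IsAlgSpace.yon_obj W)
        (IsAlgSpace.yon_obj T) hj _ pbW
      obtain ⟨r₀, rfl⟩ := (yon S).map_surjective r
      refine ⟨r₀, ?_, ?_⟩
      · apply (yon S).map_injective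
        rw [Functor.map_comp]
        exact hr1
      · apply (yon S).map_injective
        rw [Functor.map_comp]
        exact hr2
    · rintro a b ⟨r, rfl, rfl⟩
      obtain ⟨W, x₀, jW, pbW, hj⟩ := hpbx ((yon S).map r ≫ (yon S).map s')
      obtain ⟨r', hr1, hr2⟩ := rel_symm hk sqs sqt hs'fe HU₂ hst (IsAlgSpace.yon_obj W)
        (IsAlgSpace.yon_obj T) hj _ pbW
      obtain ⟨r₀, rfl⟩ := (yon S).map_surjective r'
      refine ⟨r₀, ?_, ?_⟩
      · apply (yon S).map_injective
        rw [Functor.map_comp, Functor.map_comp]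
        exact hr1
      · apply (yon S).map_injective
        rw [Functor.map_comp, Functor.map_comp]
        exact hr2
    · rintro a b c ⟨r₁, rfl, rfl⟩ ⟨r₂, h21, rfl⟩
      obtain ⟨W, x₀, jW, pbW, hj⟩ := hpbx ((yon S).map r₂ ≫ (yon S).map s')
      obtain ⟨r₃, hr1, hr2⟩ := rel_trans hk sqs sqt hs'fe HU₂ hst (IsAlgSpace.yon_obj W)
        (IsAlgSpace.yon_obj T) hj ((yon S).map r₁) ((yon S).map r₂)
        (by rw [← Functor.map_comp, ← Functor.map_comp, h21]) pbW
      obtain ⟨r₀, rfl⟩ := (yon S).map_surjective r₃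
      refine ⟨r₀, ?_, ?_⟩
      · apply (yon S).map_injective
        rw [Functor.map_comp, Functor.map_comp]
        exact hr1
      · apply (yon S).map_injective
        rw [Functor.map_comp, Functor.map_comp]
        exact hr2
  have hE : IsEtaleEqvRel s' t' := { toIsEqvRel := heq, etale_left := hs'e, etale_right := ht'e }
  -- the quotient
  have hZ' : IsAlgSpace (QuotSh.quot Scheme.fppfPrecoverage s' t') :=
    Groth.Agent.S9868.result S s' t' hE
  have hkπ : IsPullback ((yon S).map t') ((yon S).map s') (quotπ' s' t') (quotπ' s' t') :=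
    isPullback_quotπ' s' t' heq
  haveI : Etale s'.left := hs'e
  haveI : Etale t'.left := ht'e
  haveI : Surjective s'.left := by
    obtain ⟨r, -, hr⟩ := (heq.equivalence V').refl (𝟙 V')
    refine ⟨fun x => ⟨r.left.base x, ?_⟩⟩
    have := congrArg (fun f => f.left.base x) hr
    exact this
  obtain ⟨hπe, hπs⟩ := repWith_of_kernelPair (quotπ' s' t') s' t' hkπ
  haveI : Epi e := Groth.Agent.Lib.Helper23.AlgSpMor.epi_of_etale_surjective e he hes
  haveI : IsRegularEpi e := IsRegularEpiCategory.regularEpiOfEpi e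
  haveI : IsRegularEpi (quotπ' s' t') := IsRegularEpiCategory.regularEpiOfEpi _
  obtain ⟨i₁, hi₁⟩ := IsRegularEpi.exists_of_isKernelPair e hk ((yon S).map iV ≫ quotπ' s' t') (by
    rw [← Category.assoc, ← Category.assoc, sqt.w, sqs.w, Category.assoc, Category.assoc, hkπ.w])
  obtain ⟨h'₁, hh'₁⟩ := IsRegularEpi.exists_of_isKernelPair (quotπ' s' t') hkπ hV' hst.symm
  have hih : i₁ ≫ h'₁ = h := by
    rw [← cancel_epi e, ← Category.assoc, hi₁, Category.assoc, hh'₁, HU₂.2.1]
  haveI : Mono ((yon S).map iV) := mono_of_isThickMor _ HU₂.1.1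
  have sqZ : IsPullback e ((yon S).map iV) i₁ (quotπ' s' t') :=
    isPullback_of_kernelPairs hk.w hkπ sqs sqt hi₁
  have hi₁fo : IsFOThickMor i₁ := isFOThickMor_of_etale_cover hπe hπs sqZ hiV
  refine ⟨_, hZ', i₁, h'₁, ?_⟩
  refine isUnivFOThick_descent (IsAlgSpace.yon_obj V) hZ (IsAlgSpace.yon_obj V') hZ' e
    (fun U φ hφ => (RepWith @Etale).comp_mem _ _ hφ he)
    (isSurjectiveMor_of_repWith_surjective e hes) h ((yon S).map iV) i₁ (quotπ' s' t')
    (fun U φ hφ => (RepWith @Etale).comp_mem _ _ hφ hπe) hi₁.symm h'₁ hih ?_ hi₁fo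
  rw [hh'₁]
  exact HU₂

end Groth.Agent.Lib.Helper5.UFT
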