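import Groth.Agent.Lib.Helper5.UFTRel
import Groth.Agent.Lib.Helper5.SheafQuot
import Groth.Agent.Lib.Helper5.AtlasQuot
import Groth.Agent.Lib.Helper79.AlgSpThickLocal
import Groth.Agent.Lib.Helper23.ClosedDescent2

/-!
# Quotient of the thickened relation (helper5)
-/

set_option autoImplicit false
universe u
open CategoryTheory CategoryTheory.Limits AlgebraicGeometry Opposite

namespace Groth.Agent.Lib.Helper5.UFT

open AlgSp Groth.Agent.Lib.Helper79.AlgSpChart

variable {S : Scheme.{u}}

/-- The quotient map of an etale equivalence relation (kernel pair form) is representable, etale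
and surjective. -/
theorem repWith_of_kernelPair {F : Sp S} {U R : Over S} (q : (yon S).obj U ⟶ F) [Epi q]
    (s t : R ⟶ U) (hk : IsPullback ((yon S).map t) ((yon S).map s) q q) [Etale s.left]
    [Etale t.left] [Surjective s.left] : RepWith @Etale q ∧ RepWith @Surjective q := by
  have hloc := AtlasQuot.exists_single_fppf_lift q
  have hdiag : Representable (Limits.diag F) :=
    AtlasDiag.representable_diag q s t hk hloc
  have hrep : Representable q := Functor.relativelyRepresentable.of_diag hdiag q
  have key : ∀ (P : MorphismProperty Scheme.{u}) [P.IsStableUnderBaseChange]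
      [P.IsLocalAtTarget Scheme.fppfPrecoverage], P s.left → RepWith P q := by
    intro P _ _ hPs
    apply AtlasQuot.repWith_of_fppf_local P q hrep
    intro T c
    obtain ⟨T', p, h1, h2, h3, a', ha'⟩ := hloc T c
    refine ⟨T', p, h1, h2, h3, pullback s a', pullback.snd s a',
      (yon S).map (pullback.fst s a') ≫ (yon S).map t, ?_, ?_⟩
    · have sqL : IsPullback ((yon S).map (pullback.fst s a')) ((yon S).map (pullback.snd s a'))
          ((yon S).map s) ((yon S).map a') := (IsPullback.of_hasPullback s a').map (yon S)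
      have := sqL.paste_horiz hk
      rwa [ha'] at this
    · exact MorphismProperty.pullback_snd (P := P.inverseImage (Over.forget S)) s a' hPs
  exact ⟨key @Etale inferInstance, key @Surjective inferInstance⟩

/-- The comparison square between two quotients by kernel pairs is cartesian. -/
theorem isPullback_of_kernelPairs {Z Z' V V' R R' : Sp S} {e : V ⟶ Z} {i : Z ⟶ Z'} {iV : V ⟶ V'}
    {π' : V' ⟶ Z'} [Epi e] [Mono iV] {s t : R ⟶ V} {iR : R ⟶ R'} {s' t' : R' ⟶ V'}
    (hw : t ≫ e = s ≫ e) (hkπ : IsPullback t' s' π' π') (sqs : IsPullback s iR iV s')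
    (sqt : IsPullback t iR iV t') (comm : e ≫ i = iV ≫ π') : IsPullback e iV i π' := by
  set c : V ⟶ pullback i π' := pullback.lift e iV comm with hc
  have hc1 : c ≫ pullback.fst i π' = e := pullback.lift_fst _ _ _
  have hc2 : c ≫ pullback.snd i π' = iV := pullback.lift_snd _ _ _
  haveI : Mono c := mono_of_mono_fac hc2
  haveI : Epi c := by
    apply SheafQuot.epi_of_local_lift
    intro T y
    obtain ⟨R₀, hR₀, hl⟩ := SheafQuot.exists_local_lift_of_epi e (y ≫ pullback.fst i π')
    refine ⟨R₀, hR₀, fun T' φ hφ => ?_⟩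
    obtain ⟨v, hv⟩ := hl φ hφ
    have h1 : (v ≫ iV) ≫ π' = ((yon S).map φ ≫ y ≫ pullback.snd i π') ≫ π' := by
      rw [Category.assoc, ← comm, ← Category.assoc, hv, Category.assoc, Category.assoc,
        Category.assoc, Category.assoc, pullback.condition]
    have hr1 : hkπ.lift _ _ h1 ≫ t' = v ≫ iV := hkπ.lift_fst _ _ _
    have hr2 : hkπ.lift _ _ h1 ≫ s' = (yon S).map φ ≫ y ≫ pullback.snd i π' := hkπ.lift_snd _ _ _
    have hr₀1 : sqt.lift v (hkπ.lift _ _ h1) hr1.symm ≫ t = v := sqt.lift_fst _ _ _
    have hr₀2 : sqt.lift v (hkπ.lift _ _ h1) hr1.symm ≫ iR = hkπ.lift _ _ h1 := sqt.lift_snd _ _ _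
    refine ⟨sqt.lift v (hkπ.lift _ _ h1) hr1.symm ≫ s, ?_⟩
    apply pullback.hom_ext
    · rw [Category.assoc, hc1, Category.assoc, ← hw, ← Category.assoc, hr₀1, hv, Category.assoc]
    · rw [Category.assoc, hc2, Category.assoc, sqs.w, ← Category.assoc, hr₀2, hr2,
        Category.assoc]
  haveI : IsIso c := isIso_of_mono_of_epi c
  exact IsPullback.of_iso_pullback ⟨comm⟩ (asIso c) hc1 hc2

/-- A morphism of sheaves which, after base change along a representable etale surjective chart
`π'` of the target, becomes a first order thickening of schemes is a first order thickening. -/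
theorem isFOThickMor_of_etale_cover {Z Z' : Sp S} {V V' : Over S} {e : (yon S).obj V ⟶ Z}
    {i : Z ⟶ Z'} {iV : V ⟶ V'} {π' : (yon S).obj V' ⟶ Z'} (hπe : RepWith @Etale π')
    (hπs : RepWith @Surjective π') (sq : IsPullback e ((yon S).map iV) i π')
    (hiV : MoreMor.IsFirstOrderThickening iV.left) : IsFOThickMor i := by
  have hcl : RepWith @IsClosedImmersion i :=
    Groth.Agent.Lib.Helper23.ClosedDescent.repWith_isClosedImmersion_of_etale_cover i π' hπe hπs sq
      ((repWith_yon_map_iff @IsClosedImmersion iV).2 hiV.1.1)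
  have key : ∀ {T W : Over S} (τ : (yon S).obj T ⟶ Z') (fst : (yon S).obj W ⟶ Z) (snd : W ⟶ T),
      IsPullback fst ((yon S).map snd) i τ → MoreMor.IsFirstOrderThickening snd.left := by
    intro T W τ fst snd pb
    apply Groth.Agent.Lib.Helper79.AlgSpThickLocal.isFirstOrderThickening_of_flat_local hcl τ fst
      snd pb
    intro x
    obtain ⟨T₁, m, q, sq₁, hqe⟩ := exists_pullback_chart @Etale hπe τ
    have hqs : Surjective q.left := hπs.property τ ((yon S).map m) q sq₁
    obtain ⟨y, hy⟩ := hqs.surj x
    have pbW : IsPullback (pullback.fst iV m) (pullback.snd iV m) iV m :=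
      IsPullback.of_hasPullback iV m
    haveI : Etale q.left := hqe
    refine ⟨T₁, pullback iV m, q, y, (yon S).map (pullback.fst iV m) ≫ e, pullback.snd iV m,
      inferInstance, hy, ?_, ?_⟩
    · have := (pbW.map (yon S)).paste_horiz sq
      rwa [sq₁.w] at this
    · exact Groth.Agent.Lib.Helper57.FOThick.baseChange hiV (pbW.map (Over.forget S))
  exact ⟨⟨hcl.rep, fun U W g fst snd pb => (key g fst snd pb).1⟩,
    fun V₁ W b fst snd _ _ pb => (key b fst snd pb).2⟩

end Groth.Agent.Lib.Helper5.UFT
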