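import Groth.Agent.Lib.Helper5.UFTFormal

/-!
# The thickened equivalence relation (helper5)

`e : V ⟶ Z` with kernel pair `(t, s) : R ⇉ V`, a universal first order thickening `V ⊂ V'` of `V`
over `X`, and `R ⊂ R'` with `s', t' : R' ⇉ V'` lifting `s, t` with cartesian squares, `s'` formally
etale.  Then `R' ⇉ V'` is an equivalence relation on test objects.
-/

set_option autoImplicit false
universe u
open CategoryTheory CategoryTheory.Limits AlgebraicGeometry Opposite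

namespace Groth.Agent.Lib.Helper5.UFT

open AlgSp Groth.Agent.Lib.Helper79.AlgSpFormalLift Groth.Agent.Lib.Helper79.AlgSpFormalEtale
open Groth.Agent.Lib.Helper79.AlgSpUnivThick

variable {S : Scheme.{u}}

section rel

variable {Z X V V' R R' : Sp S} {e : V ⟶ Z} {h : Z ⟶ X} {iV : V ⟶ V'} {hV' : V' ⟶ X}
  {s t : R ⟶ V} {iR : R ⟶ R'} {s' t' : R' ⟶ V'}
  (hk : IsPullback t s e e) (sqs : IsPullback s iR iV s') (sqt : IsPullback t iR iV t')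
  (hs' : IsFormallyEtaleMor s') (HU : IsUnivFOThick (e ≫ h) iV hV') (hst : s' ≫ hV' = t' ≫ hV')

include hk sqs sqt hs' HU hst

omit hst in
theorem rel_injective {T T' : Sp S} (hT' : IsAlgSpace T') {j : T ⟶ T'}
    (hj : IsFOThickMor j) (r₁ r₂ : T' ⟶ R') {x₀ : T ⟶ V} (pb : IsPullback x₀ j iV (r₁ ≫ s'))
    (h1 : r₁ ≫ s' = r₂ ≫ s') (h2 : r₁ ≫ t' = r₂ ≫ t') : r₁ = r₂ := by
  haveI : Mono iV := mono_of_isThickMor iV HU.1.1
  have w₁ : x₀ ≫ iV = (j ≫ r₁) ≫ s' := by rw [Category.assoc]; exact pb.w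
  have w₂ : x₀ ≫ iV = (j ≫ r₂) ≫ s' := by rw [Category.assoc, ← h1]; exact pb.w
  have e1 : sqs.lift x₀ (j ≫ r₁) w₁ = sqs.lift x₀ (j ≫ r₂) w₂ := by
    apply hk.hom_ext
    · rw [← cancel_mono iV, Category.assoc, Category.assoc, sqt.w, ← Category.assoc,
        ← Category.assoc, sqs.lift_snd, sqs.lift_snd, Category.assoc, Category.assoc, h2]
    · rw [sqs.lift_fst, sqs.lift_fst]
  have e2 : j ≫ r₁ = j ≫ r₂ := by
    rw [← sqs.lift_snd x₀ (j ≫ r₁) w₁, e1, sqs.lift_snd]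
  exact uniq_lift s' j (j ≫ r₁) (r₁ ≫ s')
    (Groth.Agent.Lib.Helper37.AlgSpFormal.unramified_of_etale hs') hT' hj r₁ r₂ rfl rfl e2.symm
    h1.symm

theorem rel_refl {T T' : Sp S} (hT : IsAlgSpace T) (hT' : IsAlgSpace T') {j : T ⟶ T'}
    (hj : IsFOThickMor j) (x : T' ⟶ V') {x₀ : T ⟶ V} (pb : IsPullback x₀ j iV x) :
    ∃ r : T' ⟶ R', r ≫ t' = x ∧ r ≫ s' = x := by
  obtain ⟨hiV, hcomp, huniv⟩ := HU
  obtain ⟨r, ⟨hr1, hr2⟩, -⟩ := existsUnique_lift s' j (hk.lift x₀ x₀ rfl ≫ iR) x hs' hT' hj (by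
    rw [Category.assoc, ← sqs.w, ← Category.assoc, hk.lift_snd, pb.w])
  refine ⟨r, ?_, hr2⟩
  refine (huniv hT hT' j x₀ (x ≫ hV') hj (by
    rw [← Category.assoc, ← pb.w, Category.assoc, hcomp])).unique ⟨?_, ?_⟩ ⟨pb.w.symm, rfl⟩
  · rw [← Category.assoc, hr1, Category.assoc, ← sqt.w, ← Category.assoc, hk.lift_fst]
  · rw [Category.assoc, ← hst, ← Category.assoc, hr2]

theorem rel_symm {T T' : Sp S} (hT : IsAlgSpace T) (hT' : IsAlgSpace T') {j : T ⟶ T'}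
    (hj : IsFOThickMor j) (r : T' ⟶ R') {x₀ : T ⟶ V} (pb : IsPullback x₀ j iV (r ≫ s')) :
    ∃ r' : T' ⟶ R', r' ≫ t' = r ≫ s' ∧ r' ≫ s' = r ≫ t' := by
  obtain ⟨hiV, hcomp, huniv⟩ := HU
  have w₀ : x₀ ≫ iV = (j ≫ r) ≫ s' := by rw [Category.assoc]; exact pb.w
  set r₀ := sqs.lift x₀ (j ≫ r) w₀ with hr₀
  have hr₀s : r₀ ≫ s = x₀ := sqs.lift_fst _ _ _
  have hr₀i : r₀ ≫ iR = j ≫ r := sqs.lift_snd _ _ _
  have hw : (r₀ ≫ s) ≫ e = (r₀ ≫ t) ≫ e := by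
    rw [Category.assoc, Category.assoc, hk.w]
  set a := hk.lift (r₀ ≫ s) (r₀ ≫ t) hw with ha
  have hat : a ≫ t = r₀ ≫ s := hk.lift_fst _ _ _
  have has : a ≫ s = r₀ ≫ t := hk.lift_snd _ _ _
  obtain ⟨r', ⟨hr1, hr2⟩, -⟩ := existsUnique_lift s' j (a ≫ iR) (r ≫ t') hs' hT' hj (by
    rw [Category.assoc, ← sqs.w, ← Category.assoc, has, Category.assoc, sqt.w, ← Category.assoc,
      hr₀i, Category.assoc])
  refine ⟨r', ?_, hr2⟩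
  refine (huniv hT hT' j x₀ (r ≫ s' ≫ hV') hj (by
    rw [← Category.assoc, ← Category.assoc, Category.assoc j, ← pb.w, Category.assoc,
      hcomp])).unique ⟨?_, ?_⟩ ⟨?_, ?_⟩
  · rw [← Category.assoc, hr1, Category.assoc, ← sqt.w, ← Category.assoc, hat, hr₀s]
  · rw [Category.assoc, ← hst, ← Category.assoc, hr2, Category.assoc, ← hst]
  · rw [← Category.assoc]; exact w₀.symm
  · rw [Category.assoc]

theorem rel_trans {T T' : Sp S} (hT : IsAlgSpace T) (hT' : IsAlgSpace T') {j : T ⟶ T'}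
    (hj : IsFOThickMor j) (r₁ r₂ : T' ⟶ R') (h12 : r₁ ≫ s' = r₂ ≫ t') {x₀ : T ⟶ V}
    (pb : IsPullback x₀ j iV (r₂ ≫ s')) :
    ∃ r₃ : T' ⟶ R', r₃ ≫ t' = r₁ ≫ t' ∧ r₃ ≫ s' = r₂ ≫ s' := by
  obtain ⟨hiV, hcomp, huniv⟩ := HU
  have w₀ : x₀ ≫ iV = (j ≫ r₂) ≫ s' := by rw [Category.assoc]; exact pb.w
  set r₂₀ := sqs.lift x₀ (j ≫ r₂) w₀ with hr₂₀
  have hr₂₀s : r₂₀ ≫ s = x₀ := sqs.lift_fst _ _ _
  have hr₂₀i : r₂₀ ≫ iR = j ≫ r₂ := sqs.lift_snd _ _ _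
  have w₁ : (r₂₀ ≫ t) ≫ iV = (j ≫ r₁) ≫ s' := by
    rw [Category.assoc, sqt.w, ← Category.assoc, hr₂₀i, Category.assoc, Category.assoc, h12]
  set r₁₀ := sqs.lift (r₂₀ ≫ t) (j ≫ r₁) w₁ with hr₁₀
  have hr₁₀s : r₁₀ ≫ s = r₂₀ ≫ t := sqs.lift_fst _ _ _
  have hr₁₀i : r₁₀ ≫ iR = j ≫ r₁ := sqs.lift_snd _ _ _
  have hw : (r₁₀ ≫ t) ≫ e = (r₂₀ ≫ s) ≫ e := by
    rw [Category.assoc, Category.assoc, hk.w, ← Category.assoc, hr₁₀s, Category.assoc, hk.w]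
  set a := hk.lift (r₁₀ ≫ t) (r₂₀ ≫ s) hw with ha
  have hat : a ≫ t = r₁₀ ≫ t := hk.lift_fst _ _ _
  have has : a ≫ s = r₂₀ ≫ s := hk.lift_snd _ _ _
  obtain ⟨r₃, ⟨hr1, hr2⟩, -⟩ := existsUnique_lift s' j (a ≫ iR) (r₂ ≫ s') hs' hT' hj (by
    rw [Category.assoc, ← sqs.w, ← Category.assoc, has, hr₂₀s, pb.w])
  refine ⟨r₃, ?_, hr2⟩
  have hX : r₃ ≫ t' ≫ hV' = r₁ ≫ t' ≫ hV' := by
    rw [← hst, ← Category.assoc, hr2, Category.assoc, hst, ← Category.assoc, ← h12,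
      Category.assoc, hst]
  refine (huniv hT hT' j (r₁₀ ≫ t) (r₁ ≫ t' ≫ hV') hj (by
    rw [← Category.assoc, ← hr₁₀i, Category.assoc, ← Category.assoc iR, ← sqt.w, Category.assoc,
      hcomp, Category.assoc])).unique ⟨?_, ?_⟩ ⟨?_, ?_⟩
  · rw [← Category.assoc, hr1, Category.assoc, ← sqt.w, ← Category.assoc, hat]
  · rw [Category.assoc]; exact hX
  · rw [← Category.assoc, ← hr₁₀i, Category.assoc, ← sqt.w, Category.assoc]
  · rw [Category.assoc]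

end rel

end Groth.Agent.Lib.Helper5.UFT
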