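import Mathlib
import Groth.Prelude.Def_AlgSpRep
import Groth.Agent.Lib.Helper5.OpenLocal
import Groth.Agent.Lib.Helper5.QuotFlat
import Groth.Agent.Lib.Helper5.QuotSchemes

/-!
# A Zariski sheaf covered fppf locally by fppf subsheaves representable by algebraic spaces is an fppf sheaf (helper5)
-/

set_option autoImplicit false
universe u v
open CategoryTheory CategoryTheory.Limits AlgebraicGeometry Opposite

namespace Groth.Agent.Lib.Helper5.ZarFppfSheaf

open AlgSp Groth.Agent.Lib.Helper5.OpenLocal Groth.Agent.Lib.Helper5.QuotSchemes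

variable {S : Scheme.{u}}

/-- Restriction along a composite. -/
theorem map_op_comp (F : AlgSp.PSp S) {A B C : Over S} (f : A ⟶ B) (g : B ⟶ C)
    (x : F.obj (op C)) : F.map (f ≫ g).op x = F.map f.op (F.map g.op x) := by
  simp

section

variable {F Fi : AlgSp.PSp S} (m : Fi ⟶ F)

/-- Sections in the image of the subfunctor restrict to such. -/
theorem mem_range_map {T T' : Over S} (f : T' ⟶ T) {x : F.obj (op T)}
    (hx : x ∈ Set.range (m.app (op T))) : F.map f.op x ∈ Set.range (m.app (op T')) := by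
  obtain ⟨y, rfl⟩ := hx
  exact ⟨Fi.map f.op y, (m.naturality_apply f.op y)⟩

/-- **Lemma A**: a section lying fppf locally in a subfunctor representable by algebraic spaces lies
in it. -/
theorem mem_range_of_locally [Mono m] (hb : AlgSp.RepBySp m) {T : Over S} (x : F.obj (op T))
    (R₀ : Sieve T) (hR₀ : R₀ ∈ J S T)
    (h : ∀ ⦃T' : Over S⦄ (f : T' ⟶ T), R₀ f → F.map f.op x ∈ Set.range (m.app (op T'))) :
    x ∈ Set.range (m.app (op T)) := by
  let ξ : (pyon S).obj T ⟶ F := uliftYonedaEquiv.symm x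
  obtain ⟨hG, -⟩ := hb ξ (pullback.fst m ξ) (pullback.snd m ξ) (IsPullback.of_hasPullback m ξ)
  let G' : Sp S := ⟨pullback m ξ, hG⟩
  let φ : G' ⟶ (yon S).obj T := ObjectProperty.homMk (pullback.snd m ξ)
  haveI : Mono φ := by
    apply Functor.mono_of_mono_map (sheafToPresheaf (J S) (Type (u + 1)))
    change Mono (pullback.snd m ξ)
    infer_instance
  obtain ⟨y₀, hy₀⟩ := exists_lift_of_locally_lift_mono φ (𝟙 _) R₀ hR₀ (by
    intro T' f hf
    obtain ⟨y, hy⟩ := h f hf
    let ya : (pyon S).obj T' ⟶ Fi := uliftYonedaEquiv.symm y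
    have hya : ya ≫ m = (pyon S).map f ≫ ξ := by
      apply uliftYonedaEquiv.injective
      have h3 := uliftYonedaEquiv_naturality.{u + 1} (F := F) ξ f.op
      change _ = uliftYonedaEquiv.{u + 1} ((pyon S).map f ≫ ξ) at h3
      rw [uliftYonedaEquiv_comp, ← h3]
      simp only [ya, ξ, Equiv.apply_symm_apply]
      exact hy
    refine ⟨ObjectProperty.homMk (pullback.lift ya ((pyon S).map f) hya), ?_⟩
    rw [Category.comp_id]
    apply (sheafToPresheaf (J S) (Type (u + 1))).map_injective
    change pullback.lift ya ((pyon S).map f) hya ≫ pullback.snd m ξ = (pyon S).map f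
    rw [pullback.lift_snd])
  let y₁ : (pyon S).obj T ⟶ pullback m ξ := y₀.hom
  have h1 : y₁ ≫ pullback.snd m ξ = 𝟙 _ := congrArg (fun k => k.hom) hy₀
  have h2 : (y₁ ≫ pullback.fst m ξ) ≫ m = ξ := by
    rw [Category.assoc, pullback.condition, ← Category.assoc, h1]
    exact Category.id_comp ξ
  refine ⟨uliftYonedaEquiv.{u + 1} (y₁ ≫ pullback.fst m ξ), ?_⟩
  rw [← uliftYonedaEquiv_comp, h2]
  exact Equiv.apply_symm_apply _ _

end

/-- Factorization of a flat, locally finitely presented morphism through its open image. -/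
theorem exists_open_image {T' T : Over S} (f : T' ⟶ T) [Flat f.left]
    [LocallyOfFinitePresentation f.left] :
    ∃ (W : Over S) (w : W ⟶ T) (f' : T' ⟶ W), IsOpenImmersion w.left ∧ f' ≫ w = f ∧
      Flat f'.left ∧ LocallyOfFinitePresentation f'.left ∧ Surjective f'.left ∧
      Set.range w.left = Set.range f.left := by
  let W₀ : T.left.Opens := ⟨Set.range f.left, f.left.isOpenMap.isOpen_range⟩
  let W : Over S := Over.mk (W₀.ι ≫ T.hom)
  let w : W ⟶ T := Over.homMk W₀.ι rfl
  have hrW : Set.range W₀.ι = Set.range f.left := Scheme.Opens.range_ι W₀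
  let h₁ : T'.left ⟶ (W₀ : Scheme.{u}) := IsOpenImmersion.lift W₀.ι f.left hrW.ge
  have hh₁ : h₁ ≫ W₀.ι = f.left := IsOpenImmersion.lift_fac _ _ _
  let f' : T' ⟶ W := Over.homMk h₁ (by
    change h₁ ≫ W₀.ι ≫ T.hom = T'.hom
    rw [← Category.assoc, hh₁, Over.w])
  refine ⟨W, w, f', by change IsOpenImmersion W₀.ι; infer_instance, ?_, ?_, ?_, ?_, hrW⟩
  · apply Over.OverMorphism.ext
    exact hh₁
  · refine MorphismProperty.of_postcomp (W := @Flat) (W' := MorphismProperty.monomorphisms _)
      h₁ W₀.ι (inferInstance : Mono W₀.ι) ?_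
    rw [hh₁]
    infer_instance
  · refine MorphismProperty.of_postcomp (W := @LocallyOfFinitePresentation)
      (W' := MorphismProperty.monomorphisms _) h₁ W₀.ι (inferInstance : Mono W₀.ι) ?_
    rw [hh₁]
    infer_instance
  · refine ⟨fun x => ?_⟩
    have hw : W₀.ι x ∈ Set.range f.left := by rw [← hrW]; exact ⟨x, rfl⟩
    obtain ⟨q, hq⟩ := hw
    refine ⟨q, ?_⟩
    apply W₀.ι.isOpenEmbedding.injective
    rw [← hq, ← hh₁]
    rfl

/-- A jointly surjective family of open immersions generates a Zariski covering sieve. -/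
theorem ofArrows_mem_J_zariski {Z : Over S} {ι : Type u} (Y : ι → Over S) (f : ∀ i, Y i ⟶ Z)
    (hf : ∀ i, IsOpenImmersion (f i).left)
    (hc : ∀ z : ↥Z.left, ∃ i, z ∈ Set.range (f i).left) :
    Sieve.ofArrows Y f ∈ QuotSh.J Scheme.zariskiPrecoverage S Z := by
  rw [GrothendieckTopology.mem_over_iff, Sieve.overEquiv_ofArrows]
  let 𝒰 : Z.left.Cover (Scheme.precoverage @IsOpenImmersion) :=
    Scheme.Cover.mkOfCovers ι (fun i => (Y i).left) (fun i => (f i).left)
      (fun x => by obtain ⟨i, y, hy⟩ := hc x; exact ⟨i, y, hy⟩) (fun i => hf i)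
  exact 𝒰.mem_grothendieckTopology


/-- Structure of an fppf covering sieve: it contains an fppf covering family whose members factor
through their open images by fppf covering maps. -/
theorem exists_cover_structure {T : Over S} (R : Sieve T) (hR : R ∈ J S T) :
    ∃ (κ : Type u) (Tj Wj : κ → Over S) (f : ∀ j, Tj j ⟶ T) (w : ∀ j, Wj j ⟶ T)
      (f' : ∀ j, Tj j ⟶ Wj j), (∀ j, R (f j)) ∧ (∀ j, IsOpenImmersion (w j).left) ∧
      (∀ j, f' j ≫ w j = f j) ∧ (∀ j, Sieve.generate (Presieve.singleton (f' j)) ∈ J S (Wj j)) ∧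
      Sieve.ofArrows Wj w ∈ QuotSh.J Scheme.zariskiPrecoverage S T ∧
      Sieve.ofArrows Tj f ∈ J S T := by
  obtain ⟨κ, Tj, f, hfR, hfl, hfp, hfs⟩ := QuotFlat.exists_fppf_family_of_mem_J R hR
  haveI := hfl
  haveI := hfp
  choose Wj w f' hw hfw hfl' hfp' hfs' hrange using fun j => exists_open_image (f j)
  refine ⟨κ, Tj, Wj, f, w, f', hfR, hw, hfw, fun j => ?_, ?_, ?_⟩
  · haveI := hfl' j
    haveI := hfp' j
    haveI := hfs' j
    exact generate_singleton_mem_J (f' j)
  · refine ofArrows_mem_J_zariski Wj w hw (fun z => ?_)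
    obtain ⟨j, hj⟩ := hfs z
    exact ⟨j, by rw [hrange j]; exact hj⟩
  · exact ofArrows_mem_J_fppf Tj f hfl hfp hfs


section Main

variable (F : AlgSp.PSp S)
  (h1 : Presheaf.IsSheaf (QuotSh.J Scheme.zariskiPrecoverage S) F) {ι : Type v}
  (Fi : ι → AlgSp.PSp S) (m : ∀ i, Fi i ⟶ F) [∀ i, Mono (m i)]
  (ha : ∀ i, Presheaf.IsSheaf (AlgSp.J S) (Fi i)) (hb : ∀ i, AlgSp.RepBySp (m i))
  (hc : ∀ (T : Over S) (x : F.obj (op T)), ∃ R ∈ (AlgSp.J S) T,
    ∀ ⦃T' : Over S⦄ (f : T' ⟶ T), R.arrows f →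
      ∃ i, F.map f.op x ∈ Set.range ((m i).app (op T')))

include h1 ha hb hc in
/-- **Separatedness** of `F` for the fppf topology. -/
theorem separated {T : Over S} (R : Sieve T) (hR : R ∈ J S T) (x x' : F.obj (op T))
    (hxx : ∀ ⦃T' : Over S⦄ (f : T' ⟶ T), R f → F.map f.op x = F.map f.op x') : x = x' := by
  obtain ⟨Rx, hRx, hx⟩ := hc T x
  obtain ⟨κ, Tj, Wj, f, w, f', hfR, hw, hfw, hgen, hzar, -⟩ :=
    exists_cover_structure (R ⊓ Rx) ((J S).intersection_covering hR hRx)
  have hF : Presieve.IsSheaf _ F := (isSheaf_iff_isSheaf_of_type _ _).1 h1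
  have hsep := (hF _ hzar).isSeparatedFor
  refine hsep.ext ?_
  rintro T' _ ⟨Y, k, _, ⟨j⟩, rfl⟩
  rw [map_op_comp, map_op_comp]
  congr 1
  -- the claim on `W_j`
  obtain ⟨i, hi⟩ := hx (f j) (hfR j).2
  have hinj : Function.Injective ((m i).app (op (Wj j))) := (mono_iff_injective _).1 inferInstance
  have hmem : ∀ z : F.obj (op T), F.map (f j).op z = F.map (f j).op x →
      F.map (w j).op z ∈ Set.range ((m i).app (op (Wj j))) := by
    intro z hz
    refine mem_range_of_locally (m i) (hb i) _ _ (hgen j) ?_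
    rintro T'' _ ⟨Y', k', _, ⟨⟩, rfl⟩
    rw [← map_op_comp, Category.assoc, hfw j, map_op_comp, hz]
    exact mem_range_map (m i) k' hi
  obtain ⟨y, hy⟩ := hmem x rfl
  obtain ⟨y', hy'⟩ := hmem x' (hxx (f j) (hfR j).1).symm
  rw [← hy, ← hy']
  congr 1
  have hFi : Presieve.IsSheaf _ (Fi i) := (isSheaf_iff_isSheaf_of_type _ _).1 (ha i)
  refine (hFi _ (hgen j)).isSeparatedFor.ext ?_
  rintro T'' _ ⟨Y', k', _, ⟨⟩, rfl⟩
  have hinj' : Function.Injective ((m i).app (op T'')) := (mono_iff_injective _).1 inferInstance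
  apply hinj'
  have e1 := (m i).naturality_apply (k' ≫ f' j).op y
  have e2 := (m i).naturality_apply (k' ≫ f' j).op y'
  rw [e1, e2, hy, hy', ← map_op_comp, ← map_op_comp, Category.assoc, hfw j]
  exact hxx _ (R.downward_closed (hfR j).1 k')


omit [∀ i, Mono (m i)] in
/-- Values of a family of elements at equal arrows. -/
theorem fam_congr {T : Over S} {R : Sieve T} (x : Presieve.FamilyOfElements F R.arrows)
    {T' : Over S} {f g : T' ⟶ T} (e : f = g) (hf : R f) (hg : R g) : x f hf = x g hg := by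
  subst e
  rfl

include h1 ha hb hc in
/-- **Gluing** for `F` in the fppf topology. -/
theorem isSheafFor {T : Over S} (R : Sieve T) (hR : R ∈ J S T) :
    Presieve.IsSheafFor F R.arrows := by
  have hF : Presieve.IsSheaf _ F := (isSheaf_iff_isSheaf_of_type _ _).1 h1
  intro x hx
  have hsx : x.SieveCompatible := (Presieve.compatible_iff_sieveCompatible x).1 hx
  -- the subsieve where the family lies in some `F_i`
  let R' : Sieve T :=
    { arrows := fun T' f => ∃ hf : R f, ∃ i, x f hf ∈ Set.range ((m i).app (op T'))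
      downward_closed := by
        rintro Y Z f ⟨hf, i, hi⟩ g
        refine ⟨R.downward_closed hf g, i, ?_⟩
        rw [hsx f g hf]
        exact mem_range_map (m i) g hi }
  have hR' : R' ∈ J S T := by
    refine (J S).transitive hR R' ?_
    intro Y f hf
    obtain ⟨Rf, hRf, hl⟩ := hc Y (x f hf)
    refine (J S).superset_covering ?_ hRf
    intro Z g hg
    obtain ⟨i, hi⟩ := hl g hg
    refine ⟨R.downward_closed hf g, i, ?_⟩
    rw [hsx f g hf]
    exact hi
  obtain ⟨κ, Tj, Wj, f, w, f', hfR, hw, hfw, hgen, hzar, hfppf⟩ := exists_cover_structure R' hR'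
  choose hfRj i hi using hfR
  have hmemR : ∀ j ⦃T'' : Over S⦄ (g : T'' ⟶ Wj j),
      Sieve.generate (Presieve.singleton (f' j)) g → R (g ≫ w j) := by
    rintro j T'' _ ⟨Y, k, _, ⟨⟩, rfl⟩
    rw [Category.assoc, hfw]
    exact R.downward_closed (hfRj j) k
  -- descend to the open images
  have hdesc : ∀ j, ∃ xj : F.obj (op (Wj j)), ∀ ⦃T'' : Over S⦄ (g : T'' ⟶ Wj j)
      (hg : Sieve.generate (Presieve.singleton (f' j)) g),
      F.map g.op xj = x (g ≫ w j) (hmemR j g hg) := by
    intro j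
    have hFi : Presieve.IsSheaf _ (Fi (i j)) := (isSheaf_iff_isSheaf_of_type _ _).1 (ha (i j))
    have hz : ∀ ⦃T'' : Over S⦄ (g : T'' ⟶ Wj j)
        (hg : Sieve.generate (Presieve.singleton (f' j)) g),
        ∃ y, (m (i j)).app (op T'') y = x (g ≫ w j) (hmemR j g hg) := by
      rintro T'' _ ⟨Y, k, _, ⟨⟩, rfl⟩
      have e : x ((k ≫ f' j) ≫ w j) (hmemR j _ ⟨_, k, _, Presieve.singleton.mk, rfl⟩) =
          F.map k.op (x (f j) (hfRj j)) := by
        rw [← hsx (f j) k (hfRj j)]
        exact fam_congr F x (by rw [Category.assoc, hfw]) _ _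
      rw [e]
      exact mem_range_map (m (i j)) k (hi j)
    choose fam hfam using hz
    have hcompat : Presieve.FamilyOfElements.Compatible (P := Fi (i j))
        (R := (Sieve.generate (Presieve.singleton (f' j))).arrows) fam := by
      rw [Presieve.compatible_iff_sieveCompatible]
      intro Y Z g h hg
      have hinj : Function.Injective ((m (i j)).app (op Z)) :=
        (mono_iff_injective _).1 inferInstance
      apply hinj
      rw [hfam, (m (i j)).naturality_apply h.op (fam g hg), hfam, ← hsx (g ≫ w j) h]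
      exact fam_congr F x (Category.assoc _ _ _) _ _
    refine ⟨(m (i j)).app _ ((hFi _ (hgen j)).amalgamate fam hcompat), ?_⟩
    intro T'' g hg
    rw [← (m (i j)).naturality_apply g.op, (hFi _ (hgen j)).valid_glue hcompat g hg, hfam]
  choose xj hxj using hdesc
  -- Zariski gluing
  have hzar' : Presieve.IsSheafFor F (Presieve.ofArrows Wj w) :=
    (Presieve.isSheafFor_iff_generate _).2 (hF _ hzar)
  have hcompatZ : Presieve.Arrows.Compatible F w xj := by
    intro j l Z gj gl hgg
    refine separated F h1 Fi m ha hb hc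
      ((Sieve.generate (Presieve.singleton (f' j))).pullback gj ⊓
        (Sieve.generate (Presieve.singleton (f' l))).pullback gl)
      ((J S).intersection_covering ((J S).pullback_stable gj (hgen j))
        ((J S).pullback_stable gl (hgen l))) _ _ ?_
    rintro Z' h ⟨hh1, hh2⟩
    rw [← map_op_comp, ← map_op_comp, hxj j _ hh1, hxj l _ hh2]
    exact fam_congr F x (by rw [Category.assoc, Category.assoc, hgg]) _ _
  obtain ⟨t, ht, -⟩ := (Presieve.isSheafFor_arrows_iff F w).1 hzar' xj hcompatZ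
  have hamalg : x.IsAmalgamation t := by
    intro Y g hg
    refine separated F h1 Fi m ha hb hc ((Sieve.ofArrows Tj f).pullback g)
      ((J S).pullback_stable g hfppf) _ _ ?_
    rintro Z h ⟨Y', k, _, ⟨j⟩, hk⟩
    rw [← map_op_comp, ← hsx g h hg]
    have e1 : F.map (h ≫ g).op t = F.map (k ≫ f' j).op (xj j) := by
      rw [← ht j, ← map_op_comp, ← hk, Category.assoc, hfw]
    rw [e1, hxj j _ ⟨_, k, _, Presieve.singleton.mk, rfl⟩]
    exact fam_congr F x (by rw [Category.assoc, hfw, hk]) _ _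
  refine ⟨t, hamalg, ?_⟩
  intro t' ht'
  refine separated F h1 Fi m ha hb hc R hR _ _ ?_
  intro T' g hg
  rw [ht' g hg, hamalg g hg]

include h1 ha hb hc in
/-- **A Zariski sheaf covered fppf locally by fppf subsheaves representable by algebraic spaces
is an fppf sheaf.** -/
theorem isSheaf : Presheaf.IsSheaf (AlgSp.J S) F := by
  rw [isSheaf_iff_isSheaf_of_type]
  intro T R hR
  exact isSheafFor F h1 Fi m ha hb hc R hR

end Main

end Groth.Agent.Lib.Helper5.ZarFppfSheaf
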