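import Mathlib
import Groth.Agent.Lib.Helper5.LocalRepB
import Groth.Agent.Lib.Helper37.AlgSpPoints
import Groth.Prelude.Def_AlgSpCov

/-!
# Zariski-local on the target for representability with a property (helper5)

If `{Y_i ⟶ Y}` is a Zariski covering (representable open immersions, jointly surjective on points)
and the base changes `X_i ⟶ Y_i` of `f : X ⟶ Y` are representable with `P` on suitable test
schemes, then so is `f`.
-/

set_option autoImplicit false
universe u
open CategoryTheory CategoryTheory.Limits AlgebraicGeometry Opposite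

namespace Groth.Agent.Lib.Helper5.ZarLocalTarget

open AlgSp Groth.Agent.Lib.Helper23.AlgSpMor Groth.Agent.Lib.Helper37.AlgSpPoints
  Groth.Agent.Lib.Helper5.LocalRep Groth.Agent.Lib.Helper5.LocalRepB

variable {S : Scheme.{u}}

/-- A point of `T` whose image in `|Y|` lies in the image of `|W| ⟶ |Y|` lies in the image of the
pullback of `W ⟶ Y` to `T`. -/
theorem mem_range_snd_of_points {W Y : Sp S} (j : W ⟶ Y) (hj : Representable j) {T : Over S}
    (g : (yon S).obj T ⟶ Y) (t : ↥T.left)
    (h : Points.ofPt g t ∈ Set.range (Points.map j)) : t ∈ Set.range (hj.snd g).left := by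
  obtain ⟨x, hx⟩ := h
  rw [Points.ofPt_eq_map_ofScheme] at hx
  have hsq := hj.isPullback g
  obtain ⟨p, hp1, -⟩ := points_exists_of_isPullback hsq.flip (Points.ofScheme T t) x hx.symm
  refine ⟨Points.toScheme (hj.pullback g) p, ?_⟩
  apply (Points.schemeEquiv T).injective
  change Points.ofScheme T _ = Points.ofScheme T t
  rw [← hp1, ← ofPt_yon_map, ← Points.ofScheme_toScheme (hj.pullback g) p,
    Points.toScheme_ofScheme, Points.ofPt_eq_map_ofScheme]

/-- The preimages of the members of a Zariski covering cover every test scheme. -/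
theorem exists_mem_range_of_isZarCover {ι : Type u} {Y : Sp S} (Yi : ι → Sp S)
    (j : ∀ i, Yi i ⟶ Y) (hj : IsZarCover Yi j) {T : Over S} (g : (yon S).obj T ⟶ Y)
    (t : ↥T.left) : ∃ i, t ∈ Set.range ((hj.1 i).rep.snd g).left := by
  obtain ⟨i, hi⟩ := hj.2 (Points.ofPt g t)
  exact ⟨i, mem_range_snd_of_points (j i) (hj.1 i).rep g t hi⟩

/-- Zariski-local on the target (covering by open subspaces) for representability with `P` of one
base change `h_T ×_Y X`, given representability of base changes of the `X_i ⟶ Y_i` on the members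
of a basis `B₀` of opens of `T`. -/
theorem exists_isPullback_of_zarCover (P : MorphismProperty Scheme.{u}) [IsZariskiLocalAtTarget P]
    [P.IsStableUnderBaseChange] {X Y : Sp S} (f : X ⟶ Y) {ι : Type u} (Yi : ι → Sp S)
    (j : ∀ i, Yi i ⟶ Y) (hj : IsZarCover Yi j) (Xi : ι → Sp S) (p : ∀ i, Xi i ⟶ X)
    (q : ∀ i, Xi i ⟶ Yi i) (sq : ∀ i, IsPullback (p i) (q i) f (j i)) {T : Over S}
    (g : (yon S).obj T ⟶ Y) {B₀ : Set T.left.Opens} (hB₀ : TopologicalSpace.Opens.IsBasis B₀)
    (h : ∀ (i : ι) (W : T.left.Opens), W ∈ B₀ → ∀ gW : (yon S).obj (overOpens T W) ⟶ Yi i,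
      ∃ (V : Over S) (i' : V ⟶ overOpens T W) (fst : (yon S).obj V ⟶ Xi i),
        IsPullback fst ((yon S).map i') (q i) gW ∧ P i'.left) :
    ∃ (V : Over S) (q' : V ⟶ T) (fst : (yon S).obj V ⟶ X),
      IsPullback fst ((yon S).map q') f g ∧ P q'.left := by
  have hoi : ∀ i, IsOpenImmersion ((hj.1 i).rep.snd g).left := fun i => (hj.1 i).property_snd g
  let B : Set T.left.Opens := {W | W ∈ B₀ ∧ ∃ i, W ≤ ((hj.1 i).rep.snd g).left.opensRange}
  have hB : TopologicalSpace.Opens.IsBasis B := by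
    rw [TopologicalSpace.Opens.isBasis_iff_nbhd]
    intro O x hx
    obtain ⟨i, hi⟩ := exists_mem_range_of_isZarCover Yi j hj g x
    have hnb : ∀ (U : T.left.Opens) (x : ↥T.left), x ∈ U → ∃ U' ∈ B₀, x ∈ U' ∧ U' ≤ U :=
      fun U x hxU => TopologicalSpace.Opens.isBasis_iff_nbhd.1 hB₀ hxU
    obtain ⟨W, hW, hxW, hWO⟩ := hnb (O ⊓ ((hj.1 i).rep.snd g).left.opensRange) x ⟨hx, hi⟩
    exact ⟨W, ⟨hW, i, hWO.trans inf_le_right⟩, hxW, hWO.trans inf_le_left⟩
  refine exists_isPullback_of_local P f g hB ?_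
  rintro W ⟨hW₀, i, hW⟩
  haveI := hoi i
  set sndj := (hj.1 i).rep.snd g with hsndj
  set fstj := (hj.1 i).rep.fst g with hfstj
  have sqj : IsPullback fstj ((yon S).map sndj) (j i) g := (hj.1 i).rep.isPullback g
  let lift : overOpens T W ⟶ (hj.1 i).rep.pullback g :=
    Over.homMk (IsOpenImmersion.lift sndj.left W.ι (by
      rw [Scheme.Opens.range_ι]; exact hW)) (by
      rw [← Over.w sndj, IsOpenImmersion.lift_fac_assoc]; rfl)
  have hlift : lift ≫ sndj = overOpensι T W := by
    ext1
    exact IsOpenImmersion.lift_fac _ _ _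
  set gW : (yon S).obj (overOpens T W) ⟶ Yi i := (yon S).map lift ≫ fstj with hgW
  have hgWj : gW ≫ j i = (yon S).map (overOpensι T W) ≫ g := by
    rw [hgW, Category.assoc, sqj.w, ← Category.assoc, ← Functor.map_comp, hlift]
  obtain ⟨V, i', fst, sqV, hP⟩ := h i W hW₀ gW
  have big := sqV.paste_horiz (sq i)
  rw [hgWj] at big
  exact ⟨V, i', fst ≫ p i, big, hP⟩

end Groth.Agent.Lib.Helper5.ZarLocalTarget
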